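import Mathlib.Algebra.Module.FinitePresentation

/-!
Coherent modules: closure under submodules and quotients.
-/

universe u v w

namespace Groth.Agent.H3CAlg

/-- A module is coherent: finite, and all its finitely generated submodules are finitely presented. -/
def IsCoh (R : Type u) [CommRing R] (M : Type v) [AddCommGroup M] [Module R M] : Prop :=
  Module.Finite R M ∧ ∀ P : Submodule R M, P.FG → Module.FinitePresentation R P

variable {R : Type u} [CommRing R] {M : Type v} [AddCommGroup M] [Module R M]
  {N : Type w} [AddCommGroup N] [Module R N]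

theorem ker_fg_of_isCoh [Module.Finite R N] (hM : IsCoh R M) (φ : N →ₗ[R] M) :
    (LinearMap.ker φ).FG := by
  have := hM.2 (LinearMap.range φ) (Module.Finite.iff_fg.mp (Module.Finite.range φ))
  have := Module.FinitePresentation.fg_ker φ.rangeRestrict φ.surjective_rangeRestrict
  rwa [LinearMap.ker_rangeRestrict] at this

theorem isCoh_submodule (hM : IsCoh R M) (P : Submodule R M) (hP : P.FG) : IsCoh R P := by
  refine ⟨Module.Finite.iff_fg.mpr hP, fun Q hQ => ?_⟩
  have := hM.2 (Q.map P.subtype) (hQ.map _)
  exact Module.FinitePresentation.of_equiv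
    (Submodule.equivMapOfInjective P.subtype P.injective_subtype Q).symm

theorem isCoh_quotient (hM : IsCoh R M) (S : Submodule R M) (hS : S.FG) : IsCoh R (M ⧸ S) := by
  have := hM.1
  refine ⟨inferInstance, fun P hP => ?_⟩
  have hfg : (P.comap S.mkQ).FG := by
    refine Submodule.fg_of_fg_map_of_fg_inf_ker S.mkQ ?_ ?_
    · rwa [Submodule.map_comap_eq_of_surjective S.mkQ_surjective]
    · rw [Submodule.ker_mkQ, inf_eq_right.mpr]
      · exact hS
      · intro x hx
        simp [(Submodule.Quotient.mk_eq_zero S).mpr hx]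
  have := hM.2 _ hfg
  let l : P.comap S.mkQ →ₗ[R] P := S.mkQ.restrict (fun x hx => hx)
  have hl : Function.Surjective l := by
    rintro ⟨y, hy⟩
    obtain ⟨x, rfl⟩ := S.mkQ_surjective y
    exact ⟨⟨x, hy⟩, rfl⟩
  refine Module.finitePresentation_of_surjective l hl ?_
  refine Submodule.fg_of_fg_map_injective (P.comap S.mkQ).subtype Subtype.val_injective ?_
  have e : (LinearMap.ker l).map (P.comap S.mkQ).subtype = S := by
    ext x
    constructor
    · rintro ⟨⟨y, hy⟩, h, rfl⟩
      exact (Submodule.Quotient.mk_eq_zero S).mp (congrArg Subtype.val h)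
    · intro hx
      refine ⟨⟨x, ?_⟩, ?_, rfl⟩
      · simp [(Submodule.Quotient.mk_eq_zero S).mpr hx]
      · exact Subtype.ext ((Submodule.Quotient.mk_eq_zero S).mpr hx)
  rw [e]; exact hS

end Groth.Agent.H3CAlg
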