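import Groth.Agent.H3CAlg.PruferCoherent
import Groth.Agent.H3CAlg.Coherent
import Groth.Agent.H4DR.Hom.Regular
import Groth.Agent.H05EGA4.Regular
import Mathlib.RingTheory.Localization.Algebra
import Mathlib.LinearAlgebra.Dual.Lemmas

/-!
Projective dimension over local rings of finitely presented algebras over valuation rings.
-/

universe u

namespace Groth.Agent.H3CAlg.ValPd

open CategoryTheory

theorem pd_ker_of_surjective {R : Type u} [CommRing R] {F M : Type u} [AddCommGroup F] [Module R F]
    [Module.Projective R F] [AddCommGroup M] [Module R M] (f : F →ₗ[R] M) (hf : Function.Surjective f) (d : ℕ)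
    (h : HasProjectiveDimensionLE (ModuleCat.of R (LinearMap.ker f)) d) :
    HasProjectiveDimensionLE (ModuleCat.of R M) (d + 1) := by
  haveI : Projective (ModuleCat.of R F) := (IsProjective.iff_projective F).mp ‹_›
  exact ((LinearMap.shortExact_shortComplexKer hf).hasProjectiveDimensionLT_X₃_iff d ‹_›).mpr h

theorem pd_ker_of_surjective' {R : Type u} [CommRing R] {F M : Type u} [AddCommGroup F] [Module R F]
    [Module.Projective R F] [AddCommGroup M] [Module R M] (f : F →ₗ[R] M) (hf : Function.Surjective f) (d : ℕ)
    (h : HasProjectiveDimensionLE (ModuleCat.of R M) (d + 1)) :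
    HasProjectiveDimensionLE (ModuleCat.of R (LinearMap.ker f)) d := by
  haveI : Projective (ModuleCat.of R F) := (IsProjective.iff_projective F).mp ‹_›
  exact ((LinearMap.shortExact_shortComplexKer hf).hasProjectiveDimensionLT_X₃_iff d ‹_›).mp h

section Coherent

variable {A : Type u} [CommRing A]

/-- Finite free modules over a coherent ring are coherent. -/
theorem isCoh_pi (hA : ∀ I : Ideal A, I.FG → Module.FinitePresentation A I) :
    ∀ n : ℕ, IsCoh A (Fin n → A)
  | 0 => ⟨inferInstance, fun P _ => inferInstance⟩
  | n + 1 => by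
    refine ⟨inferInstance, fun P hP => ?_⟩
    haveI : Module.Finite A P := Module.Finite.iff_fg.mpr hP
    let π : P →ₗ[A] A := (LinearMap.proj (0 : Fin (n + 1))).comp P.subtype
    haveI : Module.FinitePresentation A (LinearMap.range π) :=
      hA _ (Module.Finite.iff_fg.mp (Module.Finite.range π))
    have hker : (LinearMap.ker π).FG := by
      have := Module.FinitePresentation.fg_ker π.rangeRestrict π.surjective_rangeRestrict
      rwa [LinearMap.ker_rangeRestrict] at this
    let t : (Fin (n + 1) → A) →ₗ[A] (Fin n → A) := LinearMap.funLeft A A Fin.succ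
    let tk : LinearMap.ker π →ₗ[A] (Fin n → A) := t.comp (P.subtype.comp (LinearMap.ker π).subtype)
    have htk : Function.Injective tk := by
      intro a b hab
      refine Subtype.ext (Subtype.ext (funext fun i => ?_))
      cases i using Fin.cases with
      | zero => exact (LinearMap.mem_ker.mp a.2).trans (LinearMap.mem_ker.mp b.2).symm
      | succ i => exact congrFun hab i
    haveI : Module.Finite A (LinearMap.ker π) := Module.Finite.iff_fg.mpr hker
    haveI := (isCoh_pi hA n).2 (LinearMap.range tk) (Module.Finite.iff_fg.mp (Module.Finite.range tk))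
    haveI : Module.FinitePresentation A (LinearMap.ker π) :=
      Module.FinitePresentation.of_equiv (R := A) (M := LinearMap.range tk) (N := LinearMap.ker π)
        (LinearEquiv.ofInjective tk htk).symm
    haveI : Module.FinitePresentation A (LinearMap.ker π.rangeRestrict) :=
      Module.FinitePresentation.of_equiv (R := A) (M := LinearMap.ker π) (N := LinearMap.ker π.rangeRestrict)
        (LinearEquiv.ofEq _ _ (LinearMap.ker_rangeRestrict π).symm)
    exact Module.finitePresentation_of_ker π.rangeRestrict π.surjective_rangeRestrict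

/-- Finitely generated ideals of a localization of a coherent ring are finitely presented. -/
theorem finitePresentation_ideal_localization {B : Type u} [CommRing B] (M : Submonoid B) [Algebra B A]
    [IsLocalization M A] (hB : ∀ I : Ideal B, I.FG → Module.FinitePresentation B I)
    (I : Ideal A) (hI : I.FG) : Module.FinitePresentation A I := by
  obtain ⟨k, g, hg⟩ := Submodule.fg_iff_exists_fin_generating_family.mp hI
  choose b s hb using fun i => IsLocalization.exists_mk'_eq M (g i)
  let I₀ : Ideal B := Ideal.span (Set.range b)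
  have hI₀ : I₀.map (algebraMap B A) = I := by
    rw [Ideal.map_span, ← hg, ← Set.range_comp]
    refine le_antisymm (Submodule.span_le.mpr ?_) (Submodule.span_le.mpr ?_)
    · rintro _ ⟨i, rfl⟩
      show algebraMap B A (b i) ∈ Submodule.span A (Set.range g)
      rw [← IsLocalization.mk'_spec A (b i) (s i), hb]
      exact Ideal.mul_mem_right _ _ (Submodule.subset_span ⟨i, rfl⟩)
    · rintro _ ⟨i, rfl⟩
      rw [SetLike.mem_coe, ← hb i, IsLocalization.mk'_eq_mul_mk'_one]
      exact Ideal.mul_mem_right _ _ (Submodule.subset_span ⟨i, rfl⟩)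
  haveI := hB I₀ (Submodule.fg_span (Set.finite_range b))
  rw [← hI₀]
  exact FinitePresentation.of_isBaseChange (Algebra.idealMap A I₀)
    ((isLocalizedModule_iff_isBaseChange M A _).mp inferInstance)

end Coherent

theorem valuationRing_localization {V : Type u} [CommRing V] [IsDomain V] [ValuationRing V]
    (p : Ideal V) [p.IsPrime] : ValuationRing (Localization.AtPrime p) := by
  haveI : IsDomain (Localization.AtPrime p) :=
    IsLocalization.isDomain_localization p.primeCompl_le_nonZeroDivisors
  refine ValuationRing.iff_dvd_total.mpr ⟨fun x y => ?_⟩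
  obtain ⟨a, s, rfl⟩ := IsLocalization.exists_mk'_eq p.primeCompl x
  obtain ⟨b, t, rfl⟩ := IsLocalization.exists_mk'_eq p.primeCompl y
  have hu : ∀ (c : V) (v : p.primeCompl), Associated (IsLocalization.mk' (Localization.AtPrime p) c v)
      (algebraMap V (Localization.AtPrime p) c) := fun c v =>
    ⟨(IsLocalization.map_units _ v).unit, by simp⟩
  rcases ValuationRing.dvd_total a b with h | h
  · exact Or.inl ((hu a s).dvd.trans ((map_dvd _ h).trans (hu b t).symm.dvd))
  · exact Or.inr ((hu b t).dvd.trans ((map_dvd _ h).trans (hu a s).symm.dvd))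

section Main

variable {V : Type u} [CommRing V] [IsDomain V] [ValuationRing V] {A : Type u} [CommRing A] [Algebra V A]
  (p : Ideal V)

theorem exists_smul_of_mem {F : Type u} [AddCommGroup F] [Module A F] [Module V F] [IsScalarTower V A F]
    {x : F} (hx : x ∈ (p.map (algebraMap V A)) • (⊤ : Submodule A F)) : ∃ a ∈ p, ∃ y : F, a • y = x := by
  have hadd : ∀ a b : V, a ∈ p → b ∈ p → ∀ y z : F, ∃ c ∈ p, ∃ w : F, c • w = a • y + b • z := by
    intro a b ha hb y z
    rcases ValuationRing.dvd_total a b with ⟨c, rfl⟩ | ⟨c, rfl⟩
    · exact ⟨a, ha, y + c • z, by rw [smul_add, smul_smul]⟩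
    · exact ⟨b, hb, c • y + z, by rw [smul_add, smul_smul]⟩
  refine Submodule.smul_induction_on hx (fun j hj y _ => ?_) ?_
  · induction hj using Submodule.span_induction generalizing y with
    | mem j hj =>
      obtain ⟨a, ha, rfl⟩ := hj
      exact ⟨a, ha, y, (algebraMap_smul A a y).symm⟩
    | zero => exact ⟨0, p.zero_mem, 0, by simp⟩
    | add i j _ _ hi hj =>
      obtain ⟨a, ha, z, hz⟩ := hi y trivial
      obtain ⟨b, hb, w, hw⟩ := hj y trivial
      rw [add_smul, ← hz, ← hw]
      exact hadd a b ha hb z w
    | smul c i _ hi =>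
      obtain ⟨a, ha, z, hz⟩ := hi (c • y) trivial
      exact ⟨a, ha, z, by rw [hz, smul_eq_mul, mul_smul, smul_comm]⟩
  · rintro x y ⟨a, ha, z, rfl⟩ ⟨b, hb, w, rfl⟩
    exact hadd a b ha hb z w

variable [IsLocalRing A] (hJ : p.map (algebraMap V A) ≤ IsLocalRing.maximalIdeal A)
  (hA : ∀ I : Ideal A, I.FG → Module.FinitePresentation A I)
  (htfA : ∀ (c : V) (x : A), c ≠ 0 → c • x = 0 → x = 0)
include hJ hA htfA

/-- The projective dimension of a flat module is at most that of its special fibre. -/
theorem pd_le_of_fibre : ∀ (d : ℕ) (M : Type u) [AddCommGroup M] [Module A M] [Module.FinitePresentation A M]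
    [Module V M] [IsScalarTower V A M], (∀ (c : V) (x : M), c ≠ 0 → c • x = 0 → x = 0) →
    ∀ (N : Type u) [AddCommGroup N] [Module A N] [Module (A ⧸ p.map (algebraMap V A)) N]
      [IsScalarTower A (A ⧸ p.map (algebraMap V A)) N] (π : M →ₗ[A] N), Function.Surjective π →
      LinearMap.ker π = (p.map (algebraMap V A)) • ⊤ →
      HasProjectiveDimensionLE (ModuleCat.of (A ⧸ p.map (algebraMap V A)) N) d →
      HasProjectiveDimensionLE (ModuleCat.of A M) d := by
  intro d
  induction d with
  | zero =>
    intro M _ _ _ _ _ htf N _ _ _ _ π hπ hker hpd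
    haveI : Nontrivial (A ⧸ (p.map (algebraMap V A))) := Ideal.Quotient.nontrivial_iff.mpr
      (ne_top_of_le_ne_top (IsLocalRing.maximalIdeal.isMaximal A).ne_top hJ)
    haveI : IsLocalRing (A ⧸ (p.map (algebraMap V A))) := IsLocalRing.of_surjective' _ Ideal.Quotient.mk_surjective
    haveI : Projective (ModuleCat.of (A ⧸ (p.map (algebraMap V A))) N) := projective_iff_hasProjectiveDimensionLT_one.mpr hpd
    haveI : Module.Projective (A ⧸ (p.map (algebraMap V A))) N := (IsProjective.iff_projective N).mpr inferInstance
    haveI : Module.Finite A N := Module.Finite.of_surjective π hπ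
    haveI : Module.Finite (A ⧸ (p.map (algebraMap V A))) N := Module.Finite.of_restrictScalars_finite A _ N
    haveI : Module.Free (A ⧸ (p.map (algebraMap V A))) N := Module.free_of_flat_of_isLocalRing
    let b := Module.finBasis (A ⧸ (p.map (algebraMap V A))) N
    choose m hm using fun i => hπ (b i)
    let f := Fintype.linearCombination A m
    have hfb : ∀ c, π (f c) = ∑ i, Ideal.Quotient.mk (p.map (algebraMap V A)) (c i) • b i := fun c => by
      simp only [f, Fintype.linearCombination_apply, map_sum, map_smul, hm]
      exact Finset.sum_congr rfl fun i _ => (algebraMap_smul (A ⧸ (p.map (algebraMap V A))) (c i) (b i)).symm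
    have hjac : (p.map (algebraMap V A)) ≤ (⊥ : Ideal A).jacobson := by
      rw [IsLocalRing.jacobson_eq_maximalIdeal _ bot_ne_top]; exact hJ
    have hf : Function.Surjective f := by
      rw [← LinearMap.range_eq_top, eq_top_iff]
      refine Submodule.le_of_le_smul_of_le_jacobson_bot (Module.Finite.fg_top) hjac fun x _ => ?_
      choose c hc using fun i => Ideal.Quotient.mk_surjective (I := (p.map (algebraMap V A))) (b.repr (π x) i)
      have : π (f c) = π x := by
        rw [hfb]; simp only [hc]; exact b.sum_repr (π x)
      have h2 : x - f c ∈ (p.map (algebraMap V A)) • (⊤ : Submodule A M) := by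
        rw [← hker, LinearMap.mem_ker, map_sub, this, sub_self]
      have := Submodule.add_mem_sup (LinearMap.mem_range_self f c) h2
      rwa [add_sub_cancel] at this
    have hk := Module.FinitePresentation.fg_ker f hf
    have hbot : LinearMap.ker f = ⊥ := by
      refine Submodule.eq_bot_of_le_smul_of_le_jacobson_bot (p.map (algebraMap V A)) _ hk (fun c hc => ?_) hjac
      have h0 := hfb c
      rw [LinearMap.mem_ker.mp hc, map_zero] at h0
      have hi := Fintype.linearIndependent_iff.mp b.linearIndependent _ h0.symm
      have hcJ : c ∈ (p.map (algebraMap V A)) • (⊤ : Submodule A (Fin _ → A)) := by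
        rw [pi_eq_sum_univ' c]
        exact Submodule.sum_mem _ fun i _ =>
          Submodule.smul_mem_smul (Ideal.Quotient.eq_zero_iff_mem.mp (hi i)) trivial
      obtain ⟨a, ha, y, rfl⟩ := exists_smul_of_mem p hcJ
      by_cases ha0 : a = 0
      · simp [ha0]
      · rw [← algebraMap_smul A a y] at hc ⊢
        refine Submodule.smul_mem_smul (Ideal.mem_map_of_mem _ ha) (LinearMap.mem_ker.mpr (htf a _ ha0 ?_))
        rw [LinearMap.mem_ker, map_smul, algebraMap_smul] at hc
        exact hc
    have e : (Fin _ → A) ≃ₗ[A] M := LinearEquiv.ofBijective f ⟨LinearMap.ker_eq_bot.mp hbot, hf⟩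
    haveI : Module.Projective A M := Module.Projective.of_equiv e
    exact projective_iff_hasProjectiveDimensionLT_one.mp ((IsProjective.iff_projective M).mp inferInstance)
  | succ d ih =>
    intro M _ _ _ _ _ htf N _ _ _ _ π hπ hker hpd
    obtain ⟨r, f, hf⟩ := Module.Finite.exists_fin' A M
    refine pd_ker_of_surjective f hf d ?_
    haveI : Module.FinitePresentation A (LinearMap.ker f) :=
      (isCoh_pi hA r).2 _ (Module.FinitePresentation.fg_ker f hf)
    let g := Fintype.linearCombination (A ⧸ (p.map (algebraMap V A))) (fun i => π (f (Pi.single i 1)))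
    let red : (Fin r → A) →ₗ[A] (Fin r → A ⧸ (p.map (algebraMap V A))) := (Algebra.linearMap A (A ⧸ (p.map (algebraMap V A)))).compLeft (Fin r)
    have hg : ∀ c, g (red c) = π (f c) := fun c => by
      conv_rhs => rw [pi_eq_sum_univ' c]
      simp only [g, red, Fintype.linearCombination_apply, map_sum, map_smul]
      exact Finset.sum_congr rfl fun i _ => algebraMap_smul (A ⧸ (p.map (algebraMap V A))) (c i) _
    have hred : ∀ c, ∃ c', red c' = c := fun c => by
      choose c' hc' using fun i => Ideal.Quotient.mk_surjective (I := (p.map (algebraMap V A))) (c i)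
      exact ⟨c', funext hc'⟩
    have hgs : Function.Surjective g := fun z => by
      obtain ⟨x, rfl⟩ := hπ z
      obtain ⟨c, rfl⟩ := hf x
      exact ⟨red c, hg c⟩
    have hredker : ∀ c, red c = 0 → c ∈ (p.map (algebraMap V A)) • (⊤ : Submodule A (Fin r → A)) := fun c hc => by
      rw [pi_eq_sum_univ' c]
      exact Submodule.sum_mem _ fun i _ => Submodule.smul_mem_smul
        (Ideal.Quotient.eq_zero_iff_mem.mp (congrFun hc i)) trivial
    let π' : LinearMap.ker f →ₗ[A] LinearMap.ker g :=
      { toFun := fun c => ⟨red c, by
          rw [LinearMap.mem_ker, hg, LinearMap.mem_ker.mp c.2, map_zero]⟩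
        map_add' := fun a b => Subtype.ext (map_add red a.1 b.1)
        map_smul' := fun a b => Subtype.ext (map_smul red a b.1) }
    refine ih (LinearMap.ker f) (fun c x hc hx => Subtype.ext (funext fun i => htfA c _ hc
      (congrFun (congrArg Subtype.val hx) i))) (LinearMap.ker g) π' ?_ ?_ (pd_ker_of_surjective' g hgs d hpd)
    · rintro ⟨z, hz⟩
      obtain ⟨c, rfl⟩ := hred z
      rw [LinearMap.mem_ker, hg, ← LinearMap.mem_ker, hker] at hz
      obtain ⟨a, ha, y, hy⟩ := exists_smul_of_mem p hz
      obtain ⟨e, rfl⟩ := hf y
      refine ⟨⟨c - algebraMap V A a • e, ?_⟩, Subtype.ext ?_⟩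
      · rw [LinearMap.mem_ker, map_sub, map_smul, algebraMap_smul, hy, sub_self]
      · show red (c - algebraMap V A a • e) = red c
        rw [map_sub, map_smul, ← algebraMap_smul (A ⧸ (p.map (algebraMap V A))) (algebraMap V A a) (red e),
          show algebraMap A (A ⧸ (p.map (algebraMap V A))) (algebraMap V A a) = 0 from
            Ideal.Quotient.eq_zero_iff_mem.mpr (Ideal.mem_map_of_mem _ ha), zero_smul, sub_zero]
    · refine le_antisymm (fun x hx => ?_) ?_
      · obtain ⟨c, hc⟩ := x
        have h1 : red c = 0 := congrArg Subtype.val (LinearMap.mem_ker.mp hx)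
        obtain ⟨a, ha, y, rfl⟩ := exists_smul_of_mem p (hredker c h1)
        by_cases ha0 : a = 0
        · subst ha0
          simp only [zero_smul]
          exact zero_mem _
        · have hy : y ∈ LinearMap.ker f := LinearMap.mem_ker.mpr (htf a _ ha0 (by
            rw [← algebraMap_smul A a (f y), ← map_smul, algebraMap_smul]
            exact hc))
          rw [show (⟨a • y, hc⟩ : LinearMap.ker f) = algebraMap V A a • ⟨y, hy⟩ from
            Subtype.ext (algebraMap_smul A a y).symm]
          exact Submodule.smul_mem_smul (Ideal.mem_map_of_mem _ ha) trivial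
      · rw [Submodule.smul_le]
        intro a ha x _
        refine LinearMap.mem_ker.mpr (Subtype.ext (funext fun i => ?_))
        show Ideal.Quotient.mk (p.map (algebraMap V A)) (a * x.1 i) = 0
        exact Ideal.Quotient.eq_zero_iff_mem.mpr (Ideal.mul_mem_right _ _ ha)

variable {n : ℕ} (hreg : IsRegularLocalRing (A ⧸ p.map (algebraMap V A)))
  (hn : ringKrullDim (A ⧸ p.map (algebraMap V A)) = n)
include hreg hn

theorem pd_le_of_torsionFree (M : Type u) [AddCommGroup M] [Module A M] [Module.FinitePresentation A M]
    [Module V M] [IsScalarTower V A M] (htf : ∀ (c : V) (x : M), c ≠ 0 → c • x = 0 → x = 0) :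
    HasProjectiveDimensionLE (ModuleCat.of A M) n := by
  haveI := hreg
  refine pd_le_of_fibre p hJ hA htfA n M htf _
    (Submodule.mkQ (p.map (algebraMap V A) • (⊤ : Submodule A M))) (Submodule.mkQ_surjective _)
    (Submodule.ker_mkQ _) ?_
  exact H4DR.Hom.hasProjectiveDimensionLT_of_regular
    (fun q => H05EGA4.isRegularLocalRing_localization _ q.asIdeal) hn _

theorem pd_le_succ (M : Type u) [AddCommGroup M] [Module A M] [Module.FinitePresentation A M] :
    HasProjectiveDimensionLE (ModuleCat.of A M) (n + 1) := by
  obtain ⟨r, f, hf⟩ := Module.Finite.exists_fin' A M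
  refine pd_ker_of_surjective f hf n ?_
  haveI : Module.FinitePresentation A (LinearMap.ker f) :=
    (isCoh_pi hA r).2 _ (Module.FinitePresentation.fg_ker f hf)
  exact pd_le_of_torsionFree p hJ hA htfA hreg hn _ fun c x hc hx =>
    Subtype.ext (funext fun i => htfA c _ hc (congrFun (congrArg Subtype.val hx) i))

theorem pd_le_pred (M : Type u) [AddCommGroup M] [Module A M] [Module.FinitePresentation A M]
    [Module.IsReflexive A M] : HasProjectiveDimensionLE (ModuleCat.of A M) (n - 1) := by
  haveI : Module.FinitePresentation A (Module.Dual A M) := by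
    obtain ⟨r, g, hg⟩ := Module.Finite.exists_fin' A M
    obtain ⟨s, k, hk⟩ := Submodule.fg_iff_exists_fin_generating_family.mp (Module.FinitePresentation.fg_ker g hg)
    let ev : Module.Dual A M →ₗ[A] (Fin r → A) :=
      LinearMap.pi fun i => LinearMap.applyₗ (g (Pi.single i 1))
    have hevi : Function.Injective ev := by
      intro a b h
      refine LinearMap.ext fun x => ?_
      obtain ⟨c, rfl⟩ := hg x
      conv_lhs => rw [pi_eq_sum_univ' c]
      conv_rhs => rw [pi_eq_sum_univ' c]
      simp only [map_sum, map_smul]
      exact Finset.sum_congr rfl fun i _ => congrArg _ (congrFun h i)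
    let rel : (Fin r → A) →ₗ[A] (Fin s → A) :=
      LinearMap.pi fun j => Fintype.linearCombination A (k j)
    have hr : LinearMap.range ev = LinearMap.ker rel := by
      refine le_antisymm ?_ fun c hc => ?_
      · rintro _ ⟨u, rfl⟩
        refine LinearMap.mem_ker.mpr (funext fun j => ?_)
        have h1 : g (k j) = 0 := LinearMap.mem_ker.mp (hk.le (Submodule.subset_span ⟨j, rfl⟩))
        have h2 := congrArg u h1
        rw [pi_eq_sum_univ' (k j)] at h2
        simp only [map_sum, map_smul, map_zero] at h2
        simp only [rel, ev, LinearMap.pi_apply, Fintype.linearCombination_apply, Pi.zero_apply,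
          LinearMap.applyₗ_apply_apply]
        rw [← h2]
        exact Finset.sum_congr rfl fun i _ => by rw [smul_eq_mul, smul_eq_mul, mul_comm]
      · have hle : LinearMap.ker g ≤ LinearMap.ker (Fintype.linearCombination A c) := by
          rw [← hk, Submodule.span_le]
          rintro _ ⟨j, rfl⟩
          have h1 := congrFun (LinearMap.mem_ker.mp hc) j
          simp only [rel, LinearMap.pi_apply, Fintype.linearCombination_apply, Pi.zero_apply] at h1
          simp only [SetLike.mem_coe, LinearMap.mem_ker, Fintype.linearCombination_apply]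
          rw [← h1]
          exact Finset.sum_congr rfl fun i _ => by rw [smul_eq_mul, smul_eq_mul, mul_comm]
        refine ⟨((LinearMap.ker g).liftQ _ hle).comp (LinearMap.quotKerEquivOfSurjective g hg).symm.toLinearMap,
          funext fun i => ?_⟩
        have h1 : (LinearMap.quotKerEquivOfSurjective g hg).symm (g (Pi.single i 1)) =
            Submodule.Quotient.mk (Pi.single i 1) := (LinearEquiv.symm_apply_eq _).mpr rfl
        simp only [ev, LinearMap.pi_apply, LinearMap.applyₗ_apply_apply, LinearMap.comp_apply,
          LinearEquiv.coe_coe, h1, Submodule.liftQ_apply]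
        simp [Fintype.linearCombination_apply_single]
    haveI := (isCoh_pi hA r).2 (LinearMap.range ev) (hr ▸ ker_fg_of_isCoh (isCoh_pi hA s) rel)
    exact Module.FinitePresentation.of_equiv (LinearEquiv.ofInjective ev hevi).symm
  obtain ⟨t, h, hh⟩ := Module.Finite.exists_fin' A (Module.Dual A M)
  obtain ⟨w, k, hk⟩ := Submodule.fg_iff_exists_fin_generating_family.mp (Module.FinitePresentation.fg_ker h hh)
  let kl := Fintype.linearCombination A k
  have hkl : LinearMap.range kl = LinearMap.ker h := by
    rw [← hk]; exact Fintype.range_linearCombination A k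
  let e := (Pi.basisFun A (Fin w)).dualBasis.equivFun
  let φ : Module.Dual A (Fin t → A) →ₗ[A] (Fin w → A) := e.toLinearMap.comp kl.dualMap
  have hφker : LinearMap.ker φ = LinearMap.range h.dualMap := by
    rw [LinearEquiv.ker_comp, LinearMap.ker_dualMap_eq_dualAnnihilator_range, hkl]
    refine le_antisymm (fun u hu => ?_) ?_
    · have hle : LinearMap.ker h ≤ LinearMap.ker u := fun z hz => (Submodule.mem_dualAnnihilator u).mp hu z hz
      refine ⟨((LinearMap.ker h).liftQ u hle).comp (LinearMap.quotKerEquivOfSurjective h hh).symm.toLinearMap,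
        LinearMap.ext fun z => ?_⟩
      have h1 : (LinearMap.quotKerEquivOfSurjective h hh).symm (h z) = Submodule.Quotient.mk z :=
        (LinearEquiv.symm_apply_eq _).mpr rfl
      rw [LinearMap.dualMap_apply, LinearMap.comp_apply, LinearEquiv.coe_coe, h1, Submodule.liftQ_apply]
    · rintro _ ⟨u, rfl⟩
      refine (Submodule.mem_dualAnnihilator _).mpr fun z hz => ?_
      rw [LinearMap.dualMap_apply, LinearMap.mem_ker.mp hz, map_zero]
  haveI : Module.FinitePresentation A (LinearMap.range φ) :=
    (isCoh_pi hA w).2 _ (Module.Finite.iff_fg.mp (Module.Finite.range φ))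
  have hI : HasProjectiveDimensionLE (ModuleCat.of A (LinearMap.range φ)) n :=
    pd_le_of_torsionFree p hJ hA htfA hreg hn _ fun c x hc hx =>
      Subtype.ext (funext fun i => htfA c _ hc (congrFun (congrArg Subtype.val hx) i))
  have eM : M ≃ₗ[A] LinearMap.ker φ.rangeRestrict :=
    (Module.evalEquiv A M).trans ((LinearEquiv.ofInjective h.dualMap
      (LinearMap.dualMap_injective_of_surjective hh)).trans
      (LinearEquiv.ofEq _ _ (hφker.symm.trans (LinearMap.ker_rangeRestrict φ).symm)))
  suffices HasProjectiveDimensionLE (ModuleCat.of A (LinearMap.ker φ.rangeRestrict)) (n - 1) from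
    hasProjectiveDimensionLT_of_iso (X := ModuleCat.of A (LinearMap.ker φ.rangeRestrict))
      (LinearEquiv.toModuleIso eM.symm) _
  cases n with
  | zero => exact pd_ker_of_surjective' _ φ.surjective_rangeRestrict 0
              (hasProjectiveDimensionLT_of_ge _ 1 2 (by omega))
  | succ m => exact pd_ker_of_surjective' _ φ.surjective_rangeRestrict m hI

end Main

/-- The local rings of flat finitely presented algebras over valuation rings satisfy the hypotheses. -/
theorem setup (V : Type u) [CommRing V] [IsDomain V] [ValuationRing V]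
    (B : Type u) [CommRing B] [Algebra V B] [Module.Flat V B] [Algebra.FinitePresentation V B]
    (q : Ideal B) [q.IsPrime] :
    Ideal.map (algebraMap V (Localization.AtPrime q)) (Ideal.comap (algebraMap V B) q) ≤
        IsLocalRing.maximalIdeal (Localization.AtPrime q) ∧
      (∀ I : Ideal (Localization.AtPrime q), I.FG → Module.FinitePresentation (Localization.AtPrime q) I) ∧
      ∀ (c : V) (x : Localization.AtPrime q), c ≠ 0 → c • x = 0 → x = 0 := by
  refine ⟨?_, ?_, fun c x hc hx => ?_⟩
  · rw [IsScalarTower.algebraMap_eq V B (Localization.AtPrime q), ← Ideal.map_map,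
      ← Localization.AtPrime.map_eq_maximalIdeal]
    exact Ideal.map_mono Ideal.map_comap_le
  · exact finitePresentation_ideal_localization q.primeCompl
      (fun I hI => PruferCoherent.finitePresentation_ideal (R := V) (fun p _ => valuationRing_localization p) B I hI)
  · haveI : Module.Flat V (Localization.AtPrime q) := Module.Flat.trans V B _
    exact (smul_eq_zero.mp hx).resolve_left hc

end Groth.Agent.H3CAlg.ValPd
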