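import Groth.Agent.H3CAlg.TorLES
import Mathlib.Algebra.Category.ModuleCat.Monoidal.Closed

/-!
# `Tor` in degrees zero and one
-/

universe u

open CategoryTheory CategoryTheory.Limits MonoidalCategory

namespace Groth.Agent.H3CAlg.Tor

variable {R : Type u} [CommRing R]

/-- `Tor₀` is the tensor product, naturally in the second variable. -/
noncomputable def zeroIso (M : ModuleCat.{u} R) :
    (Tor (ModuleCat.{u} R) 0).obj M ≅ (tensoringLeft (ModuleCat.{u} R)).obj M :=
  haveI : PreservesFiniteColimits ((tensoringLeft (ModuleCat.{u} R)).obj M) :=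
    inferInstanceAs (PreservesFiniteColimits (tensorLeft M))
  ((tensoringLeft (ModuleCat.{u} R)).obj M).leftDerivedZeroIsoSelf

/-- `Tor₁(L, M) = 0` iff `L ⊗ X₁ → L ⊗ X₂` is injective for a presentation of `M` with `X₂`
projective. -/
theorem isZero_one_iff_injective (L : ModuleCat.{u} R) (S : ShortComplex (ModuleCat.{u} R))
    (hS : S.ShortExact) [Projective S.X₂] :
    IsZero (((Tor (ModuleCat.{u} R) 1).obj L).obj S.X₃) ↔
      Function.Injective (S.f.hom.lTensor L) := by
  obtain ⟨-, -, δ, w₁, w₂, h₁, h₂⟩ := les₂ L S hS 0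
  have hmono : Mono δ := h₁.mono_g ((isZero_Tor_succ_of_projective _ L S.X₂ 0).eq_of_src _ _)
  have e := (zeroIso L).hom.naturality S.f
  have : Function.Injective (S.f.hom.lTensor L) ↔ Mono (((Tor (ModuleCat.{u} R) 0).obj L).map S.f) := by
    rw [← mono_comp_iff_of_mono (((Tor (ModuleCat.{u} R) 0).obj L).map S.f) ((zeroIso L).hom.app S.X₂),
      e, mono_comp_iff_of_isIso, ModuleCat.mono_iff_injective]
    rfl
  rw [this]
  constructor
  · intro hz
    exact h₂.mono_g (hz.eq_of_src _ _)
  · intro hm
    have : δ = 0 := by rw [← cancel_mono (((Tor (ModuleCat.{u} R) 0).obj L).map S.f), w₂, zero_comp]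
    refine (IsZero.iff_id_eq_zero _).mpr ?_
    rw [← cancel_mono δ, this, comp_zero, comp_zero]

/-- Every module has a presentation with projective middle term. -/
theorem exists_presentation (M : ModuleCat.{u} R) :
    ∃ (K : ModuleCat.{u} R) (f : K ⟶ Projective.over M) (w : f ≫ Projective.π M = 0),
      (ShortComplex.mk f (Projective.π M) w).ShortExact :=
  ⟨_, kernel.ι (Projective.π M), kernel.condition _,
    { exact := ShortComplex.exact_kernel _ }⟩

end Groth.Agent.H3CAlg.Tor
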