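import Groth.Agent.H26Tor.Balance
import Groth.Prelude.Def_IntMult

/-! `Tor` and the Tor Euler characteristic are symmetric. -/

set_option autoImplicit false

universe u

open CategoryTheory MonoidalCategory

namespace Groth.Agent.H3CAlg.TorComm

theorem nonempty_iso {R : Type u} [CommRing R] (n : ℕ) (M N : ModuleCat.{u} R) :
    Nonempty (((Tor (ModuleCat.{u} R) n).obj M).obj N ≅ ((Tor (ModuleCat.{u} R) n).obj N).obj M) := by
  let P := projectiveResolution M
  obtain ⟨e⟩ := H26Tor.balance P n N
  refine ⟨e ≪≫ ?_ ≪≫ (P.isoLeftDerivedObj ((tensoringLeft (ModuleCat.{u} R)).obj N) n).symm⟩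
  exact (HomologicalComplex.homologyFunctor _ _ n).mapIso
    (((NatIso.mapHomologicalComplex (BraidedCategory.tensorLeftIsoTensorRight N) _).app P.complex).symm)

theorem chi_comm (A : Type u) [CommRing A] (M N : Type u) [AddCommGroup M] [Module A M] [AddCommGroup N]
    [Module A N] : IntMult.chi A M N = IntMult.chi A N M := by
  refine finsum_congr fun i => ?_
  obtain ⟨e⟩ := nonempty_iso i (ModuleCat.of A M) (ModuleCat.of A N)
  have h : Module.length A (DRing.Tor A i M N) = Module.length A (DRing.Tor A i N M) := e.toLinearEquiv.length_eq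
  exact congrArg (fun z : ℕ∞ => (-1 : ℤ) ^ i * (z.toNat : ℤ)) h

end Groth.Agent.H3CAlg.TorComm
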