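import Mathlib.RingTheory.Artinian.Ring
import Mathlib.RingTheory.Flat.Equalizer
import Mathlib.RingTheory.LocalRing.ResidueField.Basic
import Mathlib.LinearAlgebra.TensorProduct.RightExactness
import Mathlib.LinearAlgebra.Basis.VectorSpace
import Mathlib.LinearAlgebra.FreeModule.Basic
import Mathlib.LinearAlgebra.TensorProduct.Quotient
import Mathlib.RingTheory.TensorProduct.Free

/-! Flat modules over an Artinian local ring. -/

set_option autoImplicit false

open TensorProduct

namespace Groth.Agent.H3CAlg

universe u v w

section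
variable {A : Type u} [CommRing A] (I : Ideal A)

theorem top_eq_bot_of_le_smul (hI : IsNilpotent I) {P : Type v} [AddCommGroup P] [Module A P]
    (h : (⊤ : Submodule A P) ≤ I • ⊤) : (⊤ : Submodule A P) = ⊥ := by
  obtain ⟨N, hN⟩ := hI
  have h2 : ∀ k, (⊤ : Submodule A P) ≤ I ^ k • ⊤ := by
    intro k
    induction k with
    | zero => simp
    | succ k ih =>
      rw [pow_succ, Submodule.mul_smul]
      exact ih.trans (smul_mono_right _ h)
  have := h2 N
  rwa [hN, Submodule.zero_eq_bot, Submodule.bot_smul, le_bot_iff] at this

theorem subsingleton_of_quot_tensor (hI : IsNilpotent I) (P : Type v) [AddCommGroup P] [Module A P]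
    [Subsingleton ((A ⧸ I) ⊗[A] P)] : Subsingleton P := by
  have hsub : Subsingleton (P ⧸ (I • ⊤ : Submodule A P)) :=
    (TensorProduct.quotTensorEquivQuotSMul P I).symm.injective.subsingleton
  exact (Submodule.subsingleton_iff A).mp (subsingleton_iff_bot_eq_top.mp
    (top_eq_bot_of_le_smul I hI (Submodule.Quotient.subsingleton_iff.mp hsub).ge).symm)

/-- Nakayama for a nilpotent ideal: surjectivity can be tested modulo the ideal. -/
theorem surjective_of_lTensor_quot (hI : IsNilpotent I) {P : Type v} {L : Type w}
    [AddCommGroup P] [Module A P] [AddCommGroup L] [Module A L] (h : P →ₗ[A] L)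
    (hs : Function.Surjective (h.lTensor (A ⧸ I))) : Function.Surjective h := by
  have hex := lTensor_exact (A ⧸ I) (LinearMap.exact_map_mkQ_range h) (Submodule.mkQ_surjective _)
  have : Subsingleton ((A ⧸ I) ⊗[A] (L ⧸ LinearMap.range h)) := by
    refine subsingleton_of_forall_eq 0 fun z => ?_
    obtain ⟨y, rfl⟩ := LinearMap.lTensor_surjective (A ⧸ I) (Submodule.mkQ_surjective _) z
    exact (hex y).mpr (hs y)
  have := subsingleton_of_quot_tensor I hI (L ⧸ LinearMap.range h)
  exact LinearMap.range_eq_top.mp (Submodule.Quotient.subsingleton_iff.mp this)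

/-- A surjection onto a flat module which is injective modulo a nilpotent ideal is injective. -/
theorem injective_of_surjective_of_lTensor_quot (hI : IsNilpotent I) {P : Type v} {L : Type w}
    [AddCommGroup P] [Module A P] [AddCommGroup L] [Module A L] [Module.Flat A L] (h : P →ₗ[A] L)
    (hsurj : Function.Surjective h) (hi : Function.Injective (h.lTensor (A ⧸ I))) :
    Function.Injective h := by
  have hinj : Function.Injective ((LinearMap.ker h).subtype.lTensor (A ⧸ I)) :=
    LinearMap.lTensor_injective_of_exact_of_flat h hsurj _ (Submodule.injective_subtype _)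
      (LinearMap.exact_subtype_ker_map h) (A ⧸ I)
  have : Subsingleton ((A ⧸ I) ⊗[A] LinearMap.ker h) := by
    refine ⟨fun a b => hinj (hi ?_)⟩
    have h0 : ∀ a, h.lTensor (A ⧸ I) ((LinearMap.ker h).subtype.lTensor (A ⧸ I) a) = 0 := fun a => by
      rw [← LinearMap.comp_apply, ← LinearMap.lTensor_comp, LinearMap.comp_ker_subtype,
        LinearMap.lTensor_zero]
      rfl
    rw [h0, h0]
  have := subsingleton_of_quot_tensor I hI (LinearMap.ker h)
  exact LinearMap.ker_eq_bot.mp (Submodule.subsingleton_iff_eq_bot.mp this)

end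

section
variable {A : Type u} [CommRing A] [IsLocalRing A] [IsArtinianRing A]

theorem isNilpotent_maximalIdeal : IsNilpotent (IsLocalRing.maximalIdeal A) := by
  have := IsArtinianRing.isNilpotent_jacobson_bot (R := A)
  rwa [IsLocalRing.jacobson_eq_maximalIdeal ⊥ bot_ne_top] at this

/-- Over an Artinian local ring a map into a flat module which is injective modulo the maximal
ideal is split injective, and its source is flat. -/
theorem exists_leftInverse_and_flat {C : Type v} {N : Type w} [AddCommGroup C] [Module A C]
    [AddCommGroup N] [Module A N] [Module.Flat A N] (h : C →ₗ[A] N)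
    (hinj : Function.Injective (h.lTensor (IsLocalRing.ResidueField A))) :
    (∃ r : N →ₗ[A] C, r.comp h = LinearMap.id) ∧ Module.Flat A C := by
  classical
  set k := IsLocalRing.ResidueField A
  have hmk : Function.Surjective (algebraMap A k) := Ideal.Quotient.mk_surjective
  let b := Module.Basis.ofVectorSpace k (k ⊗[A] C)
  choose c hc using fun i => TensorProduct.mk_surjective A C k hmk (b i)
  let φ := Finsupp.linearCombination A c
  have hφ : Function.Surjective (φ.baseChange k) := by
    rw [← LinearMap.range_eq_top, eq_top_iff, ← b.span_eq, Submodule.span_le]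
    rintro _ ⟨i, rfl⟩
    exact ⟨(1 : k) ⊗ₜ Finsupp.single i 1, by rw [← hc i]; simp [φ]⟩
  have hφsurj : Function.Surjective φ :=
    surjective_of_lTensor_quot (IsLocalRing.maximalIdeal A) isNilpotent_maximalIdeal φ hφ
  have hφinj : Function.Injective (φ.baseChange k) := by
    let bF := Algebra.TensorProduct.basis k (Finsupp.basisSingleOne (R := A)
      (ι := Module.Basis.ofVectorSpaceIndex k (k ⊗[A] C)))
    have heq : φ.baseChange k = (bF.equiv b (Equiv.refl _)).toLinearMap := by
      refine bF.ext fun i => ?_
      rw [LinearEquiv.coe_coe, Module.Basis.equiv_apply, Equiv.refl_apply, ← hc i]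
      simp [bF, φ]
    rw [heq]
    exact (bF.equiv b (Equiv.refl _)).injective
  -- lift a left inverse of the reduction of `h ∘ φ`
  obtain ⟨r0, hr0⟩ := (LinearMap.exists_leftInverse_of_injective ((h.comp φ).baseChange k)
    (LinearMap.ker_eq_bot.mpr (by
      rw [LinearMap.baseChange_comp]
      exact Function.Injective.comp (g := h.baseChange k) hinj hφinj)))
  -- flat modules over an Artinian local ring are projective
  let bN := Module.Basis.ofVectorSpace k (k ⊗[A] N)
  choose d hd using fun i => TensorProduct.mk_surjective A N k hmk (bN i)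
  let ψ := Finsupp.linearCombination A d
  let bG := Algebra.TensorProduct.basis k (Finsupp.basisSingleOne (R := A)
    (ι := Module.Basis.ofVectorSpaceIndex k (k ⊗[A] N)))
  have hψ : ψ.baseChange k = (bG.equiv bN (Equiv.refl _)).toLinearMap := by
    refine bG.ext fun i => ?_
    rw [LinearEquiv.coe_coe, Module.Basis.equiv_apply, Equiv.refl_apply, ← hd i]
    simp [bG, ψ]
  have hψs : Function.Surjective (ψ.baseChange k) := by
    rw [hψ]; exact (bG.equiv bN (Equiv.refl _)).surjective
  have hψi : Function.Injective (ψ.baseChange k) := by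
    rw [hψ]; exact (bG.equiv bN (Equiv.refl _)).injective
  have hψsurj := surjective_of_lTensor_quot (IsLocalRing.maximalIdeal A) isNilpotent_maximalIdeal ψ hψs
  have : Module.Projective A N := Module.Projective.of_equiv (LinearEquiv.ofBijective ψ
    ⟨injective_of_surjective_of_lTensor_quot (IsLocalRing.maximalIdeal A) isNilpotent_maximalIdeal ψ hψsurj hψi,
      hψsurj⟩)
  obtain ⟨r, hr⟩ := Module.projective_lifting_property
    (TensorProduct.mk A k (Module.Basis.ofVectorSpaceIndex k (k ⊗[A] C) →₀ A) 1)
    ((r0.restrictScalars A).comp (TensorProduct.mk A k N 1))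
    (TensorProduct.mk_surjective A _ k hmk)
  have hrb : (r.comp (h.comp φ)).baseChange k = LinearMap.id := by
    refine TensorProduct.AlgebraTensorModule.curry_injective (LinearMap.ext_ring (LinearMap.ext fun x => ?_))
    change (1 : k) ⊗ₜ[A] r (h (φ x)) = (1 : k) ⊗ₜ x
    exact (LinearMap.congr_fun hr (h (φ x))).trans (LinearMap.congr_fun hr0 ((1 : k) ⊗ₜ x))
  have hbij : Function.Bijective (r.comp (h.comp φ)) := by
    have hs : Function.Surjective (r.comp (h.comp φ)) :=
      surjective_of_lTensor_quot (IsLocalRing.maximalIdeal A) isNilpotent_maximalIdeal _ (fun z => ⟨z, LinearMap.congr_fun hrb z⟩)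
    exact ⟨injective_of_surjective_of_lTensor_quot (IsLocalRing.maximalIdeal A) isNilpotent_maximalIdeal _ hs
      (fun a b hab => (LinearMap.congr_fun hrb a).symm.trans (hab.trans (LinearMap.congr_fun hrb b))), hs⟩
  have hφbij : Function.Bijective φ :=
    ⟨fun a b hab => hbij.1 (by simp [hab]), hφsurj⟩
  let e := LinearEquiv.ofBijective φ hφbij
  let s := LinearEquiv.ofBijective _ hbij
  refine ⟨⟨e.toLinearMap.comp (s.symm.toLinearMap.comp r), LinearMap.ext fun x => ?_⟩, Module.Flat.of_linearEquiv e.symm⟩
  obtain ⟨y, rfl⟩ := hφsurj x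
  change e (s.symm (r (h (φ y)))) = φ y
  rw [show r (h (φ y)) = s y from rfl, s.symm_apply_apply]
  rfl

end

end Groth.Agent.H3CAlg
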