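import Mathlib

/-!
# The acyclicity lemma, elementary form

A complex `0 → F e → ⋯ → F 1 → F 0` such that a sequence of length `e` in `m` is regular on every
`F i` and whose homology in positive degrees is annihilated by powers of `m`, is exact in positive
degrees.
-/

namespace Groth.Agent.H3CAlg.Acyclicity

universe u v

variable {R : Type u} [CommRing R] (m : Ideal R)

open RingTheory.Sequence

theorem exact_of_killed : ∀ (rs : List R), (∀ x ∈ rs, x ∈ m) →
    ∀ (F : ℕ → Type v) [∀ i, AddCommGroup (F i)] [∀ i, Module R (F i)]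
      (d : ∀ i, F (i + 1) →ₗ[R] F i),
    (∀ i, i ≤ rs.length → IsWeaklyRegular (F i) rs) →
    (∀ i, i + 2 ≤ rs.length → ∀ w, d i (d (i + 1) w) = 0) →
    (∀ i, i + 2 ≤ rs.length → ∀ v, d i v = 0 →
      ∀ y ∈ m, ∃ k : ℕ, y ^ k • v ∈ LinearMap.range (d (i + 1))) →
    (∀ i, i + 1 = rs.length → ∀ v, d i v = 0 → ∀ y ∈ m, ∃ k : ℕ, y ^ k • v = 0) →
    (∀ i, i + 1 = rs.length → ∀ v, d i v = 0 → v = 0) ∧
      (∀ i, i + 2 ≤ rs.length → ∀ v, d i v = 0 → v ∈ LinearMap.range (d (i + 1))) := by
  intro rs
  induction rs with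
  | nil => exact fun _ F _ _ d _ _ _ _ => ⟨fun i hi => absurd hi (by simp), fun i hi => absurd hi (by simp)⟩
  | cons x rs IH =>
    intro hmem F _ _ d hreg hd hkill htop
    have hxm : x ∈ m := hmem x (List.mem_cons_self ..)
    have hx : ∀ i, i ≤ rs.length + 1 → IsSMulRegular (F i) x := fun i hi =>
      ((isWeaklyRegular_cons_iff (F i) x rs).mp (hreg i (by simpa using hi))).1
    simp only [List.length_cons] at hd hkill htop ⊢
    have htop' : ∀ i, i + 1 = rs.length + 1 → ∀ v, d i v = 0 → v = 0 := by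
      intro i hi v hv
      obtain ⟨k, hk⟩ := htop i hi v hv x hxm
      exact ((hx (i + 1) (by omega)).pow k) (by simpa using hk)
    refine ⟨htop', ?_⟩
    let d' : ∀ i, QuotSMulTop x (F (i + 1 + 1)) →ₗ[R] QuotSMulTop x (F (i + 1)) := fun i =>
      Submodule.mapQ _ _ (d (i + 1)) (fun w hw => by
        obtain ⟨w', -, rfl⟩ := (Submodule.mem_smul_pointwise_iff_exists _ _ _).mp hw
        rw [Submodule.mem_comap, map_smul]
        exact Submodule.smul_mem_pointwise_smul _ _ _ Submodule.mem_top)
    have hmem0 : ∀ (i : ℕ) (w : F i),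
        (Submodule.Quotient.mk w : QuotSMulTop x (F i)) = 0 ↔ ∃ w', x • w' = w := by
      intro i w
      rw [Submodule.Quotient.mk_eq_zero]
      simp [Submodule.mem_smul_pointwise_iff_exists]
    -- a power of `y` times a lift of a cycle modulo `x` is a cycle up to a multiple of `x`
    have key : ∀ i, i + 2 ≤ rs.length + 1 → ∀ v, d' i (Submodule.Quotient.mk v) = 0 →
        ∀ y ∈ m, ∃ (k : ℕ) (u : _), d (i + 1) (y ^ k • v - x • u) = 0 := by
      intro i hi v hv y hy
      obtain ⟨w, hw⟩ := (hmem0 _ _).mp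
        (show (Submodule.Quotient.mk (d (i + 1) v) : QuotSMulTop x _) = 0 from hv)
      have hw0 : d i w = 0 := by
        refine hx i (by omega) ?_
        simp only [← map_smul, hw, hd i hi, smul_zero]
      obtain ⟨k, u, hu⟩ := hkill i hi w hw0 y hy
      refine ⟨k, u, ?_⟩
      rw [map_sub, map_smul, map_smul, hu, ← hw, smul_comm, sub_self]
    obtain ⟨IHtop, IHex⟩ := IH (fun y hy => hmem y (List.mem_cons_of_mem _ hy))
      (fun i => QuotSMulTop x (F (i + 1))) d'
      (fun i hi => ((isWeaklyRegular_cons_iff (F (i + 1)) x rs).mp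
        (hreg (i + 1) (by simpa using hi))).2)
      (fun i hi w => by
        obtain ⟨w, rfl⟩ := Submodule.Quotient.mk_surjective _ w
        simp only [d', Submodule.mapQ_apply, hd (i + 1) (by omega), Submodule.Quotient.mk_zero])
      (fun i hi v hv y hy => by
        obtain ⟨v, rfl⟩ := Submodule.Quotient.mk_surjective _ v
        obtain ⟨k, u, hu⟩ := key i (by omega) v hv y hy
        obtain ⟨k', t, ht⟩ := hkill (i + 1) (by omega) _ hu y hy
        refine ⟨k' + k, Submodule.Quotient.mk t, ?_⟩
        simp only [d', Submodule.mapQ_apply, ht, pow_add, mul_smul]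
        rw [← Submodule.Quotient.mk_smul, ← Submodule.Quotient.mk_smul, Submodule.Quotient.eq,
          ← smul_sub, sub_sub_cancel_left, smul_neg, smul_comm]
        exact neg_mem (Submodule.smul_mem_pointwise_smul _ _ _ Submodule.mem_top))
      (fun i hi v hv y hy => by
        obtain ⟨v, rfl⟩ := Submodule.Quotient.mk_surjective _ v
        obtain ⟨k, u, hu⟩ := key i (by omega) v hv y hy
        refine ⟨k, ?_⟩
        have h0 := sub_eq_zero.mp (htop' (i + 1) (by omega) _ hu)
        rw [← Submodule.Quotient.mk_smul, h0]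
        exact (hmem0 _ _).mpr ⟨u, rfl⟩)
    intro i hi v hv
    obtain ⟨k, hk⟩ := hkill i hi v hv x hxm
    -- multiplication by `x` is injective on homology
    have hinj : ∀ v', d i v' = 0 → x • v' ∈ LinearMap.range (d (i + 1)) →
        v' ∈ LinearMap.range (d (i + 1)) := by
      intro v' _ ⟨u, hu⟩
      have hu' : d' i (Submodule.Quotient.mk u) = 0 := (hmem0 _ _).mpr ⟨v', hu.symm⟩
      suffices h : ∃ u', d (i + 1) u = d (i + 1) (x • u') by
        obtain ⟨u', h⟩ := h
        refine ⟨u', hx (i + 1) (by omega) ?_⟩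
        simp only
        rw [← map_smul, ← h, hu]
      rcases eq_or_lt_of_le hi with h | h
      · obtain ⟨u', hu2⟩ := (hmem0 _ _).mp (IHtop i (by omega) _ hu')
        exact ⟨u', by rw [hu2]⟩
      · obtain ⟨t, ht⟩ := IHex i (by omega) _ hu'
        obtain ⟨t, rfl⟩ := Submodule.Quotient.mk_surjective _ t
        obtain ⟨u', hu2⟩ := (hmem0 _ (u - d (i + 1 + 1) t)).mp (by
          rw [Submodule.Quotient.mk_sub, sub_eq_zero]
          exact ht.symm)
        refine ⟨u', ?_⟩
        rw [hu2, map_sub, hd (i + 1) (by omega), sub_zero]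
    clear hk
    obtain ⟨k, hk⟩ := hkill i hi v hv x hxm
    induction k generalizing v with
    | zero => simpa using hk
    | succ k IHk =>
      refine IHk v hv (hinj _ ?_ ?_)
      · rw [map_smul, hv, smul_zero]
      · rwa [smul_smul, ← pow_succ']

end Groth.Agent.H3CAlg.Acyclicity
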