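import Mathlib.CategoryTheory.Abelian.Projective.Dimension
import Mathlib.CategoryTheory.Abelian.Projective.Resolution
import Mathlib.Algebra.Homology.Augment

/-!
Projective dimension via lengths of projective resolutions.
-/

universe w v u

open CategoryTheory CategoryTheory.Limits

namespace Groth.Agent.H3CAlg

variable {C : Type u} [Category.{v} C] [Abelian C]

/-- From an exact pair `g, h` we get `0 → ker g → X → ker h → 0`. -/
theorem shortExact_kernel {W X Y : C} (g : W ⟶ X) (h : X ⟶ Y) (w : g ≫ h = 0)
    (ex : (ShortComplex.mk g h w).Exact) :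
    (ShortComplex.mk (kernel.ι g) (kernel.lift h g w)
      (by rw [← cancel_mono (kernel.ι h)]; simp)).ShortExact where
  exact := by
    refine ShortComplex.exact_of_f_is_kernel _ ?_
    refine KernelFork.IsLimit.ofι' (kernel.ι g) _ (fun {T} k hk => ⟨kernel.lift g k ?_, kernel.lift_ι _ _ _⟩)
    have := congrArg (fun t => t ≫ kernel.ι h) hk
    simpa using this
  mono_f := inferInstanceAs (Mono (kernel.ι g))
  epi_g := (ShortComplex.exact_iff_epi_kernel_lift _).mp ex

theorem shortExact_kernel_epi {X Y : C} (h : X ⟶ Y) [Epi h] :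
    (ShortComplex.mk (kernel.ι h) h (kernel.condition h)).ShortExact where
  exact := ShortComplex.exact_of_f_is_kernel _ (kernelIsKernel h)
  mono_f := inferInstanceAs (Mono (kernel.ι h))
  epi_g := inferInstanceAs (Epi h)

theorem pdLE_kernel_d {Z : C} (P : ProjectiveResolution Z) :
    ∀ (k n : ℕ), (∀ i, n + 2 + k < i → IsZero (P.complex.X i)) →
      HasProjectiveDimensionLE (kernel (P.complex.d (n + 1) n)) k := by
  intro k
  induction k with
  | zero =>
    intro n hz
    have he := shortExact_kernel _ _ (P.complex.d_comp_d _ _ _) (P.exact_succ (n + 1))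
    have he2 := shortExact_kernel _ _ (P.complex.d_comp_d _ _ _) (P.exact_succ n)
    have hK : IsZero (kernel (P.complex.d (n + 2) (n + 1))) := by
      have hz3 : IsZero (P.complex.X (n + 3)) := hz _ (by omega)
      have := he.epi_g
      exact IsZero.of_epi (kernel.lift (P.complex.d (n + 2) (n + 1)) (P.complex.d (n + 3) (n + 2)) (P.complex.d_comp_d _ _ _)) hz3
    have : IsIso (kernel.lift (P.complex.d (n + 1) n) (P.complex.d (n + 2) (n + 1)) (P.complex.d_comp_d _ _ _)) :=
      he2.isIso_g_iff.mpr hK
    have := P.projective (n + 2)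
    rw [← projective_iff_hasProjectiveDimensionLE_zero]
    exact Projective.of_iso (asIso (kernel.lift (P.complex.d (n + 1) n) (P.complex.d (n + 2) (n + 1)) (P.complex.d_comp_d _ _ _))) this
  | succ k ih =>
    intro n hz
    have h1 := ih (n + 1) (fun i hi => hz i (by omega))
    have he := shortExact_kernel _ _ (P.complex.d_comp_d _ _ _) (P.exact_succ n)
    exact (he.hasProjectiveDimensionLT_X₃_iff k (P.projective (n + 2))).mpr h1

/-- A resolution of length `≤ d` bounds the projective dimension by `d`. -/
theorem pdLE_of_resolution {Z : C} (P : ProjectiveResolution Z) (d : ℕ)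
    (hz : ∀ i, d < i → IsZero (P.complex.X i)) : HasProjectiveDimensionLE Z d := by
  have he := shortExact_kernel_epi (P.π.f 0)
  have he1 := shortExact_kernel _ _ P.complex_d_comp_π_f_zero P.exact₀
  have h0 := P.projective 0
  have h1 := P.projective 1
  match d with
  | 0 =>
    have hK : IsZero (kernel (P.π.f 0)) := by
      have := he1.epi_g
      exact IsZero.of_epi (kernel.lift (P.π.f 0) (P.complex.d 1 0) P.complex_d_comp_π_f_zero) (hz 1 (by omega))
    have : IsIso (P.π.f 0) := he.isIso_g_iff.mpr hK
    rw [← projective_iff_hasProjectiveDimensionLE_zero]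
    exact Projective.of_iso (@asIso _ _ _ _ (P.π.f 0) this) h0
  | d + 1 =>
    refine (he.hasProjectiveDimensionLT_X₃_iff d h0).mpr ?_
    match d with
    | 0 =>
      have hK : IsZero (kernel (P.complex.d 1 0)) := by
        have h2 := shortExact_kernel _ _ (P.complex.d_comp_d _ _ _) (P.exact_succ 0)
        have := h2.epi_g
        exact IsZero.of_epi (kernel.lift (P.complex.d 1 0) (P.complex.d 2 1) (P.complex.d_comp_d _ _ _)) (hz 2 (by omega))
      have : IsIso (kernel.lift (P.π.f 0) (P.complex.d 1 0) P.complex_d_comp_π_f_zero) :=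
        he1.isIso_g_iff.mpr hK
      exact (projective_iff_hasProjectiveDimensionLE_zero _).mp
        (Projective.of_iso (asIso (kernel.lift (P.π.f 0) (P.complex.d 1 0) P.complex_d_comp_π_f_zero)) h1)
    | d + 1 =>
      exact (he1.hasProjectiveDimensionLT_X₃_iff d h1).mpr (pdLE_kernel_d P d 0 (fun i hi => hz i (by omega)))

/-- Splice a resolution of the kernel with a projective cover. -/
theorem exists_resolution_succ {S : ShortComplex C} (hS : S.ShortExact) [Projective S.X₂]
    (Q : ProjectiveResolution S.X₁) (d : ℕ) (hz : ∀ i, d < i → IsZero (Q.complex.X i)) :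
    ∃ P : ProjectiveResolution S.X₃, ∀ i, d + 1 < i → IsZero (P.complex.X i) := by
  have := hS.mono_f
  have := hS.epi_g
  let φ : Q.complex.X 0 ⟶ S.X₂ := Q.π.f 0 ≫ S.f
  have w : Q.complex.d 1 0 ≫ φ = 0 := by
    show Q.complex.d 1 0 ≫ Q.π.f 0 ≫ S.f = 0
    rw [← Category.assoc, Q.complex_d_comp_π_f_zero, zero_comp]
  let K := Q.complex.augment φ w
  have hproj : ∀ n, Projective (K.X n) := by
    rintro (_ | n)
    · show Projective S.X₂; infer_instance
    · exact Q.projective n
  have w' : K.d 1 0 ≫ S.g = 0 := by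
    show (Q.π.f 0 ≫ S.f) ≫ S.g = 0
    exact (Category.assoc _ _ _).trans ((congrArg (Q.π.f 0 ≫ ·) S.zero).trans comp_zero)
  refine ⟨{ complex := K, projective := hproj,
            π := (ChainComplex.toSingle₀Equiv K S.X₃).symm ⟨S.g, w'⟩,
            quasiIso := ⟨fun n => ?_⟩ }, fun i hi => ?_⟩
  · cases n with
    | zero =>
      rw [ChainComplex.quasiIsoAt₀_iff, ShortComplex.quasiIso_iff_of_zeros']
      · refine (ShortComplex.exact_and_epi_g_iff_of_iso (S₂ := ShortComplex.mk φ S.g w') ?_).2 ⟨?_, hS.epi_g⟩
        · exact ShortComplex.isoMk (Iso.refl _) (Iso.refl _) (Iso.refl _)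
            ((Category.id_comp φ).trans (Category.comp_id φ).symm)
            (by
              show 𝟙 _ ≫ S.g = ((ChainComplex.toSingle₀Equiv K S.X₃).symm ⟨S.g, w'⟩).f 0 ≫ 𝟙 _
              rw [ChainComplex.toSingle₀Equiv_symm_apply_f_zero]
              exact (Category.id_comp S.g).trans (Category.comp_id S.g).symm)
        · let ψ : ShortComplex.mk φ S.g w' ⟶ S := ShortComplex.homMk (Q.π.f 0) (𝟙 _) (𝟙 _) (Category.comp_id φ).symm (by simp)
          have : Epi ψ.τ₁ := (inferInstance : Epi (Q.π.f 0))
          have : IsIso ψ.τ₂ := IsIso.id _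
          have : Mono ψ.τ₃ := (inferInstance : Mono (𝟙 S.X₃))
          exact (ShortComplex.exact_iff_of_epi_of_isIso_of_mono ψ).mpr hS.exact
      all_goals rfl
    | succ n =>
      rw [quasiIsoAt_iff_exactAt']
      · rw [HomologicalComplex.exactAt_iff' _ (n + 1 + 1) (n + 1) n (by simp) (by simp)]
        cases n with
        | zero =>
          let ψ : ShortComplex.mk (Q.complex.d 1 0) (Q.π.f 0) Q.complex_d_comp_π_f_zero ⟶
              ShortComplex.mk (Q.complex.d 1 0) φ w :=
            ShortComplex.homMk (𝟙 _) (𝟙 _) S.f (by simp) (by simp [φ])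
          have : Epi ψ.τ₁ := inferInstanceAs (Epi (𝟙 _))
          have : IsIso ψ.τ₂ := inferInstanceAs (IsIso (𝟙 _))
          have : Mono ψ.τ₃ := inferInstanceAs (Mono S.f)
          exact ((ShortComplex.exact_iff_of_epi_of_isIso_of_mono ψ).mp Q.exact₀ :)
        | succ n => exact (Q.exact_succ n :)
      · apply ChainComplex.exactAt_succ_single_obj
  · obtain ⟨j, rfl⟩ : ∃ j, i = j + 1 := ⟨i - 1, by omega⟩
    exact hz j (by omega)

theorem exists_resolution_of_pdLE [EnoughProjectives C] :
    ∀ (d : ℕ) (Z : C), HasProjectiveDimensionLE Z d →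
      ∃ P : ProjectiveResolution Z, ∀ i, d < i → IsZero (P.complex.X i) := by
  intro d
  induction d with
  | zero =>
    intro Z hZ
    have : Projective Z := (projective_iff_hasProjectiveDimensionLE_zero Z).mpr hZ
    refine ⟨ProjectiveResolution.self Z, fun i hi => ?_⟩
    obtain ⟨j, rfl⟩ : ∃ j, i = j + 1 := ⟨i - 1, by omega⟩
    exact HomologicalComplex.isZero_single_obj_X _ _ _ _ j.succ_ne_zero
  | succ d ih =>
    intro Z hZ
    have he := shortExact_kernel_epi (Projective.π Z)
    obtain ⟨Q, hQ⟩ := ih _ ((he.hasProjectiveDimensionLT_X₃_iff d (inferInstanceAs (Projective (Projective.over Z)))).mp hZ)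
    have : Projective (ShortComplex.mk (kernel.ι (Projective.π Z)) (Projective.π Z) (kernel.condition _)).X₂ :=
      inferInstanceAs (Projective (Projective.over Z))
    exact exists_resolution_succ he Q d hQ

end Groth.Agent.H3CAlg
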