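import Groth.Agent.H3CAlg.TorMult
import Groth.Agent.H3CAlg.Acyclicity
import Groth.Agent.H3CAlg.PdResolution
import Groth.Agent.H02CA.TorResidue
import Groth.Agent.H02CA.TorPow
import Groth.Agent.H02CA.AuslanderBuchsbaum
import Groth.Agent.H4Depth.IdealDepth
import Groth.Agent.H4Depth.Regular
import Groth.Agent.H05EGA4.Regular
import Groth.Agent.H05EGA4.GlobalDim
import Groth.Agent.H3CAlg.TorBasic
import Mathlib

/-!
# Tor between Cohen–Macaulay quotients meeting properly
-/

set_option autoImplicit false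
set_option linter.style.haveILetI false
universe u

open CategoryTheory CategoryTheory.Limits MonoidalCategory RingTheory.Sequence TensorProduct

namespace Groth.Agent.H3CAlg.CMTor

variable {A : Type u} [CommRing A]

/-- Weakly regular sequences stay regular after tensoring with a flat module. -/
theorem isWeaklyRegular_tensor (F : Type u) [AddCommGroup F] [Module A F] [Module.Flat A F] :
    ∀ (rs : List A) (N : Type u) [AddCommGroup N] [Module A N],
      IsWeaklyRegular N rs → IsWeaklyRegular (N ⊗[A] F) rs := by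
  intro rs
  induction rs with
  | nil => intro N _ _ _; exact .nil A _
  | cons x rs ih =>
    intro N _ _ h
    rw [isWeaklyRegular_cons_iff] at h ⊢
    refine ⟨?_, ((QuotSMulTop.quotSMulTopTensorEquivQuotSMulTop x F N).isWeaklyRegular_congr rs).mp (ih _ h.2)⟩
    have hinj := Module.Flat.rTensor_preserves_injective_linearMap (M := F) (LinearMap.lsmul A N x) h.1
    have e : (LinearMap.lsmul A N x).rTensor F = LinearMap.lsmul A (N ⊗[A] F) x := by
      refine TensorProduct.ext' fun a b => ?_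
      simp [TensorProduct.smul_tmul']
    rw [e] at hinj
    exact hinj

section
variable [IsNoetherianRing A] [IsLocalRing A]

/-- A Cohen–Macaulay quotient as a module over the ring. -/
theorem isCM_quotient (P : Ideal A) (hCM : LocCoh.IsCohenMacaulayLocalRing (A ⧸ P)) :
    LocCoh.IsCohenMacaulayModule A (A ⧸ P) := by
  have hs : Function.Surjective (algebraMap A (A ⧸ P)) := Ideal.Quotient.mk_surjective
  unfold LocCoh.IsCohenMacaulayModule LocCoh.depth
  rw [H29Blow.idealDepth_of_surjective hs, IsLocalRing.map_maximalIdeal_of_surjective _ hs,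
    Module.supportDim_quotient_eq_ringKrullDim, ← Module.supportDim_self_eq_ringKrullDim]
  exact hCM.supportDim_eq_depth

end

theorem tor_succ_isZero [IsRegularLocalRing A] (P Q : Ideal A) [P.IsPrime] [Q.IsPrime] {dA dP dQ : ℕ}
    (hA : ringKrullDim A = dA) (hP : ringKrullDim (A ⧸ P) = dP) (hQ : ringKrullDim (A ⧸ Q) = dQ)
    (hsum : dP + dQ = dA)
    (hmax : ∀ p : PrimeSpectrum A, P ⊔ Q ≤ p.asIdeal → p.asIdeal = IsLocalRing.maximalIdeal A)
    (hPCM : LocCoh.IsCohenMacaulayLocalRing (A ⧸ P)) (hQCM : LocCoh.IsCohenMacaulayLocalRing (A ⧸ Q))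
    (j : ℕ) :
    IsZero (((Tor (ModuleCat.{u} A) (j + 1)).obj (ModuleCat.of A (A ⧸ Q))).obj (ModuleCat.of A (A ⧸ P))) := by
  classical
  -- projective dimension of `A/P`
  obtain ⟨e, he, hk⟩ := H05EGA4.exists_pd_residueField A
  have hlt : HasProjectiveDimensionLT (ModuleCat.of A (A ⧸ P)) (e + 1) :=
    H05EGA4.hasProjectiveDimensionLT_of_residueField_finite e hk _
  have hne : projectiveDimension (ModuleCat.of A (A ⧸ P)) ≠ ⊤ := by
    intro htop
    have h1 := (projectiveDimension_le_iff (ModuleCat.of A (A ⧸ P)) e).mpr hlt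
    rw [htop] at h1
    exact absurd h1 (not_le.mpr (WithBot.coe_lt_coe.mpr (ENat.natCast_lt_top e)))
  haveI : Nontrivial (A ⧸ P) := Ideal.Quotient.nontrivial_iff.mpr (Ideal.IsPrime.ne_top ‹_›)
  haveI : Nontrivial (A ⧸ Q) := Ideal.Quotient.nontrivial_iff.mpr (Ideal.IsPrime.ne_top ‹_›)
  obtain ⟨p, hp⟩ := H02CA.AuslanderBuchsbaum.exists_pd_eq (A ⧸ P) hne
  obtain ⟨hp1, hp2⟩ := H02CA.AuslanderBuchsbaum.pd_bounds_of_eq hp
  have hAB := H02CA.AuslanderBuchsbaum.depth_eq_add p (A ⧸ P) hp1 hp2
  have hdA : LocCoh.depth A A = (dA : ℕ∞) := by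
    have := (H4Depth.isCohenMacaulayLocalRing_of_regular A).supportDim_eq_depth
    rw [Module.supportDim_self_eq_ringKrullDim, hA] at this
    exact_mod_cast this.symm
  have hdP : LocCoh.depth A (A ⧸ P) = (dP : ℕ∞) := by
    have := isCM_quotient P hPCM
    unfold LocCoh.IsCohenMacaulayModule at this
    rw [Module.supportDim_quotient_eq_ringKrullDim, hP] at this
    exact_mod_cast this.symm
  have hdQ : LocCoh.depth A (A ⧸ Q) = (dQ : ℕ∞) := by
    have := isCM_quotient Q hQCM
    unfold LocCoh.IsCohenMacaulayModule at this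
    rw [Module.supportDim_quotient_eq_ringKrullDim, hQ] at this
    exact_mod_cast this.symm
  have hpQ : p = dQ := by
    rw [hdA, hdP] at hAB
    have : dA = p + dP := by exact_mod_cast hAB
    omega
  subst hpQ
  -- a resolution of that length and a regular sequence on `A/Q`
  obtain ⟨R, hR⟩ := exists_resolution_of_pdLE p (ModuleCat.of A (A ⧸ P)) hp1
  obtain ⟨rs, hrs, hrm, hreg⟩ := H4Depth.exists_isWeaklyRegular_of_le_idealDepth
    (I := IsLocalRing.maximalIdeal A) (M := A ⧸ Q)
    (fun h => (Submodule.top_ne_ideal_smul_of_le_jacobson_annihilator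
      (IsLocalRing.maximalIdeal_le_jacobson _)) h.symm) (n := p) hdQ.ge
  subst hrs
  let N : ModuleCat.{u} A := ModuleCat.of A (A ⧸ Q)
  let C := H02CA.TorPow.cx R.complex N
  have hreg' : ∀ i, i ≤ rs.length → IsWeaklyRegular (C.X i) rs := fun i _ => by
    haveI : Module.Flat A (R.complex.X i) := inferInstance
    exact isWeaklyRegular_tensor (R.complex.X i) rs (A ⧸ Q) hreg
  -- homology is killed by powers of the maximal ideal
  have hkill : ∀ i (v : C.X (i + 1)), C.d (i + 1) i v = 0 → ∀ y ∈ IsLocalRing.maximalIdeal A,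
      ∃ n : ℕ, y ^ n • v ∈ LinearMap.range (C.d (i + 1 + 1) (i + 1)).hom := by
    intro i v hv y hy
    have hrad : y ∈ (P ⊔ Q).radical := by
      rw [Ideal.radical_eq_sInf, Submodule.mem_sInf]
      rintro K ⟨hK, hKp⟩
      rw [show K = IsLocalRing.maximalIdeal A from hmax ⟨K, hKp⟩ hK]
      exact hy
    obtain ⟨n, hn⟩ := hrad
    obtain ⟨a, ha, b, hb, hab⟩ := Submodule.mem_sup.mp hn
    refine ⟨n, ?_⟩
    rw [← hab, add_smul]
    refine Submodule.add_mem _ ?_ ?_
    · have hN : ∀ z : ModuleCat.of A (A ⧸ P), a • z = 0 := fun z => by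
        obtain ⟨z, rfl⟩ := Submodule.Quotient.mk_surjective P z
        exact (Submodule.Quotient.mk_eq_zero P).mpr (Ideal.mul_mem_right _ _ ha)
      have h0 : (a • 𝟙 R.complex) ≫ R.π =
          R.π ≫ (ChainComplex.single₀ _).map (0 : ModuleCat.of A (A ⧸ P) ⟶ ModuleCat.of A (A ⧸ P)) := by
        rw [Functor.map_zero, comp_zero, Linear.smul_comp, Category.id_comp]
        refine HomologicalComplex.to_single_hom_ext (ModuleCat.hom_ext (LinearMap.ext fun x ↦ ?_))
        exact hN _
      let H := ProjectiveResolution.liftHomotopy (0 : ModuleCat.of A (A ⧸ P) ⟶ ModuleCat.of A (A ⧸ P))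
        (P := R) (Q := R) (a • 𝟙 R.complex) 0 h0 (by simp)
      let H' := ((tensoringLeft (ModuleCat.{u} A)).obj N).mapHomotopy H
      have h1 := H'.comm (i + 1)
      have hz : ((((tensoringLeft (ModuleCat.{u} A)).obj N).mapHomologicalComplex _).map
          (0 : R.complex ⟶ R.complex)).f (i + 1) = 0 := by
        rw [Functor.mapHomologicalComplex_map_f, HomologicalComplex.zero_f, Functor.map_zero]
        rfl
      rw [dNext_eq _ (show (ComplexShape.down ℕ).Rel (i + 1) i from rfl),
        prevD_eq _ (show (ComplexShape.down ℕ).Rel (i + 1 + 1) (i + 1) from rfl), hz, add_zero] at h1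
      have h2 := LinearMap.congr_fun (congrArg ModuleCat.Hom.hom h1) v
      have h3 : ((((tensoringLeft (ModuleCat.{u} A)).obj N).mapHomologicalComplex _).map
          (a • 𝟙 R.complex)).f (i + 1) = a • 𝟙 (C.X (i + 1)) := by
        change N ◁ (a • 𝟙 (R.complex.X (i + 1))) = _
        rw [MonoidalLinear.whiskerLeft_smul, whiskerLeft_id]
        rfl
      rw [h3] at h2
      refine ⟨(H'.hom (i + 1) (i + 1 + 1)).hom v, ?_⟩
      refine Eq.trans ?_ h2.symm
      change _ = (H'.hom i (i + 1)).hom ((C.d (i + 1) i).hom v) + _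
      rw [show (C.d (i + 1) i).hom v = 0 from hv]
      erw [map_zero, zero_add]
      rfl
    · have key : ∀ w : (A ⧸ Q) ⊗[A] R.complex.X (i + 1), b • w = 0 := fun w => by
        induction w using TensorProduct.induction_on with
        | zero => exact smul_zero _
        | tmul z f =>
          obtain ⟨z, rfl⟩ := Submodule.Quotient.mk_surjective Q z
          rw [TensorProduct.smul_tmul', ← Submodule.Quotient.mk_smul,
            (Submodule.Quotient.mk_eq_zero Q).mpr (show b • z ∈ Q from Ideal.mul_mem_right _ _ hb),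
            TensorProduct.zero_tmul]
        | add x y hx hy => rw [smul_add, hx, hy, add_zero]
      exact ⟨0, (map_zero _).trans (key v).symm⟩
  have htopz : ∀ i, rs.length < i → Subsingleton (C.X i) := fun i hi => by
    haveI := ModuleCat.subsingleton_of_isZero (hR i hi)
    exact inferInstanceAs (Subsingleton ((A ⧸ Q) ⊗[A] R.complex.X i))
  obtain ⟨htop, hex⟩ := Acyclicity.exact_of_killed (IsLocalRing.maximalIdeal A) rs hrm
    (fun i => C.X i) (fun i => (C.d (i + 1) i).hom) hreg'
    (fun i _ w => LinearMap.congr_fun (congrArg ModuleCat.Hom.hom (C.d_comp_d (i + 1 + 1) (i + 1) i)) w)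
    (fun i _ v hv y hy => hkill i v hv y hy)
    (fun i hi v hv y hy => by
      obtain ⟨n, w, hw⟩ := hkill i v hv y hy
      haveI := htopz (i + 1 + 1) (by omega)
      exact ⟨n, by rw [← hw, Subsingleton.elim w 0, map_zero]⟩)
  rw [H02CA.TorResidue.isZero_tor_iff_ex R N j]
  rcases lt_trichotomy (j + 1) rs.length with h | h | h
  · intro v
    exact ⟨fun hv => hex j (by omega) v hv,
      fun ⟨w, hw⟩ => hw ▸ LinearMap.congr_fun (congrArg ModuleCat.Hom.hom (C.d_comp_d (j + 1 + 1) (j + 1) j)) w⟩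
  · intro v
    exact ⟨fun hv => ⟨0, by rw [map_zero]; exact (htop j h v hv).symm⟩,
      fun ⟨w, hw⟩ => hw ▸ LinearMap.congr_fun (congrArg ModuleCat.Hom.hom (C.d_comp_d (j + 1 + 1) (j + 1) j)) w⟩
  · haveI := htopz (j + 1) h
    intro v
    exact ⟨fun _ => ⟨0, by rw [map_zero]; exact (Subsingleton.elim (α := C.X (j + 1)) v 0).symm⟩,
      fun _ => by rw [Subsingleton.elim (α := C.X (j + 1)) v 0]; exact map_zero _⟩

/-- The Tor formula multiplicity of Cohen–Macaulay quotients is the naive one. -/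
theorem chi_eq_length [IsRegularLocalRing A] (P Q : Ideal A) [P.IsPrime] [Q.IsPrime] {dA dP dQ : ℕ}
    (hA : ringKrullDim A = dA) (hP : ringKrullDim (A ⧸ P) = dP) (hQ : ringKrullDim (A ⧸ Q) = dQ)
    (hsum : dP + dQ = dA)
    (hmax : ∀ p : PrimeSpectrum A, P ⊔ Q ≤ p.asIdeal → p.asIdeal = IsLocalRing.maximalIdeal A)
    (hPCM : LocCoh.IsCohenMacaulayLocalRing (A ⧸ P)) (hQCM : LocCoh.IsCohenMacaulayLocalRing (A ⧸ Q)) :
    IntMult.chi A (A ⧸ Q) (A ⧸ P) = ((Module.length A (A ⧸ (P ⊔ Q))).toNat : ℤ) := by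
  rw [IntMult.chi, finsum_eq_single _ 0]
  · rw [pow_zero, one_mul]
    have e1 : Module.length A (DRing.Tor A 0 (A ⧸ Q) (A ⧸ P)) = Module.length A ((A ⧸ Q) ⊗[A] (A ⧸ P)) :=
      ((Tor.zeroIso (ModuleCat.of A (A ⧸ Q))).app (ModuleCat.of A (A ⧸ P))).toLinearEquiv.length_eq
    rw [e1, (TensorProduct.tensorQuotEquivQuotSMul (A ⧸ Q) P).length_eq, TorMult.length_quot_smul, sup_comm]
  · intro i hi
    obtain ⟨j, rfl⟩ := Nat.exists_eq_succ_of_ne_zero hi
    haveI := ModuleCat.subsingleton_of_isZero (tor_succ_isZero P Q hA hP hQ hsum hmax hPCM hQCM j)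
    rw [Module.length_eq_zero (M := DRing.Tor A (j + 1) (A ⧸ Q) (A ⧸ P))]
    simp

end Groth.Agent.H3CAlg.CMTor
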