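import Mathlib.RingTheory.Etale.Field
import Mathlib.RingTheory.Etale.Pi
import Mathlib.RingTheory.Unramified.Field
import Mathlib.FieldTheory.IsAlgClosed.Basic
import Mathlib.FieldTheory.Perfect

/-! Finite algebras over perfect and algebraically closed fields. -/

set_option autoImplicit false

namespace Groth.Agent.H3CAlg

universe u v

attribute [local instance] Ideal.Quotient.field in
/-- A finite reduced algebra over a perfect field is formally étale. -/
theorem formallyEtale_of_finite_isReduced (k : Type u) [Field k] [PerfectField k]
    (A : Type v) [CommRing A] [Algebra k A] [Module.Finite k A] [IsReduced A] :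
    Algebra.FormallyEtale k A := by
  have : IsArtinianRing A := .of_finite k A
  have (I : MaximalSpectrum A) : Algebra.FormallyEtale k (A ⧸ I.asIdeal) := by
    have : Algebra.IsSeparable k (A ⧸ I.asIdeal) := inferInstance
    exact Algebra.FormallyEtale.of_isSeparable k (A ⧸ I.asIdeal)
  exact .of_equiv ((IsArtinianRing.equivPi A).restrictScalars k).symm

/-- The nilradical of a finite algebra over a field is nilpotent. -/
theorem isNilpotent_nilradical_of_finite (k : Type u) [Field k]
    (A : Type v) [CommRing A] [Algebra k A] [Module.Finite k A] :
    IsNilpotent (nilradical A) := by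
  have : IsArtinianRing A := .of_finite k A
  exact IsArtinianRing.isNilpotent_nilradical

/-- Every prime of a finite algebra over an algebraically closed field is the kernel of a point. -/
theorem exists_algHom_ker_eq (k : Type u) [Field k] [IsAlgClosed k]
    (A : Type v) [CommRing A] [Algebra k A] [Module.Finite k A]
    (p : Ideal A) [p.IsMaximal] :
    ∃ f : A →ₐ[k] k, RingHom.ker f.toRingHom = p := by
  letI := Ideal.Quotient.field p
  have hb : Function.Bijective (algebraMap k (A ⧸ p)) :=
    IsAlgClosed.algebraMap_bijective_of_isIntegral
  let e : k ≃ₐ[k] (A ⧸ p) := AlgEquiv.ofBijective (Algebra.ofId k (A ⧸ p)) hb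
  refine ⟨e.symm.toAlgHom.comp (Ideal.Quotient.mkₐ k p), ?_⟩
  ext x
  simp [RingHom.mem_ker, Ideal.Quotient.eq_zero_iff_mem]

end Groth.Agent.H3CAlg
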