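import Mathlib.RingTheory.MvPolynomial.Homogeneous
import Mathlib.RingTheory.MvPolynomial.Basic
import Mathlib.LinearAlgebra.Dimension.Finrank
import Mathlib.LinearAlgebra.LinearIndependent.Lemmas
import Mathlib.Algebra.Order.Antidiag.FinsuppEquiv
import Mathlib.Algebra.MvPolynomial.NoZeroDivisors
import Mathlib.Tactic

namespace Groth.Agent.H3CAlg

open MvPolynomial

variable {k : Type*} [Field k]

/-- forms of degree `n` in `r+1` variables: finite, of dimension `(n+r).choose r`. -/
theorem finrank_homogeneous (r n : ℕ) :
    Module.Finite k (homogeneousSubmodule (Fin (r + 1)) k n) ∧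
      Module.finrank k (homogeneousSubmodule (Fin (r + 1)) k n) = (n + r).choose r := by
  classical
  let D : Set (Fin (r + 1) →₀ ℕ) := {d | d.degree = n}
  have hD : D = ↑((Finset.univ : Finset (Fin (r + 1))).finsuppAntidiag n) := by
    ext d
    simp [D, Finset.mem_finsuppAntidiag, Finsupp.degree_eq_sum]
  have hSe : homogeneousSubmodule (Fin (r + 1)) k n = restrictSupport k D :=
    homogeneousSubmodule_eq_finsupp_supported (Fin (r + 1)) k n
  let b := basisRestrictSupport k D
  have : Finite D := by rw [hD]; exact Finset.finite_toSet _ |>.to_subtype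
  have : Fintype D := Fintype.ofFinite D
  rw [hSe]
  refine ⟨Module.Finite.of_basis b, ?_⟩
  rw [Module.finrank_eq_card_basis b, ← Set.toFinset_card, show D.toFinset = _ by
    simp_rw [hD]; exact Finset.toFinset_coe _, Finset.card_finsuppAntidiag_nat_eq_choose,
    Finset.card_univ, Fintype.card_fin, show r + 1 + n - 1 = n + r by omega, ← Nat.choose_symm_add]

/-- a vector not proportional to `w` is separated from `w` by a linear form. -/
theorem exists_linForm {σ : Type*} {v w : σ → k} (h : LinearIndependent k ![v, w]) :
    ∃ p : MvPolynomial σ k, p.IsHomogeneous 1 ∧ eval w p = 0 ∧ eval v p ≠ 0 := by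
  obtain ⟨i, j, hij⟩ : ∃ i j, v i * w j - v j * w i ≠ 0 := by
    by_contra! hc
    have hw : w = 0 := by
      ext j
      have := LinearIndependent.pair_iff.mp h (w j) (-(v j)) (by
        ext i; simp only [Pi.add_apply, Pi.smul_apply, smul_eq_mul, Pi.zero_apply]
        linear_combination hc i j)
      exact this.1
    have := LinearIndependent.pair_iff.mp h 0 1 (by simp [hw])
    exact one_ne_zero this.2
  refine ⟨C (w j) * X i - C (w i) * X j, ?_, by simp; ring, ?_⟩
  · exact (isHomogeneous_C_mul_X _ _).sub (isHomogeneous_C_mul_X _ _)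
  · simpa [mul_comm] using hij

end Groth.Agent.H3CAlg
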