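import Groth.Agent.H3CAlg.IntPoints
import Groth.Agent.H8Props.FieldDimFormula
import Groth.Agent.H29Blow.Stalk
import Groth.Agent.H19Grp.RegularSmooth
import Groth.Prelude.Def_IntMult
import Mathlib

/-!
# Local algebra at a component of an intersection of subvarieties of a smooth variety
-/

set_option autoImplicit false
set_option linter.style.haveILetI false

universe u

open AlgebraicGeometry CategoryTheory TopologicalSpace Topology

namespace Groth.Agent.H3CAlg.IntLocal

open Groth.Agent.H8Props.FieldDim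

variable {X : Scheme.{u}}

theorem stalkIdeal_eq_ker (I : X.IdealSheafData) (d : I.subscheme) :
    IntMult.stalkIdeal I (I.subschemeι d) = RingHom.ker (I.subschemeι.stalkMap d).hom := by
  refine le_antisymm (iSup₂_le fun U hx => (H29Blow.ker_stalkMap_subschemeι I d U hx).ge) ?_
  obtain ⟨W, (hW : IsAffineOpen W), hdW, -⟩ := Opens.isBasis_iff_nbhd.mp X.isBasis_affineOpens
    (show I.subschemeι d ∈ (⊤ : X.Opens) from trivial)
  exact le_iSup₂_of_le (⟨W, hW⟩ : X.affineOpens) hdW (H29Blow.ker_stalkMap_subschemeι I d ⟨W, hW⟩ hdW).le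

theorem exists_point (I : X.IdealSheafData) {x : X} (hx : x ∈ I.support) : ∃ d, I.subschemeι d = x := by
  have : x ∈ Set.range I.subschemeι := by rw [Scheme.IdealSheafData.range_subschemeι]; exact hx
  exact this

/-- A prime of the local ring contains the stalk of the ideal iff it gives a point of the subscheme. -/
theorem stalkIdeal_le_iff (I : X.IdealSheafData) {x : X} (hx : x ∈ I.support)
    (p : PrimeSpectrum (X.presheaf.stalk x)) :
    IntMult.stalkIdeal I x ≤ p.asIdeal ↔ X.fromSpecStalk x p ∈ I.support := by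
  obtain ⟨d, rfl⟩ := exists_point I hx
  rw [stalkIdeal_eq_ker]
  have hs : Function.Surjective (I.subschemeι.stalkMap d).hom := I.subschemeι.stalkMap_surjective d
  have hcomp : ∀ q : PrimeSpectrum (I.subscheme.presheaf.stalk d),
      X.fromSpecStalk (I.subschemeι d) (PrimeSpectrum.comap (I.subschemeι.stalkMap d).hom q) =
        I.subschemeι (I.subscheme.fromSpecStalk d q) := fun q =>
    congrArg (fun m : Spec (I.subscheme.presheaf.stalk d) ⟶ X => m q)
      (Scheme.SpecMap_stalkMap_fromSpecStalk (f := I.subschemeι) (x := d))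
  constructor
  · intro hp
    obtain ⟨q, rfl⟩ : p ∈ Set.range (PrimeSpectrum.comap (I.subschemeι.stalkMap d).hom) := by
      rw [range_comap_of_surjective _ _ hs]
      exact hp
    rw [hcomp]
    exact (Scheme.IdealSheafData.range_subschemeι I).le ⟨_, rfl⟩
  · intro hp
    obtain ⟨d', hd'⟩ := exists_point I hp
    have hspec : d' ⤳ d := I.subschemeι.isEmbedding.isInducing.specializes_iff.mp
      (hd' ▸ (Scheme.range_fromSpecStalk (x := I.subschemeι d)).le ⟨p, rfl⟩)
    obtain ⟨q, rfl⟩ := (Scheme.range_fromSpecStalk (x := d)).ge hspec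
    have : p = PrimeSpectrum.comap (I.subschemeι.stalkMap d).hom q :=
      (X.fromSpecStalk _).isEmbedding.injective ((hd'.symm).trans (hcomp q).symm)
    rw [this]
    exact Ideal.comap_mono bot_le

variable {k : Type u} [Field k]

/-- The dimension of a local ring of an integral scheme of finite type over a field. -/
theorem ringKrullDim_stalk {Z : Scheme.{u}} (f : Z ⟶ Spec (CommRingCat.of k)) [LocallyOfFiniteType f]
    [IsIntegral Z] {m a : ℕ} (hm : topologicalKrullDim Z = m) (z : Z) (ha : cdim z = a) :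
    ∃ d : ℕ, ringKrullDim (Z.presheaf.stalk z) = d ∧ d + a = m := by
  haveI : IsLocallyNoetherian Z := LocallyOfFiniteType.isLocallyNoetherian f
  have h := localDim_eq_stalk_add_cdim f z
  have hT : ∀ T ∈ irreducibleComponents Z, topologicalKrullDim T = (m : WithBot ℕ∞) := by
    intro T hT
    rw [irreducibleComponents_eq_singleton] at hT
    rw [Set.mem_singleton_iff.mp hT, ← hm, ← Set.range_id]
    exact dim_range IsEmbedding.id
  rw [localDim_eq_of_pure f z _ hT, ha] at h
  have hne : ringKrullDim (Z.presheaf.stalk z) ≠ ⊥ := ringKrullDim_ne_bot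
  obtain ⟨D, hD⟩ := WithBot.ne_bot_iff_exists.mp hne
  rw [← hD] at h
  have h' : (m : ℕ∞) = D + a := by exact_mod_cast h
  lift D to ℕ using fun htop => by simp [htop] at h'
  exact ⟨D, hD.symm, by exact_mod_cast h'.symm⟩

/-- The local data of an integral closed subscheme at a point. -/
theorem quotient_data (f : X ⟶ Spec (CommRingCat.of k)) [LocallyOfFiniteType f] (I : X.IdealSheafData)
    [IsIntegral I.subscheme] {r a : ℕ} (hr : topologicalKrullDim I.support = r) {x : X}
    (hx : x ∈ I.support) (ha : cdim x = a) :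
    (IntMult.stalkIdeal I x).IsPrime ∧
      ∃ d : ℕ, ringKrullDim (X.presheaf.stalk x ⧸ IntMult.stalkIdeal I x) = d ∧ d + a = r := by
  obtain ⟨d, rfl⟩ := exists_point I hx
  have hs : Function.Surjective (I.subschemeι.stalkMap d).hom := I.subschemeι.stalkMap_surjective d
  have hr' : topologicalKrullDim I.subscheme = r := by
    rw [← dim_range I.subschemeι.isEmbedding, Scheme.IdealSheafData.range_subschemeι]
    exact hr
  have hc : cdim d = a := by
    rw [← ha, cdim, cdim, ← Set.image_singleton, I.subschemeι.isClosedEmbedding.closure_image_eq]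
    exact IsHomeomorph.topologicalKrullDim_eq _
      (I.subschemeι.isEmbedding.homeomorphImage _).isHomeomorph
  obtain ⟨e, he, hea⟩ := ringKrullDim_stalk (I.subschemeι ≫ f) hr' d hc
  rw [stalkIdeal_eq_ker]
  refine ⟨RingHom.ker_isPrime _, e, ?_, hea⟩
  rw [← he]
  exact ringKrullDim_eq_of_ringEquiv (RingHom.quotientKerEquivOfSurjective hs)

variable (f : X ⟶ Spec (CommRingCat.of k))

/-- Everything one needs at a component of a proper intersection. -/
theorem local_data [Smooth f] [IsIntegral X] (IV IW : X.IdealSheafData)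
    [IsIntegral IV.subscheme] [IsIntegral IW.subscheme] {n r s : ℕ} (hn : topologicalKrullDim X = n)
    (hr : topologicalKrullDim IV.support = r) (hs : topologicalKrullDim IW.support = s)
    (hprop : IntMult.ProperInt (IV.support : Set X) (IW.support : Set X) n r s) {ξ : X}
    (hξV : ξ ∈ IV.support) (hξW : ξ ∈ IW.support)
    (hmax : ∀ ξ' : X, ξ' ∈ IV.support → ξ' ∈ IW.support → ξ' ⤳ ξ → ξ' = ξ) :
    IsRegularLocalRing (X.presheaf.stalk ξ) ∧
      (IntMult.stalkIdeal IV ξ).IsPrime ∧ (IntMult.stalkIdeal IW ξ).IsPrime ∧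
      (∀ p : PrimeSpectrum (X.presheaf.stalk ξ),
        IntMult.stalkIdeal IV ξ ⊔ IntMult.stalkIdeal IW ξ ≤ p.asIdeal →
          p.asIdeal = IsLocalRing.maximalIdeal (X.presheaf.stalk ξ)) ∧
      ∃ dA dP dQ : ℕ, ringKrullDim (X.presheaf.stalk ξ) = dA ∧
        ringKrullDim (X.presheaf.stalk ξ ⧸ IntMult.stalkIdeal IV ξ) = dP ∧
        ringKrullDim (X.presheaf.stalk ξ ⧸ IntMult.stalkIdeal IW ξ) = dQ ∧
        dP + dQ = dA := by
  haveI : LocallyOfFiniteType f := inferInstance
  obtain ⟨a, ha⟩ := exists_nat_cdim f ξ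
  obtain ⟨dA, hdA, hA⟩ := ringKrullDim_stalk f hn ξ ha
  obtain ⟨hP, dP, hdP, hV⟩ := quotient_data f IV hr hξV ha
  obtain ⟨hQ, dQ, hdQ, hW⟩ := quotient_data f IW hs hξW ha
  refine ⟨H19Grp.isRegularLocalRing_stalk_of_smooth f ξ, hP, hQ, fun p hp => ?_, dA, dP, dQ, hdA, hdP, hdQ, ?_⟩
  · have h1 := hmax _ ((stalkIdeal_le_iff IV hξV p).mp (le_sup_left.trans hp))
      ((stalkIdeal_le_iff IW hξW p).mp (le_sup_right.trans hp))
      ((Scheme.range_fromSpecStalk (x := ξ)).le ⟨p, rfl⟩)
    have h2 : p = IsLocalRing.closedPoint (X.presheaf.stalk ξ) :=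
      (X.fromSpecStalk ξ).isEmbedding.injective (h1.trans Scheme.fromSpecStalk_closedPoint.symm)
    rw [h2]
    rfl
  · obtain ⟨hle, hdim⟩ := hprop ⟨ξ, hξV, hξW⟩
    have h1 : cdim ξ ≤ topologicalKrullDim ↥((IV.support : Set X) ∩ (IW.support : Set X)) :=
      dim_mono (closure_minimal (Set.singleton_subset_iff.mpr (Set.mem_inter hξV hξW))
        (IV.support.isClosed.inter IW.support.isClosed))
    have h2 : a ≤ r + s - n := by
      have := h1.trans hdim
      rw [ha] at this
      exact_mod_cast this
    obtain ⟨x, hx⟩ := QuasiSober.sober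
      ((Scheme.IdealSheafData.range_subschemeι IV) ▸ (Set.image_univ ▸
        (IrreducibleSpace.isIrreducible_univ IV.subscheme).image IV.subschemeι IV.subschemeι.continuous.continuousOn))
      IV.support.isClosed
    obtain ⟨y, hy⟩ := QuasiSober.sober
      ((Scheme.IdealSheafData.range_subschemeι IW) ▸ (Set.image_univ ▸
        (IrreducibleSpace.isIrreducible_univ IW.subscheme).image IW.subschemeι IW.subschemeι.continuous.continuousOn))
      IW.support.isClosed
    have h3 := IntPoints.cdim_add_le f (hx.specializes hξV) (hy.specializes hξW) fun w hxw hyw hwξ =>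
      hmax w (hxw.mem_closed IV.support.isClosed hx.mem) (hyw.mem_closed IW.support.isClosed hy.mem) hwξ
    rw [← IntPoints.dim_eq_cdim_of_isGenericPoint hx, ← IntPoints.dim_eq_cdim_of_isGenericPoint hy, hn, ha] at h3
    have h4 : r + s ≤ a + n := by
      rw [show topologicalKrullDim ↥(IV.support : Set X) = r from hr,
        show topologicalKrullDim ↥(IW.support : Set X) = s from hs] at h3
      exact_mod_cast h3
    omega

end Groth.Agent.H3CAlg.IntLocal
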