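import Groth.Prelude.Def_RegImm
import Groth.Agent.H29Slice.SmoothSection
import Groth.Agent.H3CAlg.IntLocal
import Groth.Agent.H8Props.FieldDimSmooth
import Mathlib

/-! Sections of morphisms smooth of relative dimension `n` are regular immersions of codimension `n`. -/

set_option autoImplicit false
set_option linter.style.haveILetI false

universe u

open AlgebraicGeometry CategoryTheory CategoryTheory.Limits TopologicalSpace RingTheory.Sequence

namespace Groth.Agent.H3CAlg.DiagRegular

theorem finrank_kaehler_atPrime (A B : Type u) [CommRing A] [CommRing B] [Algebra A B] (n : ℕ)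
    (hloc : RingHom.Locally (RingHom.IsStandardSmoothOfRelativeDimension n) (algebraMap A B))
    (q : Ideal B) [q.IsPrime] :
    Module.finrank (Localization.AtPrime q) (KaehlerDifferential A (Localization.AtPrime q)) = n := by
  obtain ⟨s, hs, hg⟩ := hloc
  obtain ⟨g, hgs, hgq⟩ : ∃ g ∈ s, g ∉ q := by
    by_contra hcon
    push Not at hcon
    exact Ideal.IsPrime.ne_top ‹_› (top_le_iff.mp (hs ▸ Ideal.span_le.mpr fun x hx => hcon x hx))
  have h := hg g hgs
  rw [← IsScalarTower.algebraMap_eq A B (Localization.Away g),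
    RingHom.isStandardSmoothOfRelativeDimension_algebraMap] at h
  haveI := h
  haveI : Algebra.IsStandardSmooth A (Localization.Away g) :=
    Algebra.IsStandardSmoothOfRelativeDimension.isStandardSmooth n
  have hle : Submonoid.powers g ≤ q.primeCompl := Submonoid.powers_le.mpr hgq
  letI := IsLocalization.localizationAlgebraOfSubmonoidLe (Localization.Away g) (Localization.AtPrime q)
    (Submonoid.powers g) q.primeCompl hle
  haveI : IsScalarTower B (Localization.Away g) (Localization.AtPrime q) :=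
    IsLocalization.localization_isScalarTower_of_submonoid_le (Localization.Away g) (Localization.AtPrime q)
      (Submonoid.powers g) q.primeCompl hle
  haveI : IsLocalization (q.primeCompl.map (algebraMap B (Localization.Away g))) (Localization.AtPrime q) :=
    IsLocalization.isLocalization_of_submonoid_le (Localization.Away g) (Localization.AtPrime q)
      (Submonoid.powers g) q.primeCompl hle
  haveI : IsScalarTower A (Localization.Away g) (Localization.AtPrime q) :=
    IsScalarTower.of_algebraMap_eq fun a => by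
      rw [IsScalarTower.algebraMap_apply A B (Localization.Away g), ← IsScalarTower.algebraMap_apply B,
        ← IsScalarTower.algebraMap_apply A B]
  haveI : Nontrivial (Localization.Away g) := by
    refine RingHom.domain_nontrivial (algebraMap (Localization.Away g) (Localization.AtPrime q))
  haveI : Algebra.FormallyEtale (Localization.Away g) (Localization.AtPrime q) :=
    Algebra.FormallyEtale.of_isLocalization (q.primeCompl.map (algebraMap B (Localization.Away g)))
  have hb := KaehlerDifferential.isBaseChange_of_formallyEtale A (Localization.Away g) (Localization.AtPrime q)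
  rw [← hb.equiv.finrank_eq, Module.finrank_baseChange]
  exact Module.finrank_eq_of_rank_eq
    (Algebra.IsStandardSmoothOfRelativeDimension.rank_kaehlerDifferential n)

/-- Ring form: the kernel of a retraction is generated near every point by a regular sequence of length `n`. -/
theorem exists_regular (A B : Type u) [CommRing A] [CommRing B] [Algebra A B] [Algebra.Smooth A B] (n : ℕ)
    (hloc : RingHom.Locally (RingHom.IsStandardSmoothOfRelativeDimension n) (algebraMap A B))
    (π : B →+* A) (hπ : ∀ a, π (algebraMap A B a) = a) (q : Ideal B) [q.IsPrime] (hq : RingHom.ker π ≤ q) :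
    ∃ b ∉ q, ∀ (L : Type u) [CommRing L] [Algebra B L] [IsLocalization.Away b L], ∃ ws : List L,
      ws.length = n ∧ IsRegular L ws ∧ (RingHom.ker π).map (algebraMap B L) = Ideal.ofList ws := by
  obtain ⟨b, hbq, ws, hws, hmap, hlen⟩ := H29Slice.exists_regular_near_section A B []
    (IsWeaklyRegular.nil _ _) (RingHom.ker π)
    (fun a => by rw [RingHom.mem_ker, hπ, Ideal.ofList_nil, Ideal.mem_bot])
    (fun b => ⟨π b, by rw [RingHom.mem_ker, map_sub, hπ, sub_self]⟩) q hq
  refine ⟨b, hbq, fun L _ _ _ => ?_⟩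
  let e : Localization.Away b ≃ₐ[B] L := IsLocalization.algEquiv (Submonoid.powers b) _ _
  have hmap' : (RingHom.ker π).map (algebraMap B L) = Ideal.ofList (ws.map e.toRingEquiv.toRingHom) := by
    rw [← Ideal.map_ofList, ← hmap, Ideal.map_map,
      show e.toRingEquiv.toRingHom.comp (algebraMap B (Localization.Away b)) = algebraMap B L from
        RingHom.ext fun x => e.commutes x]
  refine ⟨ws.map e.toRingEquiv.toRingHom, ?_, ?_, hmap'⟩
  · rw [List.length_map, hlen, finrank_kaehler_atPrime A B n hloc q, List.length_nil, add_zero]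
  · refine ⟨?_, ?_⟩
    · refine (e.toRingEquiv.toAddEquiv.isWeaklyRegular_congr ?_).mp hws
      exact List.forall₂_map_right_iff.mpr (List.forall₂_same.mpr fun r _ x => map_mul e r x)
    · rw [← hmap', smul_eq_mul, Ideal.mul_top]
      intro htop
      have hdisj : Disjoint (Submonoid.powers b : Set B) q := by
        rw [Set.disjoint_left]
        rintro _ ⟨k, rfl⟩ hk
        exact hbq (Ideal.IsPrime.mem_of_pow_mem ‹_› k hk)
      have hP := IsLocalization.isPrime_of_isPrime_disjoint (Submonoid.powers b) L q ‹_› hdisj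
      exact hP.ne_top (top_le_iff.mp (htop.le.trans (Ideal.map_mono hq)))

/-- A section of a separated morphism which is smooth of relative dimension `n` is a regular immersion of
codimension `n`. -/
theorem isRegularImmersionOfCodim {P X : Scheme.{u}} (p : P ⟶ X) (n : ℕ) [SmoothOfRelativeDimension n p]
    (σ : X ⟶ P) (hσ : σ ≫ p = 𝟙 X) [IsClosedImmersion σ] :
    RegImm.IsRegularImmersionOfCodim RegImm.Kind.regular n σ := by
  haveI : Smooth p := SmoothOfRelativeDimension.smooth n p
  refine ⟨inferInstance, fun x => ?_⟩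
  have hpx : p (σ x) = x := by
    rw [← Scheme.Hom.comp_apply, hσ]; rfl
  obtain ⟨U₁, hU₁, hxU₁, -⟩ := Opens.isBasis_iff_nbhd.mp X.isBasis_affineOpens
    (show x ∈ (⊤ : X.Opens) from trivial)
  obtain ⟨V₀, (hV₀ : IsAffineOpen V₀), hxV₀, hV₀le⟩ := Opens.isBasis_iff_nbhd.mp P.isBasis_affineOpens
    (show σ x ∈ p ⁻¹ᵁ U₁ by show p (σ x) ∈ U₁; rw [hpx]; exact hxU₁)
  obtain ⟨a, haV, hax⟩ := IsAffineOpen.exists_basicOpen_le hU₁ (V := σ ⁻¹ᵁ V₀) ⟨x, hxV₀⟩ hxU₁
  have hU : IsAffineOpen (X.basicOpen a) := IsAffineOpen.basicOpen hU₁ a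
  let V : P.Opens := P.basicOpen (p.appLE U₁ V₀ hV₀le a)
  have hV : IsAffineOpen V := hV₀.basicOpen _
  have hVeq : V = V₀ ⊓ p ⁻¹ᵁ X.basicOpen a := by
    show P.basicOpen (p.appLE U₁ V₀ hV₀le a) = _
    rw [Scheme.Hom.appLE, CommRingCat.comp_apply, Scheme.basicOpen_res, Scheme.preimage_basicOpen]
  have hVle : V ≤ p ⁻¹ᵁ X.basicOpen a := hVeq ▸ inf_le_right
  have hpy : ∀ y, p (σ y) = y := fun y => by rw [← Scheme.Hom.comp_apply, hσ]; rfl
  have hσV : σ ⁻¹ᵁ V = X.basicOpen a := by
    rw [hVeq]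
    refine SetLike.ext fun y => ⟨fun hy => ?_, fun hy => ?_⟩
    · have h1 : p (σ y) ∈ X.basicOpen a := hy.2
      rwa [hpy] at h1
    · have h1 : y ∈ X.basicOpen a := hy
      have h2 : p (σ y) ∈ X.basicOpen a := by rw [hpy]; exact h1
      exact And.intro (show σ y ∈ V₀ from haV h1) (show σ y ∈ p ⁻¹ᵁ X.basicOpen a from h2)
  have hxV : σ x ∈ V := by
    rw [hVeq]
    have h1 : x ∈ X.basicOpen a := hax
    have h2 : p (σ x) ∈ X.basicOpen a := by rw [hpx]; exact h1
    exact And.intro hxV₀ h2
  letI : Algebra Γ(X, X.basicOpen a) Γ(P, V) := (p.appLE _ V hVle).hom.toAlgebra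
  haveI : Algebra.Smooth Γ(X, X.basicOpen a) Γ(P, V) := p.smooth_appLE hU hV hVle
  have hloc : RingHom.Locally (RingHom.IsStandardSmoothOfRelativeDimension n)
      (algebraMap Γ(X, X.basicOpen a) Γ(P, V)) :=
    HasRingHomProperty.appLE (@SmoothOfRelativeDimension n) p ‹_› ⟨_, hU⟩ ⟨V, hV⟩ hVle
  let π : Γ(P, V) →+* Γ(X, X.basicOpen a) := (σ.appLE V (X.basicOpen a) hσV.ge).hom
  have hπ : ∀ c, π (algebraMap Γ(X, X.basicOpen a) Γ(P, V) c) = c := by
    intro c
    show ((p.appLE _ V hVle) ≫ σ.appLE V (X.basicOpen a) hσV.ge).hom c = c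
    rw [Scheme.Hom.appLE_comp_appLE]
    have key : ∀ (g : X ⟶ X), g = 𝟙 X → ∀ e' : X.basicOpen a ≤ g ⁻¹ᵁ X.basicOpen a,
        g.appLE (X.basicOpen a) (X.basicOpen a) e' = 𝟙 _ := by
      rintro g rfl e'
      simp only [Scheme.Hom.appLE, Scheme.Hom.id_app]
      erw [CategoryTheory.Functor.map_id, Category.comp_id]
    rw [key _ hσ]; rfl
  have hkerπ : RingHom.ker π = RingHom.ker (σ.app V).hom := by
    show RingHom.ker (σ.appLE V (X.basicOpen a) hσV.ge).hom = _
    rw [Scheme.Hom.appLE, CommRingCat.hom_comp]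
    refine RingHom.ker_equiv_comp _ ((X.presheaf.mapIso (eqToIso hσV.symm).op).commRingCatIsoToRingEquiv)
  let q := (hV.primeIdealOf ⟨σ x, hxV⟩).asIdeal
  have hq : RingHom.ker π ≤ q := by
    intro c hc
    rw [hkerπ] at hc
    have hz : σ x ∈ (σ.ker).support := σ.range_subset_ker_support ⟨x, rfl⟩
    rw [Scheme.IdealSheafData.mem_support_iff_of_mem (U := ⟨V, hV⟩) hxV, Scheme.Hom.ker_apply,
      Scheme.mem_zeroLocus_iff] at hz
    by_contra hcq
    refine hz c hc ?_
    have := (hV.fromSpec_preimage_basicOpen c).ge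
      (show hV.primeIdealOf ⟨σ x, hxV⟩ ∈ PrimeSpectrum.basicOpen c from hcq)
    have h2 : hV.fromSpec (hV.primeIdealOf ⟨σ x, hxV⟩) ∈ P.basicOpen c := this
    rwa [hV.fromSpec_primeIdealOf] at h2
  obtain ⟨b, hbq, hb⟩ := exists_regular Γ(X, X.basicOpen a) Γ(P, V) n hloc π hπ q hq
  have hxb : σ x ∈ P.basicOpen b := by
    have := (hV.fromSpec_preimage_basicOpen b).ge
      (show hV.primeIdealOf ⟨σ x, hxV⟩ ∈ PrimeSpectrum.basicOpen b from hbq)
    have h2 : hV.fromSpec (hV.primeIdealOf ⟨σ x, hxV⟩) ∈ P.basicOpen b := this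
    rwa [hV.fromSpec_primeIdealOf] at h2
  haveI := hV.isLocalization_basicOpen b
  obtain ⟨ws, hlen, hreg, hker⟩ := hb Γ(P, P.basicOpen b)
  refine ⟨⟨P.basicOpen b, hV.basicOpen b⟩, hxb, IsZariskiLocalAtTarget.restrict ‹_› _, ws, hlen, hreg, ?_⟩
  rw [← hker, hkerπ, ← Scheme.Hom.ker_apply σ ⟨V, hV⟩,
    ← Scheme.Hom.ker_apply σ ⟨P.basicOpen b, hV.basicOpen b⟩]
  exact (σ.ker.map_ideal_basicOpen ⟨V, hV⟩ b).symm

/-- An integral smooth scheme of dimension `n` over a field is smooth of relative dimension `n`. -/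
theorem smoothOfRelativeDimension {K : Type u} [Field K] {X : Scheme.{u}} (f : X ⟶ Spec (CommRingCat.of K))
    [Smooth f] [IsIntegral X] (n : ℕ) (hn : topologicalKrullDim X = n) : SmoothOfRelativeDimension n f := by
  refine ⟨fun x => ?_⟩
  obtain ⟨U, hU, V, hV, hxV, e, hstd⟩ := Smooth.exists_isStandardSmooth f x
  refine ⟨U, hU, V, hV, hxV, e, ?_⟩
  have hUtop : U = ⊤ := eq_top_iff.mpr fun z _ => by
    rw [Subsingleton.elim (α := PrimeSpectrum K) z (f x)]
    exact e hxV
  subst hUtop
  have hfield : IsField Γ(Spec (CommRingCat.of K), ⊤) :=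
    MulEquiv.isField (Field.toIsField K)
      (Scheme.ΓSpecIso (CommRingCat.of K)).commRingCatIsoToRingEquiv.toMulEquiv
  letI := hfield.toField
  letI : Algebra Γ(Spec (CommRingCat.of K), ⊤) Γ(X, V) := (f.appLE ⊤ V e).hom.toAlgebra
  haveI : Algebra.IsStandardSmooth Γ(Spec (CommRingCat.of K), ⊤) Γ(X, V) := hstd
  obtain ⟨ι, σ', _, _, ⟨Q⟩⟩ := ‹Algebra.IsStandardSmooth Γ(Spec (CommRingCat.of K), ⊤) Γ(X, V)›
  have hQ : RingHom.IsStandardSmoothOfRelativeDimension Q.dimension (f.appLE ⊤ V e).hom :=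
    (RingHom.isStandardSmoothOfRelativeDimension_algebraMap _).mpr ⟨ι, σ', _, ‹_›, Q, rfl⟩
  suffices hd : Q.dimension = n by rwa [hd] at hQ
  let φ := Spec.map (CommRingCat.ofHom (algebraMap Γ(Spec (CommRingCat.of K), ⊤) Γ(X, V)))
  haveI : SmoothOfRelativeDimension Q.dimension φ :=
    (HasRingHomProperty.Spec_iff (P := @SmoothOfRelativeDimension Q.dimension)).mpr
      (RingHom.locally_of RingHom.isStandardSmoothOfRelativeDimension_respectsIso _ hQ)
  haveI : Smooth φ := SmoothOfRelativeDimension.smooth Q.dimension φ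
  let p := hV.primeIdealOf ⟨x, hxV⟩
  have h1 := H8Props.FieldDim.localDim_eq_of_smooth φ Q.dimension p
  have h2 := H8Props.FieldDim.localDim_chart φ (𝟙 (Spec Γ(X, V))) p
  have h3 := H8Props.FieldDim.localDim_chart f hV.fromSpec p
  erw [h1] at h2
  erw [hV.fromSpec_primeIdealOf, ← h2] at h3
  have h4 := H8Props.FieldDim.localDim_eq_stalk_add_cdim f x
  obtain ⟨c, hc⟩ := H8Props.FieldDim.exists_nat_cdim f x
  obtain ⟨d, hd, hdc⟩ := IntLocal.ringKrullDim_stalk f hn x hc
  rw [h3, hd, hc] at h4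
  have : Q.dimension = d + c := by exact_mod_cast h4
  omega

end Groth.Agent.H3CAlg.DiagRegular
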