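import Groth.Agent.H7Flat.LocalCriterion
import Mathlib.RingTheory.AdicCompletion.Basic
import Mathlib.RingTheory.Jacobson.Ideal
import Mathlib.LinearAlgebra.TensorProduct.Quotient

/-!
# Flatness from flatness modulo all powers of an ideal in the Jacobson radical
-/

open TensorProduct

universe u

namespace Groth.Agent.H3CAlg

variable {R S M : Type u} [CommRing R] [CommRing S] [Algebra R S] [AddCommGroup M] [Module R M]
  [Module S M] [IsScalarTower R S M] [IsNoetherianRing R] [IsNoetherianRing S] [Module.Finite S M]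

/-- A finite `S`-module is flat over `R` if it is flat modulo all powers of an ideal `I` of `R`
whose extension to `S` lies in the Jacobson radical. -/
theorem flat_of_flat_quotient_pow (I : Ideal R)
    (hI : I.map (algebraMap R S) ≤ Ideal.jacobson ⊥)
    (h : ∀ n : ℕ, 0 < n → Module.Flat (R ⧸ I ^ n) ((R ⧸ I ^ n) ⊗[R] M)) :
    Module.Flat R M := by
  rw [Module.Flat.iff_lTensor_injective']
  intro J
  rw [injective_iff_map_eq_zero]
  intro x hx
  obtain ⟨a, ha, hax⟩ := H7Flat.exists_one_add_smul_eq_zero_of_ker (S := S) I J (fun n P ↦ by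
    have : Module.Flat (R ⧸ I ^ n) ((R ⧸ I ^ n) ⊗[R] M) := by
      rcases Nat.eq_zero_or_pos n with rfl | hn
      · have : Subsingleton (R ⧸ I ^ 0) := Ideal.Quotient.subsingleton_iff.mpr (by simp)
        have : Subsingleton ((R ⧸ I ^ 0) ⊗[R] M) := Module.subsingleton (R ⧸ I ^ 0) _
        infer_instance
      · exact h n hn
    let P' : Submodule (R ⧸ I ^ n) (R ⧸ I ^ n) :=
      { P.toAddSubmonoid with
        smul_mem' := fun r z hz ↦ by
          obtain ⟨r, rfl⟩ := Ideal.Quotient.mk_surjective r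
          exact P.smul_mem r hz }
    exact H7Flat.lTensor_injective_of_flat_quotient (I ^ n) P'.subtype Subtype.val_injective) hx
  have hu : IsUnit (1 + a) := by
    have := Ideal.mem_jacobson_bot.mp (hI ha) 1
    rwa [mul_one, add_comm] at this
  exact hu.smul_eq_zero.mp hax

/-- `(R ⧸ I) ⊗ S` is flat over `R ⧸ I` if `S ⧸ I S` is. -/
theorem flat_tensor_of_flat_quotient (I : Ideal R)
    [Module.Flat (R ⧸ I) (S ⧸ I.map (algebraMap R S))] :
    Module.Flat (R ⧸ I) ((R ⧸ I) ⊗[R] S) := by
  let e₁ : (R ⧸ I) ⊗[R] S ≃ₗ[R] S ⧸ (I • ⊤ : Submodule R S) :=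
    TensorProduct.quotTensorEquivQuotSMul S I
  let e₂ : (S ⧸ (I • ⊤ : Submodule R S)) ≃ₗ[R] S ⧸ I.map (algebraMap R S) :=
    (Submodule.quotEquivOfEq _ _ (Ideal.smul_top_eq_map I)).trans
      (Submodule.Quotient.restrictScalarsEquiv R (I.map (algebraMap R S)))
  exact Module.Flat.of_linearEquiv
    ((e₁.trans e₂).extendScalarsOfSurjective Ideal.Quotient.mk_surjective)

end Groth.Agent.H3CAlg
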