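import Mathlib

/-!
# Limits of towers of projective modules with surjective transition maps are flat (Noetherian base)
-/

universe u v

namespace Groth.Agent.H3CAlg

theorem flat_of_tower_projective (A : Type u) [CommRing A] [IsNoetherianRing A]
    (F : ℕ → Type v) [∀ n, AddCommGroup (F n)] [∀ n, Module A (F n)] [∀ n, Module.Projective A (F n)]
    (f : ∀ n, F (n + 1) →ₗ[A] F n) (hf : ∀ n, Function.Surjective (f n))
    (C : Type v) [AddCommGroup C] [Module A C] (π : ∀ n, C →ₗ[A] F n)
    (hπ : ∀ n c, f n (π (n + 1) c) = π n c)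
    (hinj : ∀ c, (∀ n, π n c = 0) → c = 0)
    (hlift : ∀ y : ∀ n, F n, (∀ n, f n (y (n + 1)) = y n) → ∃ c, ∀ n, π n c = y n) :
    Module.Flat A C := by
  classical
  rw [Module.Flat.iff_forall_isTrivialRelation]
  intro l a c hc
  let Ψ : (Fin l → A) →ₗ[A] A := Fintype.linearCombination A a
  obtain ⟨s, σ, hσ⟩ := Submodule.fg_iff_exists_fin_generating_family.mp
    (IsNoetherian.noetherian (LinearMap.ker Ψ))
  have hσ0 : ∀ j, ∑ i, a i * σ j i = 0 := by
    intro j
    have h : σ j ∈ LinearMap.ker Ψ := hσ ▸ Submodule.subset_span (Set.mem_range_self j)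
    rw [LinearMap.mem_ker, Fintype.linearCombination_apply] at h
    simpa [mul_comm] using h
  have key : ∀ (M : Type v) [AddCommGroup M] [Module A M] [Module.Flat A M] (y : Fin l → M),
      (∑ i, a i • y i = 0) → ∃ e : Fin s → M, ∀ i, y i = ∑ j, σ j i • e j := by
    intro M _ _ _ y hy
    obtain ⟨k, b, z, hyz, hb⟩ := Module.Flat.isTrivialRelation_of_sum_smul_eq_zero (f := a) (x := y) hy
    have hcol : ∀ q, (fun i => b i q) ∈ Submodule.span A (Set.range σ) := by
      intro q
      rw [hσ, LinearMap.mem_ker, Fintype.linearCombination_apply]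
      simpa [mul_comm] using hb q
    choose d hd using fun q => (Submodule.mem_span_range_iff_exists_fun A).mp (hcol q)
    refine ⟨fun j => ∑ q, d q j • z q, fun i => ?_⟩
    rw [hyz i]
    simp only [Finset.smul_sum, smul_smul]
    rw [Finset.sum_comm]
    refine Finset.sum_congr rfl fun q _ => ?_
    rw [← Finset.sum_smul]
    congr 1
    have := congrFun (hd q) i
    simp only [Finset.sum_apply, Pi.smul_apply, smul_eq_mul] at this
    rw [← this]
    exact Finset.sum_congr rfl fun j _ => mul_comm _ _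
  -- kernels of the transition maps are flat
  haveI hK : ∀ n, Module.Flat A (LinearMap.ker (f n)) := by
    intro n
    obtain ⟨g, hg⟩ := Module.projective_lifting_property (f n) LinearMap.id (hf n)
    haveI : Module.Projective A (LinearMap.ker (f n)) := by
      refine Module.Projective.of_split (LinearMap.ker (f n)).subtype
        ((LinearMap.id - g ∘ₗ f n).codRestrict _ fun x => by
          rw [LinearMap.mem_ker, LinearMap.sub_apply, map_sub, LinearMap.id_apply, LinearMap.comp_apply,
            show f n (g (f n x)) = f n x from LinearMap.congr_fun hg (f n x), sub_self]) ?_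
      · ext x
        simp [LinearMap.mem_ker.mp x.2]
    infer_instance
  have hrel : ∀ n, ∑ i, a i • π n (c i) = 0 := fun n => by
    simp only [← map_smul, ← map_sum, hc, map_zero]
  have step : ∀ n (e : Fin s → F n), (∀ i, π n (c i) = ∑ j, σ j i • e j) →
      ∃ e' : Fin s → F (n + 1), (∀ j, f n (e' j) = e j) ∧ ∀ i, π (n + 1) (c i) = ∑ j, σ j i • e' j := by
    intro n e he
    choose e₁ he₁ using fun j => hf n (e j)
    let y : Fin l → LinearMap.ker (f n) := fun i =>
      ⟨π (n + 1) (c i) - ∑ j, σ j i • e₁ j, by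
        simp [hπ, he₁, he]⟩
    have hy : ∑ i, a i • y i = 0 := by
      apply Subtype.ext
      simp only [y, Submodule.coe_sum, Submodule.coe_smul, ZeroMemClass.coe_zero, smul_sub,
        Finset.sum_sub_distrib, hrel (n + 1), Finset.smul_sum, smul_smul, zero_sub, neg_eq_zero]
      rw [Finset.sum_comm]
      refine Finset.sum_eq_zero fun j _ => ?_
      rw [← Finset.sum_smul, hσ0 j, zero_smul]
    obtain ⟨e₂, he₂⟩ := key _ y hy
    refine ⟨fun j => e₁ j + (e₂ j : F (n + 1)), fun j => ?_, fun i => ?_⟩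
    · rw [map_add, he₁, LinearMap.mem_ker.mp (e₂ j).2, add_zero]
    · have := congrArg Subtype.val (he₂ i)
      simp only [y, Submodule.coe_sum, Submodule.coe_smul] at this
      simp only [smul_add, Finset.sum_add_distrib, ← this, add_sub_cancel]
  obtain ⟨e0, he0⟩ := key (F 0) (fun i => π 0 (c i)) (hrel 0)
  choose nxt hn1 hn2 using step
  let E : ∀ n, {e : Fin s → F n // ∀ i, π n (c i) = ∑ j, σ j i • e j} := fun n =>
    Nat.rec (motive := fun n => {e : Fin s → F n // ∀ i, π n (c i) = ∑ j, σ j i • e j}) ⟨e0, he0⟩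
      (fun n p => ⟨nxt n p.1 p.2, hn2 n p.1 p.2⟩) n
  choose d hd using fun j => hlift (fun n => (E n).1 j) (fun n => hn1 n (E n).1 (E n).2 j)
  refine ⟨s, fun i j => σ j i, d, fun i => ?_, fun j => hσ0 j⟩
  rw [← sub_eq_zero]
  refine hinj _ fun n => ?_
  simp only [map_sub, map_sum, map_smul, hd]
  rw [sub_eq_zero]
  exact (E n).2 i

/-- An adic completion all whose truncations are projective over a Noetherian ring is flat. -/
theorem flat_adicCompletion_of_projective_quotient (A : Type u) [CommRing A] [IsNoetherianRing A]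
    (S : Type v) [CommRing S] [Algebra A S] (I : Ideal S)
    (hproj : ∀ n, Module.Projective A (S ⧸ I ^ n)) : Module.Flat A (AdicCompletion I S) := by
  haveI := hproj
  let π : ∀ n, AdicCompletion I S →ₐ[A] S ⧸ I ^ n := fun n =>
    (AdicCompletion.evalₐ I n).restrictScalars A
  let f : ∀ n, (S ⧸ I ^ (n + 1)) →ₐ[A] S ⧸ I ^ n := fun n =>
    Ideal.Quotient.factorₐ A (Ideal.pow_le_pow_right n.le_succ)
  refine flat_of_tower_projective A (fun n => S ⧸ I ^ n)
    (fun n => (f n).toLinearMap) (fun n => ?_) _ (fun n => (π n).toLinearMap)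
    (fun n c => ?_) (fun c hc => ?_) (fun y hy => ?_)
  · intro z
    obtain ⟨z, rfl⟩ := Ideal.Quotient.mk_surjective z
    exact ⟨Ideal.Quotient.mk _ z, rfl⟩
  · obtain ⟨t, rfl⟩ := AdicCompletion.mk_surjective I S c
    change Ideal.Quotient.factor (Ideal.pow_le_pow_right n.le_succ) (AdicCompletion.evalₐ I (n + 1) (AdicCompletion.mk I S t)) = AdicCompletion.evalₐ I n (AdicCompletion.mk I S t)
    rw [AdicCompletion.evalₐ_mk, AdicCompletion.evalₐ_mk]
    change Ideal.Quotient.mk (I ^ n) (t.val (n + 1)) = _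
    have h := t.2 n.le_succ
    rw [SModEq.sub_mem, smul_eq_mul, Ideal.mul_top] at h
    exact (Ideal.Quotient.eq.mpr h).symm
  · exact AdicCompletion.ext_evalₐ fun n => by
      rw [map_zero]
      exact hc n
  · choose z hz using fun n => Ideal.Quotient.mk_surjective (y n)
    have hz' : ∀ {m n : ℕ}, m ≤ n → z m ≡ z n [SMOD (I ^ m • ⊤ : Submodule S S)] := by
      intro m n hle
      induction hle with
      | refl => rfl
      | @step n hle ih =>
        refine ih.trans ?_
        rw [SModEq.sub_mem, smul_eq_mul, Ideal.mul_top]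
        refine Ideal.pow_le_pow_right hle (Ideal.Quotient.eq.mp ?_)
        have h1 : f n (y (n + 1)) = y n := hy n
        rw [← hz n, ← hz (n + 1)] at h1
        exact h1.symm
    refine ⟨AdicCompletion.mk I _ ⟨z, fun {m n} hle => hz' hle⟩, fun n => ?_⟩
    exact (AdicCompletion.evalₐ_mk I n _).trans (hz n)

open TensorProduct in
/-- Over a field `k`, `(R ⊗ A) / I (R ⊗ A)` is projective over `A`. -/
theorem projective_tensor_quotient (k : Type u) [Field k] (R : Type u) [CommRing R] [Algebra k R]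
    (A : Type u) [CommRing A] [Algebra k A] (I : Ideal R) [Algebra A (R ⊗[k] A)]
    (h : ∀ a, algebraMap A (R ⊗[k] A) a = (1 : R) ⊗ₜ a) (K : Ideal (R ⊗[k] A))
    (hK : I.map (Algebra.TensorProduct.includeLeftRingHom : R →+* R ⊗[k] A) = K) :
    Module.Projective A ((R ⊗[k] A) ⧸ K) := by
  haveI : IsScalarTower k A (R ⊗[k] A) := IsScalarTower.of_algebraMap_eq fun c => by
    rw [h, Algebra.algebraMap_eq_smul_one (A := A), tmul_smul, ← Algebra.TensorProduct.one_def,
      Algebra.algebraMap_eq_smul_one]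
  let q : (R ⊗[k] A) →ₐ[k] (R ⊗[k] A) ⧸ K := Ideal.Quotient.mkₐ k K
  have hI : ∀ x ∈ I, q.comp (Algebra.TensorProduct.includeLeft : R →ₐ[k] R ⊗[k] A) x = 0 := fun x hx =>
    Ideal.Quotient.eq_zero_iff_mem.mpr (hK ▸ Ideal.mem_map_of_mem _ hx)
  let fR : (R ⧸ I) →ₐ[k] (R ⊗[k] A) ⧸ K :=
    Ideal.Quotient.liftₐ I (q.comp Algebra.TensorProduct.includeLeft) hI
  let f : A ⊗[k] (R ⧸ I) →ₐ[A] (R ⊗[k] A) ⧸ K :=
    Algebra.TensorProduct.lift (Algebra.ofId A _) fR (fun _ _ => Commute.all _ _)
  let g0 : R ⊗[k] A →ₐ[k] A ⊗[k] (R ⧸ I) :=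
    (Algebra.TensorProduct.map (AlgHom.id k A) (Ideal.Quotient.mkₐ k I)).comp
      (Algebra.TensorProduct.comm k R A).toAlgHom
  have hg0 : K ≤ RingHom.ker g0.toRingHom := by
    rw [← hK, Ideal.map_le_iff_le_comap]
    intro x hx
    simp [g0, Ideal.Quotient.eq_zero_iff_mem.mpr hx]
  let g : (R ⊗[k] A) ⧸ K →ₐ[k] A ⊗[k] (R ⧸ I) := Ideal.Quotient.liftₐ K g0 fun x hx => hg0 hx
  have hgf : ∀ z, g (f z) = z := by
    intro z
    induction z using TensorProduct.induction_on with
    | zero => simp
    | tmul a r =>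
      obtain ⟨r, rfl⟩ := Ideal.Quotient.mk_surjective r
      have hf : f (a ⊗ₜ Ideal.Quotient.mk I r) = Ideal.Quotient.mk K (r ⊗ₜ a) := by
        change Ideal.Quotient.mk K (algebraMap A (R ⊗[k] A) a) * Ideal.Quotient.mk K (r ⊗ₜ 1) = _
        rw [← map_mul, h, Algebra.TensorProduct.tmul_mul_tmul, one_mul, mul_one]
      rw [hf]
      change g0 (r ⊗ₜ a) = _
      simp [g0]
    | add x y hx hy => rw [map_add, map_add, hx, hy]
  have hfs : Function.Surjective f := by
    intro z
    obtain ⟨z, rfl⟩ := Ideal.Quotient.mk_surjective z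
    induction z using TensorProduct.induction_on with
    | zero => exact ⟨0, by simp⟩
    | tmul r a =>
      refine ⟨a ⊗ₜ Ideal.Quotient.mk I r, ?_⟩
      change Ideal.Quotient.mk K (algebraMap A (R ⊗[k] A) a) * Ideal.Quotient.mk K (r ⊗ₜ 1) = _
      rw [← map_mul, h, Algebra.TensorProduct.tmul_mul_tmul, one_mul, mul_one]
    | add x y hx hy =>
      obtain ⟨x', hx'⟩ := hx
      obtain ⟨y', hy'⟩ := hy
      exact ⟨x' + y', by rw [map_add, map_add, hx', hy']⟩
  exact Module.Projective.of_equiv
    (LinearEquiv.ofBijective f.toLinearMap ⟨Function.LeftInverse.injective hgf, hfs⟩)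

end Groth.Agent.H3CAlg
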