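import Mathlib.RingTheory.Smooth.NoetherianDescent
import Mathlib.RingTheory.Etale.Basic
import Mathlib.RingTheory.Polynomial.Basic
import Mathlib.RingTheory.TensorProduct.Maps
import Mathlib.Data.Finset.Order
import Mathlib.RingTheory.FiniteType

/-!
Maps from finitely generated rings into a directed union of rings factor through a stage;
étale algebras over a colimit of rings come from a stage.
-/

universe u

open TensorProduct

namespace Groth.Agent.H3CAlg

variable {ι : Type u} [Preorder ι] [IsDirected ι (· ≤ ·)] [Nonempty ι]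
  {G : ι → Type u} [∀ i, CommRing (G i)] {A : Type u} [CommRing A]

/-- A map from a finitely generated ring to a colimit of rings factors through a stage. -/
theorem exists_factor_stage_fg (f : ∀ i j, i ≤ j → (G i →+* G j)) (g : ∀ i, G i →+* A)
    (hg : ∀ i j (h : i ≤ j), (g j).comp (f i j h) = g i)
    (hsurj : ∀ a : A, ∃ i, ∃ x : G i, g i x = a)
    (hker : ∀ i (x : G i), g i x = 0 → ∃ j, ∃ h : i ≤ j, f i j h x = 0)
    (P : Type u) [CommRing P] (hP : Algebra.FiniteType ℤ P) (φ : P →+* A) :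
    ∃ (i : ι) (h : P →+* G i), (g i).comp h = φ := by
  classical
  have up : ∀ {i j} (h : i ≤ j) (x : G i), g j (f i j h x) = g i x := fun h x =>
    RingHom.congr_fun (hg _ _ h) x
  obtain ⟨n, π, hπ⟩ := Algebra.FiniteType.iff_quotient_mvPolynomial''.mp hP
  choose i₀ x₀ hx₀ using fun l : Fin n => hsurj (φ (π (MvPolynomial.X l)))
  obtain ⟨i₁, hi₁⟩ := Finset.exists_le (Finset.univ.image i₀)
  have hle : ∀ l, i₀ l ≤ i₁ := fun l => hi₁ _ (Finset.mem_image_of_mem _ (Finset.mem_univ l))
  let ev : MvPolynomial (Fin n) ℤ →+* G i₁ :=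
    MvPolynomial.eval₂Hom (Int.castRingHom (G i₁)) fun l => f _ _ (hle l) (x₀ l)
  have hev : ∀ p, g i₁ (ev p) = φ (π p) := by
    have : (g i₁).comp ev = φ.comp π.toRingHom :=
      MvPolynomial.ringHom_ext (fun z => by simp [ev]) (fun l => by simp [ev, up, hx₀])
    exact fun p => RingHom.congr_fun this p
  obtain ⟨S, hS⟩ : (RingHom.ker π.toRingHom).FG := IsNoetherian.noetherian _
  have hkill : ∀ T : Finset (MvPolynomial (Fin n) ℤ), (∀ p ∈ T, π p = 0) →
      ∃ (j : ι) (h : MvPolynomial (Fin n) ℤ →+* G j), (∀ p, g j (h p) = φ (π p)) ∧ ∀ p ∈ T, h p = 0 := by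
    intro T
    induction T using Finset.induction with
    | empty => exact fun _ => ⟨i₁, ev, hev, by simp⟩
    | insert a T ha ih =>
      intro hT
      obtain ⟨j, h, hj, hh⟩ := ih fun p hp => hT p (Finset.mem_insert_of_mem hp)
      obtain ⟨k, hjk, hk⟩ := hker j (h a) (by rw [hj, hT a (Finset.mem_insert_self _ _), map_zero])
      refine ⟨k, (f j k hjk).comp h, fun p => by rw [RingHom.comp_apply, up, hj], ?_⟩
      intro p hp
      rcases Finset.mem_insert.mp hp with rfl | hp
      · exact hk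
      · rw [RingHom.comp_apply, hh p hp, map_zero]
  obtain ⟨j, h, hj, hh⟩ := hkill S fun p hp => hS.le (Ideal.subset_span hp)
  have hker' : RingHom.ker π.toRingHom ≤ RingHom.ker h := by
    rw [← hS]
    exact Ideal.span_le.mpr hh
  let L := π.toRingHom.liftOfSurjective hπ ⟨h, hker'⟩
  refine ⟨j, L, RingHom.ext fun x => ?_⟩
  obtain ⟨p, rfl⟩ := hπ x
  rw [RingHom.comp_apply, show L (π p) = h p from RingHom.liftOfSurjective_comp_apply _ hπ ⟨h, hker'⟩ p, hj]

/-- An étale algebra over a colimit of rings comes from a stage. -/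
theorem exists_etale_stage (f : ∀ i j, i ≤ j → (G i →+* G j)) (g : ∀ i, G i →+* A)
    (hg : ∀ i j (h : i ≤ j), (g j).comp (f i j h) = g i)
    (hsurj : ∀ a : A, ∃ i, ∃ x : G i, g i x = a)
    (hker : ∀ i (x : G i), g i x = 0 → ∃ j, ∃ h : i ≤ j, f i j h x = 0)
    (B : Type u) [CommRing B] [Algebra A B] [Algebra.Etale A B] :
    ∃ (i : ι) (Bi : Type u) (_ : CommRing Bi) (_ : Algebra (G i) Bi), Algebra.Etale (G i) Bi ∧
      letI : Algebra (G i) A := (g i).toAlgebra
      Nonempty (B ≃ₐ[A] A ⊗[G i] Bi) := by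
  obtain ⟨A₀, B₀, _, _, hfg, hB₀, ⟨e⟩⟩ := Algebra.Etale.exists_subalgebra_fg ℤ A B
  obtain ⟨i, h, hi⟩ := exists_factor_stage_fg f g hg hsurj hker A₀
    ((Subalgebra.fg_iff_finiteType A₀).mp hfg) A₀.val.toRingHom
  letI : Algebra A₀ (G i) := h.toAlgebra
  letI : Algebra (G i) A := (g i).toAlgebra
  haveI : IsScalarTower A₀ (G i) A := IsScalarTower.of_algebraMap_eq fun x => (RingHom.congr_fun hi x).symm
  haveI := hB₀
  exact ⟨i, G i ⊗[A₀] B₀, inferInstance, inferInstance, inferInstance,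
    ⟨e.trans (Algebra.TensorProduct.cancelBaseChange A₀ (G i) A A B₀).symm⟩⟩

end Groth.Agent.H3CAlg
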