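import Groth.Agent.H3CAlg.DiagMain
import Groth.Agent.H3CAlg.IntLocal
import Mathlib

/-!
# Positivity of intersection multiplicities
-/

set_option autoImplicit false
set_option linter.style.haveILetI false

universe u

open AlgebraicGeometry CategoryTheory TopologicalSpace Topology

namespace Groth.Agent.H3CAlg.DiagScheme

open Groth.Agent.H8Props.FieldDim

theorem le_dim_of_etale {k : Type u} [Field k] {R : Type u} [CommRing R] [IsDomain R] [Algebra k R]
    [Algebra.FiniteType k R] {m : ℕ} (g : MvPolynomial (Fin m) k →ₐ[k] R) (hg : g.toRingHom.Etale) {N : ℕ}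
    (hN : ringKrullDim R = N) : m ≤ N := by
  have hinj : Function.Injective g := by
    rw [injective_iff_map_eq_zero]
    intro z hz
    by_contra h0
    letI := g.toRingHom.toAlgebra
    haveI : Module.Flat (MvPolynomial (Fin m) k) R := (RingHom.Etale.iff_flat_and_formallyUnramified.mp hg).1
    have hreg := Module.Flat.isSMulRegular_of_nonZeroDivisors (M := R) (mem_nonZeroDivisors_of_ne_zero h0)
    refine one_ne_zero (α := R) (hreg (?_ : z • (1 : R) = z • 0))
    rw [smul_zero, Algebra.smul_def, mul_one]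
    exact hz
  obtain ⟨s, hs, hs'⟩ := exists_dim_trdeg k R
  obtain ⟨t, ht, ht'⟩ := exists_dim_trdeg k (MvPolynomial (Fin m) k)
  have htn : t = m := by
    rw [MvPolynomial.ringKrullDim_of_isNoetherianRing, ringKrullDim_eq_zero_of_field, zero_add,
      Nat.card_eq_fintype_card, Fintype.card_fin] at ht
    exact_mod_cast ht.symm
  have hle := trdeg_le_of_injective g hinj
  rw [hs', ht', htn] at hle
  rw [hN] at hs
  have : N = s := by exact_mod_cast hs
  rw [this]
  exact_mod_cast hle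

theorem smooth_of_etale {k : Type u} [Field k] {R : Type u} [CommRing R] [Algebra k R] {m : ℕ}
    (g : MvPolynomial (Fin m) k →ₐ[k] R) (hg : g.toRingHom.Etale) : Algebra.Smooth k R := by
  letI : Algebra (MvPolynomial (Fin m) k) R := g.toRingHom.toAlgebra
  haveI : IsScalarTower k (MvPolynomial (Fin m) k) R := IsScalarTower.of_algebraMap_eq fun c => (g.commutes c).symm
  haveI : Algebra.Etale (MvPolynomial (Fin m) k) R := hg
  haveI : Algebra.Smooth k (MvPolynomial (Fin m) k) :=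
    { formallySmooth := inferInstance, finitePresentation := inferInstance }
  exact Algebra.Smooth.comp k (MvPolynomial (Fin m) k) R

/-- The algebraic statement over a chart. -/
theorem chart {k : Type u} [Field k] {R : Type u} [CommRing R] [IsDomain R] [Algebra k R] {m : ℕ}
    (g : MvPolynomial (Fin m) k →ₐ[k] R) (hg : g.toRingHom.Etale) (Q₀ : Ideal R) [Q₀.IsPrime]
    (A : Type u) [CommRing A] [Algebra R A] [IsLocalization.AtPrime A Q₀] [IsLocalRing A]
    (P Q : Ideal A) [P.IsPrime] [Q.IsPrime] {c dA dP dQ : ℕ} (hc : ringKrullDim (R ⧸ Q₀) = c)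
    (hdA : ringKrullDim A = dA) (hdP : ringKrullDim (A ⧸ P) = dP) (hdQ : ringKrullDim (A ⧸ Q) = dQ)
    (hsum : dP + dQ = dA)
    (hmax : ∀ S : Ideal A, S.IsPrime → P ≤ S → Q ≤ S → S = IsLocalRing.maximalIdeal A) :
    0 < IntMult.chi A (A ⧸ Q) (A ⧸ P) ∧ (Module.length A (A ⧸ (P ⊔ Q)) = 1 →
      IntMult.chi A (A ⧸ Q) (A ⧸ P) = 1 ∧ IsRegularLocalRing (A ⧸ P)) := by
  haveI := smooth_of_etale g hg
  haveI : Algebra.FiniteType k R := inferInstance
  obtain ⟨p, hpdef⟩ : ∃ p, p = P.comap (algebraMap R A) := ⟨_, rfl⟩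
  obtain ⟨q, hqdef⟩ : ∃ q, q = Q.comap (algebraMap R A) := ⟨_, rfl⟩
  haveI : p.IsPrime := hpdef ▸ Ideal.IsPrime.comap _
  haveI : q.IsPrime := hqdef ▸ Ideal.IsPrime.comap _
  have hPmap : p.map (algebraMap R A) = P := hpdef ▸ IsLocalization.map_comap Q₀.primeCompl A P
  have hQmap : q.map (algebraMap R A) = Q := hqdef ▸ IsLocalization.map_comap Q₀.primeCompl A Q
  have hle : ∀ S : Ideal A, S.IsPrime → S.comap (algebraMap R A) ≤ Q₀ := fun S hS => by
    conv_rhs => rw [← IsLocalization.AtPrime.comap_maximalIdeal A Q₀]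
    exact Ideal.comap_mono (IsLocalRing.le_maximalIdeal hS.ne_top)
  have hp : p ≤ Q₀ := hpdef ▸ hle P inferInstance
  have hq : q ≤ Q₀ := hqdef ▸ hle Q inferInstance
  have key : ∀ (P : Ideal R) (_ : P.IsPrime) (dP : ℕ), P ≤ Q₀ →
      ringKrullDim (A ⧸ P.map (algebraMap R A)) = dP → ringKrullDim (R ⧸ P) = ((dP + c : ℕ) : WithBot ℕ∞) := by
    intro P hP dP hle hd
    haveI : (Q₀.map (Ideal.Quotient.mk P)).IsPrime := Ideal.isPrime_map_quotientMk_of_isPrime hle
    rw [DiagLocal.dim_localization_quotient Q₀ P hle A] at hd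
    haveI : Algebra.FiniteType k (R ⧸ P) := Algebra.FiniteType.trans (R := k) (S := R) inferInstance inferInstance
    have h := height_add_dim_quotient k (R ⧸ P) (Q₀.map (Ideal.Quotient.mk P))
    rw [hd, ringKrullDim_eq_of_ringEquiv (DoubleQuot.quotQuotEquivQuotOfLE hle), hc] at h
    rw [← h, Nat.cast_add]
  have ha := key p inferInstance dP hp (hPmap.symm ▸ hdP)
  have hb := key q inferInstance dQ hq (hQmap.symm ▸ hdQ)
  have hN : ringKrullDim R = ((dA + c : ℕ) : WithBot ℕ∞) := by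
    rw [← height_add_dim_quotient k R Q₀, hc, ← IsLocalization.AtPrime.ringKrullDim_eq_height Q₀ A, hdA,
      Nat.cast_add]
  have h := DiagMain.main g hg.formallyUnramified Q₀ A p q hp hq hN (le_dim_of_etale g hg hN) ha hb hc
    (by omega) (by rw [hPmap, hQmap]; exact hmax)
  rw [hPmap, hQmap] at h
  exact h

variable {K : Type u} [Field K] {X : Scheme.{u}} (f : X ⟶ Spec (CommRingCat.of K))

/-- Positivity and the case of multiplicity one, at a component of a proper intersection. -/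
theorem mult_data [Smooth f] [IsIntegral X] (IV IW : X.IdealSheafData) {ξ : X}
    (hA : IsRegularLocalRing (X.presheaf.stalk ξ))
    (hP : (IntMult.stalkIdeal IV ξ).IsPrime) (hQ : (IntMult.stalkIdeal IW ξ).IsPrime)
    (hmax : ∀ p : PrimeSpectrum (X.presheaf.stalk ξ),
      IntMult.stalkIdeal IV ξ ⊔ IntMult.stalkIdeal IW ξ ≤ p.asIdeal →
        p.asIdeal = IsLocalRing.maximalIdeal (X.presheaf.stalk ξ))
    {dA dP dQ : ℕ} (hdA : ringKrullDim (X.presheaf.stalk ξ) = dA)
    (hdP : ringKrullDim (X.presheaf.stalk ξ ⧸ IntMult.stalkIdeal IV ξ) = dP)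
    (hdQ : ringKrullDim (X.presheaf.stalk ξ ⧸ IntMult.stalkIdeal IW ξ) = dQ) (hsum : dP + dQ = dA) :
    0 < IntMult.mult IV IW ξ ∧ (Module.length (X.presheaf.stalk ξ)
      (X.presheaf.stalk ξ ⧸ (IntMult.stalkIdeal IV ξ ⊔ IntMult.stalkIdeal IW ξ)) = 1 →
      IntMult.mult IV IW ξ = 1 ∧ IsRegularLocalRing (X.presheaf.stalk ξ ⧸ IntMult.stalkIdeal IV ξ)) := by
  obtain ⟨U, hU, V, hV, hxV, e, hstd⟩ := Smooth.exists_isStandardSmooth f ξ
  obtain ⟨m, g, hgC, hg⟩ := hstd.exists_etale_mvPolynomial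
  have hUtop : U = ⊤ := by
    refine eq_top_iff.mpr fun z _ => ?_
    rw [Subsingleton.elim (α := PrimeSpectrum K) z (f ξ)]
    exact e hxV
  subst hUtop
  have hfield : IsField Γ(Spec (CommRingCat.of K), ⊤) :=
    MulEquiv.isField (Field.toIsField K)
      (Scheme.ΓSpecIso (CommRingCat.of K)).commRingCatIsoToRingEquiv.toMulEquiv
  letI := hfield.toField
  letI : Algebra Γ(Spec (CommRingCat.of K), ⊤) Γ(X, V) := (f.appLE ⊤ V e).hom.toAlgebra
  let g' : MvPolynomial (Fin m) Γ(Spec (CommRingCat.of K), ⊤) →ₐ[Γ(Spec (CommRingCat.of K), ⊤)] Γ(X, V) :=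
    { g with commutes' := fun c => RingHom.congr_fun hgC c }
  haveI : Nonempty V := ⟨⟨ξ, hxV⟩⟩
  haveI : IsDomain Γ(X, V) := inferInstance
  letI : Algebra Γ(X, V) (X.presheaf.stalk ξ) := (X.presheaf.germ V ξ hxV).hom.toAlgebra
  haveI : IsLocalization.AtPrime (X.presheaf.stalk ξ) (hV.primeIdealOf ⟨ξ, hxV⟩).asIdeal :=
    hV.isLocalization_stalk ⟨ξ, hxV⟩
  obtain ⟨c, hc⟩ := exists_nat_cdim f ξ
  have hc' : ringKrullDim (Γ(X, V) ⧸ (hV.primeIdealOf ⟨ξ, hxV⟩).asIdeal) = c := by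
    have h := cdim_eq_chart f (A := Γ(X, V)) hV.fromSpec (hV.primeIdealOf ⟨ξ, hxV⟩)
    erw [hV.fromSpec_primeIdealOf] at h
    rw [← h]
    exact hc
  haveI := hP
  haveI := hQ
  exact chart g' hg (hV.primeIdealOf ⟨ξ, hxV⟩).asIdeal (X.presheaf.stalk ξ) (IntMult.stalkIdeal IV ξ)
    (IntMult.stalkIdeal IW ξ) hc' hdA hdP hdQ hsum
    fun S hS h1 h2 => hmax ⟨S, hS⟩ (sup_le h1 h2)

end Groth.Agent.H3CAlg.DiagScheme
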