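import Groth.Agent.H3CAlg.DiagStalk
import Groth.Agent.H3CAlg.DiagScheme
import Groth.Agent.H22Alg.CycBasic
import Mathlib

/-! Local rings along the closure of a point; dimension functions over a field. -/

set_option autoImplicit false
set_option linter.style.haveILetI false

universe u

open AlgebraicGeometry CategoryTheory CategoryTheory.Limits TopologicalSpace Topology
open Groth.Agent.H8Props.FieldDim

namespace Groth.Agent.H3CAlg.IntPt

variable {X : Scheme.{u}}

theorem delta_eq_cdim {K : Type u} [Field K] (f : X ⟶ Spec (CommRingCat.of K)) [LocallyOfFiniteType f]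
    (δ : X → ℤ) (hδ : Cyc.DeltaCompat f δ (fun _ => 0)) (x : X) :
    ∃ a : ℕ, cdim x = a ∧ δ x = a := by
  obtain ⟨n, hn, hx⟩ := H22Alg.CycBasic.exists_cdim f hδ x
  refine ⟨n, ?_, by rw [hx, zero_add]⟩
  have hr : Set.range (f.fiberι (f x)) = Set.univ := by
    rw [Scheme.Hom.range_fiberι]
    exact Set.eq_univ_of_forall fun y => Subsingleton.elim (α := PrimeSpectrum K) _ _
  have he := (f.fiberι (f x)).isEmbedding
  rw [← hn, cdim, cdim]
  have h : (f.fiberι (f x)) '' closure {f.asFiber x} = closure {x} := by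
    rw [he.closure_eq_preimage_closure_image, Set.image_preimage_eq_inter_range, hr, Set.inter_univ,
      Set.image_singleton, Scheme.Hom.fiberι_asFiber]
  rw [← h]
  exact (IsHomeomorph.topologicalKrullDim_eq _ (he.homeomorphImage _).isHomeomorph).symm

/-- The ideal of the closure of a point on an affine open. -/
theorem ideal_ptIdeal (p : X) (U : X.affineOpens) (hp : p ∈ U.1) :
    (IntMult.ptIdeal p).ideal U = (U.2.primeIdealOf ⟨p, hp⟩).asIdeal := by
  obtain ⟨U, hU : IsAffineOpen U⟩ := U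
  have h1 : hU.fromSpec ⁻¹' closure {p} = closure {hU.primeIdealOf ⟨p, hp⟩} := by
    rw [hU.fromSpec.isOpenEmbedding.isOpenMap.preimage_closure_eq_closure_preimage hU.fromSpec.continuous]
    congr 1
    ext q
    simp only [Set.mem_preimage, Set.mem_singleton_iff]
    constructor
    · intro h; exact hU.fromSpec.isOpenEmbedding.injective (h.trans (hU.fromSpec_primeIdealOf ⟨p, hp⟩).symm)
    · rintro rfl; exact hU.fromSpec_primeIdealOf ⟨p, hp⟩
  show PrimeSpectrum.vanishingIdeal (hU.fromSpec ⁻¹' closure {p}) = _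
  erw [h1, PrimeSpectrum.vanishingIdeal_closure, PrimeSpectrum.vanishingIdeal_singleton]

theorem mem_ideal_of_mem_support (I : X.IdealSheafData) (p : X) (U : X.affineOpens) (hp : p ∈ U.1)
    (h : p ∈ I.support) : I.ideal U ≤ (U.2.primeIdealOf ⟨p, hp⟩).asIdeal := by
  intro c hc
  rw [Scheme.IdealSheafData.mem_support_iff_of_mem (U := U) hp, Scheme.mem_zeroLocus_iff] at h
  by_contra hcq
  refine h c hc ?_
  have := (U.2.fromSpec_preimage_basicOpen c).ge
    (show U.2.primeIdealOf ⟨p, hp⟩ ∈ PrimeSpectrum.basicOpen c from hcq)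
  have h2 : U.2.fromSpec (U.2.primeIdealOf ⟨p, hp⟩) ∈ X.basicOpen c := this
  rwa [U.2.fromSpec_primeIdealOf] at h2

theorem stalkIdeal_le_of_mem_support (I : X.IdealSheafData) {p x : X} (h : p ⤳ x) (hp : p ∈ I.support) :
    IntMult.stalkIdeal I x ≤ IntMult.stalkIdeal (IntMult.ptIdeal p) x := by
  obtain ⟨U, hU, hxU, -⟩ := exists_isAffineOpen_mem_and_subset (X := X) (x := x) (U := ⊤) trivial
  rw [H29Ref.stalkIdeal_eq _ x ⟨U, hU⟩ hxU, H29Ref.stalkIdeal_eq _ x ⟨U, hU⟩ hxU,
    ideal_ptIdeal p ⟨U, hU⟩ (h.mem_open U.2 hxU)]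
  exact Ideal.map_mono (mem_ideal_of_mem_support I p ⟨U, hU⟩ _ hp)

theorem stalkIdeal_mono {I J : X.IdealSheafData} (h : I ≤ J) (x : X) :
    IntMult.stalkIdeal I x ≤ IntMult.stalkIdeal J x :=
  iSup₂_mono fun U _ => Ideal.map_mono (h U)

theorem stalkIdeal_ptIdeal_self (x : X) :
    IntMult.stalkIdeal (IntMult.ptIdeal x) x = IsLocalRing.maximalIdeal (X.presheaf.stalk x) := by
  obtain ⟨U, hU, hxU, -⟩ := exists_isAffineOpen_mem_and_subset (X := X) (x := x) (U := ⊤) trivial
  rw [H29Ref.stalkIdeal_eq _ x ⟨U, hU⟩ hxU, ideal_ptIdeal x ⟨U, hU⟩ hxU]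
  letI : Algebra Γ(X, U) (X.presheaf.stalk x) := (X.presheaf.germ U x hxU).hom.toAlgebra
  haveI : IsLocalization.AtPrime (X.presheaf.stalk x) (hU.primeIdealOf ⟨x, hxU⟩).asIdeal :=
    hU.isLocalization_stalk ⟨x, hxU⟩
  exact IsLocalization.AtPrime.map_eq_maximalIdeal (hU.primeIdealOf ⟨x, hxU⟩).asIdeal (X.presheaf.stalk x)

theorem primeIdealOf_le {U : X.Opens} (hU : IsAffineOpen U) {p x : X} (h : p ⤳ x) (hp : p ∈ U) (hx : x ∈ U) :
    (hU.primeIdealOf ⟨p, hp⟩).asIdeal ≤ (hU.primeIdealOf ⟨x, hx⟩).asIdeal := by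
  refine (PrimeSpectrum.le_iff_specializes _ _).mpr (hU.fromSpec.isOpenEmbedding.isInducing.specializes_iff.mp ?_)
  rw [hU.fromSpec_primeIdealOf, hU.fromSpec_primeIdealOf]
  exact h

theorem stalkIdeal_ptIdeal_prime {p x : X} (h : p ⤳ x) :
    (IntMult.stalkIdeal (IntMult.ptIdeal p) x).IsPrime := by
  obtain ⟨U, hU, hxU, -⟩ := exists_isAffineOpen_mem_and_subset (X := X) (x := x) (U := ⊤) trivial
  rw [H29Ref.stalkIdeal_eq _ x ⟨U, hU⟩ hxU, ideal_ptIdeal p ⟨U, hU⟩ (h.mem_open U.2 hxU)]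
  letI : Algebra Γ(X, U) (X.presheaf.stalk x) := (X.presheaf.germ U x hxU).hom.toAlgebra
  haveI : IsLocalization.AtPrime (X.presheaf.stalk x) (hU.primeIdealOf ⟨x, hxU⟩).asIdeal :=
    hU.isLocalization_stalk ⟨x, hxU⟩
  exact IsLocalization.isPrime_of_isPrime_disjoint (hU.primeIdealOf ⟨x, hxU⟩).asIdeal.primeCompl _ _
    (hU.primeIdealOf ⟨p, h.mem_open U.2 hxU⟩).2
    (Set.disjoint_left.mpr fun a ha ha' => ha (primeIdealOf_le hU h (h.mem_open U.2 hxU) hxU ha'))

theorem stalkIdeal_ptIdeal_injective {p p' x : X} (h : p ⤳ x) (h' : p' ⤳ x)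
    (he : IntMult.stalkIdeal (IntMult.ptIdeal p) x = IntMult.stalkIdeal (IntMult.ptIdeal p') x) : p = p' := by
  obtain ⟨U, hU, hxU, -⟩ := exists_isAffineOpen_mem_and_subset (X := X) (x := x) (U := ⊤) trivial
  have hp := h.mem_open U.2 hxU
  have hp' := h'.mem_open U.2 hxU
  rw [H29Ref.stalkIdeal_eq _ x ⟨U, hU⟩ hxU, H29Ref.stalkIdeal_eq _ x ⟨U, hU⟩ hxU,
    ideal_ptIdeal p ⟨U, hU⟩ hp, ideal_ptIdeal p' ⟨U, hU⟩ hp'] at he
  letI : Algebra Γ(X, U) (X.presheaf.stalk x) := (X.presheaf.germ U x hxU).hom.toAlgebra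
  haveI : IsLocalization.AtPrime (X.presheaf.stalk x) (hU.primeIdealOf ⟨x, hxU⟩).asIdeal :=
    hU.isLocalization_stalk ⟨x, hxU⟩
  have hd : ∀ {y : X} (hy : y ⤳ x) (hyU : y ∈ U), Disjoint
      ((hU.primeIdealOf ⟨x, hxU⟩).asIdeal.primeCompl : Set Γ(X, U)) (hU.primeIdealOf ⟨y, hyU⟩).asIdeal :=
    fun hy hyU => Set.disjoint_left.mpr fun a ha ha' => ha (primeIdealOf_le hU hy hyU hxU ha')
  have e1 := IsLocalization.comap_map_of_isPrime_disjoint _ (X.presheaf.stalk x)
    (hU.primeIdealOf ⟨p, hp⟩).2 (hd h hp)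
  have e2 := IsLocalization.comap_map_of_isPrime_disjoint _ (X.presheaf.stalk x)
    (hU.primeIdealOf ⟨p', hp'⟩).2 (hd h' hp')
  have h1 : (hU.primeIdealOf ⟨p, hp⟩).asIdeal = (hU.primeIdealOf ⟨p', hp'⟩).asIdeal :=
    e1.symm.trans ((congrArg (Ideal.comap (algebraMap Γ(X, U) (X.presheaf.stalk x))) he).trans e2)
  have h2 := congrArg hU.fromSpec (PrimeSpectrum.ext h1)
  rwa [hU.fromSpec_primeIdealOf, hU.fromSpec_primeIdealOf] at h2

/-- The dimension of the local ring of the closure of `p` at `x`. -/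
theorem ringKrullDim_quotient_ptIdeal {K : Type u} [Field K] (f : X ⟶ Spec (CommRingCat.of K))
    [LocallyOfFiniteType f] {p x : X} (h : p ⤳ x) {a b : ℕ} (ha : cdim p = a) (hb : cdim x = b) :
    ∃ d : ℕ, ringKrullDim (X.presheaf.stalk x ⧸ IntMult.stalkIdeal (IntMult.ptIdeal p) x) = d ∧ d + b = a := by
  obtain ⟨U, hU, hxU, -⟩ := exists_isAffineOpen_mem_and_subset (X := X) (x := x) (U := ⊤) trivial
  have hpU := h.mem_open U.2 hxU
  rw [H29Ref.stalkIdeal_eq _ x ⟨U, hU⟩ hxU, ideal_ptIdeal p ⟨U, hU⟩ hpU]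
  let P := (hU.primeIdealOf ⟨p, hpU⟩).asIdeal
  let D := (hU.primeIdealOf ⟨x, hxU⟩).asIdeal
  haveI : P.IsPrime := (hU.primeIdealOf ⟨p, hpU⟩).2
  haveI : D.IsPrime := (hU.primeIdealOf ⟨x, hxU⟩).2
  have hPD : P ≤ D := primeIdealOf_le hU h hpU hxU
  haveI : (D.map (Ideal.Quotient.mk P)).IsPrime := Ideal.map_isPrime_of_surjective Ideal.Quotient.mk_surjective
    (by rwa [Ideal.mk_ker])
  letI : Algebra Γ(X, U) (X.presheaf.stalk x) := (X.presheaf.germ U x hxU).hom.toAlgebra
  haveI : IsLocalization.AtPrime (X.presheaf.stalk x) D := hU.isLocalization_stalk ⟨x, hxU⟩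
  have h0 : ringKrullDim (X.presheaf.stalk x ⧸ P.map (X.presheaf.germ U x hxU).hom) =
      (D.map (Ideal.Quotient.mk P)).height := DiagLocal.dim_localization_quotient D P hPD (X.presheaf.stalk x)
  obtain ⟨alg, hj⟩ := exists_algebra_chart f (A := Γ(X, U)) hU.fromSpec
  haveI := finiteType_of_chart f (A := Γ(X, U)) hU.fromSpec hj
  haveI : Algebra.FiniteType K (Γ(X, U) ⧸ P) := Algebra.FiniteType.trans (R := K) (S := Γ(X, U)) inferInstance inferInstance
  have h1 := height_add_dim_quotient K (Γ(X, U) ⧸ P) (D.map (Ideal.Quotient.mk P))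
  have hcp : ringKrullDim (Γ(X, U) ⧸ P) = a := by
    rw [← ha]
    have := cdim_eq_chart f (A := Γ(X, U)) hU.fromSpec (hU.primeIdealOf ⟨p, hpU⟩)
    erw [hU.fromSpec_primeIdealOf] at this
    exact this.symm
  have hcx : ringKrullDim ((Γ(X, U) ⧸ P) ⧸ D.map (Ideal.Quotient.mk P)) = b := by
    rw [← hb]
    have := cdim_eq_chart f (A := Γ(X, U)) hU.fromSpec (hU.primeIdealOf ⟨x, hxU⟩)
    erw [hU.fromSpec_primeIdealOf] at this
    rw [this]
    exact ringKrullDim_eq_of_ringEquiv (DoubleQuot.quotQuotEquivQuotOfLE hPD)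
  rw [hcp, hcx] at h1
  rw [h0]
  revert h1
  generalize (D.map (Ideal.Quotient.mk P)).height = t
  intro h1
  induction t using ENat.recTopCoe with
  | top =>
    have h' : (⊤ : ℕ∞) + (b : ℕ∞) = (a : ℕ∞) := WithBot.coe_injective h1
    simp at h'
  | coe t => exact ⟨t, rfl, by exact_mod_cast h1⟩

/-- Stalks of the kernel of a closed immersion. -/
theorem stalkIdeal_ker {Y : Scheme.{u}} (ι : Y ⟶ X) [IsClosedImmersion ι] (y : Y) :
    IntMult.stalkIdeal ι.ker (ι y) = RingHom.ker (ι.stalkMap y).hom := by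
  obtain ⟨U, hU, hxU, -⟩ := exists_isAffineOpen_mem_and_subset (X := X) (x := ι y) (U := ⊤) trivial
  haveI : IsClosedImmersion (ι ∣_ U) := IsZariskiLocalAtTarget.restrict ‹_› _
  rw [H29Ref.stalkIdeal_eq _ _ ⟨U, hU⟩ hxU, H17.ker_stalkMap_eq_map ι hU y hxU, Scheme.Hom.ker_apply]

/-- Coefficient of a subscheme cycle at a point with reduced local ring of dimension zero. -/
theorem subschemeFun_eq_one {Y : Scheme.{u}} (ι : Y ⟶ X) [IsClosedImmersion ι] (δ : X → ℤ) (r : ℤ) (y : Y)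
    (hr : δ (ι y) = r) (hmax : RingHom.ker (ι.stalkMap y).hom = IsLocalRing.maximalIdeal (X.presheaf.stalk (ι y))) :
    Cyc.subschemeFun δ r ι (ι y) = 1 := by
  have hset : {z : Y | ι z = ι y} = {y} := Set.ext fun z =>
    ⟨fun hz => ι.isEmbedding.injective hz, fun hz => by rw [Set.mem_singleton_iff.mp hz]; rfl⟩
  rw [Cyc.subschemeFun, if_pos hr, hset, finsum_mem_singleton]
  let e := (Ideal.quotEquivOfEq hmax.symm).trans
    (RingHom.quotientKerEquivOfSurjective (f := (ι.stalkMap y).hom) (ι.stalkMap_surjective y))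
  have hF : IsField (X.presheaf.stalk (ι y) ⧸ IsLocalRing.maximalIdeal (X.presheaf.stalk (ι y))) :=
    (Ideal.Quotient.maximal_ideal_iff_isField_quotient _).mp inferInstance
  haveI : IsSimpleModule (Y.presheaf.stalk y) (Y.presheaf.stalk y) :=
    (isSimpleModule_iff _ _).mpr (Ring.isField_iff_isSimpleOrder_ideal.mp (e.symm.toMulEquiv.isField hF))
  rw [Module.length_eq_one]
  rfl

theorem exists_of_subschemeFun_ne_zero {Y : Scheme.{u}} (ι : Y ⟶ X) (δ : X → ℤ) (r : ℤ) {x : X}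
    (h : Cyc.subschemeFun δ r ι x ≠ 0) : δ x = r ∧ ∃ y, ι y = x := by
  rw [Cyc.subschemeFun] at h
  split_ifs at h with hr
  · refine ⟨hr, ?_⟩
    by_contra hne
    push Not at hne
    refine h (finsum_mem_eq_zero_of_forall_eq_zero fun z hz => absurd hz (hne z))
  · exact absurd rfl h

theorem ker_eq_maximal_of_subschemeFun {Y : Scheme.{u}} (ι : Y ⟶ X) [IsClosedImmersion ι] (δ : X → ℤ) (r : ℤ)
    (y : Y) (h : Cyc.subschemeFun δ r ι (ι y) = 1) :
    RingHom.ker (ι.stalkMap y).hom = IsLocalRing.maximalIdeal (X.presheaf.stalk (ι y)) := by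
  have hset : {z : Y | ι z = ι y} = {y} := Set.ext fun z =>
    ⟨fun hz => ι.isEmbedding.injective hz, fun hz => by rw [Set.mem_singleton_iff.mp hz]; rfl⟩
  rw [Cyc.subschemeFun] at h
  split_ifs at h with hr
  · rw [hset, finsum_mem_singleton] at h
    have h1 : Module.length (Y.presheaf.stalk y) (Y.presheaf.stalk y) = 1 := by
      revert h
      generalize Module.length (Y.presheaf.stalk y) (Y.presheaf.stalk y) = t
      intro h
      induction t using ENat.recTopCoe with
      | top => simp at h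
      | coe t => have h' : t = 1 := by simpa using h
                 rw [h']; rfl
    have hF : IsField (Y.presheaf.stalk y) :=
      Ring.isField_iff_isSimpleOrder_ideal.mpr ((isSimpleModule_iff _ _).mp (Module.length_eq_one_iff.mp h1))
    refine IsLocalRing.eq_maximalIdeal (Ideal.Quotient.maximal_of_isField _ ?_)
    exact (RingHom.quotientKerEquivOfSurjective (f := (ι.stalkMap y).hom) (ι.stalkMap_surjective y)).toMulEquiv.isField hF
  · exact absurd h zero_ne_one

/-- The ideal of a scheme-theoretic intersection. -/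
theorem ker_inter_le {Y Z : Scheme.{u}} (ιY : Y ⟶ X) (ιZ : Z ⟶ X) [IsClosedImmersion ιY] [IsClosedImmersion ιZ] :
    (pullback.fst ιY ιZ ≫ ιY).ker ≤ ιY.ker ⊔ ιZ.ker := by
  generalize hK : ιY.ker ⊔ ιZ.ker = K
  have h1 : ιY.ker ≤ K.subschemeι.ker := by rw [Scheme.IdealSheafData.ker_subschemeι, ← hK]; exact le_sup_left
  have h2 : ιZ.ker ≤ K.subschemeι.ker := by rw [Scheme.IdealSheafData.ker_subschemeι, ← hK]; exact le_sup_right
  have hm : pullback.lift (IsClosedImmersion.lift ιY _ h1) (IsClosedImmersion.lift ιZ _ h2)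
      (by rw [IsClosedImmersion.lift_fac, IsClosedImmersion.lift_fac]) ≫ pullback.fst ιY ιZ ≫ ιY = K.subschemeι := by
    rw [pullback.lift_fst_assoc, IsClosedImmersion.lift_fac]
  conv_rhs => rw [← K.ker_subschemeι, ← hm]
  exact Scheme.Hom.le_ker_comp _ _

/-- Two ideals cutting out the closed point transversally in a regular local ring. -/
theorem eq_of_transversal {A : Type u} [CommRing A] [IsRegularLocalRing A] {I P Q : Ideal A} [P.IsPrime]
    {d a b : ℕ} (hd : ringKrullDim A = d) (ha : ringKrullDim (A ⧸ P) = a) (hb : ringKrullDim (A ⧸ Q) = b)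
    (hab : a + b = d) (hIP : I ≤ P) (hQ : Q ≠ ⊤) (hsup : I ⊔ Q = IsLocalRing.maximalIdeal A) :
    I = P ∧ IsRegularLocalRing (A ⧸ P) := by
  classical
  let V := IsLocalRing.CotangentSpace A
  let S : Set (IsLocalRing.maximalIdeal A) := {z | z.1 ∈ I ∨ z.1 ∈ Q}
  have hS : Submodule.span A S = ⊤ := by
    rw [eq_top_iff]
    rintro ⟨z, hz⟩ -
    obtain ⟨u, hu, v, hv, huv⟩ := Submodule.mem_sup.mp (hsup ▸ hz : z ∈ I ⊔ Q)
    have hu' : u ∈ IsLocalRing.maximalIdeal A := hsup ▸ Ideal.mem_sup_left hu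
    have hv' : v ∈ IsLocalRing.maximalIdeal A := hsup ▸ Ideal.mem_sup_right hv
    have he : (⟨z, hz⟩ : IsLocalRing.maximalIdeal A) = ⟨u, hu'⟩ + ⟨v, hv'⟩ := Subtype.ext huv.symm
    rw [he]
    exact Submodule.add_mem _ (Submodule.subset_span (Or.inl hu)) (Submodule.subset_span (Or.inr hv))
  have hV : Module.finrank (IsLocalRing.ResidueField A) V = d := by
    have h := (IsRegularLocalRing.iff_finrank_cotangentSpace A).mp inferInstance
    rw [hd] at h
    exact_mod_cast h
  obtain ⟨c, hct, hcs, hcli⟩ := exists_linearIndependent (IsLocalRing.ResidueField A)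
    ((IsLocalRing.maximalIdeal A).toCotangent '' S)
  have hctop : Submodule.span (IsLocalRing.ResidueField A) c = ⊤ :=
    hcs.trans (IsLocalRing.CotangentSpace.span_image_eq_top_iff.mpr hS)
  let e := Module.Basis.mk hcli (by rw [Subtype.range_coe_subtype, Set.setOf_mem_eq, hctop])
  let e' := (Module.finBasisOfFinrankEq (IsLocalRing.ResidueField A) V hV).indexEquiv e
  choose w hwS hw using fun l : Fin d => hct (e' l).2
  have hwtop : Submodule.span A (Set.range w) = ⊤ := by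
    rw [← IsLocalRing.CotangentSpace.span_image_eq_top_iff, eq_top_iff, ← hctop]
    refine Submodule.span_mono fun z hz => ?_
    exact ⟨w (e'.symm ⟨z, hz⟩), ⟨_, rfl⟩, by rw [hw, Equiv.apply_symm_apply]⟩
  let x : Fin d → A := fun l => (w l).1
  have hx : Ideal.span (Set.range x) = IsLocalRing.maximalIdeal A := by
    have h := congrArg (Submodule.map (IsLocalRing.maximalIdeal A).subtype) hwtop
    rw [Submodule.map_span, Submodule.map_top, Submodule.range_subtype, ← Set.range_comp] at h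
    exact h
  let s : Finset (Fin d) := Finset.univ.filter fun l => x l ∈ I
  have hne : ∀ J : Ideal A, J ≤ IsLocalRing.maximalIdeal A →
      ∀ t : Finset (Fin d), (∀ l ∉ t, x l ∈ J) → ringKrullDim (A ⧸ J) ≤ t.card := by
    intro J hJ t ht
    have hJne : J ≠ ⊤ := ne_top_of_le_ne_top (IsLocalRing.maximalIdeal.isMaximal A).ne_top hJ
    haveI : Nontrivial (A ⧸ J) := Ideal.Quotient.nontrivial_iff.mpr hJne
    haveI : IsLocalRing (A ⧸ J) := .of_surjective' (Ideal.Quotient.mk J) Ideal.Quotient.mk_surjective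
    refine (ringKrullDim_le_spanFinrank_maximalIdeal (A ⧸ J)).trans ?_
    refine Nat.cast_le.mpr (H4Depth.spanFinrank_maximalIdeal_le_of_span (Ideal.Quotient.mk J ∘ x) t ?_)
    rw [← IsLocalRing.map_maximalIdeal_of_surjective _ (Ideal.Quotient.mk_surjective (I := J)), ← hx,
      Ideal.map_span, ← Set.range_comp]
    refine le_antisymm (Ideal.span_le.mpr ?_) (Ideal.span_mono (Set.image_subset_range _ _))
    rintro _ ⟨l, rfl⟩
    by_cases hl : l ∈ t
    · exact Ideal.subset_span (Set.mem_image_of_mem _ hl)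
    · rw [SetLike.mem_coe, Function.comp_apply, Ideal.Quotient.eq_zero_iff_mem.mpr (ht l hl)]
      exact zero_mem _
  have hsb : b ≤ s.card := by
    have h := hne Q (le_sup_right.trans hsup.le) s fun l hl => (hwS l).resolve_left (fun hI => hl (by simp [s, x, hI]))
    rw [hb] at h
    exact_mod_cast h
  have hsa : a ≤ d - s.card := by
    have h := hne P (IsLocalRing.le_maximalIdeal (Ideal.IsPrime.ne_top ‹_›)) sᶜ fun l hl => hIP (by simpa [s] using hl)
    rw [ha, Finset.card_compl, Fintype.card_fin] at h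
    exact_mod_cast h
  have hsd : s.card ≤ d := (Finset.card_le_univ s).trans_eq (Fintype.card_fin d)
  obtain ⟨hreg, hdim⟩ := H4Depth.exists_regular_quotient_of_subset d hd x hx s
  have hJI : Ideal.span (x '' s) ≤ I := Ideal.span_le.mpr (by
    rintro _ ⟨l, hl, rfl⟩
    simpa [s] using hl)
  have hda : d - s.card = a := by omega
  rw [hda] at hdim
  haveI := hreg
  haveI := H4Depth.isDomain_of_isRegularLocalRing (A ⧸ Ideal.span (x '' s))
  have hJP : Ideal.span (x '' s) = P := by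
    refine le_antisymm (hJI.trans hIP) fun z hz => ?_
    by_contra hzJ
    have hz0 : Ideal.Quotient.mk (Ideal.span (x '' s)) z ≠ 0 := fun h => hzJ (Ideal.Quotient.eq_zero_iff_mem.mp h)
    have h1 := ringKrullDim_quotient_succ_le_of_nonZeroDivisor (mem_nonZeroDivisors_of_ne_zero hz0)
    have h2 : ringKrullDim (A ⧸ P) ≤ ringKrullDim ((A ⧸ Ideal.span (x '' s)) ⧸
        Ideal.span {Ideal.Quotient.mk (Ideal.span (x '' s)) z}) := by
      refine ringKrullDim_le_of_surjective (Ideal.Quotient.lift _ (Ideal.Quotient.factor (hJI.trans hIP)) ?_) ?_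
      · intro u hu
        obtain ⟨v, rfl⟩ := Ideal.mem_span_singleton.mp hu
        rw [map_mul, Ideal.Quotient.factor_mk, Ideal.Quotient.eq_zero_iff_mem.mpr hz, zero_mul]
      · exact Ideal.Quotient.lift_surjective_of_surjective _ _ (Ideal.Quotient.factor_surjective _)
    have h3 : ringKrullDim (A ⧸ P) + 1 ≤ ringKrullDim (A ⧸ P) := by
      calc ringKrullDim (A ⧸ P) + 1 ≤ _ + 1 := by gcongr
        _ ≤ ringKrullDim (A ⧸ Ideal.span (x '' s)) := h1
        _ = ringKrullDim (A ⧸ P) := by rw [hdim, ha]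
    rw [ha] at h3
    have h4 : a + 1 ≤ a := by exact_mod_cast h3
    omega
  refine ⟨le_antisymm hIP (hJP ▸ hJI), ?_⟩
  subst hJP
  exact hreg

end Groth.Agent.H3CAlg.IntPt
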