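import Groth.Agent.H3CAlg.ChiDev
import Groth.Agent.H3CAlg.IntPt
import Groth.Agent.H22Alg.CohSupport
import Groth.Agent.H05EGA4.Equidim
import Mathlib

/-!
# Localizations of stalks of coherent modules at generizations
-/

set_option autoImplicit false
set_option linter.style.haveILetI false
universe u

open CategoryTheory AlgebraicGeometry

namespace Groth.Agent.H3CAlg.ChiStalk

/-- A module over `A = R_D`, localized at `P`, is the localization of a module over `R`. -/
theorem length_loc_eq {R A C : Type u} [CommRing R] [CommRing A] [CommRing C] [Algebra R A] [Algebra R C]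
    (D q : Ideal R) [D.IsPrime] [q.IsPrime] [IsLocalization.AtPrime A D] [IsLocalization.AtPrime C q]
    {M₀ : Type u} [AddCommGroup M₀] [Module R M₀]
    {MA : Type u} [AddCommGroup MA] [Module R MA] [Module A MA] [IsScalarTower R A MA]
    {MC : Type u} [AddCommGroup MC] [Module R MC] [Module C MC] [IsScalarTower R C MC]
    (fA : M₀ →ₗ[R] MA) [IsLocalizedModule D.primeCompl fA]
    (fC : M₀ →ₗ[R] MC) [IsLocalizedModule q.primeCompl fC]
    (P : PrimeSpectrum A) (hP : P.asIdeal.comap (algebraMap R A) = q) :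
    Module.length (Localization.AtPrime P.asIdeal) (LocalizedModule P.asIdeal.primeCompl MA) =
      Module.length C MC := by
  have h2 := IsLocalization.isLocalization_isLocalization_atPrime_isLocalization
    (T := Localization.AtPrime P.asIdeal) D.primeCompl P.asIdeal
  haveI hB : IsLocalization.AtPrime (Localization.AtPrime P.asIdeal) q := by
    convert h2 using 3
    exact hP.symm
  let g : MA →ₗ[A] LocalizedModule P.asIdeal.primeCompl MA := LocalizedModule.mkLinearMap _ _
  have hcomp : IsBaseChange (Localization.AtPrime P.asIdeal) ((g.restrictScalars R).comp fA) :=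
    (IsLocalizedModule.isBaseChange D.primeCompl A fA).comp
      (IsLocalizedModule.isBaseChange P.asIdeal.primeCompl (Localization.AtPrime P.asIdeal) g)
  haveI : IsLocalizedModule q.primeCompl ((g.restrictScalars R).comp fA) :=
    (isLocalizedModule_iff_isBaseChange q.primeCompl (Localization.AtPrime P.asIdeal) _).mpr hcomp
  let e : LocalizedModule P.asIdeal.primeCompl MA ≃ₗ[R] MC :=
    IsLocalizedModule.linearEquiv q.primeCompl ((g.restrictScalars R).comp fA) fC
  let φ : C ≃ₐ[R] Localization.AtPrime P.asIdeal :=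
    IsLocalization.algEquiv q.primeCompl C (Localization.AtPrime P.asIdeal)
  letI : Algebra C (Localization.AtPrime P.asIdeal) := φ.toRingHom.toAlgebra
  letI : Module C (LocalizedModule P.asIdeal.primeCompl MA) := Module.compHom _ φ.toRingHom
  haveI : IsScalarTower C (Localization.AtPrime P.asIdeal) (LocalizedModule P.asIdeal.primeCompl MA) :=
    IsScalarTower.of_algebraMap_smul fun _ _ => rfl
  haveI : IsScalarTower R C (LocalizedModule P.asIdeal.primeCompl MA) :=
    IsScalarTower.of_algebraMap_smul fun r x => by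
      show φ (algebraMap R C r) • x = r • x
      rw [φ.commutes, algebraMap_smul]
  rw [← (LinearEquiv.extendScalarsOfIsLocalization q.primeCompl C e).length_eq,
    Module.length_eq_of_surjective (S := C) (R := Localization.AtPrime P.asIdeal) φ.surjective]

theorem supportDim_le_of_forall {A : Type u} [CommRing A] {M : Type u} [AddCommGroup M] [Module A M]
    [Module.Finite A M] {d : WithBot ℕ∞}
    (h : ∀ p ∈ Module.support A M, ringKrullDim (A ⧸ p.asIdeal) ≤ d) : Module.supportDim A M ≤ d := by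
  rw [Module.supportDim_eq_ringKrullDim_quotient_annihilator]
  refine H05EGA4.ringKrullDim_quotient_le_of_minimalPrimes _ fun P hP => h ⟨P, hP.1.1⟩ ?_
  rw [Module.mem_support_iff_of_finite]
  exact hP.1.2

variable {X : Scheme.{u}}

theorem exists_generization {x : X} (P : PrimeSpectrum (X.presheaf.stalk x)) :
    ∃ v : X, v ⤳ x ∧ IntMult.stalkIdeal (IntMult.ptIdeal v) x = P.asIdeal := by
  obtain ⟨U, hU, hxU, -⟩ := exists_isAffineOpen_mem_and_subset (X := X) (x := x) (U := ⊤) trivial
  letI : Algebra Γ(X, U) (X.presheaf.stalk x) := (X.presheaf.germ U x hxU).hom.toAlgebra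
  haveI : IsLocalization.AtPrime (X.presheaf.stalk x) (hU.primeIdealOf ⟨x, hxU⟩).asIdeal :=
    hU.isLocalization_stalk ⟨x, hxU⟩
  let q : PrimeSpectrum Γ(X, U) := PrimeSpectrum.comap (algebraMap Γ(X, U) (X.presheaf.stalk x)) P
  have hqU : hU.fromSpec q ∈ U := by
    rw [← SetLike.mem_coe, ← hU.range_fromSpec]
    exact ⟨q, rfl⟩
  have hpy : hU.primeIdealOf ⟨hU.fromSpec q, hqU⟩ = q :=
    hU.fromSpec.isOpenEmbedding.injective (hU.fromSpec_primeIdealOf _)
  have hle : q ≤ hU.primeIdealOf ⟨x, hxU⟩ := by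
    intro a ha
    by_contra hna
    exact P.2.ne_top (Ideal.eq_top_of_isUnit_mem _ ha (IsLocalization.map_units (X.presheaf.stalk x)
      (⟨a, hna⟩ : (hU.primeIdealOf ⟨x, hxU⟩).asIdeal.primeCompl)))
  have hsp : hU.fromSpec q ⤳ x := by
    have := ((PrimeSpectrum.le_iff_specializes _ _).mp hle).map hU.fromSpec.continuous
    rwa [hU.fromSpec_primeIdealOf] at this
  refine ⟨_, hsp, ?_⟩
  rw [H29Ref.stalkIdeal_eq _ x ⟨U, hU⟩ hxU, IntPt.ideal_ptIdeal _ ⟨U, hU⟩ hqU, hpy]
  exact IsLocalization.map_comap (hU.primeIdealOf ⟨x, hxU⟩).asIdeal.primeCompl (X.presheaf.stalk x) P.asIdeal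

theorem finite_stalk [IsLocallyNoetherian X] (F : X.Modules) (hF : Coh.IsCoh F) (x : X) :
    Module.Finite (X.presheaf.stalk x) (F.presheaf.stalk x) := by
  obtain ⟨U, hU, hxU, -⟩ := exists_isAffineOpen_mem_and_subset (X := X) (x := x) (U := ⊤) trivial
  haveI : F.IsQuasicoherent := hF.1
  haveI : Module.Finite Γ(X, U) Γ(F, U) := Groth.Agent.H10Coh.finite_sections F hF.2 hU
  letI := TopCat.Presheaf.algebra_section_stalk X.presheaf (⟨x, hxU⟩ : U)
  letI := Module.compHom (F.presheaf.stalk x) (algebraMap Γ(X, U) (X.presheaf.stalk x))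
  haveI : IsScalarTower Γ(X, U) (X.presheaf.stalk x) (F.presheaf.stalk x) :=
    IsScalarTower.of_algebraMap_smul fun _ _ => rfl
  haveI := Groth.Agent.H29Fitt.isLocalizedModule_germLin F hF.1 hU (⟨x, hxU⟩ : U)
  haveI := hU.isLocalization_stalk ⟨x, hxU⟩
  exact Module.Finite.of_isLocalizedModule (hU.primeIdealOf ⟨x, hxU⟩).asIdeal.primeCompl
    (Groth.Agent.H29Fitt.germLin F (⟨x, hxU⟩ : U))

theorem length_localized_stalk (F : X.Modules) (hF : Coh.IsQCoh F) {v x : X} (h : v ⤳ x)
    (P : PrimeSpectrum (X.presheaf.stalk x)) (hP : IntMult.stalkIdeal (IntMult.ptIdeal v) x = P.asIdeal) :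
    Module.length (Localization.AtPrime P.asIdeal) (LocalizedModule P.asIdeal.primeCompl (F.presheaf.stalk x)) =
      Module.length (X.presheaf.stalk v) (F.presheaf.stalk v) := by
  obtain ⟨U, hU, hxU, -⟩ := exists_isAffineOpen_mem_and_subset (X := X) (x := x) (U := ⊤) trivial
  have hvU := h.mem_open U.2 hxU
  letI := TopCat.Presheaf.algebra_section_stalk X.presheaf (⟨x, hxU⟩ : U)
  letI := TopCat.Presheaf.algebra_section_stalk X.presheaf (⟨v, hvU⟩ : U)
  haveI := hU.isLocalization_stalk ⟨x, hxU⟩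
  haveI := hU.isLocalization_stalk ⟨v, hvU⟩
  letI := Module.compHom (F.presheaf.stalk x) (algebraMap Γ(X, U) (X.presheaf.stalk x))
  letI := Module.compHom (F.presheaf.stalk v) (algebraMap Γ(X, U) (X.presheaf.stalk v))
  haveI : IsScalarTower Γ(X, U) (X.presheaf.stalk x) (F.presheaf.stalk x) :=
    IsScalarTower.of_algebraMap_smul fun _ _ => rfl
  haveI : IsScalarTower Γ(X, U) (X.presheaf.stalk v) (F.presheaf.stalk v) :=
    IsScalarTower.of_algebraMap_smul fun _ _ => rfl
  haveI := Groth.Agent.H29Fitt.isLocalizedModule_germLin F hF hU (⟨x, hxU⟩ : U)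
  haveI := Groth.Agent.H29Fitt.isLocalizedModule_germLin F hF hU (⟨v, hvU⟩ : U)
  refine length_loc_eq (hU.primeIdealOf ⟨x, hxU⟩).asIdeal (hU.primeIdealOf ⟨v, hvU⟩).asIdeal
    (Groth.Agent.H29Fitt.germLin F (⟨x, hxU⟩ : U)) (Groth.Agent.H29Fitt.germLin F (⟨v, hvU⟩ : U)) P ?_
  rw [← hP, H29Ref.stalkIdeal_eq _ x ⟨U, hU⟩ hxU, IntPt.ideal_ptIdeal v ⟨U, hU⟩ hvU]
  exact IsLocalization.comap_map_of_isPrime_disjoint (hU.primeIdealOf ⟨x, hxU⟩).asIdeal.primeCompl (X.presheaf.stalk x)
    (hU.primeIdealOf ⟨v, hvU⟩).2 (Set.disjoint_left.mpr fun a ha ha' => ha (IntPt.primeIdealOf_le hU h hvU hxU ha'))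

theorem mem_support_stalk [IsLocallyNoetherian X] (F : X.Modules) (hF : Coh.IsCoh F) {v x : X} (h : v ⤳ x)
    (P : PrimeSpectrum (X.presheaf.stalk x)) (hP : IntMult.stalkIdeal (IntMult.ptIdeal v) x = P.asIdeal)
    (hPs : P ∈ Module.support (X.presheaf.stalk x) (F.presheaf.stalk x)) :
    Nontrivial (F.presheaf.stalk v) := by
  haveI : Nontrivial (LocalizedModule P.asIdeal.primeCompl (F.presheaf.stalk x)) := Module.mem_support_iff.mp hPs
  by_contra hn
  rw [not_nontrivial_iff_subsingleton] at hn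
  have := length_localized_stalk F hF.1 h P hP
  rw [Module.length_eq_zero (R := X.presheaf.stalk v) (M := F.presheaf.stalk v)] at this
  exact (not_subsingleton _) (Module.length_eq_zero_iff.mp this)

end Groth.Agent.H3CAlg.ChiStalk
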