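import Groth.Agent.H17.UnibranchNormalization
import Mathlib.AlgebraicGeometry.Morphisms.UniversallyInjective
import Mathlib.FieldTheory.PurelyInseparable.Basic
import Mathlib.RingTheory.LocalRing.ResidueField.Basic

/-! Geometrically unibranch domains and universal injectivity of normalization. -/

set_option autoImplicit false
set_option maxHeartbeats 1000000
universe u

open CategoryTheory AlgebraicGeometry

namespace Groth.Agent.H3CAlg.UnibranchInj

theorem universallyInjective_iff {A B : Type u} [CommRing A] [CommRing B] (f : A →+* B) :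
    UniversallyInjective (Spec.map (CommRingCat.ofHom f)) ↔
      ∀ (L : Type u) [Field L] (φ₁ φ₂ : B →+* L), φ₁.comp f = φ₂.comp f → φ₁ = φ₂ := by
  refine ((tfae_universallyInjective (Spec.map (CommRingCat.ofHom f))).out 0 1).trans ?_
  constructor
  · intro h L _ φ₁ φ₂ e
    have := h L (a₁ := Spec.map (CommRingCat.ofHom φ₁)) (a₂ := Spec.map (CommRingCat.ofHom φ₂)) (by
      show Spec.map _ ≫ Spec.map _ = Spec.map _ ≫ Spec.map _
      rw [← Spec.map_comp, ← Spec.map_comp, ← CommRingCat.ofHom_comp, ← CommRingCat.ofHom_comp, e])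
    exact congr_arg CommRingCat.Hom.hom (Spec.map_injective this)
  · intro h L _ g₁ g₂ e
    obtain ⟨ψ₁, rfl⟩ := Spec.map_surjective g₁
    obtain ⟨ψ₂, rfl⟩ := Spec.map_surjective g₂
    simp only [← Spec.map_comp] at e
    have e' := congr_arg CommRingCat.Hom.hom (Spec.map_injective e)
    rw [CommRingCat.hom_comp, CommRingCat.hom_comp] at e'
    rw [show ψ₁ = ψ₂ from CommRingCat.hom_ext (h L _ _ e')]

theorem isHomeomorph_comap {A B : Type u} [CommRing A] [CommRing B] (f : A →+* B) (hf : f.IsIntegral)
    (hinj : Function.Injective f) (h : UniversallyInjective (Spec.map (CommRingCat.ofHom f))) :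
    IsHomeomorph (PrimeSpectrum.comap f) := by
  have hinj' : Function.Injective (PrimeSpectrum.comap f) :=
    (inferInstance : UniversallyInjective (Spec.map (CommRingCat.ofHom f))).universally_injective
      _ _ _ IsPullback.of_id_snd
  have hsurj : Function.Surjective (PrimeSpectrum.comap f) := fun q => by
    letI := f.toAlgebra
    haveI : Algebra.IsIntegral A B := ⟨hf⟩
    obtain ⟨Q, -, hQ, hQq⟩ := Ideal.exists_ideal_over_prime_of_isIntegral q.asIdeal (⊥ : Ideal B)
      (le_of_eq_of_le (by rw [← RingHom.ker_eq_comap_bot]; exact (RingHom.injective_iff_ker_eq_bot _).1 hinj) bot_le)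
    exact ⟨⟨Q, hQ⟩, PrimeSpectrum.ext hQq⟩
  let e := Equiv.ofBijective _ ⟨hinj', hsurj⟩
  exact (Homeomorph.mk e (PrimeSpectrum.continuous_comap f) (by
    rw [continuous_iff_isClosed]
    intro s hs
    show IsClosed (e.symm ⁻¹' s)
    rw [← e.image_eq_preimage_symm]
    exact PrimeSpectrum.isClosedMap_comap_of_isIntegral f hf s hs)).isHomeomorph

variable {A : Type u} [CommRing A] [IsDomain A]

theorem equiv_closure (p : Ideal A) [p.IsPrime] (R : Type u) [CommRing R] [IsDomain R] [Algebra A R]
    [IsLocalization.AtPrime R p] :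
    Nonempty (integralClosure A (FractionRing A) ≃ₐ[A] integralClosure A (FractionRing R)) := by
  have hinjR : Function.Injective (algebraMap A R) :=
    IsLocalization.injective R p.primeCompl_le_nonZeroDivisors
  haveI : FaithfulSMul A (FractionRing R) := (faithfulSMul_iff_algebraMap_injective _ _).2 (by
    rw [IsScalarTower.algebraMap_eq A R (FractionRing R)]
    exact (IsFractionRing.injective R _).comp hinjR)
  haveI : IsFractionRing A (FractionRing R) := IsFractionRing.of_field A _ fun z => by
    obtain ⟨r, r', -, rfl⟩ := IsFractionRing.div_surjective (A := R) z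
    obtain ⟨a, s, rfl⟩ := IsLocalization.exists_mk'_eq p.primeCompl r
    obtain ⟨a', s', rfl⟩ := IsLocalization.exists_mk'_eq p.primeCompl r'
    have h : ∀ (c : A) (t : p.primeCompl), algebraMap R (FractionRing R) (IsLocalization.mk' R c t) =
        algebraMap A (FractionRing R) c / algebraMap A (FractionRing R) t := fun c t => by
      rw [eq_div_iff ((map_ne_zero_iff _ (FaithfulSMul.algebraMap_injective A (FractionRing R))).2
          (show (t : A) ≠ 0 from fun h0 => t.2 (show (t : A) ∈ p by rw [h0]; exact p.zero_mem))),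
        IsScalarTower.algebraMap_apply A R (FractionRing R) (t : A),
        ← map_mul, IsLocalization.mk'_spec, ← IsScalarTower.algebraMap_apply]
    exact ⟨a * s', s * a', by rw [h, h, map_mul, map_mul, div_div_div_eq]⟩
  exact ⟨(IsLocalization.algEquiv (nonZeroDivisors A) (FractionRing A) (FractionRing R)).mapIntegralClosure⟩

theorem local_and_insep {R C : Type u} [CommRing R] [IsLocalRing R] [CommRing C] [Nontrivial C]
    [Algebra R C] [Algebra.IsIntegral R C]
    (key : ∀ (L : Type u) [Field L] (ψ₁ ψ₂ : C →+* L),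
      ψ₁.comp (algebraMap R C) = ψ₂.comp (algebraMap R C) → ψ₁ = ψ₂) :
    IsLocalRing C ∧ ∀ (m' : Ideal C) [m'.IsMaximal] (x : C ⧸ m'),
      ∃ (n : ℕ) (r : R), Ideal.Quotient.mk m' (algebraMap R C r) = x ^ (ringExpChar (C ⧸ m')) ^ n := by
  have hc : ∀ (N : Ideal C) [N.IsMaximal], N.comap (algebraMap R C) = IsLocalRing.maximalIdeal R :=
    fun N _ => IsLocalRing.eq_maximalIdeal (Ideal.isMaximal_comap_of_isIntegral_of_isMaximal N)
  let Ω := AlgebraicClosure (IsLocalRing.ResidueField R)
  refine ⟨?_, fun m' hm' x => ?_⟩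
  · obtain ⟨M, hM⟩ := Ideal.exists_maximal C
    refine IsLocalRing.of_unique_max_ideal ⟨M, hM, fun M' hM' => ?_⟩
    haveI := hM
    haveI : M'.IsMaximal := hM'
    have hex : ∀ (N : Ideal C) [N.IsMaximal], ∃ ψ : C →+* Ω, RingHom.ker ψ = N ∧
        ψ.comp (algebraMap R C) =
          (algebraMap (IsLocalRing.ResidueField R) Ω).comp (IsLocalRing.residue R) := by
      intro N _
      letI := Ideal.Quotient.field N
      let f : IsLocalRing.ResidueField R →+* C ⧸ N :=
        Ideal.quotientMap N (algebraMap R C) (hc N).ge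
      letI := f.toAlgebra
      haveI : Algebra.IsAlgebraic (IsLocalRing.ResidueField R) (C ⧸ N) := by
        refine ⟨fun x => ?_⟩
        obtain ⟨x, rfl⟩ := Ideal.Quotient.mk_surjective x
        obtain ⟨q, hq, hq0⟩ := Algebra.IsIntegral.isIntegral (R := R) x
        refine IsIntegral.isAlgebraic ⟨q.map (IsLocalRing.residue R), hq.map _, ?_⟩
        rw [Polynomial.eval₂_map]
        have := congr_arg (Ideal.Quotient.mk N) hq0
        rw [Polynomial.hom_eval₂, map_zero] at this
        exact this
      let σ : (C ⧸ N) →ₐ[IsLocalRing.ResidueField R] Ω := IsAlgClosed.lift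
      refine ⟨σ.toRingHom.comp (Ideal.Quotient.mk N), ?_, RingHom.ext fun r => ?_⟩
      · rw [← RingHom.comap_ker, (RingHom.injective_iff_ker_eq_bot _).1 σ.toRingHom.injective,
          ← RingHom.ker_eq_comap_bot, Ideal.mk_ker]
      · show σ (Ideal.Quotient.mk N (algebraMap R C r)) = algebraMap _ Ω (IsLocalRing.residue R r)
        rw [← AlgHom.commutes σ]; rfl
    obtain ⟨ψ, hψ, hψe⟩ := hex M
    obtain ⟨ψ', hψ', hψe'⟩ := hex M'
    rw [← hψ, ← hψ', key Ω ψ' ψ (hψe'.trans hψe.symm)]
  · haveI := hm'
    letI := Ideal.Quotient.field m'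
    let f : IsLocalRing.ResidueField R →+* C ⧸ m' := Ideal.quotientMap m' (algebraMap R C) (hc m').ge
    letI := f.toAlgebra
    haveI : IsPurelyInseparable (IsLocalRing.ResidueField R) (C ⧸ m') := by
      rw [isPurelyInseparable_iff_subsingleton_emb]
      refine ⟨fun σ τ => AlgHom.coe_ringHom_injective ?_⟩
      have h1 := key _ ((σ : C ⧸ m' →+* _).comp (Ideal.Quotient.mk m'))
        ((τ : C ⧸ m' →+* _).comp (Ideal.Quotient.mk m')) (RingHom.ext fun r => by
          show σ (algebraMap (IsLocalRing.ResidueField R) (C ⧸ m') (IsLocalRing.residue R r)) =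
            τ (algebraMap (IsLocalRing.ResidueField R) (C ⧸ m') (IsLocalRing.residue R r))
          rw [σ.commutes, τ.commutes])
      exact Ideal.Quotient.ringHom_ext h1
    set q := ringExpChar (C ⧸ m') with hq
    haveI : ExpChar (C ⧸ m') q := ringExpChar.of_eq hq.symm
    haveI : ExpChar (IsLocalRing.ResidueField R) q := (f.expChar_iff f.injective q).2 inferInstance
    obtain ⟨n, y, hy⟩ := IsPurelyInseparable.pow_mem (IsLocalRing.ResidueField R) q x
    obtain ⟨r, rfl⟩ := IsLocalRing.residue_surjective y
    exact ⟨n, r, hy⟩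

theorem local_pieces (p : Ideal A) [p.IsPrime] :
    ∃ (_ : IsLocalization.AtPrime (CAlg2.red (Localization.AtPrime p)) p)
      (_ : IsDomain (CAlg2.red (Localization.AtPrime p))),
      Nonempty (integralClosure A (FractionRing A) ≃ₐ[A]
        integralClosure A (FractionRing (CAlg2.red (Localization.AtPrime p)))) := by
  let O := Localization.AtPrime p
  haveI : IsDomain O := IsLocalization.isDomain_of_le_nonZeroDivisors _ p.primeCompl_le_nonZeroDivisors
  let R := CAlg2.red O
  have hnil : nilradical O = ⊥ := nilradical_eq_zero O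
  let eR : O ≃ₐ[A] R := AlgEquiv.ofBijective (Ideal.Quotient.mkₐ A (nilradical O))
    ⟨fun s t h => by
      have h' : s - t ∈ nilradical O := Ideal.Quotient.eq.1 h
      rw [hnil] at h'
      exact sub_eq_zero.1 h', Ideal.Quotient.mk_surjective⟩
  haveI hR : IsLocalization.AtPrime R p := IsLocalization.isLocalization_of_algEquiv p.primeCompl eR
  haveI hdom : IsDomain R := eR.toRingEquiv.symm.isDomain_iff.2 inferInstance
  exact ⟨hR, hdom, equiv_closure p R⟩

theorem result :
    UniversallyInjective (Spec.map (CommRingCat.ofHom (algebraMap A (integralClosure A (FractionRing A))))) ↔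
      ∀ (p : Ideal A) [p.IsPrime], CAlg2.IsGeomUnibranch (Localization.AtPrime p) := by
  rw [universallyInjective_iff]
  constructor
  · intro h p _
    obtain ⟨hR, hdom, ⟨e⟩⟩ := local_pieces p
    let R := CAlg2.red (Localization.AtPrime p)
    let K := FractionRing R
    haveI : IsLocalRing R := .of_surjective' (Ideal.Quotient.mk _) Ideal.Quotient.mk_surjective
    let C := integralClosure R K
    let ι : integralClosure A K →+* C :=
      (integralClosure A K).val.toRingHom.codRestrict C.toSubring fun b => b.2.tower_top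
    have hι : ∀ a, ι (algebraMap A _ a) = algebraMap R C (algebraMap A R a) := fun a =>
      Subtype.ext (IsScalarTower.algebraMap_apply A R K a)
    have hden : ∀ c : C, ∃ t : p.primeCompl, ∃ b, ι b = algebraMap R C (algebraMap A R t) * c := fun c => by
      obtain ⟨t, ht⟩ := IsIntegral.exists_multiple_integral_of_isLocalization p.primeCompl (c : K) c.2
      exact ⟨t, ⟨_, ht⟩, Subtype.ext (by
        show (t : p.primeCompl) • (c : K) = algebraMap R K (algebraMap A R t) * c
        rw [Submonoid.smul_def, Algebra.smul_def, IsScalarTower.algebraMap_apply A R K])⟩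
    -- homs out of `C` agreeing on `A` are equal
    have key : ∀ (L : Type u) [Field L] (ψ₁ ψ₂ : C →+* L),
        ψ₁.comp (algebraMap R C) = ψ₂.comp (algebraMap R C) → ψ₁ = ψ₂ := by
      intro L _ ψ₁ ψ₂ e'
      have hA : ∀ a, ψ₁ (algebraMap R C (algebraMap A R a)) = ψ₂ (algebraMap R C (algebraMap A R a)) :=
        fun a => RingHom.congr_fun e' _
      have h2 := h L ((ψ₁.comp ι).comp e.toAlgHom.toRingHom) ((ψ₂.comp ι).comp e.toAlgHom.toRingHom)
        (RingHom.ext fun a => by
          show ψ₁ (ι (e (algebraMap A _ a))) = ψ₂ (ι (e (algebraMap A _ a)))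
          rw [AlgEquiv.commutes, hι, hA])
      ext c
      obtain ⟨t, b, hb⟩ := hden c
      obtain ⟨b', rfl⟩ := e.surjective b
      have h3 : ψ₁ (ι (e b')) = ψ₂ (ι (e b')) := RingHom.congr_fun h2 b'
      rw [hb, map_mul, map_mul, hA] at h3
      exact mul_left_cancel₀ (((IsLocalization.map_units R t).map (algebraMap R C)).map ψ₂).ne_zero h3
    obtain ⟨hloc, hins⟩ := local_and_insep key
    refine ⟨⟨hdom, hloc⟩, fun m' hm' x => ?_⟩
    haveI := hm'
    obtain ⟨n, r, hr⟩ := hins m' x
    obtain ⟨o, rfl⟩ := Ideal.Quotient.mk_surjective r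
    exact ⟨n, o, hr⟩
  · intro h L _ φ₁ φ₂ e
    let φ := φ₁.comp (algebraMap A (integralClosure A (FractionRing A)))
    let p := RingHom.ker φ
    haveI : p.IsPrime := RingHom.ker_isPrime _
    obtain ⟨hR, hdom, ⟨Θ⟩⟩ := local_pieces p
    let R := CAlg2.red (Localization.AtPrime p)
    let K := FractionRing R
    haveI : IsLocalRing R := .of_surjective' (Ideal.Quotient.mk _) Ideal.Quotient.mk_surjective
    obtain ⟨⟨-, hloc⟩, hres⟩ := h p
    haveI : IsLocalRing (integralClosure R K) := hloc
    have key := H17.UnibranchNormalization.eq_of_points (R := R) (K := K) p (fun z => by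
      obtain ⟨n, r, hr⟩ := hres (IsLocalRing.maximalIdeal (integralClosure R K)) z
      exact ⟨n, Ideal.Quotient.mk _ r, hr⟩)
      (φ₁.comp Θ.symm.toAlgHom.toRingHom) (φ₂.comp Θ.symm.toAlgHom.toRingHom) φ
      (RingHom.ext fun c => congr_arg φ₁ (Θ.symm.commutes c))
      (RingHom.ext fun c => (congr_arg φ₂ (Θ.symm.commutes c)).trans (RingHom.congr_fun e c).symm) rfl
    ext c
    obtain ⟨c, rfl⟩ := Θ.symm.surjective c
    exact RingHom.congr_fun key c

end Groth.Agent.H3CAlg.UnibranchInj
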