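import Groth.Agent.H06EGA14.ValuationDim
import Groth.Agent.H7Flat.ValFibre
import Groth.Agent.H7Flat.FibreDim

/-!
Equidimensionality of fibres of irreducible schemes of finite type over Prüfer domains.
-/

universe u

open CategoryTheory CategoryTheory.Limits AlgebraicGeometry TopologicalSpace Topology

namespace Groth.Agent.H3CAlg.PruferFibreDim

open Groth.Agent.H8Props.FieldDim

theorem cdim_asFiber_fiberι {X Y : Scheme.{u}} (f : X ⟶ Y) (y : Y) (u : f.fiber y) :
    cdim (f.asFiber (f.fiberι y u)) = cdim u := by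
  have key : ∀ (y' : Y) (w : f.fiber y') (x : X), f.fiberι y' w = x → cdim (f.asFiber x) = cdim w := by
    intro y' w x hx
    have hy : f x = y' := by rw [← hx]; exact (f.range_fiberι y').subset (Set.mem_range_self w)
    subst hy
    have : w = f.asFiber x := (f.fiberι (f x)).isEmbedding.injective (hx.trans (Scheme.Hom.fiberι_asFiber f x).symm)
    rw [this]
  exact key y u _ rfl

theorem cdim_mono {Z : Type*} [TopologicalSpace Z] {a b : Z} (h : a ⤳ b) : cdim b ≤ cdim a :=
  dim_mono (closure_minimal (Set.singleton_subset_iff.mpr h.mem_closure) isClosed_closure)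

theorem dim_fiber_le_cdim {X Y : Scheme.{u}} (f : X ⟶ Y) (η : X) (hη : ∀ x, f x = f η → η ⤳ x) :
    topologicalKrullDim (f.fiber (f η)) ≤ cdim (f.asFiber η) := by
  rw [dim_eq_iSup_cdim]
  refine iSup_le fun u => cdim_mono ?_
  rw [← (f.fiberι (f η)).isEmbedding.isInducing.specializes_iff, Scheme.Hom.fiberι_asFiber]
  exact hη _ ((f.range_fiberι _).subset (Set.mem_range_self u))

theorem fibreDimAt_le_dim {X Y : Scheme.{u}} (f : X ⟶ Y) (x : X) :
    FlatMor.fibreDimAt f x ≤ topologicalKrullDim (f.fiber (f x)) := by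
  refine (iInf_le _ ⟨⊤, trivial⟩).trans ?_
  refine le_of_eq ?_
  exact IsHomeomorph.topologicalKrullDim_eq _ (Homeomorph.Set.univ _).isHomeomorph

theorem dim_fiber_eq (R : Type u) [CommRing R] [IsDomain R]
    (hR : ∀ (p : Ideal R) [p.IsPrime], ValuationRing (Localization.AtPrime p))
    (X : Scheme.{u}) [IrreducibleSpace X] (f : X ⟶ Spec (CommRingCat.of R))
    [LocallyOfFiniteType f] [IsDominant f] (γ : Spec (CommRingCat.of R))
    (h0 : Nonempty ↥(f.fiber γ)) :
    topologicalKrullDim ↥(f.fiber γ) =
      topologicalKrullDim ↥(f.fiber (genericPoint (Spec (CommRingCat.of R)))) := by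
  set η := genericPoint X
  have hfη : f η = genericPoint (Spec (CommRingCat.of R)) := by
    refine IsGenericPoint.eq ?_ (genericPoint_spec _)
    have h1 : IsGenericPoint (f η) (closure (f '' Set.univ)) :=
      (genericPoint_spec X).image f.continuous
    rwa [Set.image_univ, (Scheme.Hom.denseRange f).closure_eq] at h1
  have hmaxη : ∀ ζ, ζ ⤳ η → ζ = η := fun ζ h => (h.antisymm (genericPoint_specializes ζ)).eq
  have hgen : topologicalKrullDim ↥(f.fiber (genericPoint (Spec (CommRingCat.of R)))) = cdim (f.asFiber η) := by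
    rw [← hfη]
    refine le_antisymm (dim_fiber_le_cdim f η fun x _ => genericPoint_specializes x) ?_
    rw [dim_eq_iSup_cdim (X := f.fiber (f η))]
    exact le_iSup cdim (f.asFiber η)
  rw [hgen]
  refine le_antisymm ?_ ?_
  · -- base change to the valuation ring at `γ`
    obtain ⟨p, hp⟩ : ∃ p : PrimeSpectrum R, p = γ := ⟨γ, rfl⟩
    subst hp
    let L := Localization.AtPrime p.asIdeal
    haveI : IsDomain L := IsLocalization.isDomain_localization p.asIdeal.primeCompl_le_nonZeroDivisors
    haveI : ValuationRing L := hR p.asIdeal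
    let g : Spec (CommRingCat.of L) ⟶ Spec (CommRingCat.of R) := Spec.map (CommRingCat.ofHom (algebraMap R L))
    haveI : IsPreimmersion g := IsPreimmersion.of_isLocalization p.asIdeal.primeCompl
    have hgc : g (IsLocalRing.closedPoint L) = p := PrimeSpectrum.ext (IsLocalization.AtPrime.comap_maximalIdeal L p.asIdeal)
    have hgb : g (⊥ : PrimeSpectrum L) = genericPoint (Spec (CommRingCat.of R)) := by
      rw [genericPoint_eq_bot_of_affine]
      refine PrimeSpectrum.ext ?_
      change Ideal.comap (algebraMap R L) ⊥ = ⊥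
      exact (RingHom.injective_iff_ker_eq_bot _).1 (IsLocalization.injective L p.asIdeal.primeCompl_le_nonZeroDivisors)
    have hc := IsPullback.of_hasPullback f g
    rw [← hgc]
    refine (dim_fiber_baseChange f hc (IsLocalRing.closedPoint L)).ge.trans ?_
    rw [dim_eq_iSup_cdim]
    refine iSup_le fun u => ?_
    let x' := (pullback.snd f g).fiberι (IsLocalRing.closedPoint L) u
    obtain ⟨v, hv1, hv2⟩ := Scheme.exists_preimage_of_isPullback hc η (⊥ : PrimeSpectrum L) (hfη.trans hgb.symm)
    have hvx : v ⤳ x' := (pullback.fst f g).isEmbedding.isInducing.specializes_iff.mp (hv1 ▸ genericPoint_specializes _)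
    rw [← cdim_asFiber_fiberι (pullback.snd f g) _ u]
    refine (H06EGA14.cdim_asFiber_le_of_valuationRing (pullback.snd f g) x' v hvx hv2).trans ?_
    refine (H06Equidim.cdim_asFiber_le_fibreDimAt _ v).trans ?_
    rw [fibreDimAt_baseChange f hc v, hv1, ← H06Equidim.cdim_asFiber_eq_fibreDimAt f η hmaxη]
  · obtain ⟨u⟩ := h0
    have hx : f (f.fiberι γ u) = γ := (f.range_fiberι γ).subset (Set.mem_range_self u)
    calc cdim (f.asFiber η) = FlatMor.fibreDimAt f η := H06Equidim.cdim_asFiber_eq_fibreDimAt f η hmaxη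
      _ ≤ FlatMor.fibreDimAt f (f.fiberι γ u) :=
        fibreDimAt_le_of_specializes f (genericPoint_specializes _)
      _ ≤ topologicalKrullDim (f.fiber γ) := by
        refine (fibreDimAt_le_dim f _).trans (le_of_eq ?_)
        rw [hx]

end Groth.Agent.H3CAlg.PruferFibreDim
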