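import Groth.Agent.S17754
import Groth.Agent.H24Adic.CompletionNoetherian
import Mathlib.RingTheory.AdicCompletion.LocalRing
import Mathlib.RingTheory.AdicCompletion.AsTensorProduct
import Mathlib.RingTheory.Flat.FaithfullyFlat.Algebra
import Mathlib.RingTheory.Flat.Localization
import Mathlib.RingTheory.EssentialFiniteness
import Mathlib.RingTheory.Filtration
import Mathlib.RingTheory.Localization.AtPrime.Basic

/-!
Chevalley's lemma for essentially finite type extensions of analytically irreducible local rings.
-/

universe u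

open TensorProduct IsLocalRing

namespace Groth.Agent.H3CAlg.ChevalleyEssFin

variable (A : Type u) [CommRing A] [IsNoetherianRing A] [IsLocalRing A]
  [IsDomain (AdicCompletion (maximalIdeal A) A)]

theorem isDomain_of_completion : IsDomain A := by
  haveI : Module.FaithfullyFlat A (AdicCompletion (maximalIdeal A) A) :=
    Module.FaithfullyFlat.of_flat_of_isLocalHom
  exact Function.Injective.isDomain (algebraMap A (AdicCompletion (maximalIdeal A) A))
    (FaithfulSMul.algebraMap_injective _ _)

theorem exists_comap_pow_le_of_isDomain (A' : Type u) [CommRing A'] [IsDomain A'] [IsLocalRing A']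
    [Algebra A A'] (hinj : Function.Injective (algebraMap A A')) [IsLocalHom (algebraMap A A')]
    [Algebra.EssFiniteType A A'] (j : ℕ) :
    ∃ n : ℕ, (maximalIdeal A' ^ n).comap (algebraMap A A') ≤ maximalIdeal A ^ j := by
  haveI := isDomain_of_completion A
  haveI : FaithfulSMul A A' := (faithfulSMul_iff_algebraMap_injective A A').mpr hinj
  let Ah := AdicCompletion (maximalIdeal A) A
  haveI : IsNoetherianRing Ah := Groth.Agent.H24Adic.isNoetherianRing_adicCompletion _
  haveI : IsAdicComplete (maximalIdeal Ah) Ah := inferInstance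
  let π : Ah →ₐ[A] ResidueField A' :=
    (IsScalarTower.toAlgHom A (ResidueField A) (ResidueField A')).comp (AdicCompletion.evalOneₐ (maximalIdeal A))
  let φ : Ah ⊗[A] A' →ₐ[A] ResidueField A' :=
    Algebra.TensorProduct.lift π (IsScalarTower.toAlgHom A A' (ResidueField A')) fun _ _ => Commute.all _ _
  let M : Ideal (Ah ⊗[A] A') := RingHom.ker φ
  haveI : M.IsPrime := RingHom.ker_isPrime φ
  let C := Localization.AtPrime M
  haveI : Algebra.EssFiniteType Ah C := Algebra.EssFiniteType.comp Ah (Ah ⊗[A] A') C
  haveI : IsNoetherianRing C := Algebra.EssFiniteType.isNoetherianRing Ah C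
  let ι : Ah →+* C := (algebraMap (Ah ⊗[A] A') C).comp Algebra.TensorProduct.includeLeftRingHom
  let ι' : A' →+* C := (algebraMap (Ah ⊗[A] A') C).comp Algebra.TensorProduct.includeRight.toRingHom
  -- the completion injects into `C`
  have hι : Function.Injective ι := by
    refine (injective_iff_map_eq_zero _).mpr fun a ha => ?_
    by_contra ha0
    obtain ⟨⟨s, hs⟩, hsa⟩ := (IsLocalization.map_eq_zero_iff M.primeCompl C _).mp ha
    change s * (a ⊗ₜ[A] (1 : A')) = 0 at hsa
    refine hs ?_
    suffices s = 0 by rw [this]; exact zero_mem _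
    let L := FractionRing A'
    letI : Algebra (FractionRing A) L := FractionRing.liftAlgebra A L
    haveI : Module.Flat A L := Module.Flat.trans A (FractionRing A) L
    have h1 : Function.Injective (LinearMap.rTensor L (LinearMap.mulLeft A a)) :=
      Module.Flat.rTensor_preserves_injective_linearMap _ (mul_right_injective₀ ha0)
    have h2 : Function.Injective (LinearMap.lTensor Ah (IsScalarTower.toAlgHom A A' L).toLinearMap) :=
      Module.Flat.lTensor_preserves_injective_linearMap _ (IsFractionRing.injective A' L)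
    have key : ∀ z : Ah ⊗[A] A',
        LinearMap.lTensor Ah (IsScalarTower.toAlgHom A A' L).toLinearMap (z * (a ⊗ₜ 1)) =
          LinearMap.rTensor L (LinearMap.mulLeft A a)
            (LinearMap.lTensor Ah (IsScalarTower.toAlgHom A A' L).toLinearMap z) := by
      intro z
      induction z with
      | zero => simp
      | tmul x y => simp [mul_comm x a]
      | add x y hx hy => rw [add_mul, map_add, hx, hy, map_add, map_add]
    apply h2
    apply h1
    rw [← key, hsa, map_zero, map_zero]
  -- Chevalley in the completion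
  obtain ⟨n, hn⟩ := S17754.result Ah (fun t => (maximalIdeal C ^ t).comap ι)
    (fun a b hab => Ideal.comap_mono (Ideal.pow_le_pow_right hab)) (by
      rw [← Ideal.comap_iInf, show (iInf fun t => maximalIdeal C ^ t) = ⊥ from
        Ideal.iInf_pow_eq_bot_of_isLocalRing (R := C) (maximalIdeal C) (maximalIdeal.isMaximal C).ne_top]
      exact (RingHom.injective_iff_ker_eq_bot ι).mp hι) j
  refine ⟨n, fun a ha => ?_⟩
  have hle : (maximalIdeal A').map ι' ≤ maximalIdeal C := by
    rw [← Ideal.map_map, ← Localization.AtPrime.map_eq_maximalIdeal]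
    refine Ideal.map_mono (Ideal.map_le_iff_le_comap.mpr fun x hx => ?_)
    show φ (1 ⊗ₜ x) = 0
    simp only [φ, Algebra.TensorProduct.lift_tmul, map_one, one_mul, IsScalarTower.coe_toAlgHom']
    exact (residue_eq_zero_iff x).mpr hx
  have h3 : ι (algebraMap A Ah a) ∈ maximalIdeal C ^ n := by
    have h4 : ι' (algebraMap A A' a) ∈ maximalIdeal C ^ n := by
      have h5 := Ideal.mem_map_of_mem ι' (Ideal.mem_comap.mp ha)
      rw [Ideal.map_pow] at h5
      exact Ideal.pow_right_mono hle n h5
    have h6 : ι (algebraMap A Ah a) = ι' (algebraMap A A' a) := by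
      show algebraMap (Ah ⊗[A] A') C (algebraMap A Ah a ⊗ₜ 1) =
        algebraMap (Ah ⊗[A] A') C (1 ⊗ₜ algebraMap A A' a)
      congr 1
      rw [Algebra.algebraMap_eq_smul_one (A := Ah) a, Algebra.algebraMap_eq_smul_one (A := A') a, smul_tmul]
    rwa [h6]
  haveI : Module.FaithfullyFlat A Ah := Module.FaithfullyFlat.of_flat_of_isLocalHom
  have h7 : algebraMap A Ah a ∈ (maximalIdeal A ^ j).map (algebraMap A Ah) := by
    rw [Ideal.map_pow, ← AdicCompletion.maximalIdeal_eq_map]
    exact hn h3
  rw [← Ideal.mem_comap, Ideal.comap_map_eq_self_of_faithfullyFlat] at h7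
  exact h7

theorem exists_comap_pow_le (A' : Type u) [CommRing A'] [IsNoetherianRing A'] [IsLocalRing A']
    [Algebra A A'] (hinj : Function.Injective (algebraMap A A')) [IsLocalHom (algebraMap A A')]
    [Algebra.EssFiniteType A A'] (j : ℕ) :
    ∃ n : ℕ, (maximalIdeal A' ^ n).comap (algebraMap A A') ≤ maximalIdeal A ^ j := by
  haveI := isDomain_of_completion A
  obtain ⟨q, hq, hqc⟩ := Ideal.exists_comap_eq_of_mem_minimalPrimes_of_injective hinj (⊥ : Ideal A)
    (by rw [IsDomain.minimalPrimes_eq_singleton_bot]; rfl)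
  haveI := hq
  haveI : IsLocalRing (A' ⧸ q) := IsLocalRing.of_surjective' _ Ideal.Quotient.mk_surjective
  have hinj' : Function.Injective (algebraMap A (A' ⧸ q)) := by
    rw [RingHom.injective_iff_ker_eq_bot, IsScalarTower.algebraMap_eq A A' (A' ⧸ q), ← RingHom.comap_ker,
      Ideal.Quotient.algebraMap_eq, Ideal.mk_ker, hqc]
  haveI : IsLocalHom (algebraMap A' (A' ⧸ q)) :=
    IsLocalHom.of_surjective _ (Ideal.Quotient.mk_surjective (I := q))
  haveI : IsLocalHom (algebraMap A (A' ⧸ q)) := by
    rw [IsScalarTower.algebraMap_eq A A' (A' ⧸ q)]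
    infer_instance
  obtain ⟨n, hn⟩ := exists_comap_pow_le_of_isDomain A (A' ⧸ q) hinj' j
  refine ⟨n, fun a ha => hn ?_⟩
  rw [Ideal.mem_comap, IsScalarTower.algebraMap_apply A A' (A' ⧸ q)]
  have h := Ideal.mem_map_of_mem (algebraMap A' (A' ⧸ q)) (Ideal.mem_comap.mp ha)
  rw [Ideal.map_pow] at h
  refine Ideal.pow_right_mono (Ideal.map_le_iff_le_comap.mpr fun x hx => ?_) n h
  exact ((mem_maximalIdeal _).mpr fun hu => hx (IsLocalHom.map_nonunit (f := algebraMap A' (A' ⧸ q)) x hu))

end Groth.Agent.H3CAlg.ChevalleyEssFin
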