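import Groth.Agent.S2069
import Groth.Agent.S5754
import Groth.Agent.H05EGA4.CompleteNormalization
import Groth.Agent.H1CAlg.ReflexiveNormal
import Mathlib.RingTheory.TensorProduct.Quotient
import Mathlib.LinearAlgebra.TensorProduct.RightExactness
import Mathlib.RingTheory.Ideal.GoingUp
import Mathlib.RingTheory.Ideal.KrullsHeightTheorem
import Mathlib.RingTheory.Flat.Stability
import Mathlib.RingTheory.Flat.TorsionFree
import Mathlib.RingTheory.IntegralClosure.IntegrallyClosed

/-!
Fibres of flat algebras over a complete local ring whose closed fibre has no embedded primes.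
-/

universe u

open TensorProduct IsLocalRing Pointwise

attribute [local instance] Algebra.TensorProduct.rightAlgebra

namespace Groth.Agent.H3CAlg.NoEmbedded

section General

variable {A B : Type u} [CommRing A] [CommRing B] [IsNoetherianRing A] [Algebra A B] [Module.Flat A B]

omit [IsNoetherianRing A] [Module.Flat A B] [Algebra A B] in
theorem assoc_smul_top (J : Ideal B) :
    associatedPrimes B (B ⧸ J • (⊤ : Submodule B B)) = associatedPrimes B (B ⧸ J) :=
  LinearEquiv.AssociatedPrimes.eq (Submodule.quotEquivOfEq _ _ (Ideal.mul_top J))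

/-- Associated primes of the fibres of a flat algebra. -/
theorem associatedPrimes_quotient_map (I : Ideal A) :
    associatedPrimes B (B ⧸ I.map (algebraMap A B)) =
      ⋃ p ∈ associatedPrimes A (A ⧸ I), associatedPrimes B (B ⧸ p.map (algebraMap A B)) := by
  rw [LinearEquiv.AssociatedPrimes.eq (Algebra.TensorProduct.quotIdealMapEquivTensorQuot B I).toLinearEquiv,
    S2069.result (R := A) (S := B) (M := A ⧸ I) (N := B)]
  exact Set.iUnion_congr fun p => Set.iUnion_congr fun _ => assoc_smul_top _

omit [IsNoetherianRing A] in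
theorem injective_mul_of_notMem {p : Ideal A} [p.IsPrime] {a : A} (ha : a ∉ p) :
    IsSMulRegular (B ⧸ p.map (algebraMap A B)) (algebraMap A B a) := by
  let e := (Algebra.TensorProduct.quotIdealMapEquivTensorQuot B p).toLinearEquiv
  have h : Function.Injective (LinearMap.lTensor B (LinearMap.lsmul A (A ⧸ p) a)) := by
    refine Module.Flat.lTensor_preserves_injective_linearMap _ fun x y hxy => ?_
    have hxy' : Ideal.Quotient.mk p a * x = Ideal.Quotient.mk p a * y := by
      simpa [Algebra.smul_def] using hxy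
    exact mul_left_cancel₀ (fun h0 => ha (Ideal.Quotient.eq_zero_iff_mem.mp h0)) hxy'
  intro x y hxy
  apply e.injective
  apply h
  have key : ∀ z, LinearMap.lTensor B (LinearMap.lsmul A (A ⧸ p) a) z = algebraMap A B a • z := fun z => by
    induction z with
    | zero => simp
    | tmul b w => simp [smul_tmul']
    | add u v hu hv => simp only [map_add, smul_add, hu, hv]
  rw [key, key, ← map_smul, ← map_smul]
  exact congrArg e hxy

omit [IsNoetherianRing A] in
theorem comap_eq_of_mem [IsNoetherianRing B] {p : Ideal A} [p.IsPrime] {Q : Ideal B}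
    (hQ : Q ∈ associatedPrimes B (B ⧸ p.map (algebraMap A B))) : Q.comap (algebraMap A B) = p := by
  refine le_antisymm (fun a ha => ?_) ?_
  · by_contra hap
    have h1 : algebraMap A B a ∈ ⋃ q ∈ associatedPrimes B (B ⧸ p.map (algebraMap A B)), (q : Set B) :=
      Set.mem_biUnion hQ ha
    rw [biUnion_associatedPrimes_eq_zero_divisors] at h1
    obtain ⟨x, hx, hx0⟩ := h1
    exact hx (injective_mul_of_notMem hap (by simpa using hx0))
  · refine Ideal.map_le_iff_le_comap.mp (le_trans ?_ hQ.annihilator_le)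
    rw [Submodule.annihilator_top, Ideal.annihilator_quotient]

variable [IsNoetherianRing B]

omit [Module.Flat A B] [IsNoetherianRing A] in
theorem quotSMulTop_equiv (I : Ideal A) (x : A) :
    Nonempty (QuotSMulTop (algebraMap A B x) (B ⧸ I.map (algebraMap A B)) ≃ₗ[B]
      B ⧸ (I ⊔ Ideal.span {x}).map (algebraMap A B)) := by
  let f : B →ₗ[B] QuotSMulTop (algebraMap A B x) (B ⧸ I.map (algebraMap A B)) :=
    (Submodule.mkQ _).comp (Submodule.mkQ _)
  have hf : Function.Surjective f := (Submodule.mkQ_surjective _).comp (Submodule.mkQ_surjective _)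
  have hk : LinearMap.ker f = (I ⊔ Ideal.span {x}).map (algebraMap A B) := by
    ext b
    rw [LinearMap.mem_ker, LinearMap.comp_apply, Submodule.mkQ_apply, Submodule.Quotient.mk_eq_zero,
      Submodule.mem_smul_pointwise_iff_exists, Ideal.map_sup, Ideal.map_span, Set.image_singleton,
      Submodule.mem_sup]
    constructor
    · rintro ⟨z, -, hz⟩
      obtain ⟨c, rfl⟩ := Submodule.mkQ_surjective _ z
      rw [← map_smul, Submodule.mkQ_apply, Submodule.mkQ_apply, eq_comm, Submodule.Quotient.eq] at hz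
      exact ⟨_, hz, algebraMap A B x • c, Ideal.mem_span_singleton'.mpr ⟨c, mul_comm _ _⟩, sub_add_cancel _ _⟩
    · rintro ⟨u, hu, v, hv, rfl⟩
      obtain ⟨c, rfl⟩ := Ideal.mem_span_singleton'.mp hv
      refine ⟨Submodule.mkQ _ c, trivial, ?_⟩
      rw [← map_smul, Submodule.mkQ_apply, Submodule.mkQ_apply, eq_comm, Submodule.Quotient.eq]
      simpa [mul_comm] using hu
  exact ⟨(LinearMap.quotKerEquivOfSurjective f hf).symm.trans (Submodule.quotEquivOfEq _ _ hk)⟩

theorem mem_minimalPrimes_sup [IsLocalRing A]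
    (h0 : ∀ Q ∈ associatedPrimes B (B ⧸ (maximalIdeal A).map (algebraMap A B)),
      Q ∈ ((maximalIdeal A).map (algebraMap A B)).minimalPrimes)
    (p : Ideal A) [p.IsPrime] (Q : Ideal B) (hQ : Q ∈ associatedPrimes B (B ⧸ p.map (algebraMap A B)))
    (P : Ideal B) (hP : P ∈ (Q ⊔ (maximalIdeal A).map (algebraMap A B)).minimalPrimes) :
    P ∈ ((maximalIdeal A).map (algebraMap A B)).minimalPrimes := by
  suffices key : ∀ p : Ideal A, p.IsPrime → ∀ Q : Ideal B,
      Q ∈ associatedPrimes B (B ⧸ p.map (algebraMap A B)) → ∀ P : Ideal B,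
      P ∈ (Q ⊔ (maximalIdeal A).map (algebraMap A B)).minimalPrimes →
      P ∈ ((maximalIdeal A).map (algebraMap A B)).minimalPrimes from key p inferInstance Q hQ P hP
  clear hP hQ P Q
  intro p
  induction p using WellFoundedGT.induction with
  | ind p ih =>
    intro _ Q hQ P hP
    have hpB : p.map (algebraMap A B) ≤ Q := Ideal.map_le_iff_le_comap.mpr (comap_eq_of_mem hQ).ge
    rcases eq_or_lt_of_le (le_maximalIdeal (Ideal.IsPrime.ne_top ‹p.IsPrime›)) with he | hlt
    · subst he
      haveI := hQ.isPrime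
      rw [sup_eq_left.mpr hpB, Ideal.minimalPrimes_eq_subsingleton_self, Set.mem_singleton_iff] at hP
      exact hP ▸ h0 Q hQ
    · obtain ⟨x, hxm, hxp⟩ := SetLike.exists_of_lt hlt
      haveI := hP.1.1
      obtain ⟨P', hP', hP'P⟩ := Ideal.exists_minimalPrimes_le
        (show Q ⊔ Ideal.span {algebraMap A B x} ≤ P from sup_le (le_sup_left.trans hP.1.2)
          ((Ideal.span_singleton_le_iff_mem _).mpr (hP.1.2 (Ideal.mem_sup_right (Ideal.mem_map_of_mem _ hxm)))))
      have h1 := S5754.result B (B ⧸ p.map (algebraMap A B)) (algebraMap A B x) (injective_mul_of_notMem hxp)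
        Q hQ P' hP'
      obtain ⟨e⟩ := quotSMulTop_equiv (B := B) p x
      rw [LinearEquiv.AssociatedPrimes.eq e, associatedPrimes_quotient_map, Set.mem_iUnion₂] at h1
      obtain ⟨p', hp', h1⟩ := h1
      haveI := hp'.isPrime
      have hle : p ⊔ Ideal.span {x} ≤ p' := by
        refine le_trans ?_ hp'.annihilator_le
        rw [Submodule.annihilator_top, Ideal.annihilator_quotient]
      have hpp' : p < p' := lt_of_le_of_ne (le_sup_left.trans hle)
        fun e => hxp (e ▸ hle (Ideal.mem_sup_right (Ideal.mem_span_singleton_self x)))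
      exact ih p' hpp' inferInstance P' h1 P ⟨⟨inferInstance, sup_le hP'P (le_sup_right.trans hP.1.2)⟩,
        fun R hR hRP => hP.2 ⟨hR.1, le_trans (sup_le_sup_right (le_sup_left.trans hP'.1.2) _) hR.2⟩ hRP⟩

end General

section Contraction

variable {B B' : Type u} [CommRing B] [CommRing B'] [Algebra B B']

theorem comap_mem_associatedPrimes {M : Type u} [AddCommGroup M] [Module B M] [Module B' M]
    [IsScalarTower B B' M] {P : Ideal B'} (h : P ∈ associatedPrimes B' M) :
    P.comap (algebraMap B B') ∈ associatedPrimes B M := by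
  obtain ⟨hP, m, hm⟩ := h
  refine ⟨Ideal.comap_isPrime _ _, m, ?_⟩
  rw [hm, Ideal.comap_radical]
  congr 1
  ext b
  simp [Submodule.mem_colon_singleton, algebraMap_smul]

theorem exists_associatedPrime_over [IsNoetherianRing B'] {Q : Ideal B} (h : Q ∈ associatedPrimes B B') :
    ∃ Q' ∈ associatedPrimes B' B', Q'.comap (algebraMap B B') = Q := by
  obtain ⟨hQ, m, hm⟩ := h
  let I : Ideal B' := (⊥ : Submodule B' B').colon {m}
  have hI : Q = I.radical.comap (algebraMap B B') := by
    rw [hm, Ideal.comap_radical]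
    congr 1
    ext b
    simp [I, Submodule.mem_colon_singleton, Algebra.smul_def]
  have hrad : I.radical = sInf I.minimalPrimes := Ideal.sInf_minimalPrimes.symm
  classical
  haveI := hQ
  have hfin : (I.minimalPrimes).Finite := I.finite_minimalPrimes_of_isNoetherianRing
  have hle : (hfin.toFinset.inf fun C => C.comap (algebraMap B B')) ≤ Q := by
    intro b hb
    rw [hI, Ideal.mem_comap, hrad, Ideal.mem_sInf]
    intro C hC
    exact (Finset.inf_le (f := fun C => C.comap (algebraMap B B')) (hfin.mem_toFinset.mpr hC)) hb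
  obtain ⟨C, hC, hCQ⟩ := hQ.inf_le'.mp hle
  rw [Set.Finite.mem_toFinset] at hC
  refine ⟨C, ?_, le_antisymm hCQ ?_⟩
  · have hann : Module.annihilator B' (Submodule.span B' {m}) = I := by
      ext r
      rw [Module.mem_annihilator, Submodule.mem_colon_singleton, Submodule.mem_bot]
      refine ⟨fun h => congrArg Subtype.val (h ⟨m, Submodule.mem_span_singleton_self m⟩), fun h => ?_⟩
      rintro ⟨y, hy⟩
      obtain ⟨c, rfl⟩ := Submodule.mem_span_singleton.mp hy
      exact Subtype.ext (by show r • c • m = 0; rw [smul_comm, h, smul_zero])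
    exact associatedPrimes.subset_of_injective (Submodule.injective_subtype _)
      (Module.associatedPrimes.minimalPrimes_annihilator_subset_associatedPrimes B' _ (hann ▸ hC))
  · rw [hI]
    refine Ideal.comap_mono ?_
    haveI := hC.1.1
    exact (Ideal.radical_mono hC.1.2).trans (Ideal.IsPrime.radical inferInstance).le

end Contraction

/-- Associated primes of principal ideals in normal domains have height at most one. -/
theorem height_le_one_of_mem_associatedPrimes {R : Type u} [CommRing R] [IsDomain R] [IsNoetherianRing R]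
    [IsIntegrallyClosed R] {x : R} (hx : x ≠ 0) {q : Ideal R}
    (hq : q ∈ associatedPrimes R (R ⧸ Ideal.span {x})) : q.height ≤ 1 := by
  have hS : LocCoh.HasSk 2 R R := (H1CAlg.normal_iff_R1_S2.mp fun p _ =>
    ⟨inferInstance, isIntegrallyClosed_of_isLocalization _ p.primeCompl p.primeCompl_le_nonZeroDivisors⟩).2
  haveI := hq.isPrime
  obtain ⟨-, w, hw⟩ := isAssociatedPrime_iff.mp hq
  obtain ⟨a, rfl⟩ := Ideal.Quotient.mk_surjective w
  have hmem : ∀ s, s ∈ q ↔ x ∣ s * a := fun s => by
    rw [hw, Submodule.mem_colon_singleton, Submodule.mem_bot, ← Ideal.mem_span_singleton,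
      ← Ideal.Quotient.eq_zero_iff_mem]
    exact Iff.rfl
  by_contra hlt
  obtain ⟨s, hs, hdvd⟩ := H1CAlg.exists_dvd_of_height_le_one hS q a x
    (fun r hr _ hxr => by
      obtain ⟨-, w, hw⟩ := isAssociatedPrime_iff.mp hr
      rw [hw, Submodule.mem_colon_singleton, Submodule.mem_bot, smul_eq_mul] at hxr
      refine hr.isPrime.ne_top ?_
      rw [hw, (mul_eq_zero.mp hxr).resolve_left hx]
      exact Ideal.eq_top_of_isUnit_mem _ (by simp [Submodule.mem_colon_singleton]) isUnit_one)
    fun r _ hrq hh => by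
      have hne : ¬ q ≤ r := fun h => hlt ((Ideal.height_mono h).trans hh)
      obtain ⟨t, ht, htr⟩ := SetLike.not_le_iff_exists.mp hne
      exact ⟨t, htr, (hmem t).mp ht⟩
  exact hs ((hmem s).mpr hdvd)

section Normalization

variable {A B : Type u} [CommRing A] [CommRing B] [IsNoetherianRing A] [IsNoetherianRing B] [Algebra A B]
  [Module.Flat A B]

omit [IsNoetherianRing A] [IsNoetherianRing B] in
theorem flat_right (A' : Type u) [CommRing A'] [Algebra A A'] : Module.Flat A' (B ⊗[A] A') := by
  let e : A' ⊗[A] B ≃ₗ[A'] B ⊗[A] A' :=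
    { (TensorProduct.comm A A' B).toAddEquiv with
      map_smul' := fun a z => by
        change TensorProduct.comm A A' B (a • z) = a • TensorProduct.comm A A' B z
        induction z with
        | zero => simp
        | tmul c b =>
          rw [smul_tmul', TensorProduct.comm_tmul, TensorProduct.comm_tmul, Algebra.smul_def a (b ⊗ₜ[A] c),
            Algebra.TensorProduct.right_algebraMap_apply, Algebra.TensorProduct.tmul_mul_tmul, one_mul,
            smul_eq_mul]
        | add u v hu hv => simp only [smul_add, map_add, hu, hv] }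
  exact Module.Flat.of_linearEquiv e.symm

omit [IsNoetherianRing B] [Module.Flat A B] in
theorem associatedPrimes_eq_singleton (A' : Type u) [CommRing A'] [Algebra A A'] (p' : Ideal A') [p'.IsPrime] :
    associatedPrimes A (A' ⧸ p') = {p'.comap (algebraMap A A')} := by
  ext q
  constructor
  · intro hq
    obtain ⟨hqp, w, hw⟩ := hq
    obtain ⟨c, rfl⟩ := Ideal.Quotient.mk_surjective w
    have hc : c ∉ p' := fun hc => hqp.ne_top (by
      rw [hw, show (Ideal.Quotient.mk p' c) = 0 from Ideal.Quotient.eq_zero_iff_mem.mpr hc]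
      simp)
    rw [Set.mem_singleton_iff, hw, ← (Ideal.comap_isPrime (algebraMap A A') p').radical]
    congr 1
    ext a
    rw [Submodule.mem_colon_singleton, Submodule.mem_bot, Algebra.smul_def,
      IsScalarTower.algebraMap_apply A A' (A' ⧸ p'), Ideal.Quotient.algebraMap_eq, ← map_mul,
      Ideal.Quotient.eq_zero_iff_mem, Ideal.mem_comap]
    exact ⟨fun h => (Ideal.IsPrime.mem_or_mem ‹_› h).resolve_right hc, fun h => p'.mul_mem_right c h⟩
  · rintro rfl
    refine ⟨Ideal.comap_isPrime _ _, 1, ?_⟩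
    rw [← (Ideal.comap_isPrime (algebraMap A A') p').radical]
    congr 1
    ext a
    rw [Submodule.mem_colon_singleton, Submodule.mem_bot, Algebra.smul_def, mul_one,
      IsScalarTower.algebraMap_apply A A' (A' ⧸ p'), Ideal.Quotient.algebraMap_eq,
      Ideal.Quotient.eq_zero_iff_mem, Ideal.mem_comap]

/-- A point of the fibre of the base change contracts to an associated point of the fibre. -/
theorem comap_mem_fibre (A' : Type u) [CommRing A'] [Algebra A A'] (p' : Ideal A') [p'.IsPrime]
    (P : Ideal (B ⊗[A] A'))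
    (hP : P ∈ associatedPrimes (B ⊗[A] A') ((B ⊗[A] A') ⧸ p'.map (algebraMap A' (B ⊗[A] A')))) :
    P.comap (algebraMap B (B ⊗[A] A')) ∈
      associatedPrimes B (B ⧸ (p'.comap (algebraMap A A')).map (algebraMap A B)) := by
  let φ := Algebra.TensorProduct.map (AlgHom.id B B) (Ideal.Quotient.mkₐ A p')
  have hφ : Function.Surjective φ := LinearMap.lTensor_surjective B Ideal.Quotient.mk_surjective
  have hk : p'.map (algebraMap A' (B ⊗[A] A')) = RingHom.ker φ := by
    have h := Algebra.TensorProduct.lTensor_ker (A := B) (Ideal.Quotient.mkₐ A p') Ideal.Quotient.mk_surjective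
    rw [show RingHom.ker (Ideal.Quotient.mkₐ A p') = p' from Ideal.Quotient.mkₐ_ker A p'] at h
    exact h.symm
  let e : ((B ⊗[A] A') ⧸ p'.map (algebraMap A' (B ⊗[A] A'))) ≃ₗ[B] B ⊗[A] (A' ⧸ p') :=
    ((Ideal.quotientEquivAlgOfEq B hk).trans (Ideal.quotientKerAlgEquivOfSurjective hφ)).toLinearEquiv
  have h1 := comap_mem_associatedPrimes (B := B) hP
  rw [LinearEquiv.AssociatedPrimes.eq e, S2069.result (R := A) (S := B) (M := A' ⧸ p') (N := B),
    associatedPrimes_eq_singleton] at h1
  simp only [Set.mem_singleton_iff, Set.iUnion_iUnion_eq_left] at h1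
  exact (assoc_smul_top (B := B) _).le h1

variable [IsLocalRing A] [IsAdicComplete (maximalIdeal A) A]

theorem exists_normalization (p : Ideal A) [p.IsPrime] :
    ∃ (A' : Type u) (_ : CommRing A') (_ : IsDomain A') (_ : Algebra A A') (_ : IsIntegrallyClosed A'),
      Module.Finite A A' ∧ RingHom.ker (algebraMap A A') = p ∧
        ∃ d ∉ p, ∀ a' : A', ∃ a : A, algebraMap A A' d * a' = algebraMap A A' a := by
  classical
  let K := FractionRing (A ⧸ p)
  let C := integralClosure (A ⧸ p) K
  haveI : Module.Finite (A ⧸ p) C := (H05EGA4.isNagata_of_isAdicComplete A).2 p K inferInstance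
  haveI : IsFractionRing C K := integralClosure.isFractionRing_of_finite_extension K K
  haveI : IsIntegrallyClosed C := integralClosure.isIntegrallyClosedOfFiniteExtension K (L := K)
  haveI : Module.Finite A (A ⧸ p) :=
    Module.Finite.of_surjective (Ideal.Quotient.mkₐ A p).toLinearMap Ideal.Quotient.mk_surjective
  refine ⟨C, inferInstance, inferInstance, inferInstance, inferInstance, Module.Finite.trans (A ⧸ p) C, ?_, ?_⟩
  · ext a
    rw [RingHom.mem_ker, ← map_eq_zero_iff (C.val : C →+* K) Subtype.val_injective]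
    change algebraMap A K a = 0 ↔ _
    rw [IsScalarTower.algebraMap_apply A (A ⧸ p) K, map_eq_zero_iff _ (IsFractionRing.injective (A ⧸ p) K)]
    exact Ideal.Quotient.eq_zero_iff_mem
  · obtain ⟨s, hs⟩ := (Module.Finite.fg_top (R := A ⧸ p) (M := C))
    obtain ⟨b, hb⟩ := IsLocalization.exist_integer_multiples_of_finset (nonZeroDivisors (A ⧸ p))
      (s.image fun c : C => (c : K))
    obtain ⟨d, hd⟩ := Ideal.Quotient.mk_surjective (b : A ⧸ p)
    refine ⟨d, fun h => nonZeroDivisors.ne_zero b.2 (hd ▸ Ideal.Quotient.eq_zero_iff_mem.mpr h), fun c => ?_⟩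
    suffices ∃ a : A ⧸ p, (b : A ⧸ p) • (c : K) = algebraMap (A ⧸ p) K a by
      obtain ⟨a, ha⟩ := this
      obtain ⟨a, rfl⟩ := Ideal.Quotient.mk_surjective a
      refine ⟨a, Subtype.ext ?_⟩
      show algebraMap A K d * (c : K) = algebraMap A K a
      rw [← hd, Algebra.smul_def] at ha
      simpa only [IsScalarTower.algebraMap_apply A (A ⧸ p) K, Ideal.Quotient.algebraMap_eq] using ha
    have hc : c ∈ Submodule.span (A ⧸ p) (s : Set C) := hs ▸ Submodule.mem_top
    induction hc using Submodule.span_induction with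
    | mem y hy =>
      obtain ⟨a, ha⟩ := hb y.1 (Finset.mem_image_of_mem _ hy)
      exact ⟨a, ha.symm⟩
    | zero => exact ⟨0, by simp⟩
    | add y z _ _ hy hz =>
      obtain ⟨a, ha⟩ := hy; obtain ⟨a', ha'⟩ := hz
      exact ⟨a + a', by simp [smul_add, ha, ha']⟩
    | smul r y _ hy =>
      obtain ⟨a, ha⟩ := hy
      exact ⟨r * a, by rw [show ((r • y : C) : K) = r • (y : K) from rfl, smul_comm, ha, map_mul, Algebra.smul_def]⟩

theorem mem_minimalPrimes_of_mem_associatedPrimes
    (hloc : (maximalIdeal A).map (algebraMap A B) ≤ Ideal.jacobson ⊥)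
    (h0 : ∀ Q ∈ associatedPrimes B (B ⧸ (maximalIdeal A).map (algebraMap A B)),
      Q ∈ ((maximalIdeal A).map (algebraMap A B)).minimalPrimes)
    (p : Ideal A) [p.IsPrime] (Q : Ideal B) (hQ : Q ∈ associatedPrimes B (B ⧸ p.map (algebraMap A B))) :
    Q ∈ (p.map (algebraMap A B)).minimalPrimes := by
  suffices key : ∀ p : Ideal A, p.IsPrime → ∀ Q : Ideal B,
      Q ∈ associatedPrimes B (B ⧸ p.map (algebraMap A B)) →
      Q ∈ (p.map (algebraMap A B)).minimalPrimes from key p inferInstance Q hQ
  clear hQ Q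
  intro p
  induction p using WellFoundedGT.induction with
  | ind p ih =>
    intro _ Q hQ
    haveI := hQ.isPrime
    have hpQ : p.map (algebraMap A B) ≤ Q := Ideal.map_le_iff_le_comap.mpr (comap_eq_of_mem hQ).ge
    rcases eq_or_lt_of_le (le_maximalIdeal (Ideal.IsPrime.ne_top ‹p.IsPrime›)) with he | hlt
    · subst he; exact h0 Q hQ
    by_contra hnot
    obtain ⟨Q₀, hQ₀, hQ₀Q⟩ := Ideal.exists_minimalPrimes_le hpQ
    haveI := hQ₀.1.1
    have hne : Q₀ < Q := lt_of_le_of_ne hQ₀Q fun e => hnot (e ▸ hQ₀)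
    obtain ⟨A', _, _, _, _, hfin, hker, d, hd, hcond⟩ := exists_normalization (A := A) p
    haveI := hfin
    haveI : IsNoetherianRing A' := IsNoetherianRing.of_finite A A'
    haveI : Algebra.IsIntegral A A' := Algebra.IsIntegral.of_finite A A'
    haveI : Module.Finite B (B ⊗[A] A') := Module.Finite.base_change A B A'
    haveI : IsNoetherianRing (B ⊗[A] A') := IsNoetherianRing.of_finite B _
    haveI : Algebra.IsIntegral B (B ⊗[A] A') := Algebra.IsIntegral.of_finite B _
    haveI : Module.Flat A' (B ⊗[A] A') := flat_right A'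
    -- `B / pB` embeds in the base change
    have hι : ∀ b : B, algebraMap B (B ⊗[A] A') b = 0 ↔ b ∈ p.map (algebraMap A B) := by
      let j : (A ⧸ p) →ₐ[A] A' := Ideal.Quotient.liftₐ p (Algebra.ofId A A') fun a ha => by
        rw [← hker] at ha; exact ha
      have hj : Function.Injective j := by
        refine (injective_iff_map_eq_zero _).mpr fun z hz => ?_
        obtain ⟨a, rfl⟩ := Ideal.Quotient.mk_surjective z
        exact Ideal.Quotient.eq_zero_iff_mem.mpr (hker ▸ hz)
      intro b
      have h1 : algebraMap B (B ⊗[A] A') b = LinearMap.lTensor B j.toLinearMap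
          (Algebra.TensorProduct.quotIdealMapEquivTensorQuot B p (Ideal.Quotient.mk _ b)) := by
        simp [Algebra.TensorProduct.quotIdealMapEquivTensorQuot_mk]
      rw [h1, map_eq_zero_iff _ (Module.Flat.lTensor_preserves_injective_linearMap _ hj),
        EmbeddingLike.map_eq_zero_iff, Ideal.Quotient.eq_zero_iff_mem]
    have hQass : Q ∈ associatedPrimes B (B ⊗[A] A') := by
      let f : (B ⧸ p.map (algebraMap A B)) →ₗ[B] B ⊗[A] A' :=
        Submodule.liftQ _ (Algebra.linearMap B (B ⊗[A] A')) fun b hb => (hι b).mpr hb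
      refine associatedPrimes.subset_of_injective (f := f) ?_ hQ
      refine (injective_iff_map_eq_zero _).mpr fun z hz => ?_
      obtain ⟨b, rfl⟩ := Submodule.mkQ_surjective _ z
      exact Ideal.Quotient.eq_zero_iff_mem.mpr ((hι b).mp hz)
    obtain ⟨Q', hQ', hQ'Q⟩ := exists_associatedPrime_over hQass
    haveI := hQ'.isPrime
    -- `Q'` is the only prime over `Q`
    have hcond' : ∀ z : B ⊗[A] A', ∃ β : B,
        algebraMap B (B ⊗[A] A') (algebraMap A B d) * z = algebraMap B (B ⊗[A] A') β := by
      intro z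
      induction z with
      | zero => exact ⟨0, by simp⟩
      | tmul b a' =>
        obtain ⟨a, ha⟩ := hcond a'
        refine ⟨a • b, ?_⟩
        rw [Algebra.TensorProduct.algebraMap_apply, Algebra.TensorProduct.algebraMap_apply,
          Algebra.TensorProduct.tmul_mul_tmul, one_mul, Algebra.algebraMap_self_apply,
          Algebra.algebraMap_self_apply, ← Algebra.smul_def, smul_tmul, Algebra.smul_def, ha,
          Algebra.algebraMap_eq_smul_one, ← smul_tmul]
      | add u v hu hv =>
        obtain ⟨β, hβ⟩ := hu; obtain ⟨γ, hγ⟩ := hv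
        exact ⟨β + γ, by rw [mul_add, hβ, hγ, map_add]⟩
    have hdQ : algebraMap A B d ∉ Q := fun h => hd ((comap_eq_of_mem hQ).le h)
    obtain ⟨Q₀', -, hQ₀'p, hQ₀'⟩ := Ideal.exists_ideal_over_prime_of_isIntegral Q₀ (⊥ : Ideal (B ⊗[A] A'))
      (fun b hb => hQ₀.1.2 ((hι b).mp (Ideal.mem_bot.mp hb)))
    haveI := hQ₀'p
    obtain ⟨Q₂, hQ₂le, hQ₂p, hQ₂⟩ := Ideal.exists_ideal_over_prime_of_isIntegral Q Q₀' (hQ₀'.le.trans hQ₀Q)
    haveI := hQ₂p
    have hQ₂' : Q₂ = Q' := by
      have key : ∀ C C' : Ideal (B ⊗[A] A'), C'.IsPrime → C.comap (algebraMap B _) = Q →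
          C'.comap (algebraMap B _) = Q → C ≤ C' := by
        intro C C' hC' h1 h2 z hz
        obtain ⟨β, hβ⟩ := hcond' z
        have hβQ : β ∈ C'.comap (algebraMap B (B ⊗[A] A')) := by
          rw [h2, ← h1, Ideal.mem_comap, ← hβ]
          exact C.mul_mem_left _ hz
        rw [Ideal.mem_comap, ← hβ] at hβQ
        exact (hC'.mem_or_mem hβQ).resolve_left fun h => hdQ (h2 ▸ (Ideal.mem_comap.mpr h))
      exact le_antisymm (key _ _ inferInstance hQ₂ hQ'Q) (key _ _ inferInstance hQ'Q hQ₂)
    subst hQ₂'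
    have hlt' : Q₀' < Q₂ := lt_of_le_of_ne hQ₂le fun e => hne.ne (by rw [← hQ₀', ← hQ₂, e])
    -- a hyperplane section
    obtain ⟨x, hxm, hxp⟩ := SetLike.exists_of_lt hlt
    obtain ⟨M, hM, hQM⟩ := Ideal.exists_le_maximal Q hQ.isPrime.ne_top
    obtain ⟨M', hQ₂M', hM'p, hM'⟩ :=
      Ideal.exists_ideal_over_prime_of_isIntegral M Q₂ (hQ₂.le.trans hQM)
    haveI := hM'p
    have hxM : algebraMap A B x ∈ M :=
      (Ideal.mem_sInf.mp (hloc (Ideal.mem_map_of_mem _ hxm))) ⟨bot_le, hM⟩
    set x' := algebraMap A A' x with hx'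
    have hx'0 : x' ≠ 0 := fun h => hxp (hker ▸ h)
    have htower : algebraMap A' (B ⊗[A] A') x' = algebraMap B (B ⊗[A] A') (algebraMap A B x) := by
      rw [hx', ← IsScalarTower.algebraMap_apply, ← IsScalarTower.algebraMap_apply]
    have hxQ₂ : algebraMap A' (B ⊗[A] A') x' ∉ Q₂ := fun h => hxp ((comap_eq_of_mem hQ).le (by
      rw [Ideal.mem_comap, ← hQ₂, Ideal.mem_comap, ← htower]; exact h))
    obtain ⟨P, hP, hPM'⟩ := Ideal.exists_minimalPrimes_le
      (show Q₂ ⊔ Ideal.span {algebraMap A' (B ⊗[A] A') x'} ≤ M' from sup_le hQ₂M'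
        ((Ideal.span_singleton_le_iff_mem _).mpr (by
          rw [htower, ← Ideal.mem_comap, hM']; exact hxM)))
    haveI := hP.1.1
    have hreg : IsSMulRegular (B ⊗[A] A') (algebraMap A' (B ⊗[A] A') x') := by
      intro u v huv
      have : x' • u = x' • v := by simpa [Algebra.smul_def] using huv
      exact (smul_right_injective _ hx'0) this
    have h1 := S5754.result (B ⊗[A] A') (B ⊗[A] A') _ hreg Q₂ hQ' P hP
    have heq : (algebraMap A' (B ⊗[A] A') x' • (⊤ : Submodule (B ⊗[A] A') (B ⊗[A] A'))) =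
        (Ideal.span {x'}).map (algebraMap A' (B ⊗[A] A')) := by
      rw [Ideal.map_span, Set.image_singleton, ← Submodule.ideal_span_singleton_smul, smul_eq_mul, Ideal.mul_top]
    rw [LinearEquiv.AssociatedPrimes.eq (Submodule.quotEquivOfEq _ _ heq : QuotSMulTop _ _ ≃ₗ[B ⊗[A] A'] _),
      associatedPrimes_quotient_map, Set.mem_iUnion₂] at h1
    obtain ⟨p', hp', hPp'⟩ := h1
    haveI := hp'.isPrime
    have hxp' : x' ∈ p' := by
      have := hp'.annihilator_le
      rw [Submodule.annihilator_top, Ideal.annihilator_quotient] at this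
      exact this (Ideal.mem_span_singleton_self x')
    haveI : P.LiesOver p' := ⟨(comap_eq_of_mem hPp').symm⟩
    have hpp' : p < p'.comap (algebraMap A A') := by
      refine lt_of_le_of_ne (fun a ha => ?_) fun e => hxp (e ▸ hxp')
      rw [Ideal.mem_comap, show algebraMap A A' a = 0 from hker.ge ha]
      exact zero_mem _
    have hmin := ih _ hpp' (Ideal.comap_isPrime _ _) _ (comap_mem_fibre A' p' P hPp')
    have hPmin : P ∈ (p'.map (algebraMap A' (B ⊗[A] A'))).minimalPrimes := by
      refine ⟨⟨inferInstance, Ideal.map_le_iff_le_comap.mpr (comap_eq_of_mem hPp').ge⟩, fun R hR hRP => ?_⟩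
      haveI := hR.1
      by_contra hn
      have h2 := Ideal.IsIntegral.comap_lt_comap (R := B) (lt_of_le_not_ge hRP hn)
      refine h2.not_ge (hmin.2 ⟨Ideal.comap_isPrime _ _, Ideal.map_le_iff_le_comap.mpr fun a ha => ?_⟩ h2.le)
      rw [Ideal.mem_comap, Ideal.mem_comap, ← IsScalarTower.algebraMap_apply,
        IsScalarTower.algebraMap_apply A A' (B ⊗[A] A')]
      exact hR.2 (Ideal.mem_map_of_mem _ ha)
    have hz : (P.map (Ideal.Quotient.mk (p'.map (algebraMap A' (B ⊗[A] A'))))).height = 0 := by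
      haveI := Ideal.isPrime_map_quotientMk_of_isPrime hPmin.1.2
      rw [Ideal.height_eq_zero_iff]
      refine ⟨⟨inferInstance, bot_le⟩, fun R hR hRP => ?_⟩
      haveI := hR.1
      refine Ideal.map_le_iff_le_comap.mpr (hPmin.2 ⟨Ideal.comap_isPrime _ _, fun z hz => ?_⟩ ?_)
      · rw [Ideal.mem_comap, Ideal.Quotient.eq_zero_iff_mem.mpr hz]; exact zero_mem _
      · refine (Ideal.comap_mono hRP).trans ?_
        rw [Ideal.comap_map_of_surjective' _ Ideal.Quotient.mk_surjective, Ideal.mk_ker]
        exact sup_le le_rfl hPmin.1.2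
    have hht : P.height ≤ 1 := by
      rw [Ideal.height_eq_height_add_of_liesOver_of_hasGoingDown p' P, hz, add_zero]
      exact height_le_one_of_mem_associatedPrimes hx'0 hp'
    have e1 := Order.height_add_one_le (a := (⟨Q₀', hQ₀'p⟩ : PrimeSpectrum (B ⊗[A] A')))
      (b := ⟨Q₂, hQ₂p⟩) hlt'
    have e2 := Order.height_add_one_le (a := (⟨Q₂, hQ₂p⟩ : PrimeSpectrum (B ⊗[A] A'))) (b := ⟨P, hP.1.1⟩)
      (lt_of_le_of_ne (le_sup_left.trans hP.1.2) fun e => hxQ₂ (by
        have h : algebraMap A' (B ⊗[A] A') x' ∈ P :=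
          hP.1.2 (Ideal.mem_sup_right (Ideal.mem_span_singleton_self _))
        exact (PrimeSpectrum.mk.inj e) ▸ h))
    have e3 := PrimeSpectrum.height_eq_orderHeight (⟨P, hP.1.1⟩ : PrimeSpectrum (B ⊗[A] A'))
    simp only at e3
    rw [e3] at hht
    have : (2 : ℕ∞) ≤ 1 := by
      refine le_trans ?_ hht
      refine le_trans ?_ e2
      refine le_trans ?_ (add_le_add e1 le_rfl)
      rw [add_assoc]
      exact le_add_self
    exact absurd this (by decide)

end Normalization

theorem mem_associatedPrimes_of_mem_minimalPrimes {B : Type u} [CommRing B] [IsNoetherianRing B] {I Q : Ideal B}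
    (hQ : Q ∈ I.minimalPrimes) : Q ∈ associatedPrimes B (B ⧸ I) :=
  Module.associatedPrimes.minimalPrimes_annihilator_subset_associatedPrimes B (B ⧸ I)
    (by rwa [Ideal.annihilator_quotient])

end Groth.Agent.H3CAlg.NoEmbedded
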