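import Groth.Agent.H3CAlg.TorBasic
import Groth.Prelude.Def_IntMult
import Groth.Agent.H1CAlg.Tor
import Mathlib.RingTheory.Flat.Equalizer
import Mathlib.RingTheory.Flat.Stability

/-! `Tor` of an extended module against a module flat over the base vanishes. -/

set_option autoImplicit false
set_option linter.style.haveILetI false

universe u

open CategoryTheory CategoryTheory.Limits TensorProduct

namespace Groth.Agent.H3CAlg.TorFlatBC

theorem injective_aux (B E : Type u) [CommRing B] [CommRing E] [Algebra B E]
    (M : Type u) [AddCommGroup M] [Module E M] [Module B M] [IsScalarTower B E M] [Module.Flat B M]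
    (G : Type u) [AddCommGroup G] [Module E G] [Module B G] [IsScalarTower B E G]
    (K : Type u) [AddCommGroup K] [Module E K] [Module B K] [IsScalarTower B E K]
    (f : K →ₗ[E] G) (p : G →ₗ[E] M) (hf : Function.Injective f) (hp : Function.Surjective p)
    (hfp : Function.Exact f p) (N : Type u) [AddCommGroup N] [Module B N] :
    Function.Injective (f.lTensor (E ⊗[B] N)) := by
  have h0 : Function.Injective ((f.restrictScalars B).lTensor N) :=
    LinearMap.lTensor_injective_of_exact_of_flat (p.restrictScalars B) hp (f.restrictScalars B) hf hfp N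
  let a₁ := (TensorProduct.comm E (E ⊗[B] N) K).toAddEquiv.trans
    ((AlgebraTensorModule.cancelBaseChange B E E K N).toAddEquiv.trans (TensorProduct.comm B K N).toAddEquiv)
  let a₂ := (TensorProduct.comm E (E ⊗[B] N) G).toAddEquiv.trans
    ((AlgebraTensorModule.cancelBaseChange B E E G N).toAddEquiv.trans (TensorProduct.comm B G N).toAddEquiv)
  have hc : ∀ x, a₂ (f.lTensor (E ⊗[B] N) x) = (f.restrictScalars B).lTensor N (a₁ x) := by
    intro x
    induction x using TensorProduct.induction_on with
    | zero => simp
    | tmul l k =>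
      induction l using TensorProduct.induction_on with
      | zero => simp
      | tmul e n => simp [a₁, a₂]
      | add a b ha hb => simp only [TensorProduct.add_tmul, map_add, ha, hb]
    | add a b ha hb => simp only [map_add, ha, hb]
  intro x y hxy
  exact a₁.injective (h0 ((hc x).symm.trans ((congrArg a₂ hxy).trans (hc y))))

theorem exists_free_cover (E : Type u) [CommRing E] (M : Type u) [AddCommGroup M] [Module E M] :
    ∃ (G : Type u) (_ : AddCommGroup G) (_ : Module E G) (_ : Module.Free E G) (p : G →ₗ[E] M),
      Function.Surjective p :=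
  ⟨M →₀ E, inferInstance, inferInstance, inferInstance, Finsupp.linearCombination E id,
    Finsupp.linearCombination_id_surjective E M⟩

theorem isZero_tor (B E : Type u) [CommRing B] [CommRing E] [Algebra B E] [Module.Flat B E]
    (M : Type u) [AddCommGroup M] [Module E M] [Module B M] [IsScalarTower B E M] [Module.Flat B M] :
    ∀ (i : ℕ) (N : Type u) [AddCommGroup N] [Module B N],
      IsZero (((Tor (ModuleCat.{u} E) (i + 1)).obj (ModuleCat.of E (E ⊗[B] N))).obj (ModuleCat.of E M)) := by
  intro i
  induction i with
  | zero =>
    intro N _ _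
    obtain ⟨G, iG, iG', iG'', p, hp⟩ := exists_free_cover E M
    letI : Module B G := Module.compHom G (algebraMap B E)
    haveI : IsScalarTower B E G := IsScalarTower.of_algebraMap_smul fun _ _ => rfl
    let S : ShortComplex (ModuleCat.{u} E) := ShortComplex.mk (ModuleCat.ofHom (LinearMap.ker p).subtype)
      (ModuleCat.ofHom p) (ModuleCat.hom_ext (LinearMap.exact_subtype_ker_map p).linearMap_comp_eq_zero)
    have hS : S.ShortExact := ModuleCat.shortComplex_shortExact S (LinearMap.exact_subtype_ker_map p)
      (LinearMap.ker p).injective_subtype hp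
    haveI : Projective S.X₂ := ModuleCat.projective_of_categoryTheory_projective (ModuleCat.of E G)
    exact (Tor.isZero_one_iff_injective _ S hS).mpr (injective_aux B E M G (LinearMap.ker p)
      (LinearMap.ker p).subtype p (LinearMap.ker p).injective_subtype hp (LinearMap.exact_subtype_ker_map p) N)
  | succ i ih =>
    intro N _ _
    obtain ⟨G, iG, iG', iG'', p, hp⟩ := exists_free_cover B N
    let fK := (LinearMap.ker p).subtype.baseChange E
    let fp := p.baseChange E
    have hex : Function.Exact fK fp := lTensor_exact E (LinearMap.exact_subtype_ker_map p) hp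
    let S : ShortComplex (ModuleCat.{u} E) := ShortComplex.mk (ModuleCat.ofHom fK) (ModuleCat.ofHom fp)
      (ModuleCat.hom_ext hex.linearMap_comp_eq_zero)
    have hS : S.ShortExact := ModuleCat.shortComplex_shortExact S hex
      (Module.Flat.lTensor_preserves_injective_linearMap (M := E) (LinearMap.ker p).subtype
        (LinearMap.ker p).injective_subtype)
      (LinearMap.lTensor_surjective E hp)
    obtain ⟨-, -, δ, w₁, w₂, h₁, h₂⟩ := Tor.les₁ (ModuleCat.of E M) S hS (i + 1)
    haveI : Module.Flat E S.X₂ := inferInstanceAs (Module.Flat E (E ⊗[B] G))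
    have hF : IsZero (((Tor (ModuleCat.{u} E) (i + 1 + 1)).obj S.X₂).obj (ModuleCat.of E M)) :=
      H1CAlg.isZero_Tor_of_flat S.X₂ (ModuleCat.of E M) (i + 1)
    haveI : Mono δ := h₁.mono_g (hF.eq_of_src _ _)
    exact IsZero.of_mono δ (ih (LinearMap.ker p))

/-- The Euler characteristic collapses to the tensor product. -/
theorem chi_eq_length (B E : Type u) [CommRing B] [CommRing E] [Algebra B E] [Module.Flat B E]
    (M : Type u) [AddCommGroup M] [Module E M] [Module B M] [IsScalarTower B E M] [Module.Flat B M]
    (N : Type u) [AddCommGroup N] [Module B N] (N' : Type u) [AddCommGroup N'] [Module E N']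
    (e : N' ≃ₗ[E] E ⊗[B] N) :
    IntMult.chi E N' M = ((Module.length E (N' ⊗[E] M)).toNat : ℤ) := by
  rw [IntMult.chi, finsum_eq_single _ 0 fun i hi => ?_]
  · have e1 : Module.length E (DRing.Tor E 0 N' M) = Module.length E (N' ⊗[E] M) :=
      ((Tor.zeroIso (ModuleCat.of E N')).app (ModuleCat.of E M)).toLinearEquiv.length_eq
    rw [e1, pow_zero, one_mul]
  · obtain ⟨j, rfl⟩ := Nat.exists_eq_succ_of_ne_zero hi
    have hz : IsZero (((Tor (ModuleCat.{u} E) (j + 1)).obj (ModuleCat.of E N')).obj (ModuleCat.of E M)) :=
      (isZero_tor B E M j N).of_iso (((Tor (ModuleCat.{u} E) (j + 1)).mapIso e.toModuleIso).app _)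
    haveI : Subsingleton (DRing.Tor E (j + 1) N' M) := ModuleCat.subsingleton_of_isZero hz
    rw [show Module.length E (DRing.Tor E (j + 1) N' M) = 0 from Module.length_eq_zero_iff.mpr inferInstance]
    simp

end Groth.Agent.H3CAlg.TorFlatBC
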