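import Groth.Agent.H3CAlg.IntPt
import Groth.Agent.H3CAlg.TorFlatBC
import Groth.Agent.H06EGA9.ProductDim
import Groth.Agent.S9501
import Mathlib

/-! Generic points of `{a} × Y` in a product over a field. -/

set_option autoImplicit false
set_option linter.style.haveILetI false

universe u

open AlgebraicGeometry CategoryTheory CategoryTheory.Limits TopologicalSpace Topology TensorProduct
open Groth.Agent.H8Props.FieldDim

namespace Groth.Agent.H3CAlg.ProdPt

variable {P X : Scheme.{u}} (p : P ⟶ X)

/-- The generic point of a fibre. -/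
noncomputable def sig [GeometricallyIntegral p] (a : X) : P := p.fiberι a (genericPoint (p.fiber a))

theorem apply_sig [GeometricallyIntegral p] (a : X) : p (sig p a) = a :=
  (p.range_fiberι a).le (Set.mem_range_self _)

theorem sig_specializes [GeometricallyIntegral p] {a : X} {z : P} (hz : p z = a) : sig p a ⤳ z := by
  obtain ⟨w, rfl⟩ : z ∈ Set.range (p.fiberι a) := by rw [p.range_fiberι]; exact hz
  exact (genericPoint_specializes w).map (p.fiberι a).continuous

theorem quotient_equiv (a : X) (w : p.fiber a) :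
    Nonempty ((P.presheaf.stalk (p.fiberι a w) ⧸
      (IsLocalRing.maximalIdeal (X.presheaf.stalk (p (p.fiberι a w)))).map (p.stalkMap (p.fiberι a w)).hom) ≃+*
        (p.fiber a).presheaf.stalk w) := by
  obtain ⟨hsurj, hker⟩ := S9501.result p a w
  exact ⟨(Ideal.quotEquivOfEq hker.symm).trans (RingHom.quotientKerEquivOfSurjective hsurj)⟩

theorem isDomain_quotient [GeometricallyIntegral p] (z : P) :
    IsDomain (P.presheaf.stalk z ⧸ (IsLocalRing.maximalIdeal (X.presheaf.stalk (p z))).map (p.stalkMap z).hom) := by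
  obtain ⟨w, hw⟩ : z ∈ Set.range (p.fiberι (p z)) := by rw [p.range_fiberι]; rfl
  obtain ⟨e⟩ := quotient_equiv p (p z) w
  have := e.toMulEquiv.isDomain
  rwa [hw] at this

theorem isField_quotient [GeometricallyIntegral p] (a : X) :
    IsField (P.presheaf.stalk (sig p a) ⧸
      (IsLocalRing.maximalIdeal (X.presheaf.stalk (p (sig p a)))).map (p.stalkMap (sig p a)).hom) := by
  obtain ⟨e⟩ := quotient_equiv p a (genericPoint (p.fiber a))
  exact e.toMulEquiv.isField (Field.toIsField ((p.fiber a).functionField))

theorem length_sig [GeometricallyIntegral p] (a : X) :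
    Module.length (P.presheaf.stalk (sig p a)) (P.presheaf.stalk (sig p a) ⧸
      (IsLocalRing.maximalIdeal (X.presheaf.stalk (p (sig p a)))).map (p.stalkMap (sig p a)).hom) = 1 := by
  haveI := isSimpleModule_iff_isCoatom.mpr
    (Ideal.Quotient.maximal_of_isField _ (isField_quotient p a)).out
  exact Module.length_eq_one _ _

theorem stalkIdeal_comap_pt {z : P} :
    IntMult.stalkIdeal ((IntMult.ptIdeal (p z)).comap p) z =
      (IsLocalRing.maximalIdeal (X.presheaf.stalk (p z))).map (p.stalkMap z).hom := by
  rw [DiagStalk.stalkIdeal_comap, IntPt.stalkIdeal_ptIdeal_self]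

theorem mem_support_ptIdeal {X : Scheme.{u}} (a : X) : a ∈ (IntMult.ptIdeal a).support := by
  rw [← SetLike.mem_coe, IntMult.ptIdeal, Scheme.IdealSheafData.coe_support_vanishingIdeal]
  exact subset_closure rfl

theorem specializes_of_mem_support {X : Scheme.{u}} {a b : X} (h : b ∈ (IntMult.ptIdeal a).support) : a ⤳ b := by
  rw [← SetLike.mem_coe, IntMult.ptIdeal, Scheme.IdealSheafData.coe_support_vanishingIdeal] at h
  exact specializes_iff_mem_closure.mpr h

theorem stalkIdeal_sig [GeometricallyIntegral p] (z : P) :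
    IntMult.stalkIdeal (IntMult.ptIdeal (sig p (p z))) z =
      (IsLocalRing.maximalIdeal (X.presheaf.stalk (p z))).map (p.stalkMap z).hom := by
  have hs := sig_specializes p (rfl : p z = p z)
  rw [← stalkIdeal_comap_pt p]
  refine le_antisymm ?_ (IntPt.stalkIdeal_le_of_mem_support _ hs ?_)
  · haveI := isDomain_quotient p z
    have hp : (IntMult.stalkIdeal ((IntMult.ptIdeal (p z)).comap p) z).IsPrime := by
      rw [stalkIdeal_comap_pt]
      exact (Ideal.Quotient.isDomain_iff_prime _).mp inferInstance
    let 𝔭 : PrimeSpectrum (P.presheaf.stalk z) := ⟨_, hp⟩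
    have hz : z ∈ ((IntMult.ptIdeal (p z)).comap p).support := by
      rw [Scheme.IdealSheafData.support_comap]
      exact mem_support_ptIdeal (p z)
    have h1 := (IntLocal.stalkIdeal_le_iff _ hz 𝔭).mp le_rfl
    rw [Scheme.IdealSheafData.support_comap] at h1
    have h2 : p (P.fromSpecStalk z 𝔭) ⤳ p z :=
      Specializes.map ((Scheme.range_fromSpecStalk (x := z)).le ⟨𝔭, rfl⟩) p.continuous
    have h3 : p (P.fromSpecStalk z 𝔭) = p z := (h2.antisymm (specializes_of_mem_support h1)).eq
    refine (IntLocal.stalkIdeal_le_iff _ ?_ 𝔭).mpr ?_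
    · exact hs.mem_closed (IntMult.ptIdeal (sig p (p z))).support.isClosed (mem_support_ptIdeal _)
    · exact (sig_specializes p h3).mem_closed (IntMult.ptIdeal (sig p (p z))).support.isClosed (mem_support_ptIdeal _)
  · rw [Scheme.IdealSheafData.support_comap]
    show p (sig p (p z)) ∈ (IntMult.ptIdeal (p z)).support
    rw [apply_sig]
    exact mem_support_ptIdeal _

/-- A flat subscheme gives a flat quotient of the local ring. -/
theorem flat_quotient {P Y : Scheme.{u}} (q : P ⟶ Y) (J : P.IdealSheafData) [Flat (J.subschemeι ≫ q)] {z : P}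
    (hmem : z ∈ J.support) :
    ((Ideal.Quotient.mk (IntMult.stalkIdeal J z)).comp (q.stalkMap z).hom).Flat := by
  obtain ⟨d, rfl⟩ := IntLocal.exists_point J hmem
  rw [IntLocal.stalkIdeal_eq_ker]
  let e := RingHom.quotientKerEquivOfSurjective
    (f := (J.subschemeι.stalkMap d).hom) (J.subschemeι.stalkMap_surjective d)
  have h1 : (Ideal.Quotient.mk (RingHom.ker (J.subschemeι.stalkMap d).hom)).comp (q.stalkMap (J.subschemeι d)).hom =
      e.symm.toRingHom.comp ((J.subschemeι ≫ q).stalkMap d).hom := by
    ext a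
    apply e.injective
    refine Eq.trans ?_ (e.apply_symm_apply _).symm
    rw [Scheme.Hom.stalkMap_comp]
    rfl
  rw [h1]
  exact (Flat.stalkMap _ d).comp (RingHom.Flat.of_bijective e.symm.bijective)

variable {K : Type u} [Field K] {Y : Scheme.{u}} {q : P ⟶ Y} {f : X ⟶ Spec (CommRingCat.of K)}
  {g : Y ⟶ Spec (CommRingCat.of K)}

theorem cdim_sig [GeometricallyIntegral p] [LocallyOfFiniteType f] [LocallyOfFiniteType g] [IsIntegral Y]
    (h : IsPullback p q f g) {m : ℕ} (hm : topologicalKrullDim Y = m) (a : X) :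
    cdim (sig p a) = cdim a + m := by
  refine le_antisymm ?_ ?_
  · refine (H06EGA9.cdim_le_add h (sig p a)).trans ?_
    rw [apply_sig, ← hm]
    exact add_le_add le_rfl (IntPoints.cdim_le _)
  · obtain ⟨z, hpz, -, hd⟩ := H06EGA9.exists_point_add h a (genericPoint Y)
    rw [IntPoints.cdim_genericPoint, hm] at hd
    rw [← hd]
    exact dim_mono (specializes_iff_closure_subset.mp (sig_specializes p hpz))

theorem eq_sig [GeometricallyIntegral p] [LocallyOfFiniteType f] [LocallyOfFiniteType g] [IsIntegral Y]
    (h : IsPullback p q f g) {m : ℕ} (hm : topologicalKrullDim Y = m) (z : P)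
    (hz : cdim z = cdim (p z) + m) : z = sig p (p z) := by
  by_contra hne
  haveI : LocallyOfFiniteType p := MorphismProperty.of_isPullback h.flip ‹_›
  have := cdim_lt (p ≫ f) (sig_specializes p rfl) (fun e => hne e.symm)
  rw [cdim_sig p h hm, hz] at this
  exact lt_irrefl _ this

/-- The Tor formula for the two projections. -/
theorem mult_sig [GeometricallyIntegral p] [GeometricallyIntegral q] [Flat q]
    (h : IsPullback p q f g) (z : P) :
    IntMult.mult (IntMult.ptIdeal (sig p (p z))) (IntMult.ptIdeal (sig q (q z))) z =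
      ((Module.length (P.presheaf.stalk z) (P.presheaf.stalk z ⧸
        ((IsLocalRing.maximalIdeal (X.presheaf.stalk (p z))).map (p.stalkMap z).hom ⊔
          (IsLocalRing.maximalIdeal (Y.presheaf.stalk (q z))).map (q.stalkMap z).hom))).toNat : ℤ) := by
  rw [IntMult.mult, stalkIdeal_sig, stalkIdeal_sig]
  let J := (IntMult.ptIdeal (p z)).comap p
  haveI : Flat (J.subschemeι ≫ q) := by
    have hp := (IsPullback.of_hasPullback p (IntMult.ptIdeal (p z)).subschemeι).paste_horiz h.flip
    haveI : Flat (pullback.fst p (IntMult.ptIdeal (p z)).subschemeι ≫ q) :=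
      MorphismProperty.of_isPullback hp.flip (inferInstance : Flat ((IntMult.ptIdeal (p z)).subschemeι ≫ f))
    show Flat (((IntMult.ptIdeal (p z)).comap p).subschemeι ≫ q)
    rw [← Scheme.IdealSheafData.comapIso_hom_fst (IntMult.ptIdeal (p z)) p, Category.assoc]
    infer_instance
  have hmem : z ∈ J.support := by
    rw [Scheme.IdealSheafData.support_comap]
    exact mem_support_ptIdeal (p z)
  have hflat := flat_quotient q J hmem
  rw [stalkIdeal_comap_pt] at hflat
  let E := P.presheaf.stalk z
  let B := Y.presheaf.stalk (q z)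
  let Ia := (IsLocalRing.maximalIdeal (X.presheaf.stalk (p z))).map (p.stalkMap z).hom
  letI : Algebra B E := (q.stalkMap z).hom.toAlgebra
  haveI : Module.Flat B E := Flat.stalkMap q z
  haveI : Module.Flat B (E ⧸ Ia) := by
    have h : (algebraMap B (E ⧸ Ia)).Flat := by
      rw [IsScalarTower.algebraMap_eq B E (E ⧸ Ia)]
      exact hflat
    exact RingHom.flat_algebraMap_iff.mp h
  let e := (Algebra.TensorProduct.quotIdealMapEquivTensorQuot E (IsLocalRing.maximalIdeal B)).toLinearEquiv
  refine (TorFlatBC.chi_eq_length B E (E ⧸ Ia) (B ⧸ IsLocalRing.maximalIdeal B) _ e).trans ?_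
  rw [(TensorProduct.quotTensorEquivQuotSMul (E ⧸ Ia) ((IsLocalRing.maximalIdeal B).map (algebraMap B E))).length_eq,
    TorMult.length_quot_smul]
  rfl

end Groth.Agent.H3CAlg.ProdPt
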