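import Groth.Agent.H3CAlg.Horseshoe
import Mathlib.CategoryTheory.Monoidal.Tor
import Mathlib.RingTheory.Flat.CategoryTheory
import Mathlib.Algebra.Category.ModuleCat.Monoidal.Basic
import Mathlib.Algebra.Category.ModuleCat.Projective
import Mathlib.Algebra.Category.ModuleCat.Abelian
import Mathlib.Algebra.Category.ModuleCat.EnoughInjectives

/-!
# Long exact sequences of `Tor` in both variables
-/

universe v u v' u'

open CategoryTheory CategoryTheory.Limits MonoidalCategory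

namespace Groth.Agent.H3CAlg

section General

variable {C : Type u} [Category.{v} C] [Abelian C] [EnoughProjectives C]
  {D : Type u'} [Category.{v'} D] [Abelian D] (F : C ⥤ D) [F.Additive]

/-- Transport of the homology sequence of a short exact sequence of complexes. -/
lemma exact_of_homology {C' : Type*} [Category C'] [Abelian C'] {A₁ A₂ A₃ B₁ B₂ B₃ : C'}
    (e₁ : A₁ ≅ B₁) (e₂ : A₂ ≅ B₂) (e₃ : A₃ ≅ B₃) {f : A₁ ⟶ A₂} {g : A₂ ⟶ A₃} {f' : B₁ ⟶ B₂}
    {g' : B₂ ⟶ B₃} (hf : f ≫ e₂.hom = e₁.hom ≫ f') (hg : g ≫ e₃.hom = e₂.hom ≫ g')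
    {w : f' ≫ g' = 0} (h : (ShortComplex.mk f' g' w).Exact) :
    ∃ w₀ : f ≫ g = 0, (ShortComplex.mk f g w₀).Exact := by
  have w₀ : f ≫ g = 0 := by
    rw [← cancel_mono e₃.hom, Category.assoc, hg, ← Category.assoc, hf, Category.assoc, w,
      comp_zero, zero_comp]
  exact ⟨w₀, (ShortComplex.exact_iff_of_iso (ShortComplex.isoMk e₁ e₂ e₃ hf.symm hg.symm :
    ShortComplex.mk f g w₀ ≅ ShortComplex.mk f' g' w)).mpr h⟩

/-- The long exact sequence of left derived functors. -/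
theorem leftDerived_les (S : ShortComplex C) (hS : S.ShortExact) (n : ℕ) :
    (∃ w₀ : (F.leftDerived n).map S.f ≫ (F.leftDerived n).map S.g = 0,
      (ShortComplex.mk _ _ w₀).Exact) ∧ Epi ((F.leftDerived 0).map S.g) ∧
    ∃ (δ : (F.leftDerived (n + 1)).obj S.X₃ ⟶ (F.leftDerived n).obj S.X₁)
      (w₁ : (F.leftDerived (n + 1)).map S.g ≫ δ = 0) (w₂ : δ ≫ (F.leftDerived n).map S.f = 0),
      (ShortComplex.mk _ δ w₁).Exact ∧ (ShortComplex.mk δ _ w₂).Exact := by
  obtain ⟨P₁, P₂, P₃, φ, ψ, w, hsp, hφ, hψ⟩ := Horseshoe.exists_resolutions S hS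
  let G := F.mapHomologicalComplex (ComplexShape.down ℕ)
  let T : ShortComplex (ChainComplex D ℕ) :=
    ShortComplex.mk (G.map φ) (G.map ψ) (by rw [← G.map_comp, w, G.map_zero])
  have hT : T.ShortExact := by
    apply HomologicalComplex.shortExact_of_degreewise_shortExact
    intro i
    exact ((hsp i).some.map F).shortExact
  let E₁ : ∀ m, (F.leftDerived m).obj S.X₁ ≅ T.X₁.homology m := fun m ↦ P₁.isoLeftDerivedObj F m
  let E₂ : ∀ m, (F.leftDerived m).obj S.X₂ ≅ T.X₂.homology m := fun m ↦ P₂.isoLeftDerivedObj F m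
  let E₃ : ∀ m, (F.leftDerived m).obj S.X₃ ≅ T.X₃.homology m := fun m ↦ P₃.isoLeftDerivedObj F m
  have nat₁ : ∀ m, (F.leftDerived m).map S.f ≫ (E₂ m).hom =
      (E₁ m).hom ≫ HomologicalComplex.homologyMap T.f m := fun m ↦
    P₁.isoLeftDerivedObj_hom_naturality S.f P₂ φ hφ F m
  have nat₂ : ∀ m, (F.leftDerived m).map S.g ≫ (E₃ m).hom =
      (E₂ m).hom ≫ HomologicalComplex.homologyMap T.g m := fun m ↦
    P₂.isoLeftDerivedObj_hom_naturality S.g P₃ ψ hψ F m
  refine ⟨exact_of_homology _ _ _ (nat₁ n) (nat₂ n) (hT.homology_exact₂ n), ?_, ?_⟩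
  · have : Epi (HomologicalComplex.homologyMap T.g 0) := by
      have := hT.epi_g
      exact HomologicalComplex.epi_homologyMap_of_epi_of_not_rel _ 0 (by simp)
    have h1 : (F.leftDerived 0).map S.g = (E₂ 0).hom ≫
        HomologicalComplex.homologyMap T.g 0 ≫ (E₃ 0).inv := by
      rw [← cancel_mono (E₃ 0).hom]
      simp only [Category.assoc, Iso.inv_hom_id, Category.comp_id]
      exact nat₂ 0
    rw [h1]
    exact @epi_comp _ _ _ _ _ _ inferInstance _ (@epi_comp _ _ _ _ _ _ this _ inferInstance)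
  · let δ : (F.leftDerived (n + 1)).obj S.X₃ ⟶ (F.leftDerived n).obj S.X₁ :=
      (E₃ (n + 1)).hom ≫ hT.δ (n + 1) n rfl ≫
        (E₁ n).inv
    have hδ : δ ≫ (E₁ n).hom =
        (E₃ (n + 1)).hom ≫ hT.δ (n + 1) n rfl := by
      simp only [δ, Category.assoc, Iso.inv_hom_id, Category.comp_id]
    obtain ⟨w₁, h₁⟩ := exact_of_homology _ _ _ (nat₂ (n + 1)) hδ (hT.homology_exact₃ (n + 1) n rfl)
    obtain ⟨w₂, h₂⟩ := exact_of_homology _ _ _ hδ (nat₁ n) (hT.homology_exact₁ (n + 1) n rfl)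
    exact ⟨δ, w₁, w₂, h₁, h₂⟩

/-- The long exact sequence of left derived functors of a sequence of functors that is short
exact on projectives. -/
theorem leftDerived_les_natTrans {F G H : C ⥤ D} [F.Additive] [G.Additive] [H.Additive]
    (α : F ⟶ G) (β : G ⟶ H) (w : ∀ X : C, α.app X ≫ β.app X = 0)
    (hex : ∀ (X : C) [Projective X], (ShortComplex.mk (α.app X) (β.app X) (w X)).ShortExact)
    (X : C) (n : ℕ) :
    (∃ w₀ : (NatTrans.leftDerived α n).app X ≫ (NatTrans.leftDerived β n).app X = 0,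
      (ShortComplex.mk _ _ w₀).Exact) ∧ Epi ((NatTrans.leftDerived β 0).app X) ∧
    ∃ (δ : (H.leftDerived (n + 1)).obj X ⟶ (F.leftDerived n).obj X)
      (w₁ : (NatTrans.leftDerived β (n + 1)).app X ≫ δ = 0)
      (w₂ : δ ≫ (NatTrans.leftDerived α n).app X = 0),
      (ShortComplex.mk _ δ w₁).Exact ∧ (ShortComplex.mk δ _ w₂).Exact := by
  let P := projectiveResolution X
  let a := (NatTrans.mapHomologicalComplex α (ComplexShape.down ℕ)).app P.complex
  let b := (NatTrans.mapHomologicalComplex β (ComplexShape.down ℕ)).app P.complex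
  let T : ShortComplex (ChainComplex D ℕ) := ShortComplex.mk a b (by ext i; exact w _)
  have hT : T.ShortExact := by
    apply HomologicalComplex.shortExact_of_degreewise_shortExact
    intro i
    exact hex (P.complex.X i)
  let E₁ : ∀ m, (F.leftDerived m).obj X ≅ T.X₁.homology m := fun m ↦ P.isoLeftDerivedObj F m
  let E₂ : ∀ m, (G.leftDerived m).obj X ≅ T.X₂.homology m := fun m ↦ P.isoLeftDerivedObj G m
  let E₃ : ∀ m, (H.leftDerived m).obj X ≅ T.X₃.homology m := fun m ↦ P.isoLeftDerivedObj H m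
  have nat₁ : ∀ m, (NatTrans.leftDerived α m).app X ≫ (E₂ m).hom =
      (E₁ m).hom ≫ HomologicalComplex.homologyMap T.f m := fun m ↦ by
    rw [P.leftDerived_app_eq α m]
    simp only [E₁, E₂, E₃, Category.assoc]
    erw [Iso.inv_hom_id, Category.comp_id]
    rfl
  have nat₂ : ∀ m, (NatTrans.leftDerived β m).app X ≫ (E₃ m).hom =
      (E₂ m).hom ≫ HomologicalComplex.homologyMap T.g m := fun m ↦ by
    rw [P.leftDerived_app_eq β m]
    simp only [E₁, E₂, E₃, Category.assoc]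
    erw [Iso.inv_hom_id, Category.comp_id]
    rfl
  refine ⟨exact_of_homology _ _ _ (nat₁ n) (nat₂ n) (hT.homology_exact₂ n), ?_, ?_⟩
  · have : Epi (HomologicalComplex.homologyMap T.g 0) := by
      have := hT.epi_g
      exact HomologicalComplex.epi_homologyMap_of_epi_of_not_rel _ 0 (by simp)
    rw [P.leftDerived_app_eq β 0]
    exact @epi_comp _ _ _ _ _ _ inferInstance _ (@epi_comp _ _ _ _ _ _ this _ inferInstance)
  · let δ : (H.leftDerived (n + 1)).obj X ⟶ (F.leftDerived n).obj X :=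
      (E₃ (n + 1)).hom ≫ hT.δ (n + 1) n rfl ≫ (E₁ n).inv
    have hδ : δ ≫ (E₁ n).hom =
        (E₃ (n + 1)).hom ≫ hT.δ (n + 1) n rfl := by
      simp only [δ, Category.assoc, Iso.inv_hom_id, Category.comp_id]
    obtain ⟨w₁, h₁⟩ := exact_of_homology _ _ _ (nat₂ (n + 1)) hδ (hT.homology_exact₃ (n + 1) n rfl)
    obtain ⟨w₂, h₂⟩ := exact_of_homology _ _ _ hδ (nat₁ n) (hT.homology_exact₁ (n + 1) n rfl)
    exact ⟨δ, w₁, w₂, h₁, h₂⟩

end General

namespace Tor

variable {R : Type u} [CommRing R]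

/-- The long exact sequence of `Tor` in the second variable. -/
theorem les₂ (M : ModuleCat.{u} R) (S : ShortComplex (ModuleCat.{u} R)) (hS : S.ShortExact)
    (i : ℕ) :
    (∃ w₀ : ((Tor (ModuleCat.{u} R) i).obj M).map S.f ≫ ((Tor (ModuleCat.{u} R) i).obj M).map S.g = 0,
      (ShortComplex.mk _ _ w₀).Exact) ∧ Epi (((Tor (ModuleCat.{u} R) 0).obj M).map S.g) ∧
    ∃ (δ : ((Tor (ModuleCat.{u} R) (i + 1)).obj M).obj S.X₃ ⟶
        ((Tor (ModuleCat.{u} R) i).obj M).obj S.X₁)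
      (w₁ : ((Tor (ModuleCat.{u} R) (i + 1)).obj M).map S.g ≫ δ = 0)
      (w₂ : δ ≫ ((Tor (ModuleCat.{u} R) i).obj M).map S.f = 0),
      (ShortComplex.mk _ δ w₁).Exact ∧ (ShortComplex.mk δ _ w₂).Exact :=
  leftDerived_les ((tensoringLeft (ModuleCat.{u} R)).obj M) S hS i

/-- The long exact sequence of `Tor` in the first variable. -/
theorem les₁ (N : ModuleCat.{u} R) (S : ShortComplex (ModuleCat.{u} R)) (hS : S.ShortExact)
    (i : ℕ) :
    (∃ w₀ : ((Tor (ModuleCat.{u} R) i).map S.f).app N ≫ ((Tor (ModuleCat.{u} R) i).map S.g).app N = 0,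
      (ShortComplex.mk _ _ w₀).Exact) ∧ Epi (((Tor (ModuleCat.{u} R) 0).map S.g).app N) ∧
    ∃ (δ : ((Tor (ModuleCat.{u} R) (i + 1)).obj S.X₃).obj N ⟶
        ((Tor (ModuleCat.{u} R) i).obj S.X₁).obj N)
      (w₁ : ((Tor (ModuleCat.{u} R) (i + 1)).map S.g).app N ≫ δ = 0)
      (w₂ : δ ≫ ((Tor (ModuleCat.{u} R) i).map S.f).app N = 0),
      (ShortComplex.mk _ δ w₁).Exact ∧ (ShortComplex.mk δ _ w₂).Exact := by
  refine leftDerived_les_natTrans ((tensoringLeft (ModuleCat.{u} R)).map S.f)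
    ((tensoringLeft (ModuleCat.{u} R)).map S.g) (fun X ↦ ?_) (fun X hX ↦ ?_) N i
  · show S.f ▷ X ≫ S.g ▷ X = 0
    rw [← comp_whiskerRight, S.zero]
    exact MonoidalPreadditive.zero_whiskerRight
  · have : Module.Projective R X :=
      X.projective_of_module_projective
    refine { exact := ?_, mono_f := ?_, epi_g := ?_ }
    · exact Module.Flat.rTensor_shortComplex_exact X S hS.exact
    · rw [ModuleCat.mono_iff_injective]
      exact Module.Flat.rTensor_preserves_injective_linearMap _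
        ((ModuleCat.mono_iff_injective _).mp hS.mono_f)
    · rw [ModuleCat.epi_iff_surjective]
      exact LinearMap.rTensor_surjective X ((ModuleCat.epi_iff_surjective _).mp hS.epi_g)

/-- The middle term of an exact piece vanishes if the outer terms do. -/
theorem isZero_obj_X₂ (N : ModuleCat.{u} R) (S : ShortComplex (ModuleCat.{u} R)) (hS : S.ShortExact)
    (i : ℕ) (h₁ : IsZero (((Tor (ModuleCat.{u} R) i).obj S.X₁).obj N))
    (h₃ : IsZero (((Tor (ModuleCat.{u} R) i).obj S.X₃).obj N)) :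
    IsZero (((Tor (ModuleCat.{u} R) i).obj S.X₂).obj N) := by
  obtain ⟨⟨w₀, h⟩, -⟩ := les₁ N S hS i
  exact h.isZero_X₂ (h₁.eq_of_src _ _) (h₃.eq_of_tgt _ _)

end Tor

end Groth.Agent.H3CAlg
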