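import Groth.Agent.H26Tor.Balance
import Groth.Agent.H8Props.PseudoCoh.Koszul
import Groth.Agent.H1Koszul.Samuel
import Groth.Agent.S15821
import Groth.Prelude.Def_IntMult
import Mathlib

/-!
# `Tor` of a quotient by a regular sequence is Koszul homology
-/

set_option autoImplicit false
universe u

open CategoryTheory CategoryTheory.Limits MonoidalCategory

namespace Groth.Agent.H3CAlg.TorKoszul

variable {A : Type u} [CommRing A]

/-- The Koszul complex with homological indexing. -/
noncomputable def kosChain (l : List A) : ChainComplex (ModuleCat.{u} A) ℕ where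
  X n := (Koszul.koszul A l).X (-(n : ℤ))
  d i j := (Koszul.koszul A l).d (-(i : ℤ)) (-(j : ℤ))
  shape i j h := (Koszul.koszul A l).shape _ _ (by
    simp only [ComplexShape.up_Rel, ComplexShape.down_Rel] at h ⊢
    omega)
  d_comp_d' i j k _ _ := (Koszul.koszul A l).d_comp_d _ _ _

theorem kosChain_exact (l : List A) (h : LCI.IsKoszulRegularSeq A l) (n : ℕ) :
    (kosChain l).ExactAt (n + 1) := by
  have h1 := h (-((n + 1 : ℕ) : ℤ)) (by omega)
  rw [← HomologicalComplex.exactAt_iff_isZero_homology,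
    HomologicalComplex.exactAt_iff' _ (-((n + 2 : ℕ) : ℤ)) (-((n + 1 : ℕ) : ℤ)) (-(n : ℤ))
      (by simp <;> omega) (by simp <;> omega)] at h1
  rw [HomologicalComplex.exactAt_iff' _ (n + 2) (n + 1) n (by simp) (by simp)]
  exact h1

theorem nonempty_kosRes (l : List A) (h : LCI.IsKoszulRegularSeq A l) :
    ∃ P : ProjectiveResolution (ModuleCat.of A (A ⧸ Ideal.ofList l)), P.complex = kosChain l := by
  obtain ⟨ε, hε⟩ := H8Props.PseudoCoh.koszul_zero l
  let p : (kosChain l).X 0 ⟶ ModuleCat.of A (A ⧸ Ideal.ofList l) :=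
    ModuleCat.ofHom ((Submodule.mkQ (Ideal.ofList l)) ∘ₗ ε.toLinearMap)
  have hmem : ∀ x : (Koszul.koszul A l).X 0, ε x ∈ Ideal.ofList l ↔
      x ∈ Set.range ((Koszul.koszul A l).d (-1) 0).hom := fun x => by
    rw [← hε, Submodule.mem_map_equiv, LinearEquiv.symm_apply_apply]
    exact LinearMap.mem_range
  have hex : ∀ x : (kosChain l).X 0, p x = 0 ↔ x ∈ Set.range ((kosChain l).d 1 0).hom := fun x =>
    (Submodule.Quotient.mk_eq_zero _).trans (hmem x)
  have hw : (kosChain l).d 1 0 ≫ p = 0 := by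
    refine ModuleCat.hom_ext (LinearMap.ext fun x => ?_)
    exact (hex _).2 ⟨x, rfl⟩
  refine ⟨{ complex := kosChain l
            projective := fun n => by
              haveI : Module.Free A ((Koszul.koszul A l).X (-(n : ℤ))) :=
                (H8Props.PseudoCoh.koszul_finite_free l (-(n : ℤ))).2
              haveI : Module.Projective A ((Koszul.koszul A l).X (-(n : ℤ))) := Module.Projective.of_free
              exact ((Koszul.koszul A l).X (-(n : ℤ))).projective_of_categoryTheory_projective
            π := (ChainComplex.toSingle₀Equiv _ _).symm ⟨p, hw⟩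
            quasiIso := ⟨fun n => ?_⟩ }, rfl⟩
  cases n
  · rw [ChainComplex.quasiIsoAt₀_iff, ShortComplex.quasiIso_iff_of_zeros']
    · have h0 : (ShortComplex.mk ((kosChain l).d 1 0) p hw).Exact := by
        rw [ShortComplex.moduleCat_exact_iff]
        intro x hx
        exact (hex x).1 hx
      refine (ShortComplex.exact_and_epi_g_iff_of_iso ?_).2
        ⟨h0, (ModuleCat.epi_iff_surjective _).mpr ((Submodule.mkQ_surjective _).comp ε.surjective)⟩
      refine ShortComplex.isoMk (Iso.refl _) (Iso.refl _) (Iso.refl _) ?_ ?_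
      · exact (Category.id_comp _).trans (Category.comp_id _).symm
      · exact (Category.id_comp _).trans (Category.comp_id _).symm
    all_goals first
      | rfl
      | exact (kosChain l).shape _ _ (by simp)
  · rename_i n
    rw [quasiIsoAt_iff_exactAt']
    · exact kosChain_exact l h n
    · apply ChainComplex.exactAt_succ_single_obj

/-- Lengths of `Tor` against a quotient by a Koszul regular sequence. -/
theorem length_tor_quotient (l : List A) (h : LCI.IsKoszulRegularSeq A l) (M : Type u) [AddCommGroup M]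
    [Module A M] (n : ℕ) :
    Module.length A (DRing.Tor A n (A ⧸ Ideal.ofList l) M) =
      Module.length A ((DRing.tensorCx (Koszul.koszul A l) (ModuleCat.of A M)).homology (-(n : ℤ))) := by
  obtain ⟨P, hP⟩ := nonempty_kosRes l h
  obtain ⟨e⟩ := H26Tor.balance P n (ModuleCat.of A M)
  refine e.toLinearEquiv.length_eq.trans ?_
  have e1 : (H26Tor.leftRes P).obj (ModuleCat.of A M) ≅
      ((tensorRight (ModuleCat.of A M)).mapHomologicalComplex _).obj (kosChain l) :=
    eqToIso (by rw [← hP]; rfl)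
  refine ((HomologicalComplex.homologyFunctor _ _ n).mapIso e1).toLinearEquiv.length_eq.trans ?_
  let K := ((tensorRight (ModuleCat.of A M)).mapHomologicalComplex _).obj (kosChain l)
  show Module.length A (K.homology n) = _
  let C := DRing.tensorCx (Koszul.koszul A l) (ModuleCat.of A M)
  cases n with
  | zero =>
    have e2 := K.homologyIsoSc' 1 0 0 (by simp) (by simp)
    have e3 := C.homologyIsoSc' (-((1 : ℕ) : ℤ)) (-((0 : ℕ) : ℤ)) 1 (by simp) (by simp)
    have hg1 : C.d (-((0 : ℕ) : ℤ)) 1 = 0 := by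
      refine IsZero.eq_of_tgt ?_ _ _
      exact (tensorRight (ModuleCat.of A M)).map_isZero (H8Props.PseudoCoh.koszul_isZero l 1 (Or.inr one_pos))
    have hg2 : K.d 0 0 = 0 := K.shape _ _ (by simp)
    rw [e2.toLinearEquiv.length_eq, e3.toLinearEquiv.length_eq,
      (K.sc' 1 0 0).moduleCatHomologyIso.toLinearEquiv.length_eq,
      (C.sc' (-((1 : ℕ) : ℤ)) (-((0 : ℕ) : ℤ)) 1).moduleCatHomologyIso.toLinearEquiv.length_eq]
    have k2 : LinearMap.ker (K.sc' 1 0 0).g.hom = ⊤ := by
      rw [show (K.sc' 1 0 0).g = 0 from hg2]; exact LinearMap.ker_zero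
    have k1 : LinearMap.ker (C.sc' (-((1 : ℕ) : ℤ)) (-((0 : ℕ) : ℤ)) 1).g.hom = ⊤ := by
      rw [show (C.sc' (-((1 : ℕ) : ℤ)) (-((0 : ℕ) : ℤ)) 1).g = 0 from hg1]; exact LinearMap.ker_zero
    refine LinearEquiv.length_eq (Submodule.Quotient.equiv _ _
      ((LinearEquiv.ofTop _ k2).trans (LinearEquiv.ofTop _ k1).symm) ?_)
    refine le_antisymm ?_ ?_
    · rintro _ ⟨_, ⟨w, rfl⟩, rfl⟩
      exact ⟨w, Subtype.ext rfl⟩
    · rintro _ ⟨w, rfl⟩
      exact ⟨_, ⟨w, rfl⟩, Subtype.ext rfl⟩
  | succ n =>
    have e2 := K.homologyIsoSc' (n + 2) (n + 1) n (by simp) (by simp)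
    have e3 := C.homologyIsoSc' (-((n + 2 : ℕ) : ℤ)) (-((n + 1 : ℕ) : ℤ)) (-(n : ℤ)) (by simp <;> omega) (by simp <;> omega)
    rw [e2.toLinearEquiv.length_eq, e3.toLinearEquiv.length_eq]
    rfl

/-- The Tor Euler characteristic against such a quotient is the Koszul one. -/
theorem chi_eq_chi [IsNoetherianRing A] (l : List A) (h : LCI.IsKoszulRegularSeq A l) (M : Type u)
    [AddCommGroup M] [Module A M] :
    IntMult.chi A (A ⧸ Ideal.ofList l) M = H1Koszul.chi l M := by
  have hlen : ∀ n : ℕ, (Module.length A (DRing.Tor A n (A ⧸ Ideal.ofList l) M)).toNat = H1Koszul.len l M n := by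
    intro n
    rw [length_tor_quotient l h M n, H1Koszul.length_homology_eq, neg_neg]
    rfl
  rw [IntMult.chi, H1Koszul.chi, finsum_eq_sum_of_support_subset _ (s := Finset.range (l.length + 1))]
  · exact Finset.sum_congr rfl fun i _ => by rw [hlen]
  · intro i hi
    rw [Finset.coe_range, Set.mem_Iio]
    by_contra hne
    refine hi ?_
    show _ * _ = (0 : ℤ)
    rw [hlen, H1Koszul.len_eq_zero (Or.inr (by omega)), Nat.cast_zero, mul_zero]

end Groth.Agent.H3CAlg.TorKoszul
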