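import Groth.Agent.H29Fitt.Ideal
import Mathlib

/-!
# Modules with a principal Fitting ideal generated by a non-zero-divisor
-/

set_option autoImplicit false

universe u

namespace Groth.Agent.H3CAlg.FittPrincipal

variable {R : Type u} [CommRing R]

/-- A finite family that spans and is independent up to powers of `g`. -/
def IsBasisUpTo {N : Type u} [AddCommGroup N] [Module R N] (g : R) {ι : Type} [Fintype ι] (y : ι → N) :
    Prop :=
  (∀ x : N, ∃ s : ℕ, g ^ s • x ∈ Submodule.span R (Set.range y)) ∧
    ∀ a : ι → R, ∑ i, a i • y i = 0 → ∃ s : ℕ, g ^ s • a = 0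

theorem nonempty_basis {N : Type u} [AddCommGroup N] [Module R N] {g : R} {ι : Type} [Fintype ι]
    {y : ι → N} (h : IsBasisUpTo g y) :
    Nonempty (Module.Basis ι (Localization.Away g) (LocalizedModule (Submonoid.powers g) N)) := by
  classical
  let f := LocalizedModule.mkLinearMap (Submonoid.powers g) N
  refine ⟨Module.Basis.mk (v := fun i => f (y i)) ?_ ?_⟩
  · rw [Fintype.linearIndependent_iff]
    intro c hc
    obtain ⟨t, ht⟩ := IsLocalization.exist_integer_multiples_of_finite (Submonoid.powers g) c
    choose a ha using ht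
    have h0 : f (∑ i, a i • y i) = 0 := by
      rw [map_sum, Finset.sum_congr rfl fun i _ =>
        (show f (a i • y i) = ((t : R) • c i) • f (y i) by
          rw [map_smul, ← algebraMap_smul (Localization.Away g) (a i), ha i])]
      simp only [smul_assoc, ← Finset.smul_sum, hc, smul_zero]
    obtain ⟨⟨_, k, rfl⟩, hk⟩ := (IsLocalizedModule.eq_zero_iff (Submonoid.powers g) f).mp h0
    obtain ⟨s, hs⟩ := h.2 (g ^ k • a) (by
      simp only [Pi.smul_apply, smul_eq_mul, mul_smul, ← Finset.smul_sum]
      exact hk)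
    intro i
    have hu : IsUnit (algebraMap R (Localization.Away g) (g ^ s * g ^ k * t)) :=
      IsLocalization.map_units _ (⟨g ^ s * g ^ k * t,
        mul_mem (mul_mem ⟨s, rfl⟩ ⟨k, rfl⟩) t.2⟩ : Submonoid.powers g)
    refine hu.mul_right_eq_zero.mp ?_
    have h1 : g ^ s * (g ^ k * a i) = 0 := congrFun hs i
    rw [map_mul, mul_assoc, ← Algebra.smul_def (t : R) (c i), ← ha i, ← map_mul, mul_assoc, h1,
      map_zero]
  · intro x _
    obtain ⟨⟨m, t⟩, rfl⟩ := IsLocalizedModule.mk'_surjective (Submonoid.powers g) f x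
    obtain ⟨s, hs⟩ := h.1 m
    have hsu : IsUnit (algebraMap R (Localization.Away g) (g ^ s * t)) :=
      IsLocalization.map_units _ (⟨g ^ s * t, mul_mem ⟨s, rfl⟩ t.2⟩ : Submonoid.powers g)
    refine (Submodule.smul_mem_iff_of_isUnit _ hsu).mp ?_
    simp only [Function.uncurry_apply_pair]
    rw [algebraMap_smul, mul_smul, ← Submonoid.smul_def, IsLocalizedModule.mk'_cancel', ← map_smul]
    obtain ⟨a, ha⟩ := (Submodule.mem_span_range_iff_exists_fun R).mp hs
    rw [← ha, map_sum]
    refine Submodule.sum_mem _ fun i _ => ?_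
    rw [map_smul]
    exact Submodule.smul_of_tower_mem _ _ (Submodule.subset_span ⟨i, rfl⟩)

/-- A finite module that is free on an open cover is finitely presented and projective. -/
theorem finitePresentation_and_projective {N : Type u} [AddCommGroup N] [Module R N]
    [Module.Finite R N]
    (H : ∀ (p : Ideal R) [p.IsPrime], ∃ g : R, g ∉ p ∧ ∃ (k : ℕ) (y : Fin k → N), IsBasisUpTo g y) :
    Module.FinitePresentation R N ∧ Module.Projective R N := by
  classical
  obtain ⟨n, x, hx⟩ := Module.Finite.exists_fin (R := R) (M := N)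
  let π : (Fin n → R) →ₗ[R] N := Fintype.linearCombination R x
  have hπ : Function.Surjective π :=
    LinearMap.range_eq_top.mp (by rw [Fintype.range_linearCombination, hx])
  -- local generators of the relations
  have hloc : ∀ p : PrimeSpectrum R, ∃ (g : R) (S : Finset (Fin n → R)), g ∉ p.asIdeal ∧
      (∀ z ∈ S, z ∈ LinearMap.ker π) ∧
      ∀ w ∈ LinearMap.ker π, ∃ s : ℕ, g ^ s • w ∈ Submodule.span R (S : Set (Fin n → R)) := by
    intro p
    obtain ⟨g, hg, k, y, hy1, hy2⟩ := H p.asIdeal
    choose l hl using fun t => hπ (y t)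
    choose s hs using fun j => hy1 (x j)
    have hb : ∀ j, ∃ b : Fin k → R, ∑ t, b t • y t = g ^ s j • x j := fun j =>
      (Submodule.mem_span_range_iff_exists_fun R).mp (hs j)
    choose b hb using hb
    let r : Fin n → (Fin n → R) := fun j => g ^ s j • Pi.single j 1 - ∑ t, b j t • l t
    refine ⟨g, Finset.univ.image r, hg, ?_, ?_⟩
    · intro z hz
      obtain ⟨j, -, rfl⟩ := Finset.mem_image.mp hz
      rw [LinearMap.mem_ker]
      simp only [r, map_sub, map_smul, map_sum, hl, hb, π,
        Fintype.linearCombination_apply_single, one_smul, sub_self]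
    · intro w hw
      let N₀ := Finset.univ.sup s
      let e : Fin n → R := fun j => g ^ (N₀ - s j) * w j
      have hsplit : g ^ N₀ • w = ∑ j, e j • r j + ∑ t, (∑ j, e j * b j t) • l t := by
        have h1 : ∀ j, e j • (g ^ s j • (Pi.single j (1 : R) : Fin n → R)) = g ^ N₀ • Pi.single j (w j) := by
          intro j
          rw [smul_smul, show e j * g ^ s j = g ^ N₀ * w j by
            rw [mul_right_comm, ← pow_add, Nat.sub_add_cancel (Finset.le_sup (Finset.mem_univ j))]]
          rw [mul_smul, ← Pi.single_smul, smul_eq_mul, mul_one]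
        simp only [r, smul_sub, Finset.sum_sub_distrib, h1, ← Finset.smul_sum,
          Finset.univ_sum_single]
        simp only [Finset.smul_sum, smul_smul, Finset.sum_smul]
        rw [Finset.sum_comm (γ := Fin n), sub_add_cancel]
      have hr : π (∑ j, e j • r j) = 0 := by
        simp only [map_sum, map_smul]
        refine Finset.sum_eq_zero fun j _ => ?_
        simp only [r, map_sub, map_smul, map_sum, hl, hb, π,
          Fintype.linearCombination_apply_single, one_smul, sub_self, smul_zero]
      have ha : ∑ t, (∑ j, e j * b j t) • y t = 0 := by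
        have := congrArg π hsplit
        simp only [map_add, hr, zero_add, map_sum, map_smul, hl, LinearMap.mem_ker.mp hw,
          smul_zero] at this
        exact this.symm
      obtain ⟨u, hu⟩ := hy2 _ ha
      refine ⟨u + N₀, ?_⟩
      rw [pow_add, mul_smul, hsplit, smul_add]
      refine Submodule.add_mem _ (Submodule.smul_mem _ _ (Submodule.sum_mem _ fun j _ =>
        Submodule.smul_mem _ _ (Submodule.subset_span (Finset.mem_coe.mpr
          (Finset.mem_image_of_mem r (Finset.mem_univ j)))))) ?_
      rw [Finset.smul_sum]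
      refine Submodule.sum_mem _ fun t _ => ?_
      rw [smul_smul, show g ^ u * ∑ j, e j * b j t = 0 from congrFun hu t, zero_smul]
      exact zero_mem _
  choose g S hg hS1 hS2 using hloc
  have hcover : Ideal.span (Set.range g) = ⊤ := by
    by_contra hne
    obtain ⟨m, hm, hle⟩ := Ideal.exists_le_maximal _ hne
    exact hg ⟨m, hm.isPrime⟩ (hle (Ideal.subset_span ⟨⟨m, hm.isPrime⟩, rfl⟩))
  obtain ⟨P, hP⟩ : ∃ P : Finset (PrimeSpectrum R), (1 : R) ∈ Ideal.span (g '' P) := by
    obtain ⟨T, hT, h1⟩ := Submodule.mem_span_finite_of_mem_span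
      (show (1 : R) ∈ Ideal.span (Set.range g) from hcover ▸ Submodule.mem_top)
    obtain ⟨P, -, rfl⟩ := Finset.subset_set_image_iff.mp (Set.image_univ.symm ▸ hT)
    exact ⟨P, by simpa using h1⟩
  have hfp : Module.FinitePresentation R N := by
    refine Module.finitePresentation_of_surjective π hπ ⟨P.biUnion S, le_antisymm ?_ ?_⟩
    · rw [Submodule.span_le]
      intro z hz
      obtain ⟨p, -, hzp⟩ := Finset.mem_biUnion.mp hz
      exact hS1 p z hzp
    · intro w hw
      by_contra hne
      let I : Ideal R := (Submodule.span R (P.biUnion S : Set (Fin n → R))).comap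
        (LinearMap.toSpanSingleton R _ w)
      have hrad : Ideal.span (g '' P) ≤ I.radical := by
        rw [Ideal.span_le]
        rintro _ ⟨p, hp, rfl⟩
        obtain ⟨s, hs⟩ := hS2 p w hw
        exact ⟨s, Submodule.span_mono (Finset.coe_subset.mpr (Finset.subset_biUnion_of_mem S hp)) hs⟩
      have h1 : (1 : R) ∈ I := by
        obtain ⟨s, hs⟩ := hrad hP
        rwa [one_pow] at hs
      exact hne (by simpa [I] using h1)
  refine ⟨hfp, Module.freeLocus_eq_univ_iff.mp (Set.eq_univ_of_forall fun p => ?_)⟩
  obtain ⟨g, hg, k, y, hy⟩ := H p.asIdeal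
  obtain ⟨b⟩ := nonempty_basis hy
  have := Module.Free.of_basis b
  exact Module.basicOpen_subset_freeLocus_iff.mpr
    (inferInstance : Module.Projective (Localization.Away g) (LocalizedModule (Submonoid.powers g) N)) hg

section square

variable {M : Type u} [AddCommGroup M] [Module R M] {n : ℕ} (x : Fin n → M)

/-- Relation rows in a square matrix. -/
theorem det_updateRow_mem {k : ℕ} (hx : Submodule.span R (Set.range x) = ⊤) (a : Matrix (Fin n) (Fin n) R)
    (ha : ∀ i : Fin n, (i : ℕ) < n - k → ∑ j, a i j • x j = 0) (i : Fin n) (w : Fin n → R)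
    (hi : n - k ≤ (i : ℕ) ∨ ∑ j, w j • x j = 0) :
    (a.updateRow i w).det ∈ Fitt.ideal R M k := by
  refine Ideal.subset_span ⟨n, x, a.updateRow i w, hx, fun i' hi' => ?_, rfl⟩
  by_cases h : i' = i
  · subst h
    simp only [Matrix.updateRow_self]
    exact hi.resolve_left (by omega)
  · simp only [Matrix.updateRow_ne h]
    exact ha i' hi'

/-- One more relation row puts the determinant in the previous Fitting ideal. -/
theorem det_updateRow_mem_pred {k : ℕ} (hx : Submodule.span R (Set.range x) = ⊤)
    (a : Matrix (Fin n) (Fin n) R)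
    (ha : ∀ i : Fin n, (i : ℕ) < n - k → ∑ j, a i j • x j = 0) (i : Fin n) (hi : n - k ≤ (i : ℕ))
    (w : Fin n → R) (hw : ∑ j, w j • x j = 0) :
    (a.updateRow i w).det ∈ Fitt.ideal R M (k - 1) := by
  classical
  let i₁ : Fin n := ⟨n - k, lt_of_le_of_lt hi i.isLt⟩
  have h1 : ((a.updateRow i w).submatrix (Equiv.swap i i₁) id).det ∈ Fitt.ideal R M (k - 1) := by
    refine Ideal.subset_span ⟨n, x, _, hx, fun i' hi' => ?_, rfl⟩
    simp only [Matrix.submatrix_apply, id_eq]
    rcases eq_or_ne i' i₁ with h | h
    · subst h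
      simp only [Equiv.swap_apply_right, Matrix.updateRow_self]
      exact hw
    · have hlt : (i' : ℕ) < n - k := by
        have : (i' : ℕ) ≠ n - k := fun hh => h (Fin.ext hh)
        omega
      have hne : i' ≠ i := fun hh => by subst hh; omega
      simp only [Equiv.swap_apply_of_ne_of_ne hne h, Matrix.updateRow_ne hne]
      exact ha i' hlt
  rw [Matrix.det_permute] at h1
  rcases Int.units_eq_one_or (Equiv.Perm.sign (Equiv.swap i i₁)) with h | h <;>
    simpa [h] using h1

/-- Cramer's rule, for rows. -/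
theorem sum_det_updateRow_smul (a : Matrix (Fin n) (Fin n) R) (w : Fin n → R) :
    ∑ i, (a.updateRow i w).det • a i = a.det • w := by
  have h := Matrix.mulVec_cramer a.transpose w
  funext j
  have hj := congrFun h j
  simp only [Matrix.mulVec, dotProduct, Matrix.det_transpose, Pi.smul_apply] at hj
  rw [Finset.sum_apply, Pi.smul_apply, ← hj]
  refine Finset.sum_congr rfl fun i _ => ?_
  rw [Pi.smul_apply, smul_eq_mul, mul_comm, Matrix.cramer_transpose_apply]
  rfl

end square

/-- Everything near a prime. -/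
theorem exists_local_data {M : Type u} [AddCommGroup M] [Module R M] [Module.Finite R M] (k : ℕ) (f : R)
    (hf0 : f ∈ nonZeroDivisors R) (hf : Fitt.ideal R M k = Ideal.span {f})
    (hk : k = 0 ∨ Fitt.ideal R M (k - 1) = ⊥) {n : ℕ} (x : Fin n → M)
    (hx : Submodule.span R (Set.range x) = ⊤) (p : Ideal R) [p.IsPrime] :
    ∃ c : R, c ∉ p ∧
      (∃ y : Fin k → M ⧸ LinearMap.ker (f • (LinearMap.id : M →ₗ[R] M)), IsBasisUpTo c y) ∧
      ∃ z : Fin (n - k) → LinearMap.ker (Fintype.linearCombination R x), IsBasisUpTo c z := by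
  classical
  set π := Fintype.linearCombination R x with hπ
  set T := LinearMap.ker (f • (LinearMap.id : M →ₗ[R] M)) with hT
  obtain ⟨c, a, hc, ha, hac⟩ : ∃ (c : R) (a : Matrix (Fin n) (Fin n) R), c ∉ p ∧
      (∀ i : Fin n, (i : ℕ) < n - k → ∑ j, a i j • x j = 0) ∧ a.det = c * f := by
    by_contra! hne
    have hle : Fitt.ideal R M k ≤ p * Ideal.span {f} := by
      rw [H29Fitt.ideal_eq x hx]
      refine H29Fitt.J_le fun z e hz => ?_
      by_cases he : Function.Injective e
      · obtain ⟨a, ha, v, hv⟩ := H29Fitt.exists_square (Nat.sub_le n k) z e he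
        have hrel : ∀ i : Fin n, (i : ℕ) < n - k → ∑ j, a i j • x j = 0 := fun i hi => by
          rw [ha i hi]; exact hz _
        have hmem : a.det ∈ Fitt.ideal R M k := Ideal.subset_span ⟨n, x, a, hx, hrel, rfl⟩
        rw [hf, Ideal.mem_span_singleton'] at hmem
        obtain ⟨c, hc⟩ := hmem
        have hcp : c ∈ p := not_not.mp fun h => hne c a h hrel hc.symm
        rw [← (Units.inv_mul_cancel_left v (Matrix.of fun a b => z b (e a)).det), ← hv, ← hc]
        exact Ideal.mul_mem_left _ _ (Ideal.mul_mem_mul hcp (Ideal.mem_span_singleton_self f))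
      · obtain ⟨i, j, hij, hne'⟩ := Function.not_injective_iff.mp he
        rw [Matrix.det_zero_of_row_eq hne' (by ext b; simp [hij])]
        exact Submodule.zero_mem _
    rw [hf] at hle
    obtain ⟨z, hz, hzf⟩ := Ideal.mem_mul_span_singleton.mp (hle (Ideal.mem_span_singleton_self f))
    have hz1 : z = 1 :=
      sub_eq_zero.mp (mem_nonZeroDivisors_iff_right.mp hf0 _
        (by rw [sub_mul, one_mul, hzf, sub_self]))
    exact ‹p.IsPrime›.ne_top ((Ideal.eq_top_iff_one p).mpr (hz1 ▸ hz))
  have hkn : k ≤ n := by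
    by_contra hlt
    have htop : Fitt.ideal R M (k - 1) = ⊤ := by
      rw [H29Fitt.ideal_eq x hx, Nat.sub_eq_zero_of_le (by omega), H29Fitt.J_zero]
    rcases hk with h | h
    · omega
    · rw [htop] at h
      exact ‹p.IsPrime›.ne_top (top_le_iff.mp (h ▸ bot_le))
  have hcf : ∀ r : R, r * (c * f) = 0 → c • r = 0 := fun r hr => by
    rw [smul_eq_mul]
    exact mem_nonZeroDivisors_iff_right.mp hf0 _ (by rw [← hr]; ring)
  have hzero : ∀ (i : Fin n) (w : Fin n → R), n - k ≤ (i : ℕ) → ∑ j, w j • x j = 0 →
      (a.updateRow i w).det = 0 := fun i w hi hw => by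
    rcases hk with h | h
    · omega
    · have := det_updateRow_mem_pred x hx a ha i hi w hw
      rwa [h, Ideal.mem_bot] at this
  have hdiv : ∀ (i : Fin n) (w : Fin n → R), (n - k ≤ (i : ℕ) ∨ ∑ j, w j • x j = 0) →
      ∃ b, b * f = (a.updateRow i w).det := fun i w hi => by
    have := det_updateRow_mem x hx a ha i w hi
    rwa [hf, Ideal.mem_span_singleton'] at this
  let lo : Fin (n - k) → Fin n := fun t => ⟨t, by omega⟩
  let hi' : Fin k → Fin n := fun t => ⟨n - k + t, by omega⟩
  have hlo : ∀ i : Fin n, (i : ℕ) < n - k → ∃ t, lo t = i := fun i hi => ⟨⟨i, hi⟩, rfl⟩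
  have hhi : ∀ i : Fin n, n - k ≤ (i : ℕ) → ∃ t, hi' t = i := fun i hi =>
    ⟨⟨i - (n - k), by omega⟩, Fin.ext (by simp only [hi']; omega)⟩
  refine ⟨c, hc, ⟨fun t => T.mkQ (π (a (hi' t))), ?_, ?_⟩,
    fun t => ⟨a (lo t), ha _ t.isLt⟩, ?_, ?_⟩
  · -- generation of the quotient
    intro m
    refine ⟨1, ?_⟩
    rw [pow_one]
    obtain ⟨m, rfl⟩ := Submodule.mkQ_surjective _ m
    obtain ⟨w, rfl⟩ : ∃ w, π w = m := by
      rw [← LinearMap.mem_range, hπ, Fintype.range_linearCombination, hx]; trivial
    have hb : ∀ i : Fin n, ∃ b : R, (a.updateRow i w).det • π (a i) = f • b • π (a i) := by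
      intro i
      by_cases hi : (i : ℕ) < n - k
      · exact ⟨0, by rw [hπ, Fintype.linearCombination_apply, ha i hi]; simp⟩
      · obtain ⟨b, hb⟩ := hdiv i w (Or.inl (not_lt.mp hi))
        exact ⟨b, by rw [← hb, mul_comm, mul_smul]⟩
    choose b hb using hb
    have h1 := congrArg π (sum_det_updateRow_smul a w)
    simp only [map_sum, map_smul, hb, hac, ← Finset.smul_sum] at h1
    have h2 : c • π w - ∑ i, b i • π (a i) ∈ T := by
      rw [hT, LinearMap.mem_ker, LinearMap.smul_apply, LinearMap.id_apply, smul_sub, h1,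
        smul_smul, mul_comm, sub_self]
    rw [← map_smul, Submodule.mkQ_apply, (Submodule.Quotient.eq T).mpr h2, ← Submodule.mkQ_apply,
      map_sum]
    refine Submodule.sum_mem _ fun i _ => ?_
    rw [map_smul]
    refine Submodule.smul_mem _ _ ?_
    by_cases hi : (i : ℕ) < n - k
    · rw [hπ, Fintype.linearCombination_apply, ha i hi, map_zero]; exact zero_mem _
    · obtain ⟨t, rfl⟩ := hhi i (not_lt.mp hi)
      exact Submodule.subset_span ⟨t, rfl⟩
  · -- independence in the quotient
    intro α hα
    refine ⟨1, funext fun t₀ => ?_⟩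
    rw [Pi.smul_apply, pow_one]
    apply hcf
    have hw : ∑ j, (f • ∑ t, α t • a (hi' t)) j • x j = 0 := by
      have hα' : T.mkQ (π (∑ t, α t • a (hi' t))) = 0 := by
        rw [map_sum, map_sum, ← hα]
        refine Finset.sum_congr rfl fun t _ => ?_
        rw [map_smul, map_smul]
      rw [Submodule.mkQ_apply, Submodule.Quotient.mk_eq_zero, hT, LinearMap.mem_ker,
        LinearMap.smul_apply, LinearMap.id_apply, ← map_smul] at hα'
      exact hα'
    have h0 := hzero (hi' t₀) _ (by simp [hi']) hw
    let c' : Fin n → R := fun i => ∑ t, if hi' t = i then α t else 0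
    have hc' : ∑ t, α t • a (hi' t) = ∑ i, c' i • a i := by
      simp only [c', Finset.sum_smul]
      rw [Finset.sum_comm]
      simp [ite_smul]
    have hc'0 : c' (hi' t₀) = α t₀ := by
      simp only [c']
      rw [Finset.sum_eq_single t₀]
      · simp
      · intro t _ ht
        rw [if_neg]
        intro h
        exact ht (Fin.ext (by simpa [hi'] using congrArg Fin.val h))
      · simp
    rw [hc', Matrix.det_updateRow_smul, Matrix.det_updateRow_sum, hac, hc'0, smul_eq_mul] at h0
    exact mem_nonZeroDivisors_iff_right.mp hf0 _ (by rw [mul_comm]; exact h0)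
  · -- generation of the relations
    intro w
    refine ⟨1, ?_⟩
    rw [pow_one]
    have hwx : ∑ j, (w : Fin n → R) j • x j = 0 := by
      exact LinearMap.mem_ker.mp w.2
    choose b hb using fun t : Fin (n - k) => hdiv (lo t) w (Or.inr hwx)
    rw [Submodule.mem_span_range_iff_exists_fun]
    refine ⟨b, Subtype.ext ?_⟩
    rw [AddSubmonoidClass.coe_finsetSum]
    funext j
    have hj := congrFun (sum_det_updateRow_smul a w) j
    rw [Finset.sum_apply] at hj ⊢
    refine (mem_nonZeroDivisors_iff_right.mp hf0 _ ?_) |> sub_eq_zero.mp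
    simp only [SetLike.val_smul, Pi.smul_apply, smul_eq_mul, sub_mul, Finset.sum_mul]
    simp only [Pi.smul_apply, smul_eq_mul, hac] at hj
    rw [show c * (w : Fin n → R) j * f = c * f * (w : Fin n → R) j by ring, ← hj, sub_eq_zero]
    refine Finset.sum_bij_ne_zero (fun t _ _ => lo t) (by simp) (fun t₁ _ _ t₂ _ _ h =>
      Fin.ext (by simpa [lo] using congrArg Fin.val h)) (fun i _ hne => ?_) (fun t _ _ => ?_)
    · obtain ⟨t, rfl⟩ := hlo i (not_le.mp fun hle => hne (by rw [hzero i _ hle hwx, zero_mul]))
      exact ⟨t, Finset.mem_univ _, by rwa [mul_right_comm, hb t], rfl⟩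
    · rw [mul_right_comm, hb t]
  · -- independence of the relations
    intro α hα
    refine ⟨1, funext fun t₀ => ?_⟩
    rw [Pi.smul_apply, pow_one]
    apply hcf
    let c' : Fin n → R := fun i => ∑ t, if lo t = i then α t else 0
    have hc' : ∑ i, c' i • a i = 0 := by
      have := congrArg Subtype.val hα
      rw [AddSubmonoidClass.coe_finsetSum] at this
      simp only [SetLike.val_smul, ZeroMemClass.coe_zero] at this
      rw [← this]
      simp only [c', Finset.sum_smul]
      rw [Finset.sum_comm]
      simp [ite_smul]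
    have hc'0 : c' (lo t₀) = α t₀ := by
      simp only [c']
      rw [Finset.sum_eq_single t₀]
      · simp
      · intro t _ ht
        rw [if_neg]
        intro h
        exact ht (Fin.ext (by simpa [lo] using congrArg Fin.val h))
      · simp
    have h := Matrix.det_updateRow_sum a (lo t₀) c'
    rw [hc', hac, hc'0, smul_eq_mul] at h
    rw [← h]
    exact Matrix.det_eq_zero_of_row_eq_zero (lo t₀) fun j => by simp

end Groth.Agent.H3CAlg.FittPrincipal
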