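import Groth.Prelude.Def_CAlgX
import Mathlib.LinearAlgebra.Matrix.Adjugate
import Mathlib.LinearAlgebra.Matrix.ToLin
import Mathlib.RingTheory.Ideal.AssociatedPrime.Finiteness
import Mathlib.Tactic

/-!
McCoy's theorem: injectivity of a matrix and the annihilator of its maximal minors.
-/

namespace Groth.Agent.H3CAlg

universe u

variable {R : Type u} [CommRing R] {n m : ℕ} (M : Matrix (Fin n) (Fin m) R)

theorem McCoy.minorIdeal_eq_bot {r : ℕ} (hr : m < r) : CAlgX.minorIdeal M r = ⊥ := by
  rw [CAlgX.minorIdeal, Ideal.span_eq_bot]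
  rintro _ ⟨⟨f, g⟩, rfl⟩
  obtain ⟨i, j, hne, hij⟩ := Fintype.exists_ne_map_eq_of_card_lt g (by simpa using hr)
  exact Matrix.det_zero_of_column_eq hne fun k => by simp [hij]

theorem McCoy.minorIdeal_zero : CAlgX.minorIdeal M 0 = ⊤ := by
  rw [Ideal.eq_top_iff_one]
  exact Ideal.subset_span ⟨(Fin.elim0, Fin.elim0), Matrix.det_fin_zero⟩

theorem McCoy.injective_of_annihilator (h : (CAlgX.minorIdeal M m).annihilator = ⊥) :
    Function.Injective M.mulVecLin := by
  rw [injective_iff_map_eq_zero]
  intro x hx
  funext i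
  have h2 : x i ∈ (CAlgX.minorIdeal M m).annihilator := by
    rw [Submodule.mem_annihilator]
    intro z hz
    induction hz using Submodule.span_induction with
    | mem y hy =>
      obtain ⟨⟨f, g⟩, rfl⟩ := hy
      show x i • (M.submatrix f g).det = 0
      by_cases hg : Function.Injective g
      · have hb := (Finite.injective_iff_bijective).mp hg
        set A := M.submatrix f g
        have hA : A.mulVec (x ∘ g) = 0 := by
          funext k
          refine Eq.trans ?_ (congrFun hx (f k))
          exact Fintype.sum_bijective g hb _ _ fun j => rfl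
        obtain ⟨j, rfl⟩ := hb.2 i
        have h3 := congrFun (congrArg A.adjugate.mulVec hA) j
        rw [Matrix.mulVec_mulVec, Matrix.adjugate_mul, Matrix.smul_mulVec, Matrix.one_mulVec, Matrix.mulVec_zero] at h3
        rw [smul_eq_mul, mul_comm]
        exact h3
      · obtain ⟨a, b, hab, hne⟩ := Function.not_injective_iff.mp hg
        rw [show (M.submatrix f g).det = 0 from Matrix.det_zero_of_column_eq hne fun k => by simp [hab], smul_zero]
    | zero => rw [smul_zero]
    | add a b _ _ ha hb => rw [smul_add, ha, hb, add_zero]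
    | smul c a _ ha => rw [smul_comm, ha, smul_zero]
  rw [h, Submodule.mem_bot] at h2
  exact h2

theorem McCoy.annihilator_of_injective (h : Function.Injective M.mulVecLin) :
    (CAlgX.minorIdeal M m).annihilator = ⊥ := by
  classical
  rw [Submodule.eq_bot_iff]
  intro a ha
  by_contra ha0
  have hex : ∃ r, ∀ z ∈ CAlgX.minorIdeal M r, a * z = 0 :=
    ⟨m, fun z hz => Submodule.mem_annihilator.mp ha z hz⟩
  let r := Nat.find hex
  have hr0 : r ≠ 0 := by
    intro h0
    have := Nat.find_spec hex 1 (by rw [show Nat.find hex = 0 from h0, McCoy.minorIdeal_zero]; trivial)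
    exact ha0 (by simpa using this)
  have hrm : r ≤ m := Nat.find_min' hex fun z hz => Submodule.mem_annihilator.mp ha z hz
  obtain ⟨q, hq⟩ : ∃ q, r = q + 1 := ⟨r - 1, by omega⟩
  have hnot := Nat.find_min hex (show q < Nat.find hex by omega)
  obtain ⟨f, g, hfg⟩ : ∃ (f : Fin q → Fin n) (g : Fin q → Fin m), a * (M.submatrix f g).det ≠ 0 := by
    by_contra! hall
    apply hnot
    intro z hz
    induction hz using Submodule.span_induction with
    | mem y hy => obtain ⟨⟨f, g⟩, rfl⟩ := hy; exact hall f g
    | zero => rw [mul_zero]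
    | add b c _ _ hb hc => rw [mul_add, hb, hc, add_zero]
    | smul c b _ hb => rw [smul_eq_mul, mul_left_comm, hb, mul_zero]
  obtain ⟨c, hc⟩ : ∃ c, c ∉ Set.range g := by
    by_contra! hall
    have := Fintype.card_le_of_surjective g (fun c => hall c)
    simp only [Fintype.card_fin] at this
    omega
  let g' : Fin (q + 1) → Fin m := Fin.cons c g
  let w : Fin (q + 1) → R := fun j => a * ((-1) ^ (j : ℕ) * (M.submatrix f (g' ∘ j.succAbove)).det)
  let x : Fin m → R := ∑ j, Pi.single (g' j) (w j)
  have hx : M.mulVecLin x = 0 := by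
    simp only [x, map_sum]
    funext i
    rw [Finset.sum_apply, Pi.zero_apply]
    have h0 : a * (M.submatrix (Fin.cons i f : Fin (q + 1) → Fin n) g').det = 0 :=
      Nat.find_spec hex _ (by rw [show Nat.find hex = q + 1 from hq]; exact Ideal.subset_span ⟨(Fin.cons i f, g'), rfl⟩)
    rw [← h0, Matrix.det_succ_row_zero, Finset.mul_sum]
    refine Finset.sum_congr rfl fun j _ => ?_
    rw [Matrix.mulVecLin_apply, Matrix.mulVec_single]
    have hsub : (M.submatrix (Fin.cons i f : Fin (q + 1) → Fin n) g').submatrix Fin.succ j.succAbove =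
        M.submatrix f (g' ∘ j.succAbove) := by ext s t; simp
    rw [hsub]
    simp [w, g']
    ring
  have hx0 : x = 0 := h (by rw [hx, map_zero])
  have hxc := congrFun hx0 c
  simp only [x, Finset.sum_apply, Pi.zero_apply] at hxc
  rw [Finset.sum_eq_single 0] at hxc
  · apply hfg
    simp only [g', w, Fin.cons_zero, Pi.single_eq_same, Fin.val_zero, pow_zero, one_mul] at hxc
    rwa [show (Fin.cons c g : Fin (q + 1) → Fin m) ∘ (0 : Fin (q + 1)).succAbove = g from
      funext fun t => by simp] at hxc
  · intro j _ hj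
    obtain ⟨t, rfl⟩ := Fin.exists_succ_eq.mpr hj
    exact Pi.single_eq_of_ne (fun hh => hc ⟨t, by simpa [g'] using hh.symm⟩) _
  · exact fun hh => absurd (Finset.mem_univ _) hh

theorem McCoy.iff_rank [Nontrivial R] : Function.Injective M.mulVecLin ↔
    CAlgX.matrixRank M = m ∧ (CAlgX.detIdeal M).annihilator = ⊥ := by
  constructor
  · intro h
    have ha := McCoy.annihilator_of_injective M h
    have hne : CAlgX.minorIdeal M m ≠ ⊥ := by
      intro h0
      rw [h0, Submodule.annihilator_bot] at ha
      exact top_ne_bot ha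
    have hr : CAlgX.matrixRank M = m :=
      (csSup_eq_of_forall_le_of_forall_lt_exists_gt (s := {r : ℕ | CAlgX.minorIdeal M r ≠ ⊥}) ⟨m, hne⟩
        (fun r hr => not_lt.mp fun hlt => hr (McCoy.minorIdeal_eq_bot M hlt)) fun w hw => ⟨m, hne, hw⟩)
    exact ⟨hr, by rw [CAlgX.detIdeal, hr]; exact ha⟩
  · rintro ⟨hr, ha⟩
    rw [CAlgX.detIdeal, hr] at ha
    exact McCoy.injective_of_annihilator M ha

theorem McCoy.annihilator_eq_bot_iff [IsNoetherianRing R] (I : Ideal R) :
    I.annihilator = ⊥ ↔ I = ⊤ ∨ ∃ a ∈ I, IsRegular a := by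
  constructor
  · intro h
    refine Or.inr ?_
    by_contra! hall
    have := Ideal.bot_lt_annihilator_of_disjoint_nonZeroDivisors (I := I)
      (Set.disjoint_left.mpr fun a ha ha' => hall a ha (isRegular_iff_mem_nonZeroDivisors.mpr ha'))
    exact this.ne' h
  · intro h
    rw [Submodule.eq_bot_iff]
    intro z hz
    rcases h with rfl | ⟨a, ha, hreg⟩
    · simpa using Submodule.mem_annihilator.mp hz 1 trivial
    · exact hreg.right.eq_iff.mp ((Submodule.mem_annihilator.mp hz a ha).trans (zero_mul a).symm)

end Groth.Agent.H3CAlg
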