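import Groth.Prelude.Def_CAlgX
import Groth.Agent.H3CAlg.Acyclicity
import Groth.Agent.H3CAlg.McCoy
import Mathlib

/-!
# What makes a complex exact (Buchsbaum–Eisenbud), sufficiency

The local statement: if all the ideals of minors above a certain place are the unit ideal, that part of
the complex is split exact; the rest is handled by the acyclicity lemma.
-/

namespace Groth.Agent.H3CAlg.BuchsbaumEisenbud

universe u

open RingTheory.Sequence CAlgX

variable {S : Type u} [CommRing S]

theorem minorIdeal_succ_le_of_lt {a b r : ℕ} (A : Matrix (Fin a) (Fin b) S)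
    (h : minorIdeal A r = ⊥) : minorIdeal A (r + 1) = ⊥ := by
  classical
  rw [minorIdeal, Ideal.span_eq_bot]
  rintro _ ⟨⟨f, g⟩, rfl⟩
  change (A.submatrix f g).det = 0
  rw [Matrix.det_succ_row_zero]
  refine Finset.sum_eq_zero fun j _ => ?_
  have : ((A.submatrix f g).submatrix Fin.succ j.succAbove).det = 0 := by
    rw [Matrix.submatrix_submatrix, ← Ideal.mem_bot, ← h]
    exact Ideal.subset_span ⟨(_, _), rfl⟩
  rw [this, mul_zero]

theorem minorIdeal_matrixRank_succ {a b : ℕ} (A : Matrix (Fin a) (Fin b) S) :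
    minorIdeal A (matrixRank A + 1) = ⊥ := by
  by_contra h
  have hb : BddAbove {r : ℕ | minorIdeal A r ≠ ⊥} :=
    ⟨b, fun r hr => not_lt.mp fun hlt => hr (McCoy.minorIdeal_eq_bot A hlt)⟩
  have := le_csSup hb h
  change matrixRank A + 1 ≤ matrixRank A at this
  omega

theorem minorIdeal_map {S' : Type u} [CommRing S'] (φ : S →+* S') {a b : ℕ}
    (A : Matrix (Fin a) (Fin b) S) (r : ℕ) :
    minorIdeal (A.map φ) r = (minorIdeal A r).map φ := by
  rw [minorIdeal, minorIdeal, Ideal.map_span, ← Set.range_comp]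
  congr 1
  refine congrArg Set.range (funext fun fg => ?_)
  rw [Function.comp_apply, RingHom.map_det, RingHom.mapMatrix_apply, Matrix.submatrix_map]

theorem exists_isUnit_minor [IsLocalRing S] {a b r : ℕ} (A : Matrix (Fin a) (Fin b) S)
    (h : minorIdeal A r = ⊤) : ∃ f g, IsUnit (A.submatrix (f : Fin r → Fin a) (g : Fin r → Fin b)).det := by
  by_contra! hall
  refine (IsLocalRing.maximalIdeal.isMaximal S).ne_top (top_le_iff.mp ?_)
  rw [← h, minorIdeal, Ideal.span_le]
  rintro _ ⟨⟨f, g⟩, rfl⟩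
  exact hall f g

/-- A unit minor of full rank: the chosen rows form a surjection that detects the kernel. -/
theorem exists_splitting [IsLocalRing S] {a b r : ℕ} (A : Matrix (Fin a) (Fin b) S)
    (h : minorIdeal A r = ⊤) (h1 : minorIdeal A (r + 1) = ⊥) :
    ∃ (P : (Fin a → S) →ₗ[S] (Fin r → S)) (σ : (Fin r → S) →ₗ[S] (Fin b → S)),
      (∀ x, P (A.mulVecLin (σ x)) = x) ∧ (∀ w, P (A.mulVecLin w) = 0 → A.mulVecLin w = 0) := by
  classical
  obtain ⟨f, g, hu⟩ := exists_isUnit_minor A h
  set D := A.submatrix f g with hD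
  have := D.invertibleOfIsUnitDet hu
  let ext : (Fin r → S) →ₗ[S] (Fin b → S) :=
    ∑ k, (LinearMap.proj k).smulRight (Pi.single (g k) (1 : S))
  have hext : ∀ y, A.mulVecLin (ext y) = fun i => ∑ k, A i (g k) * y k := by
    intro y
    funext i
    simp [ext, map_sum, Matrix.mulVec_single, mul_comm]
  refine ⟨LinearMap.funLeft S S f, ext ∘ₗ (⅟D).mulVecLin, fun x => ?_, fun w hw => ?_⟩
  · rw [LinearMap.comp_apply, hext]
    change D.mulVec ((⅟D).mulVec x) = x
    rw [Matrix.mulVec_mulVec, mul_invOf_self, Matrix.one_mulVec]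
  · funext i
    have hrow : ∀ c, A i c = ∑ k, ((A.submatrix (fun _ : Fin 1 => i) g) * ⅟D) 0 k * A (f k) c := by
      intro c
      have h0 : (Matrix.fromBlocks D (A.submatrix f fun _ : Fin 1 => c)
          (A.submatrix (fun _ : Fin 1 => i) g) (A.submatrix (fun _ => i) fun _ => c)).det = 0 := by
        rw [← Matrix.det_reindex_self finSumFinEquiv, ← Ideal.mem_bot, ← h1]
        refine Ideal.subset_span ⟨(Fin.append f fun _ => i, Fin.append g fun _ => c), ?_⟩
        refine congrArg Matrix.det (Matrix.ext fun p q => ?_)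
        refine Fin.addCases (fun p => ?_) (fun p => ?_) p <;>
          refine Fin.addCases (fun q => ?_) (fun q => ?_) q <;>
          simp [hD]
      rw [Matrix.det_fromBlocks₁₁, hu.mul_right_eq_zero, Matrix.det_fin_one, Matrix.sub_apply,
        sub_eq_zero, Matrix.mul_apply] at h0
      exact h0
    change ∑ c, A i c * w c = 0
    simp only [hrow, Finset.sum_mul, mul_assoc]
    rw [Finset.sum_comm]
    refine Finset.sum_eq_zero fun k _ => ?_
    rw [← Finset.mul_sum]
    have := congrFun hw k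
    rw [show ∑ c, A (f k) c * w c = 0 from this, mul_zero]

/-- Full rank at the last place. -/
theorem eq_zero_of_full [IsLocalRing S] {a b : ℕ} (A : Matrix (Fin a) (Fin b) S)
    (h : minorIdeal A b = ⊤) (w : Fin b → S) (hw : A.mulVecLin w = 0) : w = 0 := by
  obtain ⟨P, σ, hσ, -⟩ := exists_splitting A h (McCoy.minorIdeal_eq_bot A (Nat.lt_succ_self b))
  have hsurj : Function.Surjective (P ∘ₗ A.mulVecLin) := fun x => ⟨σ x, hσ x⟩
  refine OrzechProperty.injective_of_surjective_endomorphism _ hsurj ?_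
  rw [LinearMap.comp_apply, hw, map_zero, map_zero]

/-- Split exactness at a place with unit ideals of minors on both sides. -/
theorem mem_range_of_split [IsLocalRing S] {a b c r r' : ℕ} (A : Matrix (Fin a) (Fin b) S)
    (B : Matrix (Fin b) (Fin c) S) (hAB : A * B = 0) (hb : r + r' = b)
    (hA : minorIdeal A r = ⊤) (hA1 : minorIdeal A (r + 1) = ⊥)
    (hB : minorIdeal B r' = ⊤) (hB1 : minorIdeal B (r' + 1) = ⊥)
    (w : Fin b → S) (hw : A.mulVecLin w = 0) : w ∈ LinearMap.range B.mulVecLin := by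
  obtain ⟨P, σ, hσ, hP⟩ := exists_splitting A hA hA1
  obtain ⟨Q, τ, hτ, hQ⟩ := exists_splitting B hB hB1
  have hz : ∀ v, A.mulVecLin (B.mulVecLin v) = 0 := fun v => by
    rw [← LinearMap.comp_apply, ← Matrix.mulVecLin_mul, hAB, Matrix.mulVecLin_zero]
    rfl
  subst hb
  let e : ((Fin r → S) × (Fin r' → S)) ≃ₗ[S] (Fin (r + r') → S) :=
    (LinearEquiv.sumArrowLequivProdArrow (Fin r) (Fin r') S S).symm.trans
      (LinearEquiv.funCongrLeft S S finSumFinEquiv.symm)
  let Φ : (Fin (r + r') → S) →ₗ[S] (Fin r → S) × (Fin r' → S) := (P ∘ₗ A.mulVecLin).prod Q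
  have hΦ : Function.Surjective Φ := by
    rintro ⟨x, y⟩
    refine ⟨σ x + B.mulVecLin (τ (y - Q (σ x))), Prod.ext ?_ ?_⟩
    · change P (A.mulVecLin (σ x + _)) = x
      rw [map_add, map_add, hz, map_zero, add_zero, hσ]
    · change Q (σ x + _) = y
      rw [map_add, hτ, add_sub_cancel]
  have hinj : Function.Injective (e.toLinearMap ∘ₗ Φ) :=
    OrzechProperty.injective_of_surjective_endomorphism _ (e.surjective.comp hΦ)
  refine ⟨τ (Q w), hinj (congrArg e (Prod.ext ?_ ?_))⟩
  · change P (A.mulVecLin (B.mulVecLin _)) = P (A.mulVecLin w)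
    rw [hz, hw]
  · exact hτ _

theorem projective_coker [IsLocalRing S] {a b r : ℕ} (A : Matrix (Fin a) (Fin b) S)
    (h : minorIdeal A r = ⊤) (h1 : minorIdeal A (r + 1) = ⊥) :
    Module.Projective S ((Fin a → S) ⧸ LinearMap.range A.mulVecLin) := by
  obtain ⟨P, σ, hσ, hP⟩ := exists_splitting A h h1
  refine Module.Projective.of_split
    (Submodule.liftQ (LinearMap.range A.mulVecLin)
      (LinearMap.id - A.mulVecLin ∘ₗ σ ∘ₗ P) ?_) (Submodule.mkQ _) ?_
  · rintro _ ⟨w, rfl⟩
    rw [LinearMap.mem_ker, LinearMap.sub_apply, LinearMap.id_apply, LinearMap.comp_apply,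
      LinearMap.comp_apply, sub_eq_zero, eq_comm, ← sub_eq_zero, ← map_sub]
    apply hP
    rw [map_sub, map_sub, hσ, sub_self]
  · refine Submodule.linearMap_qext _ (LinearMap.ext fun x => ?_)
    simp only [LinearMap.comp_apply, Submodule.liftQ_apply, Submodule.mkQ_apply, LinearMap.id_apply,
      LinearMap.sub_apply]
    rw [Submodule.Quotient.eq, sub_sub_cancel_left]
    exact neg_mem ⟨_, rfl⟩

theorem isWeaklyRegular_of_flat {M : Type u} [AddCommGroup M] [Module S M] [Module.Flat S M]
    {rs : List S} (h : IsWeaklyRegular S rs) : IsWeaklyRegular M rs :=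
  (LinearEquiv.isWeaklyRegular_congr (TensorProduct.lid S M) rs).mp h.isWeaklyRegular_rTensor

variable (e : ℕ) (n : ℕ → ℕ) (A : (i : ℕ) → Matrix (Fin (n i)) (Fin (n (i + 1))) S)

/-- The local step. -/
theorem exact_local [IsLocalRing S] (r : ℕ → ℕ)
    (hA : ∀ i, i + 2 ≤ e → A i * A (i + 1) = 0)
    (hr : ∀ i, i < e → minorIdeal (A i) (r i + 1) = ⊥)
    (hsum : ∀ i, i + 2 ≤ e → r i + r (i + 1) = n (i + 1))
    (htop : ∀ i, i + 1 = e → r i = n (i + 1))
    (hI : ∀ i, i < e → minorIdeal (A i) (r i) = ⊤ ∨ ∃ rs : List S, rs.length = i + 1 ∧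
      (∀ x ∈ rs, x ∈ IsLocalRing.maximalIdeal S) ∧ IsWeaklyRegular S rs)
    (hk : ∀ i, i + 2 ≤ e → ∀ v, (A i).mulVecLin v = 0 → ∀ y ∈ IsLocalRing.maximalIdeal S,
      ∃ k : ℕ, y ^ k • v ∈ LinearMap.range (A (i + 1)).mulVecLin)
    (hkt : ∀ i, i + 1 = e → ∀ v, (A i).mulVecLin v = 0 → ∀ y ∈ IsLocalRing.maximalIdeal S,
      ∃ k : ℕ, y ^ k • v = 0) :
    (∀ i, i + 1 = e → ∀ v, (A i).mulVecLin v = 0 → v = 0) ∧
      (∀ i, i + 2 ≤ e → ∀ v, (A i).mulVecLin v = 0 → v ∈ LinearMap.range (A (i + 1)).mulVecLin) := by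
  classical
  -- `d` bounds the places where the ideal of minors is proper
  obtain ⟨d, rs, hd, hlen, hmem, hreg, htail⟩ : ∃ (d : ℕ) (rs : List S), d ≤ e ∧ rs.length = d ∧
      (∀ x ∈ rs, x ∈ IsLocalRing.maximalIdeal S) ∧ IsWeaklyRegular S rs ∧
      ∀ i, d ≤ i → i < e → minorIdeal (A i) (r i) = ⊤ := by
    let T := (Finset.range e).filter fun i => minorIdeal (A i) (r i) ≠ ⊤
    by_cases hT : T.Nonempty
    · obtain ⟨hi, hne⟩ := Finset.mem_filter.mp (T.max'_mem hT)
      rw [Finset.mem_range] at hi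
      obtain ⟨rs, h1, h2, h3⟩ := (hI _ hi).resolve_left hne
      refine ⟨T.max' hT + 1, rs, by omega, h1, h2, h3, fun i hdi hie => ?_⟩
      by_contra hc
      have := T.le_max' i (Finset.mem_filter.mpr ⟨Finset.mem_range.mpr hie, hc⟩)
      omega
    · refine ⟨0, [], Nat.zero_le _, rfl, by simp, by simp, fun i _ hie => ?_⟩
      by_contra hc
      exact hT ⟨i, Finset.mem_filter.mpr ⟨Finset.mem_range.mpr hie, hc⟩⟩
  let N : ∀ i, Submodule S (Fin (n i) → S) := fun i =>
    if i = d ∧ d < e then LinearMap.range (A i).mulVecLin else ⊥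
  let dd : ∀ i, ((Fin (n (i + 1)) → S) ⧸ N (i + 1)) →ₗ[S] ((Fin (n i) → S) ⧸ N i) := fun i =>
    if h : N (i + 1) ≤ Submodule.comap (A i).mulVecLin (N i) then
      Submodule.mapQ _ _ (A i).mulVecLin h else 0
  have hdd : ∀ i, i < d → ∀ v, dd i (Submodule.Quotient.mk v) =
      Submodule.Quotient.mk ((A i).mulVecLin v) := by
    intro i hi v
    have h : N (i + 1) ≤ Submodule.comap (A i).mulVecLin (N i) := by
      intro w hw
      simp only [N] at hw
      split_ifs at hw with h
      · obtain ⟨u, rfl⟩ := hw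
        rw [Submodule.mem_comap, ← LinearMap.comp_apply, ← Matrix.mulVecLin_mul, hA i (by omega),
          Matrix.mulVecLin_zero]
        exact zero_mem _
      · rw [(Submodule.mem_bot S).mp hw]; exact zero_mem _
    simp only [dd, dif_pos h, Submodule.mapQ_apply]
  have hN : ∀ i, i < d → N i = ⊥ := fun i hi => if_neg (by omega)
  have hAA : ∀ i, i + 2 ≤ e → ∀ w, (A i).mulVecLin ((A (i + 1)).mulVecLin w) = 0 := fun i hi w => by
    rw [← LinearMap.comp_apply, ← Matrix.mulVecLin_mul, hA i hi, Matrix.mulVecLin_zero]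
    rfl
  have hregN : ∀ i, i ≤ d → IsWeaklyRegular ((Fin (n i) → S) ⧸ N i) rs := by
    intro i hi
    have : Module.Projective S ((Fin (n i) → S) ⧸ N i) := by
      by_cases h : i = d ∧ d < e
      · obtain ⟨rfl, hde⟩ := h
        have := projective_coker (A i) (htail i le_rfl hde) (hr i hde)
        rw [show N i = LinearMap.range (A i).mulVecLin from if_pos ⟨rfl, hde⟩]
        exact this
      · rw [show N i = ⊥ from if_neg h]
        exact Module.Projective.of_equiv' (Submodule.quotEquivOfEqBot _ rfl).symm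
    exact isWeaklyRegular_of_flat hreg
  obtain ⟨hT1, hT2⟩ := Acyclicity.exact_of_killed (IsLocalRing.maximalIdeal S) rs hmem
    (fun i => (Fin (n i) → S) ⧸ N i) dd (fun i hi => hregN i (hlen ▸ hi))
    (fun i hi w => by
      rw [hlen] at hi
      obtain ⟨w, rfl⟩ := Submodule.Quotient.mk_surjective _ w
      rw [hdd _ (by omega), hdd _ (by omega), hAA i (by omega), Submodule.Quotient.mk_zero])
    (fun i hi v hv y hy => by
      rw [hlen] at hi
      obtain ⟨v, rfl⟩ := Submodule.Quotient.mk_surjective _ v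
      rw [hdd _ (by omega), Submodule.Quotient.mk_eq_zero, hN i (by omega), Submodule.mem_bot] at hv
      obtain ⟨k, u, hu⟩ := hk i (by omega) v hv y hy
      exact ⟨k, Submodule.Quotient.mk u, by
        rw [hdd _ (by omega), hu, Submodule.Quotient.mk_smul]⟩)
    (fun i hi v hv y hy => by
      rw [hlen] at hi
      obtain ⟨v, rfl⟩ := Submodule.Quotient.mk_surjective _ v
      rw [hdd _ (by omega), Submodule.Quotient.mk_eq_zero, hN i (by omega), Submodule.mem_bot] at hv
      by_cases hde : d < e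
      · obtain ⟨k, hk⟩ := hk i (by omega) v hv y hy
        refine ⟨k, ?_⟩
        rw [← Submodule.Quotient.mk_smul, Submodule.Quotient.mk_eq_zero,
          show N (i + 1) = LinearMap.range (A (i + 1)).mulVecLin from if_pos ⟨hi, hde⟩]
        exact hk
      · obtain ⟨k, hk⟩ := hkt i (by omega) v hv y hy
        exact ⟨k, by rw [← Submodule.Quotient.mk_smul, hk, Submodule.Quotient.mk_zero]⟩)
  refine ⟨fun i hi v hv => ?_, fun i hi v hv => ?_⟩
  · by_cases hde : d < e
    · refine eq_zero_of_full (A i) ?_ v hv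
      have h2 := htail i (by omega) (by omega)
      rwa [htop i hi] at h2
    · have h1 := hT1 i (by omega) (Submodule.Quotient.mk v)
        (by rw [hdd _ (by omega), hv, Submodule.Quotient.mk_zero])
      rw [Submodule.Quotient.mk_eq_zero, show N (i + 1) = ⊥ from if_neg (by omega)] at h1
      exact (Submodule.mem_bot S).mp h1
  · have hv' : i < d → dd i (Submodule.Quotient.mk v) = 0 := fun h => by
      rw [hdd _ h, hv, Submodule.Quotient.mk_zero]
    rcases lt_trichotomy (i + 1) d with h | h | h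
    · obtain ⟨t, ht⟩ := hT2 i (by omega) _ (hv' (by omega))
      obtain ⟨t, rfl⟩ := Submodule.Quotient.mk_surjective _ t
      rw [hdd _ h, Submodule.Quotient.eq, hN (i + 1) h, Submodule.mem_bot, sub_eq_zero] at ht
      exact ⟨t, ht⟩
    · have h1 := hT1 i (by omega) _ (hv' (by omega))
      rwa [Submodule.Quotient.mk_eq_zero,
        show N (i + 1) = LinearMap.range (A (i + 1)).mulVecLin from if_pos ⟨h, by omega⟩] at h1
    · exact mem_range_of_split (A i) (A (i + 1)) (hA i hi) (hsum i hi)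
        (htail i (by omega) (by omega)) (hr i (by omega)) (htail (i + 1) (by omega) (by omega))
        (hr (i + 1) (by omega)) v hv

section clear

variable {R : Type u} [CommRing R] (T : Submonoid R) [Algebra R S] [IsLocalization T S]

include T in
theorem exists_smul_eq_zero {b : ℕ} (x : Fin b → R) (hx : ∀ i, algebraMap R S (x i) = 0) :
    ∃ t ∈ T, t • x = 0 := by
  classical
  choose t ht using fun i => (IsLocalization.map_eq_zero_iff T S _).mp (hx i)
  refine ⟨∏ i, (t i : R), prod_mem fun i _ => (t i).2, funext fun i => ?_⟩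
  rw [Pi.smul_apply, smul_eq_mul, Pi.zero_apply, ← Finset.prod_erase_mul _ _ (Finset.mem_univ i),
    mul_assoc, ht i, mul_zero]

include T in
theorem exists_lift_smul {b : ℕ} (w : Fin b → S) :
    ∃ t ∈ T, ∃ u : Fin b → R, ∀ i, algebraMap R S (u i) = algebraMap R S t * w i := by
  obtain ⟨t, ht⟩ := IsLocalization.exist_integer_multiples_of_finite T w
  choose u hu using ht
  exact ⟨t, t.2, u, fun i => by rw [hu i, Algebra.smul_def]⟩

theorem algebraMap_mulVecLin {a b : ℕ} (M : Matrix (Fin a) (Fin b) R) (v : Fin b → R) (i : Fin a) :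
    algebraMap R S (M.mulVecLin v i) =
      (M.map (algebraMap R S)).mulVecLin (fun j => algebraMap R S (v j)) i :=
  RingHom.map_mulVec (algebraMap R S) M v i

end clear

/-- The global statement. -/
theorem exact_global [IsNoetherianRing S] (r : ℕ → ℕ)
    (hA : ∀ i, i + 2 ≤ e → A i * A (i + 1) = 0)
    (hr : ∀ i, i < e → minorIdeal (A i) (r i + 1) = ⊥)
    (hsum : ∀ i, i + 2 ≤ e → r i + r (i + 1) = n (i + 1))
    (htop : ∀ i, i + 1 = e → r i = n (i + 1))
    (hI : ∀ i, i < e → minorIdeal (A i) (r i) = ⊤ ∨ ∃ rs : List S, rs.length = i + 1 ∧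
      (∀ x ∈ rs, x ∈ minorIdeal (A i) (r i)) ∧ IsWeaklyRegular S rs) :
    (∀ i, i + 1 = e → ∀ v, (A i).mulVecLin v = 0 → v = 0) ∧
      (∀ i, i + 2 ≤ e → ∀ v, (A i).mulVecLin v = 0 → v ∈ LinearMap.range (A (i + 1)).mulVecLin) := by
  classical
  let J : ∀ i, (Fin (n (i + 1)) → S) → Ideal S := fun i v =>
    (LinearMap.range (A (i + 1)).mulVecLin).comap (LinearMap.toSpanSingleton S _ v)
  let J₀ : ∀ i, (Fin (n (i + 1)) → S) → Ideal S := fun i v =>
    LinearMap.ker (LinearMap.toSpanSingleton S _ v)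
  have main : ∀ (h : ℕ∞) (p : Ideal S) [p.IsPrime], p.height = h →
      (∀ i, i + 1 = e → ∀ v, (A i).mulVecLin v = 0 → ¬ J₀ i v ≤ p) ∧
      (∀ i, i + 2 ≤ e → ∀ v, (A i).mulVecLin v = 0 → ¬ J i v ≤ p) := by
    intro h
    induction h using WellFoundedLT.induction with
    | ind h IH =>
    intro p _ hp
    -- every `J` has a member of the form `s * a ^ k`
    have hkill : ∀ (I : Ideal S), (∀ (Q : Ideal S) [Q.IsPrime], Q < p → ¬ I ≤ Q) → ∀ a ∈ p,
        ∃ (k : ℕ) (s : S), s ∉ p ∧ s * a ^ k ∈ I := by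
      intro I hQ a ha
      by_contra! hall
      let T : Submonoid S := p.primeCompl ⊔ Submonoid.powers a
      have hdisj : Disjoint (I : Set S) T := by
        rw [Set.disjoint_left]
        intro x hx hxT
        obtain ⟨s, hs, y, ⟨k, rfl⟩, rfl⟩ := Submonoid.mem_sup.mp hxT
        exact hall k s hs hx
      obtain ⟨Q, hQp, hIQ, hQT⟩ := Ideal.exists_le_prime_disjoint I T hdisj
      refine hQ Q (lt_of_le_of_ne (fun x hx => ?_) ?_) hIQ
      · by_contra hxp
        exact Set.disjoint_left.mp hQT hx (Submonoid.mem_sup_left hxp)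
      · rintro rfl
        exact Set.disjoint_left.mp hQT ha (Submonoid.mem_sup_right (Submonoid.mem_powers a))
    let L := Localization.AtPrime p
    let φ := algebraMap S L
    have hfin : ∀ (b : ℕ) (w : Fin b → L) (x : L), IsUnit x → x • w = 0 → w = 0 :=
      fun b w x hx hw => hx.smul_eq_zero.mp hw
    -- kernels upstairs come from kernels downstairs
    have hker : ∀ i (w : Fin (n (i + 1)) → L), ((A i).map φ).mulVecLin w = 0 →
        ∃ (v : Fin (n (i + 1)) → S) (t : S), t ∉ p ∧ (A i).mulVecLin v = 0 ∧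
          ∀ j, φ (v j) = φ t * w j := by
      intro i w hw
      obtain ⟨t, ht, u, hu⟩ := exists_lift_smul p.primeCompl w
      obtain ⟨t', ht', h0⟩ := exists_smul_eq_zero (S := L) p.primeCompl ((A i).mulVecLin u) fun j => by
        rw [algebraMap_mulVecLin, show (fun j => algebraMap S L (u j)) = φ t • w from funext hu,
          map_smul, hw, smul_zero]
        rfl
      refine ⟨t' • u, t' * t, p.primeCompl.mul_mem ht' ht, by rw [map_smul, h0], fun j => ?_⟩
      rw [Pi.smul_apply, smul_eq_mul, map_mul, map_mul, hu j, mul_assoc]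
    have hunit : ∀ t, t ∉ p → IsUnit (φ t) := fun t ht =>
      IsLocalization.map_units L (⟨t, ht⟩ : p.primeCompl)
    have hmax : ∀ y ∈ IsLocalRing.maximalIdeal L, ∃ a ∈ p, ∃ c, y = φ a * c := by
      intro y hy
      obtain ⟨a, s, rfl⟩ := IsLocalization.exists_mk'_eq p.primeCompl y
      refine ⟨a, (IsLocalization.AtPrime.mk'_mem_maximal_iff L p a s).mp hy,
        IsLocalization.mk' L 1 s, ?_⟩
      rw [← IsLocalization.mk'_eq_mul_mk'_one]
    have IH' : ∀ (Q : Ideal S) [Q.IsPrime], Q < p →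
        (∀ i, i + 1 = e → ∀ v, (A i).mulVecLin v = 0 → ¬ J₀ i v ≤ Q) ∧
        (∀ i, i + 2 ≤ e → ∀ v, (A i).mulVecLin v = 0 → ¬ J i v ≤ Q) := fun Q _ hQ =>
      IH Q.height (hp ▸ Ideal.height_strict_mono_of_isPrime hQ) Q rfl
    obtain ⟨h1, h2⟩ := exact_local (S := L) e n (fun i => (A i).map φ) r
      (fun i hi => by rw [← Matrix.map_mul, hA i hi, Matrix.map_zero _ (map_zero φ)])
      (fun i hi => by rw [minorIdeal_map, hr i hi, Ideal.map_bot]) hsum htop
      (fun i hi => by
        rw [minorIdeal_map]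
        rcases hI i hi with h | ⟨rs, h1, h2, h3⟩
        · exact Or.inl (by rw [h, Ideal.map_top])
        by_cases hrs : ∀ x ∈ rs, x ∈ p
        · refine Or.inr ⟨rs.map φ, by simp [h1], ?_, IsWeaklyRegular.of_flat h3⟩
          simp only [List.mem_map, forall_exists_index, and_imp, forall_apply_eq_imp_iff₂]
          exact fun x hx => (IsLocalization.AtPrime.to_map_mem_maximal_iff L p x).mpr (hrs x hx)
        · push Not at hrs
          obtain ⟨x, hx, hxp⟩ := hrs
          exact Or.inl (Ideal.eq_top_of_isUnit_mem _ (Ideal.mem_map_of_mem φ (h2 x hx)) (hunit x hxp)))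
      (fun i hi w hw y hy => by
        obtain ⟨v, t, ht, hv, hvw⟩ := hker i w hw
        obtain ⟨a, ha, c, rfl⟩ := hmax y hy
        obtain ⟨k, s, hs, u, hu⟩ := hkill (J i v) (fun Q _ hQ => (IH' Q hQ).2 i hi v hv) a ha
        refine ⟨k, ?_⟩
        have hmem : (φ (s * a ^ k) * φ t) • w ∈ LinearMap.range ((A (i + 1)).map φ).mulVecLin := by
          refine ⟨fun j => φ (u j), funext fun j => ?_⟩
          rw [← algebraMap_mulVecLin, hu]
          simp only [LinearMap.toSpanSingleton_apply, Pi.smul_apply, smul_eq_mul, map_mul, mul_assoc]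
          rw [← hvw j]
        have : (φ a * c) ^ k • w =
            (((hunit s hs).mul (hunit t ht)).unit⁻¹ : Lˣ).1 • c ^ k • ((φ (s * a ^ k) * φ t) • w) := by
          rw [smul_smul, smul_smul]
          congr 1
          rw [map_mul, map_pow, mul_pow, mul_comm (φ a ^ k) (c ^ k)]
          calc c ^ k * φ a ^ k = ((((hunit s hs).mul (hunit t ht)).unit⁻¹ : Lˣ).1 * (φ s * φ t)) *
                (c ^ k * φ a ^ k) := by rw [IsUnit.val_inv_mul, one_mul]
            _ = _ := by ring
        rw [this]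
        exact Submodule.smul_mem _ _ (Submodule.smul_mem _ _ hmem))
      (fun i hi w hw y hy => by
        obtain ⟨v, t, ht, hv, hvw⟩ := hker i w hw
        obtain ⟨a, ha, c, rfl⟩ := hmax y hy
        obtain ⟨k, s, hs, hu⟩ := hkill (J₀ i v) (fun Q _ hQ => (IH' Q hQ).1 i hi v hv) a ha
        refine ⟨k, funext fun j => (((hunit s hs).mul (hunit t ht)).mul_right_eq_zero).mp ?_⟩
        have h0 : φ ((s * a ^ k) * v j) = 0 := by
          rw [← smul_eq_mul, ← Pi.smul_apply,
            show (s * a ^ k) • v = 0 from hu, Pi.zero_apply, map_zero]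
        rw [map_mul, map_mul, map_pow, hvw j] at h0
        calc φ s * φ t * ((φ a * c) ^ k • w) j = c ^ k * (φ s * φ a ^ k * (φ t * w j)) := by
              rw [Pi.smul_apply, smul_eq_mul]; ring
          _ = 0 := by rw [h0, mul_zero])
    refine ⟨fun i hi v hv hle => ?_, fun i hi v hv hle => ?_⟩
    · have h0 : ((A i).map φ).mulVecLin (fun j => φ (v j)) = 0 := funext fun j => by
        rw [← algebraMap_mulVecLin, hv]; exact map_zero φ
      obtain ⟨s, hs, hs0⟩ := exists_smul_eq_zero (S := L) p.primeCompl v (congrFun (h1 i hi _ h0))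
      exact hs (hle (by simpa [J₀] using hs0))
    · have h0 : ((A i).map φ).mulVecLin (fun j => φ (v j)) = 0 := funext fun j => by
        rw [← algebraMap_mulVecLin, hv]; exact map_zero φ
      obtain ⟨w, hw⟩ := h2 i hi _ h0
      obtain ⟨t, ht, u, hu⟩ := exists_lift_smul p.primeCompl w
      obtain ⟨s, hs, hs0⟩ := exists_smul_eq_zero (S := L) p.primeCompl
        ((A (i + 1)).mulVecLin u - t • v) fun j => by
          rw [Pi.sub_apply, map_sub, algebraMap_mulVecLin,
            show (fun j => algebraMap S L (u j)) = φ t • w from funext hu, map_smul, hw,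
            Pi.smul_apply, Pi.smul_apply, smul_eq_mul, smul_eq_mul, map_mul, sub_self]
      refine p.primeCompl.mul_mem hs ht (hle ⟨s • u, ?_⟩)
      rw [smul_sub, sub_eq_zero, smul_smul] at hs0
      rw [map_smul, hs0, LinearMap.toSpanSingleton_apply]
  refine ⟨fun i hi v hv => ?_, fun i hi v hv => ?_⟩
  · by_contra hne
    have hJ : J₀ i v ≠ ⊤ := fun h => hne (by
      have : (1 : S) • v = 0 := (Ideal.eq_top_iff_one _).mp h
      rwa [one_smul] at this)
    obtain ⟨m, hm, hle⟩ := Ideal.exists_le_maximal _ hJ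
    exact (main m.height m rfl).1 i hi v hv hle
  · by_contra hne
    have hJ : J i v ≠ ⊤ := fun h => hne (by
      have : (1 : S) • v ∈ LinearMap.range (A (i + 1)).mulVecLin := (Ideal.eq_top_iff_one _).mp h
      rwa [one_smul] at this)
    obtain ⟨m, hm, hle⟩ := Ideal.exists_le_maximal _ hJ
    exact (main m.height m rfl).2 i hi v hv hle

end Groth.Agent.H3CAlg.BuchsbaumEisenbud
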