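import Groth.Prelude.Def_HTop2
import Mathlib

/-!
# Traverso's theorem: invertible modules over `R[X]` for a seminormal local ring
-/

set_option autoImplicit false
set_option linter.style.haveILetI false
universe u

open Polynomial TensorProduct

namespace Groth.Agent.H3CAlg.Traverso

variable {q : ℕ}

/-- A factorisation of a matrix as a column times a row of product one. -/
def IsFac {E : Type u} [CommRing E] (P : Matrix (Fin q) (Fin q) E) (f g : Fin q → E) : Prop :=
  (∀ i j, P i j = f i * g j) ∧ ∑ i, g i * f i = 1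

theorem IsFac.map {E E' : Type u} [CommRing E] [CommRing E'] (φ : E →+* E') {P : Matrix (Fin q) (Fin q) E}
    {f g : Fin q → E} (h : IsFac P f g) : IsFac (P.map φ) (φ ∘ f) (φ ∘ g) :=
  ⟨fun i j => by simp [h.1 i j], by simp [← map_mul, ← map_sum, h.2]⟩

theorem IsFac.transpose {E : Type u} [CommRing E] {P : Matrix (Fin q) (Fin q) E} {f g : Fin q → E}
    (h : IsFac P f g) : IsFac P.transpose g f :=
  ⟨fun i j => by rw [Matrix.transpose_apply, h.1, mul_comm], by simp only [mul_comm (f _)]; exact h.2⟩

theorem IsFac.eq_smul {E : Type u} [CommRing E] {P : Matrix (Fin q) (Fin q) E} {f g f' g' : Fin q → E}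
    (h : IsFac P f g) (h' : IsFac P f' g') (j : Fin q) : f j = (∑ i, g' i * f i) * f' j := by
  rw [Finset.sum_mul]
  calc f j = ∑ i, (f j * g i) * f i := by
        simp only [mul_assoc, ← Finset.mul_sum, h.2, mul_one]
    _ = _ := Finset.sum_congr rfl fun i _ => by rw [← h.1, h'.1]; ring

theorem IsFac.mul_eq_one {E : Type u} [CommRing E] {P : Matrix (Fin q) (Fin q) E} {f g f' g' : Fin q → E}
    (h : IsFac P f g) (h' : IsFac P f' g') : (∑ i, g i * f' i) * (∑ i, g' i * f i) = 1 := by
  conv_rhs => rw [← h.2]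
  rw [Finset.sum_mul]
  exact Finset.sum_congr rfl fun i _ => by rw [h.eq_smul h' i]; ring

/-- Over a domain, two factorisations differ by a constant. -/
theorem IsFac.eq_C_mul {E : Type u} [CommRing E] [IsDomain E] {P : Matrix (Fin q) (Fin q) E[X]}
    {f g f' g' : Fin q → E[X]} (h : IsFac P f g) (h' : IsFac P f' g') (j : Fin q) :
    f j = C (∑ i, (g' i).coeff 0 * (f i).coeff 0) * f' j := by
  obtain ⟨c, -, hc⟩ := Polynomial.isUnit_iff.1 (IsUnit.of_mul_eq_one_right _ (h.mul_eq_one h'))
  rw [h.eq_smul h' j, ← hc]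
  congr 2
  have := congrArg (fun p => p.coeff 0) hc
  simpa [finsetSum_coeff, mul_coeff_zero] using this

theorem coeff_integral_of_mul {R S : Type u} [CommRing R] [CommRing S] [Algebra R S] (h x : S[X])
    (h0 : h.coeff 0 = 1) (hh : ∀ n, IsIntegral R (h.coeff n)) (hx : ∀ n, IsIntegral R ((x * h).coeff n)) :
    ∀ n, IsIntegral R (x.coeff n) := by
  intro n
  induction n using Nat.strong_induction_on with
  | _ n ih =>
    have h1 := hx n
    rw [coeff_mul, Finset.Nat.sum_antidiagonal_eq_sum_range_succ (fun a b => x.coeff a * h.coeff b),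
      Finset.sum_range_succ, Nat.sub_self, h0, mul_one] at h1
    have h2 : IsIntegral R (∑ k ∈ Finset.range n, x.coeff k * h.coeff (n - k)) :=
      IsIntegral.sum _ fun k hk => (ih k (Finset.mem_range.1 hk)).mul (hh _)
    have := h1.sub h2
    rwa [add_sub_cancel_left] at this

theorem coeff_integral_of_dvd {R S : Type u} [CommRing R] [CommRing S] [Algebra R S] (F h : S[X]) (p : R[X])
    (hF : F.coeff 0 = 1) (hh : h.coeff 0 = 1) (hFh : F * h = p.map (algebraMap R S))
    (hp0 : p.coeff 0 = 1) :
    ∀ n, IsIntegral R (h.coeff n) := by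
  intro n
  nontriviality S
  haveI : Nontrivial R := RingHom.domain_nontrivial (algebraMap R S)
  let D := max (max F.natDegree h.natDegree) (max p.natDegree n)
  have hp : (reflect (D + D) p).Monic :=
    monic_of_natDegree_le_of_coeff_eq_one (D + D)
      (natDegree_le_iff_coeff_eq_zero.2 fun m hm => by
        rw [coeff_reflect, show revAt (D + D) m = m from if_neg (by omega)]
        exact coeff_eq_zero_of_natDegree_lt (by omega))
      (by rw [coeff_reflect, revAt_le le_rfl, Nat.sub_self, hp0])
  have hq : (reflect D h).Monic :=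
    monic_of_natDegree_le_of_coeff_eq_one D
      (natDegree_le_iff_coeff_eq_zero.2 fun m hm => by
        rw [coeff_reflect, show revAt D m = m from if_neg (by omega)]
        exact coeff_eq_zero_of_natDegree_lt (by omega))
      (by rw [coeff_reflect, revAt_le le_rfl, Nat.sub_self, hh])
  have hdvd : reflect D h ∣ (reflect (D + D) p).map (algebraMap R S) := by
    rw [← reflect_map, ← hFh, reflect_mul F h (by omega) (by omega)]
    exact dvd_mul_left _ _
  have := Polynomial.isIntegral_coeff_of_dvd _ _ hp hq hdvd (D - n)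
  rwa [coeff_reflect, revAt_le (Nat.sub_le _ _), Nat.sub_sub_self (by omega)] at this

/-- The coefficient of a normalised factorisation, in a field. -/
theorem fac_coeff {R A K E : Type u} [CommRing R] [CommRing A] [Algebra R A] [CommRing K] [Algebra R K]
    [CommRing E] [IsDomain E] (κ : K →+* E) (θ : A →+* E)
    (hκ : ∀ x : R, κ (algebraMap R K x) = θ (algebraMap R A x)) {P : Matrix (Fin q) (Fin q) R[X]}
    {fA gA : Fin q → A[X]} (hfacA : IsFac (P.map (mapRingHom (algebraMap R A))) fA gA)
    {f' g' : Fin q → K[X]} (h' : IsFac (P.map (mapRingHom (algebraMap R K))) f' g')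
    (v : Fin q → R) (hfA0 : ∀ i, (fA i).coeff 0 = algebraMap R A (v i)) (i : Fin q) (n : ℕ) :
    θ ((fA i).coeff n) = κ ((∑ i, (g' i).coeff 0 * algebraMap R K (v i)) * (f' i).coeff n) := by
  have hE : IsFac (P.map (mapRingHom (κ.comp (algebraMap R K)))) (mapRingHom θ ∘ fA) (mapRingHom θ ∘ gA) := by
    have := hfacA.map (mapRingHom θ)
    rwa [Matrix.map_map, ← RingHom.coe_comp, mapRingHom_comp,
      show θ.comp (algebraMap R A) = κ.comp (algebraMap R K) from RingHom.ext fun x => (hκ x).symm] at this
  have hE' : IsFac (P.map (mapRingHom (κ.comp (algebraMap R K)))) (mapRingHom κ ∘ f') (mapRingHom κ ∘ g') := by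
    have := h'.map (mapRingHom κ)
    rwa [Matrix.map_map, ← RingHom.coe_comp, mapRingHom_comp] at this
  have key := congrArg (fun z => z.coeff n) (hE.eq_C_mul hE' i)
  simp only [Function.comp_apply, coe_mapRingHom, coeff_C_mul, coeff_map, hfA0, ← hκ, ← map_mul, ← map_sum] at key
  exact key

/-- The field step at a prime of an extension. -/
theorem sub_mem_prime {R A : Type u} [CommRing R] [CommRing A] [Algebra R A] (p : Ideal R) [p.IsPrime]
    {P : Matrix (Fin q) (Fin q) R[X]} {fA gA : Fin q → A[X]}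
    (hfacA : IsFac (P.map (mapRingHom (algebraMap R A))) fA gA)
    {f' g' : Fin q → (FractionRing (R ⧸ p))[X]}
    (h' : IsFac (P.map (mapRingHom (algebraMap R (FractionRing (R ⧸ p))))) f' g')
    (v : Fin q → R) (hfA0 : ∀ i, (fA i).coeff 0 = algebraMap R A (v i)) (i : Fin q) (n : ℕ) {s r : R}
    (hrs : (∑ i, (g' i).coeff 0 * algebraMap R (FractionRing (R ⧸ p)) (v i)) * (f' i).coeff n *
      algebraMap R (FractionRing (R ⧸ p)) s = algebraMap R (FractionRing (R ⧸ p)) r)
    (Q : Ideal A) [Q.IsPrime] (hQ : Q.comap (algebraMap R A) = p) :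
    algebraMap R A s * (fA i).coeff n - algebraMap R A r ∈ Q := by
  let E := FractionRing (A ⧸ Q)
  let K := FractionRing (R ⧸ p)
  let θ : A →+* E := (algebraMap (A ⧸ Q) E).comp (Ideal.Quotient.mk Q)
  let ι₀ : (R ⧸ p) →+* A ⧸ Q := Ideal.quotientMap Q (algebraMap R A) hQ.ge
  have hι₀ : Function.Injective ((algebraMap (A ⧸ Q) E).comp ι₀) :=
    (IsFractionRing.injective (A ⧸ Q) E).comp (Ideal.quotientMap_injective' (H := hQ.ge) hQ.le)
  let κ : K →+* E := IsFractionRing.lift hι₀
  have hκ : ∀ x : R, κ (algebraMap R K x) = θ (algebraMap R A x) := fun x =>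
    IsFractionRing.lift_algebraMap hι₀ (Ideal.Quotient.mk p x)
  have h2 : θ (algebraMap R A s * (fA i).coeff n - algebraMap R A r) = 0 := by
    rw [map_sub, map_mul, fac_coeff κ θ hκ hfacA h' v hfA0 i n, ← hκ, ← hκ, ← map_mul, ← map_sub,
      mul_comm, hrs, sub_self, map_zero]
  exact Ideal.Quotient.eq_zero_iff_mem.1 ((map_eq_zero_iff _ (IsFractionRing.injective (A ⧸ Q) E)).1 h2)

section Setting

variable {R S : Type u} [CommRing R] [CommRing S] [Algebra R S]
  {P : Matrix (Fin q) (Fin q) R[X]} {f g : Fin q → S[X]} (hfac : IsFac (P.map (mapRingHom (algebraMap R S))) f g)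
  (v w : Fin q → R) (hv : ∀ i, (f i).coeff 0 = algebraMap R S (v i)) (hvw : ∑ i, w i * v i = 1)

include hfac hv hvw in
theorem g_coeff_zero (j : Fin q) : (g j).coeff 0 = algebraMap R S (∑ i, w i * (P i j).coeff 0) := by
  rw [map_sum]
  calc (g j).coeff 0 = algebraMap R S (∑ i, w i * v i) * (g j).coeff 0 := by rw [hvw, map_one, one_mul]
    _ = _ := by
      rw [map_sum, Finset.sum_mul]
      refine Finset.sum_congr rfl fun i _ => ?_
      have := congrArg (fun z => z.coeff 0) (hfac.1 i j)
      simp only [Matrix.map_apply, coe_mapRingHom, coeff_map, mul_coeff_zero, hv] at this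
      rw [map_mul, map_mul, this, mul_assoc]

include hfac hv hvw in
theorem f_coeff_integral (i : Fin q) : ∀ n, IsIntegral R ((f i).coeff n) := by
  let F : S[X] := ∑ i, C (algebraMap R S (w i)) * f i
  let h : S[X] := ∑ j, C (algebraMap R S (v j)) * g j
  let p : R[X] := ∑ i, ∑ j, C (w i * v j) * P i j
  have hF : F.coeff 0 = 1 := by
    simp only [F, finsetSum_coeff, coeff_C_mul, hv, ← map_mul, ← map_sum, hvw, map_one]
  have hh : h.coeff 0 = 1 := by
    have := congrArg (fun z => z.coeff 0) hfac.2
    simp only [finsetSum_coeff, mul_coeff_zero, hv, coeff_one_zero] at this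
    simp only [h, finsetSum_coeff, coeff_C_mul]
    rw [← this]
    exact Finset.sum_congr rfl fun j _ => mul_comm _ _
  have hFh : F * h = p.map (algebraMap R S) := by
    simp only [F, h, p, Polynomial.map_sum, Polynomial.map_mul, map_C, Finset.sum_mul, Finset.mul_sum]
    rw [Finset.sum_comm]
    refine Finset.sum_congr rfl fun i _ => Finset.sum_congr rfl fun j _ => ?_
    have : (P i j).map (algebraMap R S) = f i * g j := hfac.1 i j
    rw [this, map_mul, map_mul]
    ring
  have hp0 : p.coeff 0 = 1 → ∀ n, IsIntegral R (h.coeff n) := coeff_integral_of_dvd F h p hF hh hFh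
  have hi : ∀ n, IsIntegral R (h.coeff n) := by
    by_cases hinj : Function.Injective (algebraMap R S)
    · refine hp0 (hinj ?_)
      rw [← coeff_map, ← hFh, mul_coeff_zero, hF, hh, one_mul, map_one]
    · -- replace `p` by a polynomial with constant term one
      let p' : R[X] := p - C (p.coeff 0) + 1
      refine coeff_integral_of_dvd F h p' hF hh ?_ (by simp [p'])
      have h0 : algebraMap R S (p.coeff 0) = 1 := by rw [← coeff_map, ← hFh, mul_coeff_zero, hF, hh, one_mul]
      simp [p', hFh, h0]
  refine coeff_integral_of_mul h (f i) hh hi fun n => ?_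
  have : f i * h = (∑ j, C (v j) * P i j).map (algebraMap R S) := by
    simp only [h, Polynomial.map_sum, Polynomial.map_mul, map_C, Finset.mul_sum]
    refine Finset.sum_congr rfl fun j _ => ?_
    have : (P i j).map (algebraMap R S) = f i * g j := hfac.1 i j
    rw [this]; ring
  rw [this, coeff_map]
  exact isIntegral_algebraMap

include hfac hv in
/-- The coefficients lie in the fraction field of the base at every prime over a given one. -/
theorem exists_mul_sub_mem (p : Ideal R) [p.IsPrime]
    (hK : ∀ (K : Type u) [Field K] [Algebra R K], ∃ f' g', IsFac (P.map (mapRingHom (algebraMap R K))) f' g')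
    (i : Fin q) (n : ℕ) :
    ∃ (s r : R), s ∉ p ∧ ∀ (A : Subalgebra R S), (∀ i n, (f i).coeff n ∈ A) → (∀ i n, (g i).coeff n ∈ A) →
      ∀ (a : A), (a : S) = (f i).coeff n → ∀ (Q : Ideal A) [Q.IsPrime], Q.comap (algebraMap R A) = p →
        algebraMap R A s * a - algebraMap R A r ∈ Q := by
  obtain ⟨f', g', h'⟩ := hK (FractionRing (R ⧸ p))
  let K := FractionRing (R ⧸ p)
  let c : K := (∑ i, (g' i).coeff 0 * algebraMap R K (v i)) * (f' i).coeff n
  obtain ⟨⟨r, ⟨s, hs⟩⟩, hrs⟩ := IsLocalization.surj (nonZeroDivisors (R ⧸ p)) c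
  obtain ⟨r, rfl⟩ := Ideal.Quotient.mk_surjective r
  obtain ⟨s, rfl⟩ := Ideal.Quotient.mk_surjective s
  refine ⟨s, r, fun hsp => nonZeroDivisors.ne_zero hs (Ideal.Quotient.eq_zero_iff_mem.2 hsp), ?_⟩
  intro A hfA hgA a ha Q _ hQ
  let fA : Fin q → A[X] := fun i => ∑ m ∈ Finset.range ((f i).natDegree + 1), C ⟨_, hfA i m⟩ * X ^ m
  let gA : Fin q → A[X] := fun i => ∑ m ∈ Finset.range ((g i).natDegree + 1), C ⟨_, hgA i m⟩ * X ^ m
  have hA : ∀ (x : Fin q → S[X]) (hx : ∀ i m, (x i).coeff m ∈ A) i,
      Polynomial.map (A.val : A →+* S) (∑ m ∈ Finset.range ((x i).natDegree + 1), C (⟨_, hx i m⟩ : A) * X ^ m) = x i := by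
    intro x hx i
    conv_rhs => rw [(x i).as_sum_range_C_mul_X_pow]
    simp [Polynomial.map_sum]
  have hfacA : IsFac (P.map (mapRingHom (algebraMap R A))) fA gA := by
    have hinj : Function.Injective (Polynomial.map (A.val : A →+* S)) :=
      Polynomial.map_injective _ Subtype.val_injective
    refine ⟨fun i j => hinj ?_, hinj ?_⟩
    · rw [Polynomial.map_mul, hA f hfA, hA g hgA, Matrix.map_apply, coe_mapRingHom, Polynomial.map_map]
      exact hfac.1 i j
    · rw [Polynomial.map_one, Polynomial.map_sum]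
      refine Eq.trans (Finset.sum_congr rfl fun i _ => ?_) hfac.2
      rw [Polynomial.map_mul, hA f hfA, hA g hgA]
  have hfA0 : ∀ i, (fA i).coeff 0 = algebraMap R A (v i) := fun i => Subtype.ext (by
    have := congrArg (fun z => z.coeff 0) (hA f hfA i)
    rw [coeff_map, hv] at this
    exact this)
  have hfAn : (fA i).coeff n = a := Subtype.ext (by
    have := congrArg (fun z => z.coeff n) (hA f hfA i)
    rw [coeff_map] at this
    rw [ha]; exact this)
  rw [← hfAn]
  exact sub_mem_prime p hfacA h' v hfA0 i n hrs Q hQ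

end Setting

/-- Coefficients of a normalised factorisation over a reduced extension of a seminormal ring lie in the ring. -/
theorem coeff_mem_range {R S : Type u} [CommRing R] [CommRing S] [Algebra R S] [IsReduced S]
    (hinj : Function.Injective (algebraMap R S)) (hR : HTop.IsSeminormalRing R)
    {P : Matrix (Fin q) (Fin q) R[X]} {f g : Fin q → S[X]} (hfac : IsFac (P.map (mapRingHom (algebraMap R S))) f g)
    (v w : Fin q → R) (hv : ∀ i, (f i).coeff 0 = algebraMap R S (v i)) (hvw : ∑ i, w i * v i = 1)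
    (hK : ∀ (K : Type u) [Field K] [Algebra R K], ∃ f' g', IsFac (P.map (mapRingHom (algebraMap R K))) f' g') :
    ∀ i n, (f i).coeff n ∈ Set.range (algebraMap R S) ∧ (g i).coeff n ∈ Set.range (algebraMap R S) := by
  classical
  let v' : Fin q → R := fun j => ∑ i, w i * (P i j).coeff 0
  have hv' : ∀ j, (g j).coeff 0 = algebraMap R S (v' j) := g_coeff_zero hfac v w hv hvw
  have hvw' : ∑ i, v i * v' i = 1 := by
    refine hinj ?_
    have := congrArg (fun z => z.coeff 0) hfac.2
    simp only [finsetSum_coeff, mul_coeff_zero, hv, hv', coeff_one_zero] at this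
    rw [map_one, ← this, map_sum]
    exact Finset.sum_congr rfl fun i _ => by rw [map_mul, mul_comm]
  have hfacT : IsFac (P.transpose.map (mapRingHom (algebraMap R S))) g f := hfac.transpose
  have hKT : ∀ (K : Type u) [Field K] [Algebra R K], ∃ f' g',
      IsFac (P.transpose.map (mapRingHom (algebraMap R K))) f' g' := fun K _ _ => by
    obtain ⟨f', g', h'⟩ := hK K
    exact ⟨g', f', h'.transpose⟩
  let T : Finset S := Finset.univ.biUnion fun i =>
    (Finset.range ((f i).natDegree + 1)).image (f i).coeff ∪ (Finset.range ((g i).natDegree + 1)).image (g i).coeff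
  let A : Subalgebra R S := Algebra.adjoin R (T : Set S)
  have hmem : ∀ (x : S[X]), (∀ n ≤ x.natDegree, x.coeff n ∈ A) → ∀ n, x.coeff n ∈ A := fun x hx n => by
    by_cases hn : n ≤ x.natDegree
    · exact hx n hn
    · rw [coeff_eq_zero_of_natDegree_lt (by omega)]; exact zero_mem A
  have hfA : ∀ i n, (f i).coeff n ∈ A := fun i => hmem _ fun n hn => Algebra.subset_adjoin (by
    simp only [T, Finset.coe_biUnion, Finset.mem_coe, Set.mem_iUnion]
    exact ⟨i, Finset.mem_univ i, Finset.mem_union_left _ (Finset.mem_image_of_mem _ (Finset.mem_range.2 (by omega)))⟩)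
  have hgA : ∀ i n, (g i).coeff n ∈ A := fun i => hmem _ fun n hn => Algebra.subset_adjoin (by
    simp only [T, Finset.coe_biUnion, Finset.mem_coe, Set.mem_iUnion]
    exact ⟨i, Finset.mem_univ i, Finset.mem_union_right _ (Finset.mem_image_of_mem _ (Finset.mem_range.2 (by omega)))⟩)
  have hTint : ∀ x ∈ (T : Set S), IsIntegral R x := by
    intro x hx
    simp only [T, Finset.coe_biUnion, Set.mem_iUnion, Finset.mem_coe, Finset.mem_union, Finset.mem_image] at hx
    obtain ⟨i, -, ⟨m, -, rfl⟩ | ⟨m, -, rfl⟩⟩ := hx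
    · exact f_coeff_integral hfac v w hv hvw i m
    · exact f_coeff_integral hfacT v' v hv' hvw' i m
  haveI : Module.Finite R A := Module.Finite.of_fg (fg_adjoin_of_finite T.finite_toSet hTint)
  suffices hA : ∀ a : A, (a : S) ∈ Set.range (algebraMap R S) from
    fun i n => ⟨hA ⟨_, hfA i n⟩, hA ⟨_, hgA i n⟩⟩
  have hrangeSub : ∀ {x y : A}, (x : S) ∈ Set.range (algebraMap R S) → (y : S) ∈ Set.range (algebraMap R S) →
      ((x + y : A) : S) ∈ Set.range (algebraMap R S) := by
    rintro x y ⟨r, hr⟩ ⟨r', hr'⟩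
    exact ⟨r + r', by rw [map_add, hr, hr']; rfl⟩
  -- the conductor
  let 𝔠 : Ideal A :=
    { carrier := {x | ∀ a : A, ((x * a : A) : S) ∈ Set.range (algebraMap R S)}
      add_mem' := fun {x y} hx hy a => by rw [add_mul]; exact hrangeSub (hx a) (hy a)
      zero_mem' := fun a => ⟨0, by simp⟩
      smul_mem' := fun b x hx a => by
        have := hx (b * a)
        rwa [smul_eq_mul, mul_comm b x, mul_assoc] }
  have hsn : ∀ s : S, s ^ 2 ∈ Set.range (algebraMap R S) → s ^ 3 ∈ Set.range (algebraMap R S) →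
      s ∈ Set.range (algebraMap R S) := by
    rintro s ⟨x, hx⟩ ⟨y, hy⟩
    obtain ⟨a, ⟨ha2, ha3⟩, -⟩ := hR x y (hinj (by rw [map_pow, map_pow, hx, hy, ← pow_mul, ← pow_mul]))
    subst ha2 ha3
    rw [map_pow] at hx hy
    refine ⟨a, ?_⟩
    have h0 : (algebraMap R S a - s) ^ 3 = 0 := by
      linear_combination 4 * hy + (-3 * s - 3 * algebraMap R S a) * hx
    exact sub_eq_zero.1 (IsReduced.eq_zero _ ⟨3, h0⟩)
  have hrad : 𝔠.IsRadical := by
    refine (Ideal.isRadical_iff_pow_one_lt 2 one_lt_two).2 fun s hs a => hsn _ ?_ ?_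
    · have := hs (a * a)
      convert this using 1
      simp only [MulMemClass.coe_mul, SubmonoidClass.coe_pow]; ring
    · have := hs (s * a * a * a)
      convert this using 1
      simp only [MulMemClass.coe_mul, SubmonoidClass.coe_pow]; ring
  by_contra hne
  have h𝔠 : 𝔠.comap (algebraMap R A) ≠ ⊤ := fun htop => hne fun a => by
    have h1 : algebraMap R A 1 ∈ 𝔠 := (Ideal.eq_top_iff_one _).1 htop
    have := h1 a
    rwa [map_one, one_mul] at this
  obtain ⟨M, hM, hle⟩ := Ideal.exists_le_maximal _ h𝔠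
  obtain ⟨p, hp, -⟩ := Ideal.exists_minimalPrimes_le (J := M) hle
  haveI : p.IsPrime := hp.1.1
  let N : Subalgebra R A :=
    { carrier := {x | ∃ s ∉ p, ((algebraMap R A s * x : A) : S) ∈ Set.range (algebraMap R S)}
      mul_mem' := by
        rintro x y ⟨s, hs, r, hr⟩ ⟨s', hs', r', hr'⟩
        refine ⟨s * s', fun h => (Ideal.IsPrime.mem_or_mem ‹p.IsPrime› h).elim hs hs', r * r', ?_⟩
        rw [map_mul, hr, hr', ← MulMemClass.coe_mul, map_mul]
        ring_nf
      add_mem' := by
        rintro x y ⟨s, hs, r, hr⟩ ⟨s', hs', r', hr'⟩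
        refine ⟨s * s', fun h => (Ideal.IsPrime.mem_or_mem ‹p.IsPrime› h).elim hs hs', s' * r + s * r', ?_⟩
        simp only [map_add, map_mul, hr, hr', MulMemClass.coe_mul, AddMemClass.coe_add, Subalgebra.coe_algebraMap]
        ring
      algebraMap_mem' := fun r => ⟨1, fun h => (‹p.IsPrime›).ne_top ((Ideal.eq_top_iff_one p).2 h), r, by simp⟩ }
  have hlocal : ∀ a : A, ∀ s r : R, s ∉ p →
      (∀ (Q : Ideal A) [Q.IsPrime], Q.comap (algebraMap R A) = p → algebraMap R A s * a - algebraMap R A r ∈ Q) →
      a ∈ N := by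
    intro a s r hs hQ
    set z := algebraMap R A s * a - algebraMap R A r
    let Mo : Submonoid A := p.primeCompl.map (algebraMap R A) ⊔ Submonoid.powers z
    obtain ⟨x, hxMo, hxc⟩ : ∃ x ∈ Mo, x ∈ 𝔠 := by
      by_contra hc
      push Not at hc
      obtain ⟨Q, hQp, hcQ, hQd⟩ := Ideal.exists_le_prime_disjoint 𝔠 Mo
        (Set.disjoint_left.2 fun x hx hx' => hc x hx' hx)
      have hQle : Q.comap (algebraMap R A) ≤ p := fun x hx => by
        by_contra hxp
        exact Set.disjoint_left.1 hQd hx ((le_sup_left : _ ≤ Mo) ⟨x, hxp, rfl⟩)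
      have heq : Q.comap (algebraMap R A) = p :=
        le_antisymm hQle (hp.2 ⟨inferInstance, Ideal.comap_mono hcQ⟩ hQle)
      exact Set.disjoint_left.1 hQd (hQ Q heq) ((le_sup_right : _ ≤ Mo) (Submonoid.mem_powers z))
    obtain ⟨_, ⟨s', hs', rfl⟩, _, ⟨k, rfl⟩, rfl⟩ := Submonoid.mem_sup.1 hxMo
    have h1 : algebraMap R A s' * z ∈ 𝔠 := hrad ⟨k + 1, by
      have e : (algebraMap R A s' * z) ^ (k + 1) = algebraMap R A s' ^ k * z * (algebraMap R A s' * z ^ k) := by ring
      rw [e]
      exact Ideal.mul_mem_left _ _ hxc⟩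
    obtain ⟨r'', hr''⟩ := h1 1
    refine ⟨s' * s, fun h => (Ideal.IsPrime.mem_or_mem ‹p.IsPrime› h).elim hs' hs, r'' + s' * r, ?_⟩
    simp only [mul_one, z, MulMemClass.coe_mul, AddSubgroupClass.coe_sub, Subalgebra.coe_algebraMap] at hr'' ⊢
    simp only [map_add, map_mul, hr'', Subalgebra.coe_algebraMap]
    ring
  have hgen : ∀ a : A, a ∈ N := by
    rintro ⟨x, hx⟩
    induction hx using Algebra.adjoin_induction with
    | mem x hx =>
      have hx0 := hx
      simp only [T, Finset.coe_biUnion, Set.mem_iUnion, Finset.mem_coe, Finset.mem_union, Finset.mem_image] at hx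
      obtain ⟨i, -, ⟨m, -, rfl⟩ | ⟨m, -, rfl⟩⟩ := hx
      · obtain ⟨s, r, hs, h⟩ := exists_mul_sub_mem hfac v hv p hK i m
        exact hlocal _ s r hs (h A hfA hgA _ rfl)
      · obtain ⟨s, r, hs, h⟩ := exists_mul_sub_mem hfacT v' hv' p hKT i m
        exact hlocal _ s r hs (h A hgA hfA _ rfl)
    | algebraMap r => exact N.algebraMap_mem r
    | add x y _ _ hx hy => exact N.add_mem hx hy
    | mul x y _ _ hx hy => exact N.mul_mem hx hy
  obtain ⟨G, hG⟩ := Module.Finite.fg_top (R := R) (M := A)
  choose s hs hsr using fun a : A => hgen a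
  have hprod : (∏ a ∈ G, s a) ∉ p := fun h => by
    obtain ⟨a, -, ha⟩ := Ideal.IsPrime.prod_mem_iff.1 h
    exact hs a ha
  refine hprod (hp.1.2 (show ∏ a ∈ G, s a ∈ 𝔠.comap (algebraMap R A) from fun a => ?_))
  have ha : a ∈ Submodule.span R (G : Set A) := hG ▸ Submodule.mem_top
  induction ha using Submodule.span_induction with
  | mem x hx =>
    rw [← Finset.mul_prod_erase G s hx, map_mul]
    obtain ⟨r, hr⟩ := hsr x
    refine ⟨(∏ a ∈ G.erase x, s a) * r, ?_⟩
    rw [map_mul, hr]
    simp only [MulMemClass.coe_mul, Subalgebra.coe_algebraMap]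
    ring
  | zero => exact ⟨0, by simp⟩
  | add x y _ _ hx hy => rw [mul_add]; exact hrangeSub hx hy
  | smul c x _ hx =>
    obtain ⟨r, hr⟩ := hx
    exact ⟨c * r, by rw [map_mul, hr, mul_smul_comm, Subalgebra.coe_smul, Algebra.smul_def]⟩

section Module

variable {R : Type u} [CommRing R] {M : Type u} [AddCommGroup M] [Module R[X] M] [Module.Invertible R[X] M]
  (π : (Fin q → R[X]) →ₗ[R[X]] M) (σ : M →ₗ[R[X]] (Fin q → R[X])) (hσ : π.comp σ = LinearMap.id)

/-- The idempotent matrix of a retraction. -/
noncomputable def mat : Matrix (Fin q) (Fin q) R[X] := Matrix.of fun i j => σ (π (Pi.single j 1)) i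

include hσ in
theorem exists_fac (E : Type u) [CommRing E] [Algebra R[X] E] [Module.Free E (E ⊗[R[X]] M)] :
    ∃ f g, IsFac ((mat π σ).map (algebraMap R[X] E)) f g := by
  obtain ⟨e⟩ := Module.Invertible.free_iff_linearEquiv.1 ‹Module.Free E (E ⊗[R[X]] M)›
  let π' := π.baseChange E
  let σ' := σ.baseChange E
  have hσ' : ∀ z, π' (σ' z) = z := fun z => by
    show (π.baseChange E) ((σ.baseChange E) z) = z
    rw [← LinearMap.comp_apply, ← LinearMap.baseChange_comp, hσ, LinearMap.baseChange_id, LinearMap.id_apply]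
  let c := TensorProduct.piScalarRight R[X] E E (Fin q)
  refine ⟨fun i => c (σ' (e.symm 1)) i, fun j => e (π' (1 ⊗ₜ Pi.single j 1)), fun i j => ?_, ?_⟩
  · have h1 : (1 : E) ⊗ₜ[R[X]] π (Pi.single j 1) = e (π' (1 ⊗ₜ Pi.single j 1)) • e.symm 1 := by
      rw [← map_smul, smul_eq_mul, mul_one, LinearEquiv.symm_apply_apply]
      rfl
    have h2 := congrArg (fun z => c (σ' z) i) h1
    simp only [map_smul, Pi.smul_apply, smul_eq_mul, σ', LinearMap.baseChange_tmul, c,
      TensorProduct.piScalarRight_apply, TensorProduct.piScalarRightHom_tmul] at h2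
    rw [Matrix.map_apply, mul_comm]
    refine Eq.trans ?_ h2
    simp [mat, Algebra.smul_def]
  · have h1 : σ' (e.symm 1) = ∑ i, c (σ' (e.symm 1)) i • ((1 : E) ⊗ₜ[R[X]] (Pi.single i 1 : Fin q → R[X])) := by
      refine c.injective ?_
      rw [map_sum]
      ext k
      rw [Finset.sum_apply, Finset.sum_eq_single k]
      · simp [c]
      · intro i _ hik
        simp [c, Pi.single_apply, hik.symm]
      · simp
    have h2 := congrArg (fun z => e (π' z)) h1
    simp only [hσ', LinearEquiv.apply_symm_apply, map_sum, map_smul, smul_eq_mul] at h2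
    refine Eq.trans ?_ h2.symm
    exact Finset.sum_congr rfl fun i _ => mul_comm _ _

include hσ in
theorem free_of_fac {f g : Fin q → R[X]} (h : IsFac (mat π σ) f g) : Module.Free R[X] M := by
  have hσπ : ∀ z : Fin q → R[X], ∀ i, σ (π z) i = f i * ∑ j, g j * z j := by
    intro z i
    have : z = ∑ j, z j • (Pi.single j 1 : Fin q → R[X]) := by
      ext k; simp [Pi.single_apply]
    conv_lhs => rw [this]
    simp only [map_sum, map_smul, Finset.sum_apply, Pi.smul_apply, smul_eq_mul, Finset.mul_sum]
    refine Finset.sum_congr rfl fun j _ => ?_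
    rw [show σ (π (Pi.single j 1)) i = mat π σ i j from rfl, h.1]
    ring
  have hπσ : ∀ m, π (σ m) = m := fun m => LinearMap.congr_fun hσ m
  refine Module.Free.of_equiv (M := R[X])
    { toFun := fun c => c • π f
      invFun := fun m => ∑ i, g i * σ m i
      map_add' := fun a b => add_smul a b _
      map_smul' := fun a b => by rw [RingHom.id_apply, smul_eq_mul, mul_smul]
      left_inv := fun c => by
        show ∑ i, g i * σ (c • π f) i = c
        conv_rhs => rw [← mul_one c, ← h.2, Finset.mul_sum]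
        refine Finset.sum_congr rfl fun i _ => ?_
        rw [map_smul, Pi.smul_apply, smul_eq_mul, hσπ, h.2]
        ring
      right_inv := fun m => by
        conv_rhs => rw [← hπσ m]
        show (∑ i, g i * σ m i) • π f = π (σ m)
        rw [← map_smul]
        congr 1
        funext i
        rw [Pi.smul_apply, smul_eq_mul]
        have := hσπ (σ m) i
        rw [hπσ] at this
        rw [this]; ring }

end Module

/-- Traverso: an invertible module over `R[X]`, `R` seminormal local, is free. -/
theorem free (R : Type u) [CommRing R] [IsLocalRing R] (hR : HTop.IsSeminormalRing R)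
    (M : Type u) [AddCommGroup M] [Module R[X] M] [Module.Invertible R[X] M] : Module.Free R[X] M := by
  classical
  haveI : IsReduced R := by
    rw [isReduced_iff_pow_one_lt 2 one_lt_two]
    intro x hx
    obtain ⟨a, -, huniq⟩ := hR 0 0 (by simp)
    have h1 := huniq x ⟨hx.symm, by rw [pow_succ, hx, zero_mul]⟩
    have h2 := huniq 0 ⟨by simp, by simp⟩
    rw [h1, h2]
  obtain ⟨q, π, σ, -, -, hσ⟩ := Module.Finite.exists_comp_eq_id_of_projective R[X] M
  let P := mat π σ
  have hK : ∀ (K : Type u) [Field K] [Algebra R K], ∃ f' g', IsFac (P.map (mapRingHom (algebraMap R K))) f' g' := by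
    intro K _ _
    letI : Algebra R[X] K[X] := (mapRingHom (algebraMap R K)).toAlgebra
    haveI : Module.Free K[X] (K[X] ⊗[R[X]] M) := Module.free_of_finite_type_torsion_free'
    exact exists_fac π σ hσ K[X]
  obtain ⟨v, w, hvw⟩ : ∃ v w, IsFac (P.map (evalRingHom (0 : R))) v w := by
    letI : Algebra R[X] R := (evalRingHom (0 : R)).toAlgebra
    exact exists_fac π σ hσ R
  let S := ∀ p : PrimeSpectrum R, p.asIdeal.ResidueField
  have hinj : Function.Injective (algebraMap R S) := by
    rw [injective_iff_map_eq_zero]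
    intro r hr
    refine IsReduced.eq_zero r (mem_nilradical.1 ?_)
    rw [nilradical_eq_sInf, Ideal.mem_sInf]
    intro p (hp : p.IsPrime)
    exact Ideal.algebraMap_residueField_eq_zero.1 (congrFun hr (⟨p, hp⟩ : PrimeSpectrum R))
  -- normalised factorisations at the primes
  have hnorm : ∀ p : PrimeSpectrum R, ∃ f g : Fin q → (p.asIdeal.ResidueField)[X],
      IsFac (P.map (mapRingHom (algebraMap R p.asIdeal.ResidueField))) f g ∧
        ∀ i, (f i).coeff 0 = algebraMap R _ (v i) := by
    intro p
    obtain ⟨f', g', h'⟩ := hK p.asIdeal.ResidueField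
    have h0 := h'.map (evalRingHom (0 : p.asIdeal.ResidueField))
    have hv0 := hvw.map (algebraMap R p.asIdeal.ResidueField)
    have he : (evalRingHom (0 : p.asIdeal.ResidueField)).comp (mapRingHom (algebraMap R _)) =
        (algebraMap R p.asIdeal.ResidueField).comp (evalRingHom (0 : R)) := by
      refine Polynomial.ringHom_ext (fun a => ?_) ?_ <;> simp
    rw [Matrix.map_map, ← RingHom.coe_comp, he] at h0
    rw [Matrix.map_map, ← RingHom.coe_comp] at hv0
    set u := ∑ i, (evalRingHom (0 : p.asIdeal.ResidueField)) (g' i) * algebraMap R p.asIdeal.ResidueField (v i)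
    have hu : ∀ i, algebraMap R p.asIdeal.ResidueField (v i) = u * (f' i).eval 0 := fun i => hv0.eq_smul h0 i
    have hu0 : u ≠ 0 := fun h => one_ne_zero (α := p.asIdeal.ResidueField) (by
      have h5 := hv0.2
      simp only [Function.comp_apply, hu, h, zero_mul, mul_zero, Finset.sum_const_zero] at h5
      exact h5.symm)
    refine ⟨fun i => C u * f' i, fun j => C u⁻¹ * g' j, ⟨fun i j => ?_, ?_⟩, fun i => ?_⟩
    · rw [h'.1, mul_mul_mul_comm, ← map_mul, mul_inv_cancel₀ hu0, map_one, one_mul]
    · conv_rhs => rw [← h'.2]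
      refine Finset.sum_congr rfl fun i _ => ?_
      rw [mul_mul_mul_comm, ← map_mul, inv_mul_cancel₀ hu0, map_one, one_mul]
    · rw [coeff_C_mul, hu, coeff_zero_eq_eval_zero]
  choose fp gp hfp hfp0 using hnorm
  let D := Finset.univ.sup fun i => Finset.univ.sup fun j => (P i j).natDegree
  have hdeg : ∀ p i, (fp p i).natDegree ≤ D ∧ (gp p i).natDegree ≤ D := by
    intro p i
    have hne : ∀ (a b : Fin q → (p.asIdeal.ResidueField)[X]), ∑ i, a i * b i = 1 → ∃ j, a j ≠ 0 := by
      intro a b h
      by_contra! hc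
      simp [hc] at h
    have hD : ∀ i j, ((P i j).map (algebraMap R p.asIdeal.ResidueField)).natDegree ≤ D := fun i j =>
      natDegree_map_le.trans ((Finset.le_sup (f := fun j => (P i j).natDegree) (Finset.mem_univ j)).trans
        (Finset.le_sup (f := fun i => Finset.univ.sup fun j => (P i j).natDegree) (Finset.mem_univ i)))
    refine ⟨?_, ?_⟩
    · by_cases hfi : fp p i = 0
      · simp [hfi]
      obtain ⟨j, hj⟩ := hne _ _ (hfp p).2
      have := hD i j
      rw [show (P i j).map (algebraMap R p.asIdeal.ResidueField) = fp p i * gp p j from (hfp p).1 i j,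
        natDegree_mul hfi hj] at this
      omega
    · by_cases hgi : gp p i = 0
      · simp [hgi]
      obtain ⟨j, hj⟩ := hne (fp p) (gp p) (by simp only [mul_comm (fp p _)]; exact (hfp p).2)
      have := hD j i
      rw [show (P j i).map (algebraMap R p.asIdeal.ResidueField) = fp p j * gp p i from (hfp p).1 j i,
        natDegree_mul hj hgi] at this
      omega
  let f : Fin q → S[X] := fun i => ∑ l ∈ Finset.range (D + 1), C (fun p => (fp p i).coeff l) * X ^ l
  let g : Fin q → S[X] := fun i => ∑ l ∈ Finset.range (D + 1), C (fun p => (gp p i).coeff l) * X ^ l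
  have hev : ∀ (p : PrimeSpectrum R) i, (f i).map (Pi.evalRingHom _ p) = fp p i ∧
      (g i).map (Pi.evalRingHom _ p) = gp p i := by
    intro p i
    refine ⟨?_, ?_⟩
    · conv_rhs => rw [(fp p i).as_sum_range' (D + 1) (by have := (hdeg p i).1; omega)]
      simp only [f, Polynomial.map_sum, Polynomial.map_mul, map_C, Polynomial.map_pow, map_X, ← C_mul_X_pow_eq_monomial]
      rfl
    · conv_rhs => rw [(gp p i).as_sum_range' (D + 1) (by have := (hdeg p i).2; omega)]
      simp only [g, Polynomial.map_sum, Polynomial.map_mul, map_C, Polynomial.map_pow, map_X, ← C_mul_X_pow_eq_monomial]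
      rfl
  have hext : ∀ x y : S[X], (∀ p, x.map (Pi.evalRingHom _ p) = y.map (Pi.evalRingHom _ p)) → x = y :=
    fun x y h => Polynomial.ext fun n => funext fun p => by
      have := congrArg (fun z => z.coeff n) (h p)
      rw [coeff_map, coeff_map] at this
      exact this
  have hfac : IsFac (P.map (mapRingHom (algebraMap R S))) f g := by
    refine ⟨fun i j => hext _ _ fun p => ?_, hext _ _ fun p => ?_⟩
    · rw [Polynomial.map_mul, (hev p i).1, (hev p j).2, Matrix.map_apply, coe_mapRingHom, Polynomial.map_map]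
      exact (hfp p).1 i j
    · rw [Polynomial.map_one, Polynomial.map_sum]
      simp only [Polynomial.map_mul, (hev p _).1, (hev p _).2]
      exact (hfp p).2
  have hf0 : ∀ i, (f i).coeff 0 = algebraMap R S (v i) := fun i => funext fun p => by
    have := congrArg (fun z => z.coeff 0) (hev p i).1
    rw [coeff_map, hfp0] at this
    exact this
  have hrange := coeff_mem_range hinj hR hfac v w hf0 hvw.2 hK
  have hlift : ∀ x : S[X], (∀ n, x.coeff n ∈ Set.range (algebraMap R S)) → ∃ y : R[X], y.map (algebraMap R S) = x :=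
    fun x hx => (Polynomial.mem_lifts x).1 ((Polynomial.lifts_iff_coeff_lifts x).2 hx)
  choose f₀ hf₀ using fun i => hlift (f i) fun n => (hrange i n).1
  choose g₀ hg₀ using fun i => hlift (g i) fun n => (hrange i n).2
  refine free_of_fac π σ hσ (f := f₀) (g := g₀) ⟨fun i j => Polynomial.map_injective _ hinj ?_,
    Polynomial.map_injective _ hinj ?_⟩
  · rw [Polynomial.map_mul, hf₀, hg₀]
    exact hfac.1 i j
  · rw [Polynomial.map_one, Polynomial.map_sum]
    simp only [Polynomial.map_mul, hf₀, hg₀]
    exact hfac.2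

end Groth.Agent.H3CAlg.Traverso
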