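import Mathlib

/-!
# η-étaleness and differentials
-/

set_option autoImplicit false
set_option linter.style.haveILetI false
universe u

open TensorProduct AlgebraicGeometry CategoryTheory

namespace Groth.Agent.H3CAlg.EtaEtale

/-- A surjection between finite projective modules of the same rank at every prime is bijective. -/
theorem injective_of_surjective_of_rankAtStalk_eq {S M P : Type u} [CommRing S]
    [AddCommGroup M] [Module S M] [AddCommGroup P] [Module S P]
    [Module.Finite S M] [Module.Projective S M] [Module.Finite S P] [Module.Projective S P]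
    (f : M →ₗ[S] P) (hf : Function.Surjective f)
    (h : ∀ p, Module.rankAtStalk (R := S) M p = Module.rankAtStalk (R := S) P p) :
    Function.Injective f := by
  obtain ⟨s, hs⟩ := Module.projective_lifting_property f LinearMap.id hf
  have hs' : ∀ y, f (s y) = y := fun y => LinearMap.congr_fun hs y
  let π : M →ₗ[S] LinearMap.ker f :=
    (LinearMap.id - s ∘ₗ f).codRestrict (LinearMap.ker f) (fun x => by simp [hs'])
  have hπ : Function.Surjective π := fun x => ⟨(x : M), Subtype.ext (by
    have : f (x : M) = 0 := x.2
    simp [π, this])⟩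
  haveI : Module.Finite S (LinearMap.ker f) := Module.Finite.of_surjective π hπ
  haveI : Module.Projective S (LinearMap.ker f) :=
    Module.Projective.of_split (LinearMap.ker f).subtype π (LinearMap.ext fun x => Subtype.ext (by
      have : f (x : M) = 0 := x.2
      simp [π, this]))
  let e : M ≃ₗ[S] LinearMap.ker f × P :=
    { LinearMap.prod π f with
      invFun := fun y => (y.1 : M) + s y.2
      left_inv := fun x => by simp [π]
      right_inv := fun y => by
        have : f (y.1 : M) = 0 := y.1.2
        refine Prod.ext (Subtype.ext ?_) ?_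
        · simp [π, this, hs']
        · simp [this, hs'] }
  have h0 : Module.rankAtStalk (R := S) (LinearMap.ker f) = 0 := funext fun p => by
    have := h p
    rw [Module.rankAtStalk_eq_of_equiv e, Module.rankAtStalk_prod] at this
    simpa using this
  haveI : Subsingleton (LinearMap.ker f) := Module.rankAtStalk_eq_zero_iff_subsingleton.1 h0
  rw [← LinearMap.ker_eq_bot]
  exact Submodule.subsingleton_iff_eq_bot.1 inferInstance

/-- An unramified map between smooth algebras of the same relative dimension is formally étale. -/
theorem formallyEtale_of_rankAtStalk (K A S : Type u) [CommRing K] [CommRing A] [CommRing S]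
    [Algebra K A] [Algebra K S] [Algebra A S] [IsScalarTower K A S]
    [Algebra.FormallySmooth K A] [Algebra.FormallySmooth K S]
    [Algebra.EssFiniteType K A] [Algebra.EssFiniteType K S] (d : ℕ)
    (hA : ∀ p, Module.rankAtStalk (R := A) (Ω[A⁄K]) p = d)
    (hS : ∀ p, Module.rankAtStalk (R := S) (Ω[S⁄K]) p = d)
    [Algebra.FormallyUnramified A S] : Algebra.FormallyEtale A S := by
  haveI : Subsingleton (Ω[S⁄A]) := Algebra.FormallyUnramified.subsingleton_kaehlerDifferential
  have hsurj : Function.Surjective (KaehlerDifferential.mapBaseChange K A S) := fun x =>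
    (KaehlerDifferential.exact_mapBaseChange_map K A S x).1 (Subsingleton.elim _ _)
  have hinj := injective_of_surjective_of_rankAtStalk_eq _ hsurj (fun p => by
    rw [Module.rankAtStalk_baseChange, hA, hS])
  haveI : Algebra.FormallySmooth A S :=
    { projective_kaehlerDifferential := inferInstance
      subsingleton_h1Cotangent := by
        refine subsingleton_of_forall_eq 0 fun x => ?_
        have h1 : KaehlerDifferential.mapBaseChange K A S (Algebra.H1Cotangent.δ K A S x) = 0 :=
          (Algebra.H1Cotangent.exact_δ_mapBaseChange K A S).apply_apply_eq_zero x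
        have h2 : Algebra.H1Cotangent.δ K A S x = 0 := hinj (by rw [h1, map_zero])
        obtain ⟨y, rfl⟩ := (Algebra.H1Cotangent.exact_map_δ K A S x).1 h2
        rw [Subsingleton.elim y 0, map_zero] }
  exact Algebra.FormallyEtale.of_formallyUnramified_and_formallySmooth

/-- An algebra locally standard smooth of relative dimension `d` is smooth with differentials of
rank `d` at every prime. -/
theorem of_smoothOfRelativeDimension (K B : Type u) [Field K] [CommRing B] [Algebra K B] (d : ℕ)
    (h : SmoothOfRelativeDimension d (Spec.map (CommRingCat.ofHom (algebraMap K B)))) :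
    Algebra.Smooth K B ∧ ∀ p, Module.rankAtStalk (R := B) (Ω[B⁄K]) p = d := by
  have hsm : Smooth (Spec.map (CommRingCat.ofHom (algebraMap K B))) :=
    SmoothOfRelativeDimension.smooth d _
  have hS : Algebra.Smooth K B := by
    rw [HasRingHomProperty.Spec_iff (P := @Smooth)] at hsm
    exact RingHom.smooth_algebraMap.1 hsm
  refine ⟨hS, fun p => ?_⟩
  rw [HasRingHomProperty.Spec_iff (P := @SmoothOfRelativeDimension d)] at h
  obtain ⟨s, hs, hst⟩ := h
  obtain ⟨t, ht, htp⟩ : ∃ t ∈ s, t ∉ p.asIdeal := by
    by_contra hc
    push Not at hc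
    exact p.2.ne_top (top_le_iff.1 (hs ▸ Ideal.span_le.2 hc))
  haveI : Algebra.IsStandardSmoothOfRelativeDimension d K (Localization.Away t) :=
    (RingHom.isStandardSmoothOfRelativeDimension_algebraMap d).1 (hst t ht)
  have hrange : p ∈ Set.range (PrimeSpectrum.comap (algebraMap B (Localization.Away t))) := by
    rw [PrimeSpectrum.localization_away_comap_range (Localization.Away t) t]
    exact htp
  obtain ⟨q, rfl⟩ := hrange
  haveI : Algebra.FormallyEtale B (Localization.Away t) :=
    Algebra.FormallyEtale.of_isLocalization (Submonoid.powers t)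
  haveI : Nontrivial (Localization.Away t) := q.nontrivial
  haveI : Algebra.IsStandardSmooth K (Localization.Away t) :=
    Algebra.IsStandardSmoothOfRelativeDimension.isStandardSmooth d
  rw [← Module.rankAtStalk_isBaseChange
    (KaehlerDifferential.isBaseChange_of_formallyEtale K B (Localization.Away t)) q,
    Module.rankAtStalk_eq_finrank_of_free]
  exact Module.finrank_eq_of_rank_eq
    (Algebra.IsStandardSmoothOfRelativeDimension.rank_kaehlerDifferential d)

attribute [local instance] Algebra.TensorProduct.rightAlgebra

/-- The main step: for smooth generic fibres of the same relative dimension, an unramified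
algebra, formally étale over `R`, on which the nonzero scalars are invertible is étale over `A`. -/
theorem etale_of_unramified (V K A R S : Type u) [CommRing V] [IsDomain V] [IsNoetherianRing V]
    [Field K] [Algebra V K] [IsFractionRing V K] [CommRing A] [CommRing R] [CommRing S]
    [Algebra V A] [Algebra.FiniteType V A] [Algebra V R] [Algebra.FiniteType V R]
    [Algebra V S] [Algebra A S] [Algebra R S]
    [IsScalarTower V R S] [IsScalarTower V A S]
    [Algebra.FormallyEtale R S] [Algebra.FiniteType V S]
    (hunit : ∀ v : nonZeroDivisors V, IsUnit (algebraMap V S v))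
    [Algebra.FormallyUnramified A S] (d : ℕ)
    (hA : Algebra.Smooth K (K ⊗[V] A) ∧
      ∀ p, Module.rankAtStalk (R := K ⊗[V] A) (Ω[(K ⊗[V] A)⁄K]) p = d)
    (hR : Algebra.Smooth K (K ⊗[V] R) ∧
      ∀ p, Module.rankAtStalk (R := K ⊗[V] R) (Ω[(K ⊗[V] R)⁄K]) p = d) :
    Algebra.Etale A S := by
  obtain ⟨hAs, hAr⟩ := hA
  obtain ⟨hRs, hRr⟩ := hR
  letI : Algebra K S := (IsLocalization.lift (M := nonZeroDivisors V) hunit).toAlgebra
  haveI : IsScalarTower V K S :=
    IsScalarTower.of_algebraMap_eq fun v => (IsLocalization.lift_eq hunit v).symm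
  haveI : Algebra.FiniteType K S := Algebra.FiniteType.of_restrictScalars_finiteType V K S
  let fA : K ⊗[V] A →ₐ[K] S := Algebra.TensorProduct.lift (Algebra.ofId K S)
    (IsScalarTower.toAlgHom V A S) (fun _ _ => Commute.all _ _)
  let fR : K ⊗[V] R →ₐ[K] S := Algebra.TensorProduct.lift (Algebra.ofId K S)
    (IsScalarTower.toAlgHom V R S) (fun _ _ => Commute.all _ _)
  letI : Algebra (K ⊗[V] A) S := fA.toRingHom.toAlgebra
  letI : Algebra (K ⊗[V] R) S := fR.toRingHom.toAlgebra
  haveI : IsScalarTower K (K ⊗[V] A) S := IsScalarTower.of_algebraMap_eq fun x => (fA.commutes x).symm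
  haveI : IsScalarTower K (K ⊗[V] R) S := IsScalarTower.of_algebraMap_eq fun x => (fR.commutes x).symm
  haveI : IsScalarTower A (K ⊗[V] A) S := IsScalarTower.of_algebraMap_eq fun x => by
    change algebraMap A S x = fA ((1 : K) ⊗ₜ x)
    simp [fA]
  haveI : IsScalarTower R (K ⊗[V] R) S := IsScalarTower.of_algebraMap_eq fun x => by
    change algebraMap R S x = fR ((1 : K) ⊗ₜ x)
    simp [fR]
  haveI hKV : Algebra.FormallyEtale V K :=
    Algebra.FormallyEtale.of_isLocalization (nonZeroDivisors V)
  haveI : Algebra.FormallyEtale A (K ⊗[V] A) :=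
    Algebra.FormallyEtale.of_equiv (Algebra.TensorProduct.commRight V A K)
  haveI : Algebra.FormallyEtale R (K ⊗[V] R) :=
    Algebra.FormallyEtale.of_equiv (Algebra.TensorProduct.commRight V R K)
  haveI : Algebra.FormallyEtale (K ⊗[V] R) S := Algebra.FormallyEtale.of_restrictScalars (R := R)
  haveI : Algebra.FormallyUnramified (K ⊗[V] A) S :=
    Algebra.FormallyUnramified.of_restrictScalars A _ _
  haveI : Algebra.FormallySmooth K S := Algebra.FormallySmooth.comp K (K ⊗[V] R) S
  haveI : Algebra.FormallyEtale (K ⊗[V] A) S :=
    formallyEtale_of_rankAtStalk K (K ⊗[V] A) S d hAr (fun q => by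
      rw [Module.rankAtStalk_isBaseChange
        (KaehlerDifferential.isBaseChange_of_formallyEtale K (K ⊗[V] R) S) q, hRr])
  haveI : Algebra.FormallyEtale A S := Algebra.FormallyEtale.comp A (K ⊗[V] A) S
  haveI : IsNoetherianRing A := Algebra.FiniteType.isNoetherianRing V A
  haveI : Algebra.FiniteType A S := Algebra.FiniteType.of_restrictScalars_finiteType V A S
  exact ⟨inferInstance, Algebra.FinitePresentation.of_finiteType.1 inferInstance⟩

open scoped Pointwise in
/-- The criterion `p^n Ω_f ⊆ ϖ p^n Ω_f` for a map `f` to affine space, written inside `Ω_{R/V}`. -/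
theorem criterion_iff (V R : Type u) [CommRing V] [CommRing R] [Algebra V R] {d : ℕ} (x : Fin d → R)
    [Algebra (MvPolynomial (Fin d) V) R] [IsScalarTower V (MvPolynomial (Fin d) V) R]
    (hx : ∀ i, algebraMap (MvPolynomial (Fin d) V) R (MvPolynomial.X i) = x i) (I J : Ideal R) :
    I • (⊤ : Submodule R (Ω[R⁄MvPolynomial (Fin d) V])) ≤ J • (⊤ : Submodule R (Ω[R⁄MvPolynomial (Fin d) V])) ↔
      I • (⊤ : Submodule R (Ω[R⁄V])) ≤ J • (⊤ : Submodule R (Ω[R⁄V])) ⊔
        Submodule.span R (Set.range fun i => KaehlerDifferential.D V R (x i)) := by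
  let φ := KaehlerDifferential.map V (MvPolynomial (Fin d) V) R R
  have hφ : Function.Surjective φ := KaehlerDifferential.map_surjective V (MvPolynomial (Fin d) V) R
  have hmap : ∀ I : Ideal R, Submodule.map φ (I • (⊤ : Submodule R (Ω[R⁄V]))) = I • ⊤ := fun I => by
    rw [Submodule.map_smul'', Submodule.map_top, LinearMap.range_eq_top.2 hφ]
  have hker : LinearMap.ker φ = Submodule.span R (Set.range fun i => KaehlerDifferential.D V R (x i)) := by
    refine le_antisymm ?_ (Submodule.span_le.2 ?_)
    · rw [(KaehlerDifferential.exact_mapBaseChange_map V (MvPolynomial (Fin d) V) R).linearMap_ker_eq]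
      rintro _ ⟨t, rfl⟩
      induction t using TensorProduct.induction_on with
      | zero => simp
      | tmul r ω =>
        rw [KaehlerDifferential.mapBaseChange_tmul]
        refine Submodule.smul_mem _ _ ?_
        have hω : ω ∈ Submodule.span (MvPolynomial (Fin d) V)
            (Set.range (KaehlerDifferential.D V (MvPolynomial (Fin d) V))) := by
          rw [KaehlerDifferential.span_range_derivation]; trivial
        induction hω using Submodule.span_induction with
        | mem z hz =>
          obtain ⟨q, rfl⟩ := hz
          rw [KaehlerDifferential.map_D]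
          induction q using MvPolynomial.induction_on with
          | C a =>
            rw [← MvPolynomial.algebraMap_eq, ← IsScalarTower.algebraMap_apply, Derivation.map_algebraMap]
            exact zero_mem _
          | add q q' hq hq' => rw [map_add, map_add]; exact add_mem hq hq'
          | mul_X q i hq =>
            rw [map_mul, Derivation.leibniz, hx]
            exact add_mem (Submodule.smul_mem _ _ (Submodule.subset_span ⟨i, rfl⟩))
              (Submodule.smul_mem _ _ hq)
        | zero => rw [map_zero]; exact zero_mem _
        | add a b _ _ ha hb => rw [map_add]; exact add_mem ha hb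
        | smul a z _ hz =>
          rw [map_smul, ← algebraMap_smul R a]
          exact Submodule.smul_mem _ _ hz
      | add a b ha hb => rw [map_add]; exact add_mem ha hb
    · rintro _ ⟨i, rfl⟩
      simp only [SetLike.mem_coe, LinearMap.mem_ker, φ, KaehlerDifferential.map_D, Algebra.algebraMap_self,
        RingHom.id_apply, ← hx]
      exact Derivation.map_algebraMap _ _
  rw [← hmap I, ← hmap J, Submodule.map_le_iff_le_comap, Submodule.comap_map_eq, hker]

theorem isStandardSmooth_mvPolynomial (V : Type u) [CommRing V] (d : ℕ) :
    Algebra.IsStandardSmoothOfRelativeDimension d V (MvPolynomial (Fin d) V) := by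
  let P₀ := Algebra.PreSubmersivePresentation.naive (R := V) (σ := Fin d) (v := (Fin.elim0 : Fin 0 → MvPolynomial (Fin d) V))
    Fin.elim0 (fun x => x.elim0)
  have hjac : IsUnit P₀.jacobian := by
    rw [Algebra.PreSubmersivePresentation.jacobian_eq_jacobiMatrix_det, Matrix.det_isEmpty, map_one]
    exact isUnit_one
  have h0 : Ideal.span (Set.range (Fin.elim0 : Fin 0 → MvPolynomial (Fin d) V)) = ⊥ := by
    simp
  let e : (MvPolynomial (Fin d) V ⧸ Ideal.span (Set.range (Fin.elim0 : Fin 0 → MvPolynomial (Fin d) V))) ≃ₐ[V]
      MvPolynomial (Fin d) V :=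
    (Ideal.quotientEquivAlgOfEq V h0).trans (AlgEquiv.quotientBot V (MvPolynomial (Fin d) V))
  let Q : Algebra.SubmersivePresentation V _ (Fin d) (Fin 0) := ⟨P₀, hjac⟩
  exact Algebra.SubmersivePresentation.isStandardSmoothOfRelativeDimension (Q.ofAlgEquiv e)
    (by simp [Algebra.Presentation.dimension])

theorem smoothOfRelativeDimension_tensor_mvPolynomial (V K : Type u) [CommRing V] [CommRing K] [Algebra V K] (d : ℕ) :
    SmoothOfRelativeDimension d
        (Spec.map (CommRingCat.ofHom (algebraMap K (K ⊗[V] MvPolynomial (Fin d) V)))) := by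
  haveI := isStandardSmooth_mvPolynomial V d
  rw [HasRingHomProperty.Spec_iff (P := @SmoothOfRelativeDimension d)]
  exact RingHom.locally_of RingHom.isStandardSmoothOfRelativeDimension_respectsIso _
    ((RingHom.isStandardSmoothOfRelativeDimension_algebraMap d).2 inferInstance)

end Groth.Agent.H3CAlg.EtaEtale
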