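import Mathlib

/-!
# The Eakin–Nagata theorem (Formanek's proof)
-/

universe u v

namespace Groth.Agent.H3CAlg

/-- A module that is Noetherian modulo a submodule and whose submodule is finitely generated. -/
theorem fg_of_fg_le {R M : Type*} [CommRing R] [AddCommGroup M] [Module R M] {Z N : Submodule R M}
    (hZ : Z.FG) (h : IsNoetherian R (M ⧸ Z)) (hle : Z ≤ N) : N.FG := by
  refine Submodule.fg_of_fg_map_of_fg_inf_ker Z.mkQ (h.noetherian _) ?_
  rw [Submodule.ker_mkQ, inf_eq_right.mpr hle]
  exact hZ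

/-- Eakin–Nagata: a subring over which a Noetherian ring is finite is Noetherian. -/
theorem isNoetherianRing_of_injective_of_finite (R : Type u) (A : Type v) [CommRing R] [CommRing A]
    [Algebra R A] [IsNoetherianRing A] [Module.Finite R A] (hinj : Function.Injective (algebraMap R A)) :
    IsNoetherianRing R := by
  classical
  suffices h : IsNoetherian R A from
    isNoetherian_of_injective (Algebra.linearMap R A) hinj
  by_contra hA
  let S : Set (Ideal A) := {J | (∃ I : Ideal R, J = I.map (algebraMap R A)) ∧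
    ¬ IsNoetherian R (A ⧸ J.restrictScalars R)}
  have hne : S.Nonempty := by
    refine ⟨⊥, ⟨⊥, by rw [Ideal.map_bot]⟩, fun h => hA ?_⟩
    exact isNoetherian_of_linearEquiv (Submodule.quotEquivOfEqBot _ (Submodule.restrictScalars_bot R A A))
  obtain ⟨J, ⟨⟨I, hJI⟩, hJn⟩, hmax⟩ := set_has_maximal_iff_noetherian.mpr ‹IsNoetherianRing A› S hne
  have hbig : ∀ r : R, algebraMap R A r ∉ J →
      IsNoetherian R (A ⧸ (J ⊔ Ideal.span {algebraMap R A r}).restrictScalars R) := by
    intro r hr
    by_contra hn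
    refine hmax _ ⟨⟨I ⊔ Ideal.span {r}, ?_⟩, hn⟩ ?_
    · rw [Ideal.map_sup, Ideal.map_span, Set.image_singleton, hJI]
    · exact lt_of_le_of_ne le_sup_left fun h => hr (h ▸ Submodule.mem_sup_right (Ideal.mem_span_singleton_self _))
  let K : Submodule R A := J.restrictScalars R
  let T : Set (Submodule R A) := {N | K ≤ N ∧ ∀ r : R, (∀ a : A, r • a ∈ N) → algebraMap R A r ∈ J}
  have hKT : K ∈ T := ⟨le_rfl, fun r hr => by
    have := hr 1
    rwa [← Algebra.algebraMap_eq_smul_one] at this⟩
  obtain ⟨s, hs⟩ := (Module.Finite.fg_top (R := R) (M := A))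
  obtain ⟨N, hKN, hNmax⟩ := zorn_le_nonempty₀ T (fun c hc hchain y hy => by
    refine ⟨sSup c, ⟨(hc hy).1.trans (le_sSup hy), fun r hr => ?_⟩, fun z hz => le_sSup hz⟩
    have hmem : ∀ a ∈ s, ∃ M ∈ c, r • a ∈ M := fun a _ =>
      (Submodule.mem_sSup_of_directed ⟨y, hy⟩ hchain.directedOn).mp (hr a)
    choose! M hMc hM using hmem
    obtain ⟨M₀, hM₀, hM₀le⟩ : ∃ M₀ ∈ c, ∀ a ∈ s, M a ≤ M₀ := by
      have key : ∀ s' : Finset A, s' ⊆ s → ∃ M₀ ∈ c, ∀ a ∈ s', M a ≤ M₀ := by
        intro s'
        induction s' using Finset.induction_on with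
        | empty => exact fun _ => ⟨y, hy, fun a ha => absurd ha (Finset.notMem_empty a)⟩
        | @insert a s' _ ih =>
          intro hsub
          obtain ⟨M₁, h1, h1'⟩ := ih ((Finset.subset_insert a s').trans hsub)
          obtain ⟨M₂, h2, hle1, hle2⟩ :=
            hchain.directedOn _ (hMc a (hsub (Finset.mem_insert_self a s'))) _ h1
          refine ⟨M₂, h2, fun b hb => ?_⟩
          rcases Finset.mem_insert.mp hb with rfl | hb
          · exact hle1
          · exact (h1' b hb).trans hle2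
      exact key s subset_rfl
    refine (hc hM₀).2 r fun a => ?_
    have ha : a ∈ Submodule.span R (s : Set A) := hs ▸ Submodule.mem_top
    have : Submodule.span R (s : Set A) ≤ M₀.comap (LinearMap.lsmul R A r) :=
      Submodule.span_le.mpr fun b hb => hM₀le b hb (hM b hb)
    exact this ha) K hKT
  have hNT : N ∈ T := hNmax.1
  have hnoeth : IsNoetherian R (A ⧸ N) := by
    refine ⟨fun P => ?_⟩
    by_cases hP : P = ⊥
    · rw [hP]; exact Submodule.fg_bot
    let N' := P.comap N.mkQ
    have hNN' : N ≤ N' := fun x hx => by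
      change N.mkQ x ∈ P
      rw [Submodule.mkQ_apply, (Submodule.Quotient.mk_eq_zero N).mpr hx]
      exact P.zero_mem
    have hlt : ¬ N' ≤ N := fun h => hP (by
      rw [eq_bot_iff]
      intro z hz
      obtain ⟨x, rfl⟩ := N.mkQ_surjective z
      rw [Submodule.mem_bot, Submodule.mkQ_apply, Submodule.Quotient.mk_eq_zero]
      exact h hz)
    have hN'T : N' ∉ T := fun h => hlt (hNmax.2 h hNN')
    obtain ⟨r, hr, hrJ⟩ : ∃ r : R, (∀ a : A, r • a ∈ N') ∧ algebraMap R A r ∉ J := by
      by_contra hc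
      exact hN'T ⟨hKN.trans hNN', fun r hr => by_contra fun h => hc ⟨r, hr, h⟩⟩
    let W : Submodule R (A ⧸ N) := LinearMap.range (N.mkQ ∘ₗ LinearMap.lsmul R A r)
    have hW : W.FG := by
      rw [show W = Submodule.map (N.mkQ ∘ₗ LinearMap.lsmul R A r) ⊤ from (Submodule.map_top _).symm]
      exact Submodule.FG.map _ ⟨s, hs⟩
    have hWP : W ≤ P := by
      rintro _ ⟨a, rfl⟩
      exact hr a
    refine fg_of_fg_le hW ?_ hWP
    haveI := hbig r hrJ
    let g : A →ₗ[R] (A ⧸ N) ⧸ W := W.mkQ ∘ₗ N.mkQ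
    have hg : (J ⊔ Ideal.span {algebraMap R A r}).restrictScalars R ≤ LinearMap.ker g := by
      intro x hx
      obtain ⟨a, ha, b, hb, rfl⟩ := Submodule.mem_sup.mp hx
      obtain ⟨c, rfl⟩ := Ideal.mem_span_singleton'.mp hb
      rw [LinearMap.mem_ker]
      change W.mkQ (N.mkQ (a + c * algebraMap R A r)) = 0
      have ha0 : N.mkQ a = 0 := (Submodule.Quotient.mk_eq_zero N).mpr (hKN ha)
      rw [map_add, map_add, ha0, map_zero, zero_add, Submodule.mkQ_apply, Submodule.Quotient.mk_eq_zero]
      exact ⟨c, by simp [Algebra.smul_def, mul_comm]⟩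
    exact isNoetherian_of_surjective (Submodule.liftQ _ g hg) (by
      rw [Submodule.range_liftQ]
      exact LinearMap.range_eq_top.mpr (W.mkQ_surjective.comp N.mkQ_surjective))
  let ann : Ideal R := Ideal.comap (algebraMap R A) J
  let φ : R →ₗ[R] (s → A ⧸ N) := LinearMap.pi fun a => LinearMap.toSpanSingleton R _ (N.mkQ (a : A))
  have hker : LinearMap.ker φ ≤ ann := by
    intro r hr
    refine hNT.2 r fun a => ?_
    have ha : a ∈ Submodule.span R (s : Set A) := hs ▸ Submodule.mem_top
    have : Submodule.span R (s : Set A) ≤ N.comap (LinearMap.lsmul R A r) := by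
      refine Submodule.span_le.mpr fun b hb => ?_
      have h1 := congrFun (LinearMap.mem_ker.mp hr) ⟨b, hb⟩
      change r • N.mkQ b = 0 at h1
      rw [← map_smul] at h1
      exact (Submodule.Quotient.mk_eq_zero N).mp h1
    exact this ha
  haveI := hnoeth
  haveI : IsNoetherian R (R ⧸ LinearMap.ker φ) :=
    isNoetherian_of_injective ((LinearMap.ker φ).liftQ φ le_rfl)
      (LinearMap.ker_eq_bot.mp (Submodule.ker_liftQ_eq_bot _ _ _ le_rfl))
  let ψ : (s → R) →ₗ[R] A ⧸ K := K.mkQ ∘ₗ Fintype.linearCombination R (fun a : s => (a : A))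
  have hψ : Function.Surjective ψ := by
    refine K.mkQ_surjective.comp ?_
    rw [← LinearMap.range_eq_top, Fintype.range_linearCombination, ← hs]
    congr 1
    exact Subtype.range_coe
  let π : (s → R) →ₗ[R] (s → R ⧸ LinearMap.ker φ) :=
    LinearMap.pi fun i => (LinearMap.ker φ).mkQ ∘ₗ LinearMap.proj i
  have hπψ : LinearMap.ker π ≤ LinearMap.ker ψ := by
    intro v hv
    rw [LinearMap.mem_ker] at hv ⊢
    have hv' : ∀ i, algebraMap R A (v i) ∈ J := fun i =>
      hker ((Submodule.Quotient.mk_eq_zero _).mp (congrFun hv i))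
    refine (Submodule.Quotient.mk_eq_zero K).mpr ?_
    rw [Fintype.linearCombination_apply]
    refine Submodule.sum_mem _ fun i _ => ?_
    change v i • (i : A) ∈ J
    rw [Algebra.smul_def]
    exact Ideal.mul_mem_right _ J (hv' i)
  have hπ : Function.Surjective π := fun v =>
    ⟨fun i => ((LinearMap.ker φ).mkQ_surjective (v i)).choose,
      funext fun i => ((LinearMap.ker φ).mkQ_surjective (v i)).choose_spec⟩
  refine hJn (isNoetherian_of_surjective (R := R)
    ((Submodule.liftQ _ ψ hπψ) ∘ₗ (π.quotKerEquivOfSurjective hπ).symm.toLinearMap) ?_)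
  rw [LinearMap.range_comp, LinearEquiv.range, Submodule.map_top, Submodule.range_liftQ]
  exact LinearMap.range_eq_top.mpr hψ

end Groth.Agent.H3CAlg
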