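import Groth.Agent.H22Alg.ExtPowSumAlg
import Groth.Agent.H06QR.Regular
import Mathlib.LinearAlgebra.Determinant
import Mathlib.RingTheory.Ideal.Quotient.Basic
import Mathlib.RingTheory.Smooth.Basic
import Mathlib.RingTheory.Kaehler.Polynomial

/-! The top exterior power of a stably free module is free, and the application to the conormal
sequence of a smooth complete intersection. -/

set_option autoImplicit false
set_option linter.style.haveILetI false

universe u v

open TensorProduct exteriorPower
open scoped TensorProduct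

noncomputable section

namespace Groth.Agent.H3CAlg.StablyFreeTop

variable {B : Type u} [CommRing B] {M : Type u} [AddCommGroup M] [Module B M]

/-- An alternating form of top degree is a multiple of the determinant, for any target. -/
theorem alt_eq {i : ℕ} (bM : Module.Basis (Fin i) B M) {N : Type*} [AddCommGroup N] [Module B N]
    (f : M [⋀^Fin i]→ₗ[B] N) (v : Fin i → M) : f v = bM.det v • f bM := by
  have h : f = (LinearMap.toSpanSingleton B N (f bM)).compAlternatingMap bM.det := by
    refine Module.Basis.ext_alternating bM fun w hw => ?_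
    let σ : Equiv.Perm (Fin i) := Equiv.ofBijective w (Finite.injective_iff_bijective.mp hw)
    show f (bM ∘ σ) = _
    simp only [LinearMap.coe_compAlternatingMap, Function.comp_apply]
    change f (bM ∘ σ) = bM.det (bM ∘ σ) • f bM
    rw [AlternatingMap.map_perm, AlternatingMap.map_perm, Module.Basis.det_self, Units.smul_def,
      Units.smul_def, smul_assoc, one_smul]
  calc f v = ((LinearMap.toSpanSingleton B N (f bM)).compAlternatingMap bM.det) v := by rw [← h]
    _ = bM.det v • f bM := rfl

/-- The top exterior power of a free module is free of rank one. -/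
def topEquiv {i : ℕ} (bM : Module.Basis (Fin i) B M) : ↥(⋀[B]^i M) ≃ₗ[B] B :=
  LinearEquiv.ofLinearMap (alternatingMapLinearEquiv bM.det)
    (LinearMap.toSpanSingleton B _ (ιMulti B i bM))
    (by
      apply LinearMap.ext_ring
      simp [Module.Basis.det_self])
    (by
      apply exteriorPower.linearMap_ext
      refine AlternatingMap.ext fun v => ?_
      simp only [LinearMap.compAlternatingMap_apply, LinearMap.coe_comp, Function.comp_apply,
        alternatingMapLinearEquiv_apply_ιMulti, LinearMap.id_coe, id_eq,
        LinearMap.toSpanSingleton_apply]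
      exact (alt_eq bM (ιMulti B i) v).symm)

section Split

variable {Ω : Type u} [AddCommGroup Ω] [Module B Ω] {r j i : ℕ}

/-- Over a field: a spanning set completes an independent family to a basis. -/
theorem exists_complement {κ : Type*} [Field κ] {V : Type*} [AddCommGroup V] [Module κ V]
    [FiniteDimensional κ V] (hV : Module.finrank κ V = j + r) (s : Fin r → V)
    (hs : LinearIndependent κ s) (t : Set V) (ht : Submodule.span κ (t ∪ Set.range s) = ⊤) :
    ∃ x : Fin j → V, (∀ l, x l ∈ t) ∧ LinearIndependent κ (Sum.elim x s) := by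
  let S := Submodule.span κ (Set.range s)
  have hS : Module.finrank κ S = r := by rw [finrank_span_eq_card hs, Fintype.card_fin]
  have hQ : Module.finrank κ (V ⧸ S) = j := by
    have := Submodule.finrank_quotient_add_finrank S
    omega
  have htop : Submodule.span κ (S.mkQ '' t) = ⊤ := by
    rw [eq_top_iff]
    intro q _
    obtain ⟨v, rfl⟩ := S.mkQ_surjective q
    have hv : v ∈ Submodule.span κ t ⊔ S := by
      rw [← Submodule.span_union, ht]; trivial
    obtain ⟨a, ha, c, hc, rfl⟩ := Submodule.mem_sup.mp hv
    rw [map_add, Submodule.mkQ_apply (p := S) (x := c), (Submodule.Quotient.mk_eq_zero S).mpr hc,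
      add_zero]
    rw [Submodule.span_image]
    exact ⟨a, ha, rfl⟩
  obtain ⟨b, hbt, hbs, hbli⟩ := exists_linearIndependent κ (S.mkQ '' t)
  have hbtop : ⊤ ≤ Submodule.span κ (Set.range (Subtype.val : b → V ⧸ S)) := by
    rw [Subtype.range_coe_subtype, Set.setOf_mem_eq, hbs, htop]
  let e := Module.Basis.mk hbli hbtop
  let e' := (Module.finBasisOfFinrankEq κ (V ⧸ S) hQ).indexEquiv e
  choose x hxt hx using fun l : Fin j => hbt (e' l).2
  refine ⟨x, hxt, ?_⟩
  have hli : LinearIndependent κ (S.mkQ ∘ x) := by
    have : S.mkQ ∘ x = (Subtype.val : b → V ⧸ S) ∘ e' := funext fun l => hx l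
    rw [this]
    exact hbli.comp e' e'.injective
  refine (LinearIndependent.of_comp S.mkQ hli).sum_type hs ?_
  rw [Submodule.disjoint_def]
  intro v hv hvS
  obtain ⟨c, rfl⟩ := (Submodule.mem_span_range_iff_exists_fun κ).mp hv
  have h0 : S.mkQ (∑ l, c l • x l) = 0 := (Submodule.Quotient.mk_eq_zero S).mpr hvS
  simp only [map_sum, map_smul] at h0
  rw [Fintype.linearIndependent_iff.mp hli c h0 |> funext]
  simp

variable (bM : Module.Basis (Fin i) B M) (a : Ω →ₗ[B] M) (b : (Fin r → B) →ₗ[B] M)

/-- The standard basis of `B^r`. -/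
def std (B : Type u) [CommRing B] (r : ℕ) : Module.Basis (Fin r) B (Fin r → B) := Pi.basisFun B _

/-- The list `x` followed by the complementary basis. -/
def extend (h : j + r = i) (x : Fin j → Ω) : Fin i → M :=
  Sum.elim (a ∘ x) (b ∘ (std B r)) ∘ (finSumFinEquiv.trans (finCongr h)).symm

theorem extend_update [DecidableEq (Fin j)] (h : j + r = i) (x : Fin j → Ω) (t : Fin j) (v : Ω) :
    extend a b h (Function.update x t v) =
      Function.update (extend a b h x) ((finSumFinEquiv.trans (finCongr h)) (Sum.inl t)) (a v) := by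
  classical
  funext l
  obtain ⟨m, rfl⟩ := (finSumFinEquiv.trans (finCongr h)).surjective l
  by_cases hm : m = Sum.inl t
  · subst hm
    simp [extend]
  · rw [Function.update_of_ne (fun hh => hm ((finSumFinEquiv.trans (finCongr h)).injective hh))]
    rcases m with m | m
    · have : m ≠ t := fun hh => hm (by rw [hh])
      simp [extend, Function.update_of_ne this]
    · simp [extend]

/-- The wedge with the complementary basis, valued in the determinant line. -/
def psiAlt (h : j + r = i) : Ω [⋀^Fin j]→ₗ[B] B where
  toFun x := bM.det (extend a b h x)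
  map_update_add' x t v w := by
    rw [extend_update, extend_update, extend_update, map_add, AlternatingMap.map_update_add]
  map_update_smul' x t c v := by
    rw [extend_update, extend_update, map_smul, AlternatingMap.map_update_smul]
  map_eq_zero_of_eq' x s t hst hne := by
    refine bM.det.map_eq_zero_of_eq _ (i := (finSumFinEquiv.trans (finCongr h)) (Sum.inl s))
      (j := (finSumFinEquiv.trans (finCongr h)) (Sum.inl t)) ?_ ?_
    · simp only [extend, Function.comp_apply, Equiv.symm_apply_apply, Sum.elim_inl, hst]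
    · exact fun hh => hne (Sum.inl_injective ((finSumFinEquiv.trans (finCongr h)).injective hh))

include bM in
theorem nonempty_linearEquiv (p : M →ₗ[B] Ω) (q : M →ₗ[B] (Fin r → B))
    (hpa : ∀ x, p (a x) = x) (hqb : ∀ y, q (b y) = y) (hpb : ∀ y, p (b y) = 0)
    (hqa : ∀ x, q (a x) = 0) (hsum : ∀ m, a (p m) + b (q m) = m) (h : j + r = i) :
    Nonempty (↥(⋀[B]^j Ω) ≃ₗ[B] B) := by
  classical
  let ψ : ↥(⋀[B]^j Ω) →ₗ[B] B := alternatingMapLinearEquiv (psiAlt bM a b h)
  let π : (↥(⋀[B]^j Ω) ⊗[B] ↥(⋀[B]^r (Fin r → B))) →ₗ[B] ↥(⋀[B]^j Ω) :=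
    (TensorProduct.rid B _).toLinearMap.comp (LinearMap.lTensor _ (topEquiv (std B r)).toLinearMap)
  let χ : B →ₗ[B] ↥(⋀[B]^j Ω) := LinearMap.toSpanSingleton B _
    (π (H22Alg.ExtPowSumAlg.compAlt p q j r i h bM))
  have hχψ : ∀ w, χ (ψ w) = w := by
    suffices hh : χ.comp ψ = LinearMap.id from LinearMap.congr_fun hh
    apply exteriorPower.linearMap_ext
    refine AlternatingMap.ext fun x => ?_
    show χ (ψ (ιMulti B j x)) = ιMulti B j x
    simp only [ψ, alternatingMapLinearEquiv_apply_ιMulti]
    show bM.det (extend a b h x) • π (H22Alg.ExtPowSumAlg.compAlt p q j r i h bM) = _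
    refine (alt_eq bM (π.compAlternatingMap (H22Alg.ExtPowSumAlg.compAlt p q j r i h))
      (extend a b h x)).symm.trans ?_
    rw [LinearMap.compAlternatingMap_apply]
    have := H22Alg.ExtPowSumAlg.compAlt_mix p q a b hpa hqb hpb hqa h x (std B r)
    simp only [H22Alg.ExtPowSumAlg.mix] at this
    rw [show extend a b h x = Sum.elim (a ∘ x) (b ∘ (std B r)) ∘
      (finSumFinEquiv.trans (finCongr h)).symm from rfl, this]
    simp [π, topEquiv, Module.Basis.det_self]
  have hinj : Function.Injective ψ := Function.LeftInverse.injective (g := χ) hχψ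
  refine ⟨LinearEquiv.ofBijective ψ ⟨hinj, ?_⟩⟩
  rw [← LinearMap.range_eq_top]
  by_contra hne
  obtain ⟨𝔪, h𝔪, hle⟩ := Ideal.exists_le_maximal (LinearMap.range ψ : Ideal B) hne
  haveI := h𝔪
  letI : Field (B ⧸ 𝔪) := Ideal.Quotient.field 𝔪
  let mk := Ideal.Quotient.mk 𝔪
  let σ : M → (Fin i → B ⧸ 𝔪) := fun m l => mk (bM.repr m l)
  have σadd : ∀ m n, σ (m + n) = σ m + σ n := fun m n => funext fun l => by simp [σ]
  have σsmul : ∀ (c : B) m, σ (c • m) = mk c • σ m := fun c m => funext fun l => by simp [σ]
  have σsum : ∀ (s : Finset (Fin r)) (f : Fin r → M), σ (∑ l ∈ s, f l) = ∑ l ∈ s, σ (f l) := by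
    intro s f
    funext l
    simp [σ, Finset.sum_apply]
  let s : Fin r → (Fin i → B ⧸ 𝔪) := fun k => σ (b (std B r k))
  have hs : LinearIndependent (B ⧸ 𝔪) s := by
    rw [Fintype.linearIndependent_iff]
    intro c hc k
    choose c' hc' using fun k => Ideal.Quotient.mk_surjective (c k)
    have hy : (∑ k, c' k • std B r k) = c' := by
      funext l; simp [std, Pi.basisFun_apply, Pi.single_apply]
    have hσ : σ (b c') = 0 := by
      rw [← hy, map_sum, σsum]
      simp only [map_smul, σsmul]
      simpa [s, mk, hc'] using hc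
    have hq : c' = ∑ l, bM.repr (b c') l • q (bM l) := by
      simp only [← map_smul, ← map_sum, bM.sum_repr, hqb]
    have : mk (c' k) = 0 := by
      rw [hq, Finset.sum_apply, map_sum]
      refine Finset.sum_eq_zero fun l _ => ?_
      have hl : mk (bM.repr (b c') l) = 0 := congrFun hσ l
      simp [hl]
    rw [← hc']; exact this
  have ht : Submodule.span (B ⧸ 𝔪) (Set.range (fun x => σ (a x)) ∪ Set.range s) = ⊤ := by
    rw [eq_top_iff]
    intro v _
    choose v' hv' using fun l => Ideal.Quotient.mk_surjective (v l)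
    have hv : v = σ (∑ l, v' l • bM l) := by
      funext l; simp [σ, mk, Finsupp.single_apply, hv']
    rw [hv, ← hsum (∑ l, v' l • bM l), σadd]
    refine Submodule.add_mem _ (Submodule.subset_span (Or.inl ⟨_, rfl⟩)) ?_
    generalize q (∑ l, v' l • bM l) = y
    have hy : (∑ k, y k • std B r k) = y := by
      funext l; simp [std, Pi.basisFun_apply, Pi.single_apply]
    rw [← hy, map_sum, σsum]
    refine Submodule.sum_mem _ fun k _ => ?_
    rw [map_smul, σsmul]
    exact Submodule.smul_mem _ _ (Submodule.subset_span (Or.inr ⟨k, rfl⟩))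
  obtain ⟨x', hx', hli⟩ := exists_complement (j := j) (r := r)
    (by rw [Module.finrank_pi, Fintype.card_fin]; omega) s hs _ ht
  choose x hx using hx'
  let fam : Fin i → (Fin i → B ⧸ 𝔪) := fun l => σ (extend a b h x l)
  have hfam : LinearIndependent (B ⧸ 𝔪) fam := by
    have : fam = Sum.elim x' s ∘ (finSumFinEquiv.trans (finCongr h)).symm := by
      funext l
      obtain ⟨m, rfl⟩ := (finSumFinEquiv.trans (finCongr h)).surjective l
      rcases m with m | m <;> simp [fam, extend, s, ← hx]
    rw [this]
    exact hli.comp _ (Equiv.injective _)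
  have hdet : mk (bM.det (extend a b h x)) = 0 := by
    rw [Ideal.Quotient.eq_zero_iff_mem]
    refine hle ⟨ιMulti B j x, ?_⟩
    simp [ψ, psiAlt]
  have hunit : IsUnit ((Matrix.of fam).transpose.det) := by
    rw [Matrix.det_transpose, ← Matrix.isUnit_iff_isUnit_det]
    exact Matrix.linearIndependent_rows_iff_isUnit.mp hfam
  apply hunit.ne_zero
  rw [← hdet, Module.Basis.det_apply, RingHom.map_det]
  rfl

end Split

end Groth.Agent.H3CAlg.StablyFreeTop

end
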