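import Mathlib
import Groth.Agent.H9Hens.Newton

/-!
# Elkik approximation for a principal ideal, with bounded torsion and no finiteness on the base
-/

set_option autoImplicit false
set_option linter.style.haveILetI false
universe u

open MvPolynomial

namespace Groth.Agent.H3CAlg.ElkikPrincipal

variable {A : Type u} [CommRing A] (t : A) {n s : ℕ}

/-- The exact Newton step. -/
theorem exists_exact_zero [HenselianRing A (Ideal.span {t})] {N : ℕ}
    (hN : ∀ a : A, (∃ m : ℕ, t ^ m * a = 0) → t ^ N * a = 0)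
    (f : Fin s → MvPolynomial (Fin n) A) (Q : Fin n → Fin s → MvPolynomial (Fin n) A) (c : ℕ)
    (hE : ∀ k, C t ^ c * f k - ∑ i, pderiv i (f k) * ∑ l, Q i l * f l ∈ Ideal.span (Set.range f) ^ 2)
    (M : ℕ) (hM : N + 3 * c + 1 ≤ M) (a : Fin n → A) (ha : ∀ k, eval a (f k) ∈ Ideal.span {t ^ M}) :
    ∃ b : Fin n → A, (∀ k, eval b (f k) = 0) ∧ ∀ i, b i - a i ∈ Ideal.span {t ^ (M - c)} := by
  classical
  obtain ⟨d, rfl⟩ : ∃ d, M = c + d := ⟨M - c, by omega⟩
  rw [Nat.add_sub_cancel_left]
  choose e he using fun k => Ideal.mem_span_singleton'.1 (ha k)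
  -- the shifted polynomials
  let K : Ideal (MvPolynomial (Fin n) A) := Ideal.span {C t ^ d}
  let δ : Fin n → MvPolynomial (Fin n) A := fun i => C t ^ d * X i
  let sub : MvPolynomial (Fin n) A →ₐ[A] MvPolynomial (Fin n) A := aeval fun i => C (a i) + δ i
  have hev0 : ∀ p : MvPolynomial (Fin n) A, aeval (fun i => (C (a i) : MvPolynomial (Fin n) A)) p = C (eval a p) := by
    intro p
    induction p using MvPolynomial.induction_on with
    | C r => simp
    | add p q hp hq => rw [map_add, map_add, map_add, hp, hq]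
    | mul_X p i hp => rw [map_mul, aeval_X, hp, map_mul, eval_X, map_mul]
  have htaylor : ∀ p, sub p - C (eval a p) - ∑ l, C (eval a (pderiv l p)) * δ l ∈ K ^ 2 := by
    intro p
    have := H9Hens.aeval_add_sub_taylor_mem K (fun i => C (a i)) δ
      (fun l => Ideal.mem_span_singleton'.2 ⟨X l, mul_comm _ _⟩) p
    simpa only [hev0] using this
  have hδK : ∀ l, δ l ∈ K := fun l => Ideal.mem_span_singleton'.2 ⟨X l, mul_comm _ _⟩
  have hfirst : ∀ p, sub p - C (eval a p) ∈ K := by
    intro p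
    have h1 := Ideal.pow_le_self (I := K) two_ne_zero (htaylor p)
    have h2 : ∑ l, C (eval a (pderiv l p)) * δ l ∈ K := K.sum_mem fun l _ => K.mul_mem_left _ (hδK l)
    have := add_mem h1 h2
    rwa [sub_add_cancel] at this
  let Φ : Fin n → MvPolynomial (Fin n) A := fun i =>
    ∑ l, sub (Q i l) * sub (f l) + C t ^ c * δ i - ∑ j, sub (∑ l, Q i l * pderiv j (f l)) * δ j
  have hΦ : ∀ i, Φ i - C t ^ (c + d) * (X i + C (∑ l, eval a (Q i l) * e l)) ∈ K ^ 2 := by
    intro i
    have hK2 : ∀ {x y : MvPolynomial (Fin n) A}, x ∈ K → y ∈ K → x * y ∈ K ^ 2 := fun hx hy => by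
      rw [pow_two]; exact Ideal.mul_mem_mul hx hy
    have h1 : ∀ l, sub (Q i l) * sub (f l) -
        (C (eval a (Q i l)) * (C (eval a (f l)) + ∑ j, C (eval a (pderiv j (f l))) * δ j)) ∈ K ^ 2 := by
      intro l
      have hfl : C (eval a (f l)) ∈ K := by
        rw [← he l, pow_add, map_mul, map_mul, map_pow, map_pow]
        exact Ideal.mul_mem_left _ _ (Ideal.mul_mem_left _ _ (Ideal.mem_span_singleton_self _))
      have hrest : C (eval a (f l)) + ∑ j, C (eval a (pderiv j (f l))) * δ j ∈ K :=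
        add_mem hfl (K.sum_mem fun j _ => K.mul_mem_left _ (hδK j))
      have := add_mem (Ideal.mul_mem_left (K ^ 2) (sub (Q i l)) (htaylor (f l))) (hK2 (hfirst (Q i l)) hrest)
      convert this using 1
      ring
    have h2 : ∀ j, sub (∑ l, Q i l * pderiv j (f l)) * δ j -
        (∑ l, C (eval a (Q i l)) * C (eval a (pderiv j (f l)))) * δ j ∈ K ^ 2 := by
      intro j
      rw [← sub_mul]
      refine hK2 ?_ (hδK j)
      simpa only [map_sum, map_mul] using hfirst (∑ l, Q i l * pderiv j (f l))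
    have := sub_mem ((K ^ 2).sum_mem (fun l (_ : l ∈ Finset.univ) => h1 l)) ((K ^ 2).sum_mem (fun j (_ : j ∈ Finset.univ) => h2 j))
    convert this using 1
    simp only [Φ, Finset.sum_sub_distrib]
    have hswap : ∑ l, C (eval a (Q i l)) * ∑ j, C (eval a (pderiv j (f l))) * δ j =
        ∑ j, (∑ l, C (eval a (Q i l)) * C (eval a (pderiv j (f l)))) * δ j := by
      simp only [Finset.mul_sum, Finset.sum_mul]
      rw [Finset.sum_comm]
      exact Finset.sum_congr rfl fun j _ => Finset.sum_congr rfl fun l _ => (mul_assoc _ _ _).symm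
    have hconst : (C t : MvPolynomial (Fin n) A) ^ (c + d) * C (∑ l, eval a (Q i l) * e l) =
        ∑ l, C (eval a (Q i l)) * C (eval a (f l)) := by
      rw [map_sum, Finset.mul_sum]
      refine Finset.sum_congr rfl fun l _ => ?_
      rw [← he l, map_mul, map_mul, map_pow]
      ring
    simp only [mul_add, Finset.sum_add_distrib, hswap, hconst]
    simp only [δ, pow_add]
    ring
  have hK2 : K ^ 2 = Ideal.span {C t ^ (c + d) * C t ^ (d - c)} := by
    rw [show K = Ideal.span {C t ^ d} from rfl, Ideal.span_singleton_pow, ← pow_mul, ← pow_add]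
    congr 3
    omega
  choose G hG using fun i => Ideal.mem_span_singleton'.1 (hK2 ▸ hΦ i)
  let H : Fin n → MvPolynomial (Fin n) A := fun i =>
    X i + C (∑ l, eval a (Q i l) * e l) + C t ^ (d - c) * G i
  have htd : t ^ (d - c) ∈ Ideal.span {t} :=
    Ideal.pow_mem_of_mem _ (Ideal.mem_span_singleton_self t) _ (by omega)
  obtain ⟨w, hw, -⟩ := H9Hens.exists_zero_of_jacobian (I := Ideal.span {t}) H
    (fun i => -∑ l, eval a (Q i l) * e l) (fun i => by
      simp only [H, map_add, map_mul, map_pow, eval_X, eval_C, neg_add_cancel, zero_add]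
      exact Ideal.mul_mem_right _ _ htd) (by
      convert isUnit_one using 1
      rw [RingHom.map_det]
      convert Matrix.det_one (n := Fin n) (R := A ⧸ Ideal.span {t})
      ext i j
      simp only [RingHom.mapMatrix_apply, Matrix.map_apply, Matrix.of_apply, H, map_add, pderiv_X, pderiv_C,
        pderiv_mul, ← map_pow C t, zero_mul, zero_add, add_zero, map_mul, eval_C,
        Ideal.Quotient.eq_zero_iff_mem.2 htd, zero_mul, add_zero]
      rw [Matrix.one_apply, Pi.single_apply]
      split_ifs with h1 h2 h2 <;> simp_all [eq_comm])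
  let b : Fin n → A := fun i => a i + t ^ d * w i
  have hb : ∀ i, b i - a i ∈ Ideal.span {t ^ d} := fun i =>
    Ideal.mem_span_singleton'.2 ⟨w i, by simp only [b]; ring⟩
  have hsub : ∀ p, eval w (sub p) = eval b p := by
    intro p
    have := AlgHom.congr_fun (MvPolynomial.algHom_ext (f := (aeval w).comp sub) (g := aeval b) fun i => by
      simp [sub, δ, b]) p
    rw [AlgHom.comp_apply] at this
    simpa only [aeval_eq_eval] using this
  let q : Fin n → Fin s → A := fun i l => eval b (Q i l)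
  let D : Fin s → Fin n → A := fun k i => eval b (pderiv i (f k))
  let φ : Fin s → A := fun k => eval b (f k)
  let h : Fin n → A := fun i => t ^ d * w i
  have heq : ∀ i, ∑ l, q i l * φ l + t ^ c * h i - ∑ j, (∑ l, q i l * D l j) * h j = 0 := by
    intro i
    have h0 : eval w (Φ i) = 0 := by
      have h1 : Φ i = C t ^ (c + d) * H i := by
        have := hG i
        simp only [H]
        linear_combination -this
      rw [h1, map_mul, hw i, mul_zero]
    simp only [Φ, map_sub, map_add, map_sum, map_mul, hsub, map_pow, eval_C, δ, eval_X] at h0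
    simpa only [q, D, φ, h] using h0
  set Ψ : Ideal A := Ideal.span (Set.range φ) with hΨ
  have hφ : ∀ k, φ k ∈ Ideal.span {t ^ d} := by
    intro k
    have h1 : eval b (f k) - eval a (f k) ∈ Ideal.span {t ^ d} := by
      rw [← Ideal.Quotient.eq, eval, eval, ← RingHom.comp_apply, ← RingHom.comp_apply, MvPolynomial.comp_eval₂Hom,
        MvPolynomial.comp_eval₂Hom]
      congr 2
      funext i
      exact Ideal.Quotient.eq.2 (hb i)
    have h2 : eval a (f k) ∈ Ideal.span {t ^ d} :=
      Ideal.span_singleton_le_span_singleton.2 (pow_dvd_pow t (by omega)) (ha k)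
    have := add_mem h1 h2
    rwa [sub_add_cancel] at this
  have hΨd : Ψ ≤ Ideal.span {t ^ d} := Ideal.span_le.2 (by rintro _ ⟨k, rfl⟩; exact hφ k)
  have hφΨ : ∀ k, φ k ∈ Ψ := fun k => Ideal.subset_span ⟨k, rfl⟩
  have hmap : (Ideal.span (Set.range f)).map (eval b) = Ψ := by rw [Ideal.map_span, ← Set.range_comp]; rfl
  have hEb : ∀ k, t ^ c * φ k - ∑ i, D k i * ∑ l, q i l * φ l ∈ Ψ ^ 2 := by
    intro k
    have := Ideal.mem_map_of_mem (eval b) (hE k)
    rw [Ideal.map_pow, hmap] at this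
    simpa only [map_sub, map_mul, map_sum, map_pow, eval_C] using this
  have hDD : ∀ k j, t ^ c * D k j - ∑ i, D k i * ∑ l, q i l * D l j ∈ Ψ := by
    intro k j
    have hsq : ∀ x ∈ Ideal.span (Set.range f) ^ 2, eval b (pderiv j x) ∈ Ψ := by
      intro x hx
      rw [pow_two] at hx
      refine Submodule.mul_induction_on hx (fun u hu v hv => ?_) (fun u v hu hv => by
        rw [map_add, map_add]; exact add_mem hu hv)
      rw [pderiv_mul, map_add, map_mul, map_mul]
      exact add_mem (Ideal.mul_mem_left _ _ (hmap ▸ Ideal.mem_map_of_mem _ hv))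
        (Ideal.mul_mem_right _ _ (hmap ▸ Ideal.mem_map_of_mem _ hu))
    have h1 := hsq _ (hE k)
    have h2 : ∑ i, (eval b (pderiv j (pderiv i (f k))) * ∑ l, q i l * φ l +
        D k i * ∑ l, eval b (pderiv j (Q i l)) * φ l) ∈ Ψ :=
      Ψ.sum_mem fun i _ => add_mem (Ψ.mul_mem_left _ (Ψ.sum_mem fun l _ => Ψ.mul_mem_left _ (hφΨ l)))
        (Ψ.mul_mem_left _ (Ψ.sum_mem fun l _ => Ψ.mul_mem_left _ (hφΨ l)))
    convert add_mem h1 h2 using 1
    simp only [map_sub, map_sum, pderiv_mul, map_add, map_mul, ← map_pow C t, pderiv_C, zero_mul, zero_add,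
      map_zero, eval_C, q, D, φ, mul_add, Finset.sum_add_distrib]
    ring
  have hmem : ∀ {x y : A}, x ∈ Ideal.span {t ^ d} → y ∈ Ψ → x * y ∈ Ideal.span {t ^ d} * Ψ :=
    fun hx hy => Ideal.mul_mem_mul hx hy
  have hΨ2 : Ψ ^ 2 ≤ Ideal.span {t ^ d} * Ψ := by
    rw [pow_two]; exact Ideal.mul_mono_left hΨd
  set T := Ideal.span {t ^ d} * Ψ with hT
  let qM : Matrix (Fin n) (Fin s) A := Matrix.of q
  let DM : Matrix (Fin s) (Fin n) A := Matrix.of D
  have hT0 : ∀ {ι κ : Type} [Fintype κ] (X : Matrix ι κ A) (v : κ → A), (∀ k, v k ∈ T) → ∀ i, (X.mulVec v) i ∈ T :=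
    fun X v hv i => T.sum_mem fun k _ => T.mul_mem_left _ (hv k)
  let r : Fin s → A := t ^ c • φ - DM.mulVec (qM.mulVec φ)
  have hr : ∀ k, r k ∈ T := fun k => hΨ2 (hEb k)
  let E' : Matrix (Fin s) (Fin n) A := t ^ c • DM - DM * (qM * DM)
  have hE' : ∀ k j, E' k j ∈ Ψ := fun k j => hDD k j
  have hEh : ∀ k, (E'.mulVec h) k ∈ T := fun k => T.sum_mem (f := fun j => E' k j * h j) fun j (_ : j ∈ Finset.univ) => by
    show E' k j * h j ∈ T
    rw [mul_comm]
    exact hmem (Ideal.mem_span_singleton'.2 ⟨w j, mul_comm _ _⟩) (hE' k j)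
  have hvec : qM.mulVec φ + t ^ c • h - qM.mulVec (DM.mulVec h) = 0 := by
    funext i
    rw [Matrix.mulVec_mulVec]
    exact heq i
  have hPq : qM.mulVec (DM.mulVec (qM.mulVec φ)) = -qM.mulVec (E'.mulVec h) := by
    have h5 := congrArg (fun v => qM.mulVec (DM.mulVec v)) hvec
    simp only [Matrix.mulVec_sub, Matrix.mulVec_add, Matrix.mulVec_smul, Matrix.mulVec_zero] at h5
    simp only [E', Matrix.sub_mulVec, Matrix.smul_mulVec, ← Matrix.mulVec_mulVec, Matrix.mulVec_sub, Matrix.mulVec_smul]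
    rw [eq_neg_iff_add_eq_zero, ← h5]
    abel
  have hcq : ∀ i, (t ^ c • qM.mulVec φ) i ∈ T := by
    have e : t ^ c • qM.mulVec φ = qM.mulVec r - qM.mulVec (E'.mulVec h) := by
      rw [sub_eq_add_neg, ← hPq]
      simp only [r, Matrix.mulVec_sub, Matrix.mulVec_smul]
      abel
    intro i
    rw [e]
    exact sub_mem (hT0 qM r hr i) (hT0 qM _ hEh i)
  have h2c : ∀ k, t ^ (2 * c) * φ k ∈ T := by
    have e : t ^ (2 * c) • φ = t ^ c • r + DM.mulVec (t ^ c • qM.mulVec φ) := by
      simp only [r, Matrix.mulVec_smul, smul_sub, smul_smul, ← pow_add, two_mul]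
      abel
    intro k
    have := congrFun e k
    simp only [Pi.smul_apply, Pi.add_apply, smul_eq_mul] at this
    rw [this]
    exact add_mem (T.mul_mem_left _ (hr k)) (hT0 DM _ hcq k)
  have hle : Ideal.span {t ^ (2 * c)} * Ψ ≤ Ideal.span {t} • (Ideal.span {t ^ (2 * c)} * Ψ) := by
    have h1 : Ideal.span {t ^ (2 * c)} * Ψ ≤ T := by
      rw [Ideal.span_singleton_mul_le_iff]
      intro z hz
      induction hz using Submodule.span_induction with
      | mem x hx =>
        obtain ⟨k, rfl⟩ := hx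
        exact h2c k
      | zero => simp
      | add x y _ _ hx hy => rw [mul_add]; exact add_mem hx hy
      | smul r x _ hx => rw [smul_eq_mul, mul_left_comm]; exact T.mul_mem_left _ hx
    refine h1.trans ?_
    rw [hT, smul_eq_mul, ← mul_assoc, Ideal.span_singleton_mul_span_singleton, ← pow_succ']
    exact Ideal.mul_mono_left (Ideal.span_singleton_le_span_singleton.2 (pow_dvd_pow t (by omega)))
  have hfg : (Ideal.span {t ^ (2 * c)} * Ψ).FG :=
    Ideal.FG.mul (Submodule.fg_span_singleton _) (Submodule.fg_span (Set.finite_range _))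
  have hbot := Submodule.eq_bot_of_le_smul_of_le_jacobson_bot (Ideal.span {t}) _ hfg hle HenselianRing.jac
  refine ⟨b, fun k => ?_, hb⟩
  obtain ⟨ε, hε⟩ := Ideal.mem_span_singleton'.1 (hφ k)
  have h1 : t ^ (2 * c) * φ k = 0 :=
    (Submodule.eq_bot_iff _).1 hbot _ (Ideal.mul_mem_mul (Ideal.mem_span_singleton_self _) (hφΨ k))
  have h2 : t ^ N * ε = 0 := hN ε ⟨2 * c + d, by rw [pow_add, mul_assoc, mul_comm _ ε, hε, h1]⟩
  show φ k = 0
  rw [← hε]
  obtain ⟨d', hd'⟩ := Nat.exists_eq_add_of_le (show N ≤ d by omega)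
  rw [hd', pow_add, mul_comm, mul_right_comm, h2, zero_mul]

section Data

open TensorProduct

variable {T : Type u} [CommRing T] [Algebra A T] [IsLocalization.Away t T]

omit [IsLocalization.Away t T] in
theorem map_C_pow (k : ℕ) : MvPolynomial.map (σ := Fin n) (algebraMap A T) (C t ^ k) =
    C (algebraMap A T t) ^ k := by rw [map_pow, map_C]

theorem isUnit_C_pow (k : ℕ) :
    IsUnit ((C (algebraMap A T t) : MvPolynomial (Fin n) T) ^ k) :=
  ((IsLocalization.Away.algebraMap_isUnit t).map C).pow k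

theorem exists_map_eq (x : MvPolynomial (Fin n) T) :
    ∃ (k : ℕ) (p : MvPolynomial (Fin n) A), C (algebraMap A T t) ^ k * x = MvPolynomial.map (algebraMap A T) p := by
  induction x using MvPolynomial.induction_on with
  | C r =>
    obtain ⟨⟨a, ⟨_, k, rfl⟩⟩, ha⟩ := IsLocalization.surj (Submonoid.powers t) r
    exact ⟨k, C a, by rw [map_C, ← ha, map_pow, mul_comm, map_mul, map_pow]⟩
  | add p q hp hq =>
    obtain ⟨k, p', hp⟩ := hp
    obtain ⟨l, q', hq⟩ := hq
    refine ⟨k + l, C t ^ l * p' + C t ^ k * q', ?_⟩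
    rw [map_add, map_mul, map_mul, map_C_pow, map_C_pow, ← hp, ← hq]
    ring
  | mul_X p i hp =>
    obtain ⟨k, p', hp⟩ := hp
    exact ⟨k, p' * X i, by rw [map_mul, map_X, ← hp, mul_assoc]⟩

theorem exists_pow_mul_eq_zero {z : MvPolynomial (Fin n) A}
    (hz : MvPolynomial.map (algebraMap A T) z = 0) : ∃ m : ℕ, C t ^ m * z = 0 := by
  have h : ∀ d, ∃ m : ℕ, t ^ m * coeff d z = 0 := fun d => by
    have h1 : algebraMap A T (coeff d z) = 0 := by rw [← coeff_map, hz, coeff_zero]
    obtain ⟨⟨_, m, rfl⟩, hm⟩ := (IsLocalization.map_eq_zero_iff (Submonoid.powers t) T _).1 h1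
    exact ⟨m, hm⟩
  choose m hm using h
  refine ⟨z.support.sup m, MvPolynomial.ext _ _ fun d => ?_⟩
  rw [← map_pow, coeff_C_mul, coeff_zero]
  by_cases hd : d ∈ z.support
  · obtain ⟨j, hj⟩ := Nat.exists_eq_add_of_le (Finset.le_sup (f := m) hd)
    rw [hj, add_comm, pow_add, mul_assoc, hm, mul_zero]
  · rw [notMem_support_iff.1 hd, mul_zero]

theorem exists_mem_of_mem_map {I : Ideal (MvPolynomial (Fin n) A)} {y : MvPolynomial (Fin n) T}
    (hy : y ∈ I.map (MvPolynomial.map (algebraMap A T))) :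
    ∃ k : ℕ, ∃ p ∈ I, C (algebraMap A T t) ^ k * y = MvPolynomial.map (algebraMap A T) p := by
  induction hy using Submodule.span_induction with
  | mem x hx =>
    obtain ⟨p, hp, rfl⟩ := hx
    exact ⟨0, p, hp, by rw [pow_zero, one_mul]⟩
  | zero => exact ⟨0, 0, zero_mem _, by simp⟩
  | add x z _ _ hx hz =>
    obtain ⟨k, p, hp, hxp⟩ := hx
    obtain ⟨l, q, hq, hzq⟩ := hz
    refine ⟨k + l, C t ^ l * p + C t ^ k * q, add_mem (Ideal.mul_mem_left _ _ hp) (Ideal.mul_mem_left _ _ hq), ?_⟩
    rw [map_add, map_mul, map_mul, map_C_pow, map_C_pow, ← hxp, ← hzq]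
    ring
  | smul r x _ hx =>
    obtain ⟨k, p, hp, hxp⟩ := hx
    obtain ⟨l, r', hr⟩ := exists_map_eq t r
    refine ⟨k + l, r' * p, Ideal.mul_mem_left _ _ hp, ?_⟩
    rw [map_mul, ← hxp, ← hr, smul_eq_mul]
    ring

theorem exists_pow_mul_mem {I : Ideal (MvPolynomial (Fin n) A)} {x : MvPolynomial (Fin n) A}
    (hx : MvPolynomial.map (algebraMap A T) x ∈ I.map (MvPolynomial.map (algebraMap A T))) :
    ∃ k : ℕ, C t ^ k * x ∈ I := by
  obtain ⟨k, p, hp, hkp⟩ := exists_mem_of_mem_map t hx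
  rw [← map_C_pow, ← map_mul, ← sub_eq_zero, ← map_sub] at hkp
  obtain ⟨m, hm⟩ := exists_pow_mul_eq_zero t hkp
  refine ⟨m + k, ?_⟩
  rw [mul_sub, sub_eq_zero, ← mul_assoc, ← pow_add] at hm
  rw [hm]
  exact Ideal.mul_mem_left _ _ hp

theorem D_eq_sum (p : MvPolynomial (Fin n) T) :
    KaehlerDifferential.D T (MvPolynomial (Fin n) T) p = ∑ i, pderiv i p • KaehlerDifferential.D T _ (X i) := by
  induction p using MvPolynomial.induction_on with
  | C r => simp [← algebraMap_eq]
  | add p q hp hq => simp [hp, hq, add_smul, Finset.sum_add_distrib]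
  | mul_X p i hp =>
    simp only [Derivation.leibniz, hp, pderiv_X, Finset.smul_sum, smul_smul, smul_add, pderiv_mul, add_smul,
      Finset.sum_add_distrib]
    have h : ∑ x, (p * (Pi.single (M := fun _ => MvPolynomial (Fin n) T) x 1 i : MvPolynomial (Fin n) T)) •
        KaehlerDifferential.D T (MvPolynomial (Fin n) T) (X x) = p • KaehlerDifferential.D T _ (X i) := by
      rw [Finset.sum_eq_single i]
      · simp
      · intro j _ hj
        simp [hj.symm]
      · simp
    simp only [smul_eq_mul]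
    rw [h]

set_option maxHeartbeats 1000000 in
theorem exists_data {B BT : Type u} [CommRing B] [Algebra A B] [CommRing BT] [Algebra B BT] [Algebra A BT]
    [IsScalarTower A B BT] [Algebra T BT] [IsScalarTower A T BT]
    [IsLocalization (Algebra.algebraMapSubmonoid B (Submonoid.powers t)) BT] (hsm : Algebra.Smooth T BT)
    (π : MvPolynomial (Fin n) A →ₐ[A] B) (hπ : Function.Surjective π) :
    ∃ (s : ℕ) (f : Fin s → MvPolynomial (Fin n) A) (Q : Fin n → Fin s → MvPolynomial (Fin n) A) (c : ℕ),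
      (∀ k, π (f k) = 0) ∧ (∀ j, π j = 0 → ∃ k : ℕ, C t ^ k * j ∈ Ideal.span (Set.range f)) ∧
      ∀ k, C t ^ c * f k - ∑ i, pderiv i (f k) * ∑ l, Q i l * f l ∈ Ideal.span (Set.range f) ^ 2 := by
  classical
  let ι := MvPolynomial.map (σ := Fin n) (algebraMap A T)
  let πT : MvPolynomial (Fin n) T →ₐ[T] BT := aeval fun i => algebraMap B BT (π (X i))
  have hπι : ∀ p, πT (ι p) = algebraMap B BT (π p) := by
    intro p
    induction p using MvPolynomial.induction_on with
    | C a =>
      simp only [ι, πT, map_C, aeval_C]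
      rw [← IsScalarTower.algebraMap_apply A T BT, ← algebraMap_eq, π.commutes, ← IsScalarTower.algebraMap_apply A B BT]
    | add p q hp hq => rw [map_add, map_add, map_add, map_add, hp, hq]
    | mul_X p i hp => rw [map_mul, map_mul, hp, map_mul, map_mul, map_X]; simp [πT]
  have hπTs : Function.Surjective πT := by
    intro z
    obtain ⟨⟨b, ⟨_, _, ⟨k, rfl⟩, rfl⟩⟩, hz⟩ :=
      IsLocalization.surj (Algebra.algebraMapSubmonoid B (Submonoid.powers t)) z
    obtain ⟨p, rfl⟩ := hπ b
    refine ⟨((isUnit_C_pow (T := T) t k).unit⁻¹ : (MvPolynomial (Fin n) T)ˣ) * ι p, ?_⟩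
    simp only at hz
    have hu : πT ((C (algebraMap A T t)) ^ k) = algebraMap B BT (algebraMap A B (t ^ k)) := by
      rw [← map_C_pow, hπι, ← algebraMap_eq, map_pow, π.commutes, map_pow, map_pow, map_pow]
    rw [map_mul, hπι, ← hz, ← hu, mul_left_comm, ← map_mul, IsUnit.val_inv_mul, map_one, mul_one]
  set J := RingHom.ker π.toRingHom with hJ
  have hker : RingHom.ker πT.toRingHom = J.map ι := by
    refine le_antisymm (fun x hx => ?_) (Ideal.map_le_iff_le_comap.2 fun p hp => ?_)
    · obtain ⟨k, p, hkp⟩ := exists_map_eq t x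
      have h1 : algebraMap B BT (π p) = 0 := by
        rw [← hπι, show ι p = _ from hkp.symm, map_mul, show πT x = 0 from hx, mul_zero]
      obtain ⟨⟨_, _, ⟨m, rfl⟩, rfl⟩, hm⟩ :=
        (IsLocalization.map_eq_zero_iff (Algebra.algebraMapSubmonoid B (Submonoid.powers t)) BT _).1 h1
      simp only at hm
      have h2 : C t ^ m * p ∈ J := by
        show π (C t ^ m * p) = 0
        rw [map_mul, map_pow, ← algebraMap_eq, π.commutes, ← map_pow]
        exact hm
      have h3 := Ideal.mem_map_of_mem ι h2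
      rw [map_mul, map_C_pow, show ι p = _ from hkp.symm, ← mul_assoc, ← pow_add] at h3
      rwa [Ideal.unit_mul_mem_iff_mem _ (isUnit_C_pow (T := T) t _)] at h3
    · show πT (ι p) = 0
      rw [hπι, show π p = 0 from hp, map_zero]
  obtain ⟨G, hG⟩ : (RingHom.ker πT.toRingHom).FG := Algebra.FinitePresentation.ker_fG_of_surjective πT hπTs
  have hGj : ∀ g : G, ∃ k : ℕ, ∃ p ∈ J, C (algebraMap A T t) ^ k * (g : MvPolynomial (Fin n) T) = ι p := fun g =>
    exists_mem_of_mem_map t (hker ▸ (hG ▸ Submodule.subset_span g.2 :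
      (g : MvPolynomial (Fin n) T) ∈ RingHom.ker πT.toRingHom))
  choose kg pg hpg hkg using hGj
  let f : Fin (Fintype.card G) → MvPolynomial (Fin n) A := fun k => pg ((Fintype.equivFin G).symm k)
  have hf0 : ∀ k, π (f k) = 0 := fun k => hpg _
  have hmapf : (Ideal.span (Set.range f)).map ι = RingHom.ker πT.toRingHom := by
    refine le_antisymm ?_ ?_
    · rw [Ideal.map_le_iff_le_comap, Ideal.span_le]
      rintro _ ⟨k, rfl⟩
      show πT (ι (f k)) = 0
      rw [hπι, hf0, map_zero]
    · rw [← hG]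
      refine Submodule.span_le.2 fun g hg => ?_
      have : C (algebraMap A T t) ^ kg ⟨g, hg⟩ * g ∈ (Ideal.span (Set.range f)).map ι := by
        rw [show C (algebraMap A T t) ^ kg ⟨g, hg⟩ * g = ι (pg ⟨g, hg⟩) from hkg ⟨g, hg⟩]
        exact Ideal.mem_map_of_mem _ (Ideal.subset_span ⟨Fintype.equivFin G ⟨g, hg⟩, by simp [f]⟩)
      rwa [Ideal.unit_mul_mem_iff_mem _ (isUnit_C_pow (T := T) t _)] at this
  -- the splitting
  letI : Algebra (MvPolynomial (Fin n) T) BT := πT.toRingHom.toAlgebra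
  haveI : IsScalarTower T (MvPolynomial (Fin n) T) BT := IsScalarTower.of_algebraMap_eq fun x => (πT.commutes x).symm
  obtain ⟨l, hl⟩ := (Algebra.FormallySmooth.iff_split_injection (R := T) (P := MvPolynomial (Fin n) T) (A := BT)
    hπTs).1 inferInstance
  have hli : ∀ i, ∃ r : RingHom.ker (algebraMap (MvPolynomial (Fin n) T) BT),
      Ideal.toCotangent _ r = l ((1 : BT) ⊗ₜ KaehlerDifferential.D T _ (X i)) := fun i =>
    Ideal.toCotangent_surjective _ _
  choose r hr using hli
  have hq : ∀ i, ∃ k : ℕ, ∃ q : Fin (Fintype.card G) → MvPolynomial (Fin n) A,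
      C (algebraMap A T t) ^ k * (r i : MvPolynomial (Fin n) T) = ι (∑ l, q l * f l) := by
    intro i
    obtain ⟨k, p, hp, hkp⟩ := exists_mem_of_mem_map t
      (hmapf.symm ▸ (r i).2 : (r i : MvPolynomial (Fin n) T) ∈ (Ideal.span (Set.range f)).map ι)
    obtain ⟨q, hq⟩ := Ideal.mem_span_range_iff_exists_fun.1 hp
    exact ⟨k, q, by rw [hkp, hq]⟩
  choose ki q hkq using hq
  set c₁ := Finset.univ.sup ki
  let Q₁ : Fin n → Fin (Fintype.card G) → MvPolynomial (Fin n) A := fun i l => C t ^ (c₁ - ki i) * q i l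
  have hQ₁ : ∀ i, C (algebraMap A T t) ^ c₁ * (r i : MvPolynomial (Fin n) T) = ι (∑ l, Q₁ i l * f l) := by
    intro i
    have hle : ki i ≤ c₁ := Finset.le_sup (Finset.mem_univ i)
    simp only [Q₁, mul_assoc]
    rw [← Finset.mul_sum, map_mul, map_C_pow, ← hkq i, ← mul_assoc, ← pow_add, Nat.sub_add_cancel hle]
  have hsq : ∀ k, ι (C t ^ c₁ * f k - ∑ i, pderiv i (f k) * ∑ l, Q₁ i l * f l) ∈
      (Ideal.span (Set.range f) ^ 2).map ι := by
    intro k
    rw [Ideal.map_pow, hmapf]
    have hk : ι (f k) ∈ RingHom.ker (algebraMap (MvPolynomial (Fin n) T) BT) := by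
      show πT (ι (f k)) = 0
      rw [hπι, hf0, map_zero]
    have h1 := LinearMap.congr_fun hl (Ideal.toCotangent _ ⟨ι (f k), hk⟩)
    rw [LinearMap.comp_apply, LinearMap.id_apply, KaehlerDifferential.kerCotangentToTensor_toCotangent, D_eq_sum,
      TensorProduct.tmul_sum, map_sum] at h1
    have h2 : Ideal.toCotangent _ (⟨ι (f k), hk⟩ : RingHom.ker (algebraMap (MvPolynomial (Fin n) T) BT)) =
        Ideal.toCotangent _ (∑ i, pderiv i (ι (f k)) • r i) := by
      rw [map_sum, ← h1]
      refine Finset.sum_congr rfl fun i _ => ?_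
      rw [TensorProduct.tmul_smul, map_smul, map_smul, hr i]
    have h3 := Ideal.mul_mem_left _ (C (algebraMap A T t) ^ c₁) ((Ideal.toCotangent_eq _).1 h2)
    have heq : ι (C t ^ c₁ * f k - ∑ i, pderiv i (f k) * ∑ l, Q₁ i l * f l) =
        C (algebraMap A T t) ^ c₁ * ((⟨ι (f k), hk⟩ : RingHom.ker (algebraMap (MvPolynomial (Fin n) T) BT)).1 -
          ((∑ i, pderiv i (ι (f k)) • r i : RingHom.ker (algebraMap (MvPolynomial (Fin n) T) BT)) :
            MvPolynomial (Fin n) T)) := by
      rw [map_sub, map_sum, map_mul, map_C_pow, mul_sub, Submodule.coe_sum, Finset.mul_sum]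
      congr 1
      refine Finset.sum_congr rfl fun i _ => ?_
      show ι (pderiv i (f k) * ∑ l, Q₁ i l * f l) = C (algebraMap A T t) ^ c₁ * (pderiv i (ι (f k)) * (r i : MvPolynomial (Fin n) T))
      rw [mul_left_comm, hQ₁ i, map_mul, ← pderiv_map]
    rw [heq]
    exact h3
  choose m hm using fun k => exists_pow_mul_mem t (hsq k)
  refine ⟨_, f, fun i l => C t ^ Finset.univ.sup m * Q₁ i l, Finset.univ.sup m + c₁, hf0, fun j hj => ?_, fun k => ?_⟩
  · refine exists_pow_mul_mem (T := T) t ?_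
    rw [hmapf, hker]
    exact Ideal.mem_map_of_mem ι hj
  · obtain ⟨d, hd⟩ := Nat.exists_eq_add_of_le (Finset.le_sup (f := m) (Finset.mem_univ k))
    have := Ideal.mul_mem_left _ (C t ^ d) (hm k)
    convert this using 1
    rw [hd]
    simp only [mul_sub, Finset.mul_sum, pow_add]
    congr 1
    · ring
    · exact Finset.sum_congr rfl fun i _ => Finset.sum_congr rfl fun l _ => by ring

theorem main [HenselianRing A (Ideal.span {t})] {N : ℕ}
    (hN : ∀ a : A, (∃ m : ℕ, t ^ m * a = 0) → t ^ N * a = 0)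
    {B BT : Type u} [CommRing B] [Algebra A B] [Algebra.FiniteType A B] [CommRing BT] [Algebra B BT] [Algebra A BT]
    [IsScalarTower A B BT] [Algebra T BT] [IsScalarTower A T BT]
    [IsLocalization (Algebra.algebraMapSubmonoid B (Submonoid.powers t)) BT] (hsm : Algebra.Smooth T BT)
    (m : ℕ) (σ : B →ₐ[A] AdicCompletion (Ideal.span {t}) A) :
    ∃ τ : B →ₐ[A] A,
      (Ideal.Quotient.mkₐ A (Ideal.span {t} ^ m)).comp τ = (AdicCompletion.evalₐ (Ideal.span {t}) m).comp σ := by
  obtain ⟨n, π, hπ⟩ := Algebra.FiniteType.iff_quotient_mvPolynomial''.1 ‹Algebra.FiniteType A B›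
  obtain ⟨s, f, Q, c, hf, hJ, hE⟩ := exists_data t hsm π hπ
  let M := m + N + 3 * c + 1
  choose a ha using fun i => Ideal.Quotient.mk_surjective (AdicCompletion.evalₐ (Ideal.span {t}) M (σ (π (X i))))
  have hev : ∀ p, Ideal.Quotient.mk (Ideal.span {t} ^ M) (eval a p) =
      AdicCompletion.evalₐ (Ideal.span {t}) M (σ (π p)) := by
    intro p
    induction p using MvPolynomial.induction_on with
    | C x => rw [eval_C, ← algebraMap_eq, π.commutes, σ.commutes, AlgHom.commutes]; rfl
    | add p q hp hq => simp only [map_add, hp, hq]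
    | mul_X p i hp => simp only [map_mul, hp, eval_X, ha]
  have hker : ∀ j, π j = 0 → eval a j ∈ Ideal.span {t ^ M} := fun j hj => by
    rw [← Ideal.span_singleton_pow, ← Ideal.Quotient.eq_zero_iff_mem, hev, hj, map_zero, map_zero]
  obtain ⟨b, hb, hba⟩ := exists_exact_zero t hN f Q c hE M (by omega) a (fun k => hker _ (hf k))
  have hcong : ∀ p, eval b p - eval a p ∈ Ideal.span {t ^ (M - c)} := fun p => by
    rw [← Ideal.Quotient.eq, eval, eval, ← RingHom.comp_apply, ← RingHom.comp_apply, MvPolynomial.comp_eval₂Hom,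
      MvPolynomial.comp_eval₂Hom]
    congr 2
    funext i
    exact Ideal.Quotient.eq.2 (hba i)
  have hle : Ideal.span {t ^ M} ≤ Ideal.span {t ^ (M - c)} :=
    Ideal.span_singleton_le_span_singleton.2 (pow_dvd_pow t (Nat.sub_le _ _))
  have hvan : ∀ j, π j = 0 → aeval b j = 0 := by
    intro j hj
    rw [aeval_eq_eval]
    obtain ⟨k, hk⟩ := hJ j hj
    have h1 : t ^ k * eval b j = 0 := by
      obtain ⟨g, hg⟩ := Ideal.mem_span_range_iff_exists_fun.1 hk
      have := congrArg (eval b) hg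
      rw [map_sum, map_mul, map_pow, eval_C] at this
      rw [← this]
      exact Finset.sum_eq_zero fun i _ => by rw [map_mul, hb, mul_zero]
    have h2 := add_mem (hcong j) (hle (hker j hj))
    rw [sub_add_cancel] at h2
    obtain ⟨ε, hε⟩ := Ideal.mem_span_singleton'.1 h2
    have h3 : t ^ N * ε = 0 := hN ε ⟨k + (M - c), by rw [pow_add, mul_assoc, mul_comm _ ε, hε, h1]⟩
    obtain ⟨d, hd⟩ := Nat.exists_eq_add_of_le (show N ≤ M - c by omega)
    rw [← hε, hd, pow_add, mul_comm, mul_right_comm, h3, zero_mul]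
  refine ⟨AlgHom.liftOfSurjective π hπ (aeval b) (fun j hj => hvan j hj), AlgHom.ext fun z => ?_⟩
  obtain ⟨p, rfl⟩ := hπ z
  rw [AlgHom.comp_apply, AlgHom.comp_apply]
  erw [AlgHom.liftOfSurjective_apply π hπ (aeval b)]
  rw [aeval_eq_eval, Ideal.Quotient.mkₐ_eq_mk]
  have h4 : Ideal.span {t ^ (M - c)} ≤ Ideal.span {t} ^ m := by
    rw [Ideal.span_singleton_pow]
    exact Ideal.span_singleton_le_span_singleton.2 (pow_dvd_pow t (by omega))
  rw [Ideal.Quotient.eq.2 (h4 (hcong p))]
  have hMm : Ideal.span {t} ^ M ≤ Ideal.span {t} ^ m := Ideal.pow_le_pow_right (by omega)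
  have h5 := congrArg (Ideal.Quotient.factor hMm) (hev p)
  rw [Ideal.Quotient.factor_mk] at h5
  rw [h5]
  generalize σ (π p) = x
  induction x using AdicCompletion.induction_on with
  | h x =>
    rw [AdicCompletion.evalₐ_mk, AdicCompletion.evalₐ_mk, Ideal.Quotient.factor_mk]
    refine Ideal.Quotient.eq.2 ?_
    have := (SModEq.sub_mem.1 (x.2 (show m ≤ M by omega)))
    rw [smul_eq_mul, Ideal.mul_top] at this
    simpa using neg_mem this

end Data

end Groth.Agent.H3CAlg.ElkikPrincipal
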