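import Groth.Agent.H29Fitt.Rank
import Mathlib

/-!
# Fitting ideals of differentials and `Ext¹` for reduced complete intersections
-/

set_option autoImplicit false
universe u

open TensorProduct CategoryTheory CategoryTheory.Abelian

namespace Groth.Agent.H3CAlg.FittExtCI

section Ext

variable {B : Type u} [CommRing B] {c r : ℕ}

/-- The two Fitting ideals attached to a matrix and its transpose. -/
theorem J_eq_J_transpose {Ω E : Type u} [AddCommGroup Ω] [Module B Ω] [AddCommGroup E] [Module B E]
    (A : Fin c → Fin r → B) (y : Fin r → Ω) (e : Fin c → E)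
    (hy : ∀ w : Fin r → B, ∑ j, w j • y j = 0 ↔ w ∈ Submodule.span B (Set.range A))
    (he : ∀ v : Fin c → B, ∑ i, v i • e i = 0 ↔
      v ∈ Submodule.span B (Set.range fun j i => A i j)) (m : ℕ) :
    H29Fitt.J (R := B) y m = H29Fitt.J e m := by
  apply le_antisymm
  · refine H29Fitt.J_le_of_span (Set.range A) (fun w hw => (hy w).mp hw) fun z f hz => ?_
    choose g hg using hz
    rw [← Matrix.det_transpose]
    have : (Matrix.of fun a b => z b (f a)).transpose =
        Matrix.of fun a b => (fun (t : Fin m) (i : Fin c) => A i (f t)) b (g a) := by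
      ext a b
      simp [← hg]
    rw [this]
    exact H29Fitt.det_mem_J (fun t => (he _).mpr (Submodule.subset_span ⟨f t, rfl⟩)) g
  · refine H29Fitt.J_le_of_span (Set.range fun j i => A i j) (fun w hw => (he w).mp hw) fun z f hz => ?_
    choose g hg using hz
    rw [← Matrix.det_transpose]
    have : (Matrix.of fun a b => z b (f a)).transpose =
        Matrix.of fun a b => (fun (t : Fin m) => A (f t)) b (g a) := by
      ext a b
      simp [← hg]
    rw [this]
    exact H29Fitt.det_mem_J (fun t => (hy _).mpr (Submodule.subset_span ⟨f t, rfl⟩)) g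

/-- Generators and relations of `Ext¹(Ω, B)` for a presentation of `Ω` with free kernel. -/
theorem exists_ext_presentation {Ω : Type u} [AddCommGroup Ω] [Module B Ω] (A : Fin c → Fin r → B)
    (π : (Fin r → B) →ₗ[B] Ω) (hπ : Function.Surjective π)
    (hker : LinearMap.ker π = Submodule.span B (Set.range A)) (hA : LinearIndependent B A) :
    ∃ e : Fin c → Ext.{u} (ModuleCat.of B Ω) (ModuleCat.of B B) 1,
      Submodule.span B (Set.range e) = ⊤ ∧
      ∀ v : Fin c → B, ∑ i, v i • e i = 0 ↔ v ∈ Submodule.span B (Set.range fun j i => A i j) := by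
  classical
  let ψ : (Fin c → B) →ₗ[B] (Fin r → B) := Fintype.linearCombination B A
  have hψ : Function.Injective ψ := hA.fintypeLinearCombination_injective
  have hrange : LinearMap.range ψ = LinearMap.ker π := by
    rw [hker, Fintype.range_linearCombination]
  have hexact : Function.Exact ψ π := LinearMap.exact_iff.mpr hrange.symm
  let S : ShortComplex (ModuleCat.{u} B) := ShortComplex.mk (ModuleCat.ofHom ψ) (ModuleCat.ofHom π)
    (ModuleCat.hom_ext (LinearMap.ext fun w => hexact.apply_apply_eq_zero w))
  have hS : S.ShortExact :=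
    { exact := by
        rw [ShortComplex.moduleCat_exact_iff]
        intro w hw
        exact (hexact w).mp hw
      mono_f := (ModuleCat.mono_iff_injective _).mpr hψ
      epi_g := (ModuleCat.epi_iff_surjective _).mpr hπ }
  let Y := ModuleCat.of B B
  let δ : ((Fin c → B) →ₗ[B] B) →ₗ[B] Ext.{u} (ModuleCat.of B Ω) Y 1 :=
    { toFun := fun f => hS.extClass.comp (Ext.mk₀ (ModuleCat.ofHom f)) (add_zero 1)
      map_add' := fun f g => by
        rw [ModuleCat.ofHom_add, Ext.mk₀_add, Ext.comp_add]
      map_smul' := fun b f => by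
        rw [RingHom.id_apply, show (ModuleCat.ofHom (b • f) : ModuleCat.of B (Fin c → B) ⟶ Y) =
            b • ModuleCat.ofHom f from rfl, Ext.mk₀_smul, Ext.comp_smul] }
  have hsurj : Function.Surjective δ := by
    intro x
    have : Projective S.X₂ := ModuleCat.projective_of_free (M := S.X₂) (Pi.basisFun B (Fin r))
    obtain ⟨x₁, hx₁⟩ := Ext.contravariant_sequence_exact₃ hS Y x
      (Ext.eq_zero_of_projective _) (n₀ := 0) rfl
    obtain ⟨g, rfl⟩ := (Ext.mk₀_bijective S.X₁ Y).2 x₁
    exact ⟨g.hom, hx₁⟩
  have hzero : ∀ f, δ f = 0 ↔ ∃ g : (Fin r → B) →ₗ[B] B, g ∘ₗ ψ = f := by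
    intro f
    constructor
    · intro h
      obtain ⟨x₂, hx₂⟩ := Ext.contravariant_sequence_exact₁ hS Y (Ext.mk₀ (ModuleCat.ofHom f)) rfl h
      obtain ⟨g, rfl⟩ := (Ext.mk₀_bijective S.X₂ Y).2 x₂
      rw [Ext.mk₀_comp_mk₀] at hx₂
      refine ⟨g.hom, ?_⟩
      exact congrArg ModuleCat.Hom.hom ((Ext.mk₀_bijective _ _).1 hx₂)
    · rintro ⟨g, rfl⟩
      show hS.extClass.comp (Ext.mk₀ (ModuleCat.ofHom (g ∘ₗ ψ))) (add_zero 1) = 0
      rw [show (ModuleCat.ofHom (g ∘ₗ ψ) : S.X₁ ⟶ Y) = S.f ≫ ModuleCat.ofHom g from rfl,
        ← Ext.mk₀_comp_mk₀, ← Ext.comp_assoc hS.extClass (Ext.mk₀ S.f) _ (add_zero 1) (zero_add 0)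
          (by omega), hS.extClass_comp, Ext.zero_comp]
  have hsum : ∀ v : Fin c → B, ∀ f : (Fin c → B) →ₗ[B] B,
      (∑ i, v i • LinearMap.proj i : (Fin c → B) →ₗ[B] B) = f ↔ ∀ i, v i = f (Pi.single i 1) := by
    intro v f
    constructor
    · rintro rfl i
      simp [LinearMap.sum_apply, Pi.single_apply]
    · intro h
      ext i
      simp [LinearMap.sum_apply, Pi.single_apply, h]
  refine ⟨fun i => δ (LinearMap.proj i), ?_, fun v => ?_⟩
  · refine eq_top_iff.mpr fun x _ => ?_
    obtain ⟨f, rfl⟩ := hsurj x
    rw [← ((hsum (fun i => f (Pi.single i 1)) f).mpr fun i => rfl), map_sum]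
    refine Submodule.sum_mem _ fun i _ => ?_
    rw [map_smul]
    exact Submodule.smul_mem _ _ (Submodule.subset_span ⟨i, rfl⟩)
  · rw [← Finset.sum_congr rfl (fun i _ => map_smul δ (v i) (LinearMap.proj i)), ← map_sum, hzero,
      Submodule.mem_span_range_iff_exists_fun]
    constructor
    · rintro ⟨g, hg⟩
      refine ⟨fun j => g (Pi.single j 1), funext fun i => ?_⟩
      have h := (hsum v _).mp hg.symm i
      rw [h, LinearMap.comp_apply, Fintype.linearCombination_apply_single, one_smul,
        LinearMap.pi_apply_eq_sum_univ g (A i), Finset.sum_apply]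
      refine Finset.sum_congr rfl fun j _ => ?_
      simp only [Pi.smul_apply]
      rw [show (Pi.single j (1 : B) : Fin r → B) = fun l => if j = l then 1 else 0 by
        ext l; simp [Pi.single_apply, eq_comm]]
      simp [mul_comm]
    · rintro ⟨w, rfl⟩
      refine ⟨Fintype.linearCombination B w, ((hsum _ _).mpr fun i => ?_).symm⟩
      rw [LinearMap.comp_apply, Fintype.linearCombination_apply_single, one_smul,
        Fintype.linearCombination_apply, Finset.sum_apply]
      exact Finset.sum_congr rfl fun j _ => by simp [mul_comm]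

end Ext

/-- Elements independent in the cotangent space of a formally smooth local algebra have independent
differentials, when the residue field is formally smooth. -/
theorem mem_maximalIdeal_of_sum_tmul_D_eq_zero {k : Type u} [Field k] {L : Type u} [CommRing L] [IsLocalRing L]
    [Algebra k L] [Algebra.FormallySmooth k L] [Algebra.FormallySmooth k (IsLocalRing.ResidueField L)]
    {c : ℕ} (v : Fin c → IsLocalRing.maximalIdeal L)
    (hind : LinearIndependent (IsLocalRing.ResidueField L) fun i => (IsLocalRing.maximalIdeal L).toCotangent (v i))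
    (w : Fin c → L)
    (hw : ∑ i, (algebraMap L (IsLocalRing.ResidueField L) (w i)) ⊗ₜ[L] KaehlerDifferential.D k L (v i : L) = 0) :
    ∀ i, w i ∈ IsLocalRing.maximalIdeal L := by
  have hsurj : Function.Surjective (algebraMap L (IsLocalRing.ResidueField L)) := IsLocalRing.residue_surjective
  obtain ⟨l, hl⟩ := (Algebra.FormallySmooth.iff_split_injection (R := k) (P := L)
    (A := IsLocalRing.ResidueField L) hsurj).mp inferInstance
  have hker : ∀ i, (v i : L) ∈ RingHom.ker (algebraMap L (IsLocalRing.ResidueField L)) := fun i =>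
    (IsLocalRing.residue_eq_zero_iff _).mpr (v i).2
  have hz : ∑ i, w i • (RingHom.ker (algebraMap L (IsLocalRing.ResidueField L))).toCotangent ⟨v i, hker i⟩ = 0 := by
    have hinj : Function.Injective (KaehlerDifferential.kerCotangentToTensor k L (IsLocalRing.ResidueField L)) :=
      fun x y hxy => by
        rw [← LinearMap.id_apply (R := L) x, ← LinearMap.id_apply (R := L) y, ← hl,
          LinearMap.comp_apply, LinearMap.comp_apply, hxy]
    refine hinj ?_
    rw [map_zero, map_sum, ← hw]
    refine Finset.sum_congr rfl fun i _ => ?_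
    rw [map_smul, KaehlerDifferential.kerCotangentToTensor_toCotangent, TensorProduct.smul_tmul',
      Algebra.smul_def, mul_one]
  simp only [← map_smul, ← map_sum, Ideal.toCotangent_eq_zero] at hz
  have hk : RingHom.ker (algebraMap L (IsLocalRing.ResidueField L)) = IsLocalRing.maximalIdeal L :=
    IsLocalRing.ker_residue
  rw [AddSubmonoidClass.coe_finsetSum] at hz
  simp only [SetLike.val_smul] at hz
  rw [hk] at hz
  have hz' : ∑ i, algebraMap L (IsLocalRing.ResidueField L) (w i) •
      (IsLocalRing.maximalIdeal L).toCotangent (v i) = 0 := by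
    simp only [algebraMap_smul, ← map_smul, ← map_sum, Ideal.toCotangent_eq_zero]
    rw [AddSubmonoidClass.coe_finsetSum]
    simpa [SetLike.val_smul] using hz
  intro i
  exact (IsLocalRing.residue_eq_zero_iff _).mp (Fintype.linearIndependent_iff.mp hind _ hz' i)

/-- The rows of the Jacobian are independent modulo a prime that is minimal over a radical
complete intersection. -/
theorem mem_of_sum_tmul_D_eq_zero {k : Type u} [Field k] [PerfectField k] {r c : ℕ}
    (a : Fin c → MvPolynomial (Fin r) k)
    (ha : RingTheory.Sequence.IsRegular (MvPolynomial (Fin r) k) (List.ofFn a))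
    (Q : Ideal (MvPolynomial (Fin r) k)) [Q.IsPrime] (haQ : ∀ i, a i ∈ Q)
    (hmin : ∀ x ∈ Q, ∃ s ∉ Q, s * x ∈ Ideal.span (Set.range a))
    (w : Fin c → MvPolynomial (Fin r) k)
    (hw : ∑ i, (algebraMap _ (IsLocalRing.ResidueField (Localization.AtPrime Q)) (w i)) ⊗ₜ[Localization.AtPrime Q]
      KaehlerDifferential.D k (Localization.AtPrime Q) (algebraMap _ (Localization.AtPrime Q) (a i)) = 0) :
    ∀ i, w i ∈ Q := by
  classical
  let L := Localization.AtPrime Q
  let K := IsLocalRing.ResidueField L
  let a' : Fin c → L := fun i => algebraMap _ L (a i)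
  have ha'mem : ∀ i, a' i ∈ IsLocalRing.maximalIdeal L := fun i => by
    rw [← Localization.AtPrime.map_eq_maximalIdeal]
    exact Ideal.mem_map_of_mem _ (haQ i)
  have hspan : IsLocalRing.maximalIdeal L = Ideal.span (Set.range a') := by
    refine le_antisymm ?_ (Ideal.span_le.mpr (by rintro _ ⟨i, rfl⟩; exact ha'mem i))
    rw [← Localization.AtPrime.map_eq_maximalIdeal, Ideal.map_le_iff_le_comap]
    intro x hx
    obtain ⟨s, hs, hsx⟩ := hmin x hx
    have h := Ideal.mem_map_of_mem (algebraMap _ L) hsx
    rw [Ideal.map_span, ← Set.range_comp, map_mul] at h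
    exact (Ideal.unit_mul_mem_iff_mem _ (IsLocalization.map_units L (⟨s, hs⟩ : Q.primeCompl))).mp h
  have hreg' : RingTheory.Sequence.IsRegular L ((List.ofFn a).map (algebraMap _ L)) :=
    ha.toIsWeaklyRegular.isRegular_of_isLocalization_of_mem L Q (by
      intro x hx
      obtain ⟨i, rfl⟩ := List.mem_ofFn.mp hx
      exact haQ i)
  have hdim : (c : WithBot ℕ∞) ≤ ringKrullDim L := by
    rw [← ringKrullDim_add_length_eq_ringKrullDim_of_isRegular _ hreg', List.length_map, List.length_ofFn]
    have h0 : (0 : WithBot ℕ∞) ≤ ringKrullDim (L ⧸ Ideal.ofList ((List.ofFn a).map (algebraMap _ L))) := by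
      have : Nontrivial (L ⧸ Ideal.ofList ((List.ofFn a).map (algebraMap _ L))) := by
        refine Ideal.Quotient.nontrivial_iff.mpr fun h => ?_
        exact hreg'.top_ne_smul (by rw [h, Submodule.top_smul])
      exact ringKrullDim_nonneg_of_nontrivial
    exact le_add_of_nonneg_left h0
  -- independence in the cotangent space
  have hind : LinearIndependent K fun i => (IsLocalRing.maximalIdeal L).toCotangent ⟨a' i, ha'mem i⟩ := by
    have htop : Submodule.span K (Set.range fun i => (IsLocalRing.maximalIdeal L).toCotangent ⟨a' i, ha'mem i⟩) = ⊤ := by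
      refine IsLocalRing.CotangentSpace.span_image_eq_top_iff.mpr ?_ |> fun h => by
        rw [show (Set.range fun i => (IsLocalRing.maximalIdeal L).toCotangent ⟨a' i, ha'mem i⟩) =
          (IsLocalRing.maximalIdeal L).toCotangent '' Set.range (fun i => (⟨a' i, ha'mem i⟩ : IsLocalRing.maximalIdeal L)) from
            Set.range_comp _ _]
        exact h
      refine Submodule.map_injective_of_injective (IsLocalRing.maximalIdeal L).injective_subtype ?_
      rw [Submodule.map_span, ← Set.range_comp, Submodule.map_subtype_top]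
      exact hspan.symm
    refine linearIndependent_of_top_le_span_of_card_le_finrank htop.ge ?_
    rw [Fintype.card_fin]
    have h := (IsRegularLocalRing.iff_finrank_cotangentSpace L).mp inferInstance
    rw [← h] at hdim
    exact_mod_cast hdim
  haveI : Algebra.EssFiniteType (MvPolynomial (Fin r) k) L := Algebra.EssFiniteType.of_isLocalization L Q.primeCompl
  haveI : Algebra.EssFiniteType k L := Algebra.EssFiniteType.comp k (MvPolynomial (Fin r) k) L
  haveI : Algebra.FiniteType L K := Algebra.FiniteType.of_surjective (Algebra.ofId L K) IsLocalRing.residue_surjective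
  haveI : Algebra.EssFiniteType k K := Algebra.EssFiniteType.comp k L K
  haveI : Algebra.FormallySmooth k K := Algebra.FormallySmooth.of_perfectField
  intro i
  have := mem_maximalIdeal_of_sum_tmul_D_eq_zero (k := k) (fun i => ⟨a' i, ha'mem i⟩) hind
    (fun i => algebraMap _ L (w i)) (by
      rw [← hw]
      exact Finset.sum_congr rfl fun i _ => by rw [← IsScalarTower.algebraMap_apply]) i
  exact (IsLocalization.AtPrime.to_map_mem_maximal_iff L Q (w i)).mp this

/-- The Jacobian presentation of the differentials of a reduced complete intersection. -/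
theorem jacobian {k : Type u} [Field k] [PerfectField k] {r c : ℕ} {B : Type u} [CommRing B] [Algebra k B]
    [IsReduced B] [Algebra (MvPolynomial (Fin r) k) B] [IsScalarTower k (MvPolynomial (Fin r) k) B]
    (hφ : Function.Surjective (algebraMap (MvPolynomial (Fin r) k) B))
    (a : Fin c → MvPolynomial (Fin r) k)
    (ha : RingTheory.Sequence.IsRegular (MvPolynomial (Fin r) k) (List.ofFn a))
    (hker : RingHom.ker (algebraMap (MvPolynomial (Fin r) k) B) = Ideal.span (Set.range a)) :
    ∃ (A : Fin c → Fin r → B) (π : (Fin r → B) →ₗ[B] Ω[B⁄k]), Function.Surjective π ∧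
      LinearMap.ker π = Submodule.span B (Set.range A) ∧ LinearIndependent B A ∧ c ≤ r ∧
      ∀ i j, A i j = algebraMap (MvPolynomial (Fin r) k) B (MvPolynomial.pderiv j (a i)) := by
  classical
  let P := MvPolynomial (Fin r) k
  let bB : Module.Basis (Fin r) B (B ⊗[P] Ω[P⁄k]) :=
    (KaehlerDifferential.mvPolynomialBasis k (Fin r)).baseChange B
  let d : Fin c → B ⊗[P] Ω[P⁄k] := fun i => 1 ⊗ₜ KaehlerDifferential.D k P (a i)
  let A : Fin c → Fin r → B := fun i => bB.equivFun (d i)
  let π : (Fin r → B) →ₗ[B] Ω[B⁄k] :=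
    KaehlerDifferential.mapBaseChange k P B ∘ₗ bB.equivFun.symm.toLinearMap
  have hd : LinearIndependent B d := by
    rw [Fintype.linearIndependent_iff]
    intro g hg i₀
    have : IsNoetherianRing B := isNoetherianRing_of_surjective P B _ hφ
    suffices h : g i₀ ∈ sInf (minimalPrimes B) by
      rwa [minimalPrimes, Ideal.sInf_minimalPrimes,
        show (⊥ : Ideal B).radical = ⊥ from nilradical_eq_zero B, Ideal.mem_bot] at h
    rw [Ideal.mem_sInf]
    intro q hq
    haveI := hq.1.1
    let Q : Ideal P := q.comap (algebraMap P B)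
    haveI : Q.IsPrime := q.comap_isPrime _
    have haQ : ∀ i, a i ∈ Q := fun i => by
      have : a i ∈ RingHom.ker (algebraMap P B) := hker ▸ Ideal.subset_span ⟨i, rfl⟩
      show algebraMap P B (a i) ∈ q
      rw [RingHom.mem_ker.mp this]
      exact q.zero_mem
    have hmin : ∀ x ∈ Q, ∃ s ∉ Q, s * x ∈ Ideal.span (Set.range a) := by
      intro x hx
      let Bq := Localization.AtPrime q
      have h0 : algebraMap B Bq (algebraMap P B x) = 0 := by
        have hnil : algebraMap B Bq (algebraMap P B x) ∈ nilradical Bq := by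
          haveI : Ring.KrullDimLE 0 Bq := .of_isLocalization _ hq _
          rw [Ring.KrullDimLE.nilradical_eq_maximalIdeal]
          exact (IsLocalization.AtPrime.to_map_mem_maximal_iff Bq q _).mpr hx
        rw [nilradical_eq_zero Bq] at hnil
        exact hnil
      obtain ⟨⟨t, ht⟩, htx⟩ := (IsLocalization.map_eq_zero_iff q.primeCompl Bq _).mp h0
      obtain ⟨s, rfl⟩ := hφ t
      refine ⟨s, fun h => ht h, ?_⟩
      rw [← hker, RingHom.mem_ker, map_mul]
      exact htx
    choose w hw using fun i => hφ (g i)
    let L := Localization.AtPrime Q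
    let K := IsLocalRing.ResidueField L
    have hQK : ∀ x ∈ RingHom.ker (algebraMap P B), algebraMap P K x = 0 := fun x hx => by
      rw [IsScalarTower.algebraMap_apply P L K]
      exact (IsLocalRing.residue_eq_zero_iff _).mpr ((IsLocalization.AtPrime.to_map_mem_maximal_iff L Q x).mpr
        (show algebraMap P B x ∈ q by rw [RingHom.mem_ker.mp hx]; exact q.zero_mem))
    let χ : B →+* K := (algebraMap P B).liftOfSurjective hφ ⟨algebraMap P K, hQK⟩
    have hχ : ∀ x, χ (algebraMap P B x) = algebraMap P K x := fun x =>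
      RingHom.liftOfRightInverse_comp_apply _ _ _ _ x
    letI := χ.toAlgebra
    haveI : IsScalarTower P B K := IsScalarTower.of_algebraMap_eq fun x => (hχ x).symm
    let T : B ⊗[P] Ω[P⁄k] →ₗ[P] K ⊗[L] Ω[L⁄k] :=
      TensorProduct.lift (LinearMap.mk₂ P (fun b ω => algebraMap B K b ⊗ₜ[L] KaehlerDifferential.map k k P L ω)
        (fun b b' ω => by simp [TensorProduct.add_tmul])
        (fun p b ω => by
          rw [Algebra.smul_def p b, map_mul, ← IsScalarTower.algebraMap_apply,
            TensorProduct.smul_tmul', Algebra.smul_def])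
        (fun b ω ω' => by simp [TensorProduct.tmul_add])
        (fun p b ω => by
          rw [map_smul, ← algebraMap_smul L p, TensorProduct.tmul_smul, algebraMap_smul]))
    have hT := congrArg T hg
    rw [map_zero, map_sum] at hT
    have hgi : ∑ i, (algebraMap P K (w i)) ⊗ₜ[L] KaehlerDifferential.D k L (algebraMap P L (a i)) = 0 := by
      rw [← hT]
      refine Finset.sum_congr rfl fun i _ => ?_
      simp only [d, T, TensorProduct.smul_tmul', smul_eq_mul, mul_one, TensorProduct.lift.tmul,
        LinearMap.mk₂_apply, KaehlerDifferential.map_D]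
      rw [← hw i, ← IsScalarTower.algebraMap_apply]
    have := mem_of_sum_tmul_D_eq_zero a ha Q haQ hmin w hgi i₀
    rw [← hw i₀]
    exact this
  refine ⟨A, π, (KaehlerDifferential.mapBaseChange_surjective k P B hφ).comp bB.equivFun.symm.surjective,
    ?_, hd.map' bB.equivFun.toLinearMap bB.equivFun.ker, ?_, fun i j => ?_⟩
  · have hexact := KaehlerDifferential.exact_kerCotangentToTensor_mapBaseChange k P B hφ
    refine le_antisymm (fun v hv => ?_) (Submodule.span_le.mpr ?_)
    · have hmem : bB.equivFun.symm v ∈ Submodule.span B (Set.range d) := by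
        obtain ⟨z, hz⟩ := (hexact (bB.equivFun.symm v)).mp hv
        rw [show bB.equivFun.symm v = KaehlerDifferential.kerCotangentToTensor k P B z from hz.symm]
        obtain ⟨⟨x, hx⟩, rfl⟩ := Ideal.toCotangent_surjective _ z
        rw [KaehlerDifferential.kerCotangentToTensor_toCotangent]
        have hx' : x ∈ Ideal.span (Set.range a) := hker ▸ hx
        obtain ⟨t, rfl⟩ := (Submodule.mem_span_range_iff_exists_fun P).mp hx'
        rw [map_sum, TensorProduct.tmul_sum]
        refine Submodule.sum_mem _ fun i _ => ?_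
        rw [smul_eq_mul, Derivation.leibniz, TensorProduct.tmul_add, TensorProduct.tmul_smul,
          TensorProduct.tmul_smul, TensorProduct.smul_tmul' (a i)]
        have : a i ∈ RingHom.ker (algebraMap P B) := hker ▸ Ideal.subset_span ⟨i, rfl⟩
        rw [Algebra.smul_def (a i) (1 : B), RingHom.mem_ker.mp this, zero_mul, TensorProduct.zero_tmul,
          add_zero]
        exact Submodule.smul_of_tower_mem _ _ (Submodule.subset_span ⟨i, rfl⟩)
      have := Submodule.mem_map_of_mem (f := bB.equivFun.toLinearMap) hmem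
      rw [Submodule.map_span, ← Set.range_comp] at this
      rw [show v = bB.equivFun (bB.equivFun.symm v) from (LinearEquiv.apply_symm_apply _ _).symm]
      exact this
    · rintro _ ⟨i, rfl⟩
      have : a i ∈ RingHom.ker (algebraMap P B) := hker ▸ Ideal.subset_span ⟨i, rfl⟩
      show KaehlerDifferential.mapBaseChange k P B (bB.equivFun.symm (bB.equivFun (d i))) = 0
      rw [LinearEquiv.symm_apply_apply]
      simp only [d, KaehlerDifferential.mapBaseChange_tmul, KaehlerDifferential.map_D,
        RingHom.mem_ker.mp this, map_zero, smul_zero]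
  · by_cases hnt : Nontrivial B
    · have := (hd.map' bB.equivFun.toLinearMap bB.equivFun.ker).fintype_card_le_finrank
      simpa using this
    · exfalso
      rw [not_nontrivial_iff_subsingleton] at hnt
      refine ha.top_ne_smul ?_
      have : Ideal.ofList (List.ofFn a) = ⊤ := by
        rw [Ideal.ofList, show {x | x ∈ List.ofFn a} = Set.range a by ext; simp [List.mem_ofFn], ← hker,
          Ideal.eq_top_iff_one, RingHom.mem_ker]
        exact Subsingleton.elim _ _
      rw [this, Submodule.top_smul]
  · simp only [A, d, bB, Module.Basis.equivFun_apply]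
    erw [Module.Basis.baseChange_repr_tmul, KaehlerDifferential.mvPolynomialBasis_repr_apply]
    rw [Algebra.smul_def, mul_one]

theorem fitting_eq {k : Type u} [Field k] [PerfectField k] {r c : ℕ} {B : Type u} [CommRing B] [Algebra k B]
    [IsReduced B] [Algebra (MvPolynomial (Fin r) k) B] [IsScalarTower k (MvPolynomial (Fin r) k) B]
    (hφ : Function.Surjective (algebraMap (MvPolynomial (Fin r) k) B))
    (a : Fin c → MvPolynomial (Fin r) k)
    (ha : RingTheory.Sequence.IsRegular (MvPolynomial (Fin r) k) (List.ofFn a))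
    (hker : RingHom.ker (algebraMap (MvPolynomial (Fin r) k) B) = Ideal.span (Set.range a)) :
    Fitt.ideal B Ω[B⁄k] (r - c) =
      Fitt.ideal B (Ext.{u} (ModuleCat.of B Ω[B⁄k]) (ModuleCat.of B B) 1) 0 := by
  obtain ⟨A, π, hπ, hkerπ, hA, hcr, -⟩ := jacobian hφ a ha hker
  obtain ⟨e, he, hrel⟩ := exists_ext_presentation A π hπ hkerπ hA
  classical
  have hy : Submodule.span B (Set.range fun j => π (Pi.single j 1)) = ⊤ := by
    rw [show (fun j => π (Pi.single j (1 : B))) = π ∘ (Pi.basisFun B (Fin r)) by
      funext j; simp, Set.range_comp, ← Submodule.map_span, Module.Basis.span_eq, Submodule.map_top,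
      LinearMap.range_eq_top.mpr hπ]
  rw [H29Fitt.ideal_eq _ hy, H29Fitt.ideal_eq _ he, Nat.sub_zero, Nat.sub_sub_self hcr]
  refine J_eq_J_transpose A _ e (fun w => ?_) hrel c
  rw [← hkerπ, LinearMap.mem_ker, LinearMap.pi_apply_eq_sum_univ π w]
  refine iff_of_eq (congrArg (· = 0) (Finset.sum_congr rfl fun j _ => ?_))
  congr 2
  ext l
  simp [Pi.single_apply, eq_comm]

end Groth.Agent.H3CAlg.FittExtCI
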