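import Groth.Agent.H3CAlg.CompletedKaehler
import Groth.Agent.H3CAlg.FittExtCI

/-!
# Formal complete intersections over a power series ring with reduced special fibre
-/

set_option autoImplicit false
universe u

open TensorProduct CategoryTheory CategoryTheory.Abelian MvPolynomial

namespace Groth.Agent.H3CAlg.CompletedCI

variable {k : Type u} [Field k] {r c : ℕ}

/-- Reduction modulo the variable of the base. -/
noncomputable abbrev χ : MvPolynomial (Fin r) (PowerSeries k) →+* MvPolynomial (Fin r) k :=
  MvPolynomial.map (PowerSeries.constantCoeff (R := k))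

theorem ker_χ : RingHom.ker (χ (k := k) (r := r)) = Ideal.span {C PowerSeries.X} := by
  have hk : RingHom.ker (PowerSeries.constantCoeff (R := k)) = Ideal.span {PowerSeries.X} := by
    ext f
    rw [RingHom.mem_ker, Ideal.mem_span_singleton, PowerSeries.X_dvd_iff]
  rw [χ, MvPolynomial.ker_map, hk, Ideal.map_span, Set.image_singleton]

theorem χ_surjective : Function.Surjective (χ (k := k) (r := r)) :=
  MvPolynomial.map_surjective _ fun x => ⟨PowerSeries.C x, PowerSeries.constantCoeff_C x⟩

abbrev Phat (k : Type u) [Field k] (r : ℕ) : Type u :=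
  AdicCompletion (Ideal.span {MvPolynomial.C (σ := Fin r) (PowerSeries.X (R := k))})
    (MvPolynomial (Fin r) (PowerSeries k))

theorem evalₐ_eq_zero_iff (n : ℕ) (x : Phat k r) :
    AdicCompletion.evalₐ (Ideal.span {C (σ := Fin r) (PowerSeries.X (R := k))}) n x = 0 ↔
      ∃ y : Phat k r, x = algebraMap (PowerSeries k) (Phat k r) PowerSeries.X ^ n * y := by
  let I := Ideal.span {C (σ := Fin r) (PowerSeries.X (R := k))}
  have hfac : AdicCompletion.evalₐ I n x = 0 ↔ AdicCompletion.eval I _ n x = 0 := by
    simp only [AdicCompletion.evalₐ, AlgHom.comp_apply, AlgEquiv.coe_toAlgHom]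
    exact (map_eq_zero_iff _ (AlgEquiv.injective _))
  rw [hfac, ← LinearMap.mem_ker, ← AdicCompletion.pow_smul_top_eq_ker_eval (I := I)
    (M := MvPolynomial (Fin r) (PowerSeries k)) (Submodule.fg_span_singleton _),
    CompletedKaehler.mem_pow_smul_iff]
  refine exists_congr fun y => ?_
  rw [eq_comm]
  refine iff_of_eq (congrArg (x = ·) ?_)
  rw [IsScalarTower.algebraMap_apply (PowerSeries k) (MvPolynomial (Fin r) (PowerSeries k)) (Phat k r)]
  simp only [← map_pow, MvPolynomial.algebraMap_eq]
  exact Algebra.smul_def (A := Phat k r) (C (σ := Fin r) (PowerSeries.X (R := k) ^ n)) y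

variable (B : Type u) [CommRing B] [Algebra (PowerSeries k) B]

/-- The presentation data attached to a quotient of the completed polynomial ring. -/
theorem exists_data (a : Fin c → Phat k r) (ψ : Phat k r →ₐ[PowerSeries k] B) (hψ : Function.Surjective ψ)
    (hker : RingHom.ker ψ.toRingHom = Ideal.span (Set.range a)) :
    ∃ D : CompletedKaehler.Data (PowerSeries k) (PowerSeries.X (R := k)) B r c,
      ∀ n i, Ideal.Quotient.mk (Ideal.span {C (σ := Fin r) (PowerSeries.X (R := k))} ^ n) (D.a n i) =
        AdicCompletion.evalₐ _ n (a i) := by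
  let I := Ideal.span {C (σ := Fin r) (PowerSeries.X (R := k))}
  choose p hp using fun (n : ℕ) (x : Phat k r) => Ideal.Quotient.mk_surjective (AdicCompletion.evalₐ I n x)
  let ι := IsScalarTower.toAlgHom (PowerSeries k) (MvPolynomial (Fin r) (PowerSeries k)) (Phat k r)
  have happrox : ∀ n x, algebraMap (PowerSeries k) B PowerSeries.X ^ n ∣ ψ (ι (p n x)) - ψ x := by
    intro n x
    have h0 : AdicCompletion.evalₐ I n (ι (p n x) - x) = 0 := by
      rw [map_sub, sub_eq_zero]
      exact (AlgHom.commutes (AdicCompletion.evalₐ I n) (p n x)).trans (hp n x)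
    obtain ⟨y, hy⟩ := (evalₐ_eq_zero_iff n _).mp h0
    rw [← map_sub, hy, map_mul, map_pow, AlgHom.commutes]
    exact dvd_mul_right _ _
  refine ⟨⟨ψ.comp ι, fun n i => p n (a i), ?_, ?_, ?_, ?_⟩, fun n i => hp n (a i)⟩
  · intro n b
    obtain ⟨x, rfl⟩ := hψ b
    exact ⟨p n x, happrox n x⟩
  · intro n i
    have : a i ∈ RingHom.ker ψ.toRingHom := hker ▸ Ideal.subset_span ⟨i, rfl⟩
    simpa [show ψ (a i) = 0 from this] using happrox n (a i)
  · intro n i
    rw [← Ideal.mem_span_singleton, ← Ideal.span_singleton_pow, ← Ideal.Quotient.eq, hp]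
    have h0 : AdicCompletion.evalₐ I (n + 1) (ι (p (n + 1) (a i)) - a i) = 0 := by
      rw [map_sub, sub_eq_zero]
      exact (AlgHom.commutes (AdicCompletion.evalₐ I (n + 1)) _).trans (hp (n + 1) (a i))
    obtain ⟨y, hy⟩ := (evalₐ_eq_zero_iff (n + 1) _).mp h0
    have h1 : AdicCompletion.evalₐ I n (ι (p (n + 1) (a i)) - a i) = 0 :=
      (evalₐ_eq_zero_iff n _).mpr ⟨algebraMap (PowerSeries k) (Phat k r) PowerSeries.X * y, by
        rw [hy, pow_succ, mul_assoc]⟩
    rw [map_sub, sub_eq_zero] at h1
    exact (AlgHom.commutes (AdicCompletion.evalₐ I n) _).symm.trans h1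
  · intro n q hq
    obtain ⟨z, hz⟩ := hq
    obtain ⟨y, rfl⟩ := hψ z
    have h0 : ι q - algebraMap (PowerSeries k) (Phat k r) PowerSeries.X ^ n * y ∈ RingHom.ker ψ.toRingHom := by
      show ψ _ = 0
      rw [map_sub, map_mul, map_pow, AlgHom.commutes, sub_eq_zero]
      exact hz
    rw [hker] at h0
    obtain ⟨w, hw⟩ := (Submodule.mem_span_range_iff_exists_fun _).mp h0
    have h1 := congrArg (AdicCompletion.evalₐ I n) hw
    have hy0 : AdicCompletion.evalₐ I n (algebraMap (PowerSeries k) (Phat k r) PowerSeries.X ^ n * y) = 0 :=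
      (evalₐ_eq_zero_iff n _).mpr ⟨y, rfl⟩
    rw [map_sub, hy0, sub_zero, show AdicCompletion.evalₐ I n (ι q) = Ideal.Quotient.mk _ q from
      AlgHom.commutes (AdicCompletion.evalₐ I n) q, map_sum] at h1
    have h2 : ∀ i, AdicCompletion.evalₐ I n (w i * a i) = Ideal.Quotient.mk _ (p n (w i) * p n (a i)) :=
      fun i => by rw [map_mul, map_mul, hp, hp]
    simp only [smul_eq_mul, h2, ← map_sum] at h1
    rw [Submodule.mem_sup]
    refine ⟨∑ i, p n (w i) * p n (a i), Submodule.sum_mem _ fun i _ =>
      Ideal.mul_mem_left _ _ (Ideal.subset_span ⟨i, rfl⟩), q - ∑ i, p n (w i) * p n (a i), ?_, add_sub_cancel _ _⟩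
    rw [← Ideal.span_singleton_pow]
    exact Ideal.Quotient.eq.mp h1.symm

/-- The reduced relations form a regular sequence of polynomials. -/
theorem isRegular_reduction (a : Fin c → Phat k r) (b : Fin c → MvPolynomial (Fin r) (PowerSeries k))
    (hb : ∀ i, Ideal.Quotient.mk (Ideal.span {C (σ := Fin r) (PowerSeries.X (R := k))} ^ 1) (b i) =
      AdicCompletion.evalₐ _ 1 (a i))
    (hreg : RingTheory.Sequence.IsRegular
      (Phat k r ⧸ Ideal.span {algebraMap (PowerSeries k) (Phat k r) PowerSeries.X ^ 1})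
      ((List.ofFn a).map (Ideal.Quotient.mk (Ideal.span {algebraMap (PowerSeries k) (Phat k r) PowerSeries.X ^ 1})))) :
    RingTheory.Sequence.IsRegular (MvPolynomial (Fin r) k) (List.ofFn fun i => χ (b i)) := by
  let I := Ideal.span {C (σ := Fin r) (PowerSeries.X (R := k))}
  have hI : ∀ q ∈ I ^ 1, χ q = 0 := fun q hq => by
    rw [pow_one] at hq
    rw [← RingHom.mem_ker, ker_χ]
    exact hq
  let q₁ : MvPolynomial (Fin r) (PowerSeries k) ⧸ I ^ 1 →+* MvPolynomial (Fin r) k := Ideal.Quotient.lift _ χ hI
  let Φ : Phat k r →+* MvPolynomial (Fin r) k := q₁.comp (AdicCompletion.evalₐ I 1).toRingHom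
  have hq₁ : Function.Injective q₁ := by
    rw [injective_iff_map_eq_zero]
    intro x hx
    obtain ⟨q, rfl⟩ := Ideal.Quotient.mk_surjective x
    rw [Ideal.Quotient.eq_zero_iff_mem, pow_one, show I = RingHom.ker (χ (k := k) (r := r)) from ker_χ.symm]
    exact hx
  have hΦker : ∀ x, Φ x = 0 ↔ x ∈ Ideal.span {algebraMap (PowerSeries k) (Phat k r) PowerSeries.X ^ 1} := by
    intro x
    rw [show Φ x = q₁ (AdicCompletion.evalₐ I 1 x) from rfl, map_eq_zero_iff _ hq₁, evalₐ_eq_zero_iff,
      Ideal.mem_span_singleton']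
    exact exists_congr fun y => by rw [eq_comm, mul_comm]
  let e₀ := Ideal.Quotient.lift _ Φ (fun x hx => (hΦker x).mpr hx)
  have he₀ : Function.Bijective e₀ := by
    refine ⟨(injective_iff_map_eq_zero _).mpr fun x hx => ?_, fun y => ?_⟩
    · obtain ⟨x, rfl⟩ := Ideal.Quotient.mk_surjective x
      exact Ideal.Quotient.eq_zero_iff_mem.mpr ((hΦker x).mp hx)
    · obtain ⟨q, rfl⟩ := χ_surjective y
      refine ⟨Ideal.Quotient.mk _ (algebraMap _ (Phat k r) q), ?_⟩
      show q₁ (AdicCompletion.evalₐ I 1 (algebraMap _ (Phat k r) q)) = χ q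
      rw [AlgHom.commutes]
      rfl
  let e := RingEquiv.ofBijective e₀ he₀
  refine (AddEquiv.isRegular_congr (e := e.toAddEquiv) ?_).mp hreg
  rw [List.map_ofFn, List.forall₂_iff_get]
  refine ⟨by simp, fun i h1 h2 x => ?_⟩
  simp only [List.get_eq_getElem, List.getElem_ofFn, Function.comp_apply, RingEquiv.toAddEquiv_eq_coe,
    RingEquiv.coe_toAddEquiv, smul_eq_mul, map_mul]
  congr 1
  show q₁ (AdicCompletion.evalₐ I 1 (a _)) = _
  rw [← hb]
  rfl

/-- The Jacobian presentation of the completed differentials; its rows stay independent modulo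
every power of `t`. -/
theorem exists_presentation [PerfectField k] [IsNoetherianRing B]
    [IsAdicComplete (Ideal.span {algebraMap (PowerSeries k) B PowerSeries.X}) B]
    [Module.Flat (PowerSeries k) B]
    (a : Fin c → Phat k r) (ψ : Phat k r →ₐ[PowerSeries k] B) (hψ : Function.Surjective ψ)
    (hker : RingHom.ker ψ.toRingHom = Ideal.span (Set.range a))
    (hreg : RingTheory.Sequence.IsRegular
      (Phat k r ⧸ Ideal.span {algebraMap (PowerSeries k) (Phat k r) PowerSeries.X ^ 1})
      ((List.ofFn a).map (Ideal.Quotient.mk (Ideal.span {algebraMap (PowerSeries k) (Phat k r) PowerSeries.X ^ 1}))))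
    (hred : IsReduced (B ⧸ Ideal.span {algebraMap (PowerSeries k) B PowerSeries.X})) :
    ∃ D : CompletedKaehler.Data (PowerSeries k) (PowerSeries.X (R := k)) B r c, c ≤ r ∧
      LinearIndependent B D.J ∧
        ∀ n, LinearIndependent (B ⧸ Ideal.span {algebraMap (PowerSeries k) B PowerSeries.X ^ n}) (D.Jₙ n) := by
  obtain ⟨D, hD⟩ := exists_data B a ψ hψ hker
  refine ⟨D, ?_⟩
  let t := algebraMap (PowerSeries k) B PowerSeries.X
  have ht : ∀ x : B, t * x = 0 → x = 0 := fun x hx => by
    refine Module.Flat.isSMulRegular_of_nonZeroDivisors (M := B)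
      (mem_nonZeroDivisors_of_ne_zero (PowerSeries.X_ne_zero (R := k))) ?_
    simp only [smul_zero]
    rw [Algebra.smul_def]
    exact hx
  let B₁ := B ⧸ Ideal.span {t}
  let ρ₁ : MvPolynomial (Fin r) (PowerSeries k) →+* B₁ := (Ideal.Quotient.mk _).comp D.ρ.toRingHom
  have hρ₁C : ρ₁ (C PowerSeries.X) = 0 := by
    show Ideal.Quotient.mk _ (D.ρ (C PowerSeries.X)) = 0
    rw [← MvPolynomial.algebraMap_eq, AlgHom.commutes]
    exact Ideal.Quotient.eq_zero_iff_mem.mpr (Ideal.mem_span_singleton_self _)
  have hle : RingHom.ker (χ (k := k) (r := r)) ≤ RingHom.ker ρ₁ := by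
    rw [ker_χ, Ideal.span_le, Set.singleton_subset_iff]
    exact hρ₁C
  let φ : MvPolynomial (Fin r) k →+* B₁ := χ.liftOfSurjective χ_surjective ⟨ρ₁, hle⟩
  have hφ : ∀ q, φ (χ q) = ρ₁ q := fun q => RingHom.liftOfRightInverse_comp_apply _ _ _ _ q
  letI := φ.toAlgebra
  letI : Algebra k B₁ := (φ.comp C).toAlgebra
  haveI : IsScalarTower k (MvPolynomial (Fin r) k) B₁ := IsScalarTower.of_algebraMap_eq fun _ => rfl
  haveI : IsReduced B₁ := hred
  have hsurj : Function.Surjective (algebraMap (MvPolynomial (Fin r) k) B₁) := by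
    intro b
    obtain ⟨b, rfl⟩ := Ideal.Quotient.mk_surjective b
    obtain ⟨q, hq⟩ := D.surj 1 b
    refine ⟨χ q, (hφ q).trans (Ideal.Quotient.eq.mpr (Ideal.mem_span_singleton.mpr ?_))⟩
    rw [pow_one] at hq
    exact hq
  have hker₁ : RingHom.ker (algebraMap (MvPolynomial (Fin r) k) B₁) =
      Ideal.span (Set.range fun i => χ (D.a 1 i)) := by
    refine le_antisymm (fun y hy => ?_) (Ideal.span_le.mpr ?_)
    · obtain ⟨q, rfl⟩ := χ_surjective y
      have hq : t ^ 1 ∣ D.ρ q := by
        rw [pow_one]
        exact Ideal.mem_span_singleton.mp (Ideal.Quotient.eq_zero_iff_mem.mp ((hφ q).symm.trans hy))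
      have := Ideal.mem_map_of_mem χ (D.ker 1 q hq)
      rw [Ideal.map_sup, Ideal.map_span, Ideal.map_span, Set.image_singleton, ← Set.range_comp, pow_one,
        show χ (C (σ := Fin r) (PowerSeries.X (R := k))) = 0 by simp, Ideal.span_singleton_eq_bot.mpr rfl,
        sup_bot_eq] at this
      exact this
    · rintro _ ⟨i, rfl⟩
      refine (hφ _).trans (Ideal.Quotient.eq_zero_iff_mem.mpr (Ideal.mem_span_singleton.mpr ?_))
      have := D.rel 1 i
      rwa [pow_one] at this
  obtain ⟨A, π₁, -, -, hA, hcr, hAeq⟩ := FittExtCI.jacobian hsurj (fun i => χ (D.a 1 i))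
    (isRegular_reduction a (D.a 1) (hD 1) hreg) hker₁
  have hAJ : ∀ i j, A i j = Ideal.Quotient.mk _ (D.J i j) := by
    intro i j
    rw [hAeq, χ, pderiv_map]
    refine (hφ _).trans (Ideal.Quotient.eq.mpr (Ideal.mem_span_singleton.mpr ?_))
    have := D.dvd_J 1 i j
    rwa [pow_one] at this
  -- independence modulo all powers
  have key : ∀ n (w : Fin c → B), (∀ j, t ^ n ∣ ∑ i, w i * D.J i j) → ∀ i, t ^ n ∣ w i := by
    intro n
    induction n with
    | zero => simp
    | succ n ih =>
      intro w hw i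
      have h0 : ∀ i, Ideal.Quotient.mk (Ideal.span {t}) (w i) = 0 := by
        refine Fintype.linearIndependent_iff.mp hA _ (funext fun j => ?_)
        simp only [Finset.sum_apply, Pi.smul_apply, smul_eq_mul, hAJ, ← map_mul, ← map_sum, Pi.zero_apply]
        exact Ideal.Quotient.eq_zero_iff_mem.mpr (Ideal.mem_span_singleton.mpr
          ((dvd_pow_self t (Nat.succ_ne_zero n)).trans (hw j)))
      choose v hv using fun i => Ideal.mem_span_singleton.mp (Ideal.Quotient.eq_zero_iff_mem.mp (h0 i))
      rw [hv i, pow_succ']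
      refine mul_dvd_mul_left t (ih v (fun j => ?_) i)
      obtain ⟨y, hy⟩ := hw j
      refine ⟨y, sub_eq_zero.mp (ht _ ?_)⟩
      simp only [hv, mul_assoc, ← Finset.mul_sum] at hy
      linear_combination hy
  refine ⟨hcr, ?_, fun n => ?_⟩
  · rw [Fintype.linearIndependent_iff]
    intro w hw i
    refine IsHausdorff.haus (I := Ideal.span {t}) inferInstance _ fun n => ?_
    rw [SModEq.zero, CompletedKaehler.mem_pow_smul_iff]
    have hsum : ∀ j, ∑ i, w i * D.J i j = 0 := fun j => by
      simpa [Finset.sum_apply] using congrFun hw j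
    obtain ⟨y, hy⟩ := key n w (fun j => by rw [hsum j]; exact dvd_zero _) i
    exact ⟨y, hy.symm⟩
  · rw [Fintype.linearIndependent_iff]
    intro w hw i
    choose w' hw' using fun i => Ideal.Quotient.mk_surjective (w i)
    rw [← hw' i, Ideal.Quotient.eq_zero_iff_mem, Ideal.mem_span_singleton]
    refine key n w' (fun j => Ideal.mem_span_singleton.mp (Ideal.Quotient.eq_zero_iff_mem.mp ?_)) i
    have := congrFun hw j
    simpa only [Finset.sum_apply, Pi.smul_apply, smul_eq_mul, CompletedKaehler.Data.Jₙ, ← hw', ← map_mul,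
      ← map_sum, Pi.zero_apply] using this

/-- Fitting ideals of the completed differentials and of their `Ext¹`. -/
theorem fitting_eq [PerfectField k] [IsNoetherianRing B]
    [IsAdicComplete (Ideal.span {algebraMap (PowerSeries k) B PowerSeries.X}) B]
    [Module.Flat (PowerSeries k) B]
    (D : CompletedKaehler.Data (PowerSeries k) (PowerSeries.X (R := k)) B r c) (hcr : c ≤ r)
    (hJ : LinearIndependent B D.J) :
    Fitt.ideal B (AdicCompletion (Ideal.span {algebraMap (PowerSeries k) B PowerSeries.X})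
        (KaehlerDifferential (PowerSeries k) B)) (r - c) =
      Fitt.ideal B (Ext.{u} (ModuleCat.of B (AdicCompletion
        (Ideal.span {algebraMap (PowerSeries k) B PowerSeries.X}) (KaehlerDifferential (PowerSeries k) B)))
        (ModuleCat.of B B) 1) 0 := by
  classical
  obtain ⟨e, he, hrel⟩ := FittExtCI.exists_ext_presentation D.J D.π D.π_surjective D.ker_π hJ
  have hy : Submodule.span B (Set.range fun j => D.π (Pi.single j 1)) = ⊤ := by
    rw [show (fun j => D.π (Pi.single j (1 : B))) = D.π ∘ (Pi.basisFun B (Fin r)) by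
      funext j; simp, Set.range_comp, ← Submodule.map_span, Module.Basis.span_eq, Submodule.map_top,
      LinearMap.range_eq_top.mpr D.π_surjective]
  rw [H29Fitt.ideal_eq _ hy, H29Fitt.ideal_eq _ he, Nat.sub_zero, Nat.sub_sub_self hcr]
  refine FittExtCI.J_eq_J_transpose D.J _ e (fun w => ?_) hrel c
  rw [← D.ker_π, LinearMap.mem_ker, LinearMap.pi_apply_eq_sum_univ D.π w]
  refine iff_of_eq (congrArg (· = 0) (Finset.sum_congr rfl fun j _ => ?_))
  congr 2
  ext l
  simp [Pi.single_apply, eq_comm]

/-- Base change of a module given by generators and relations. -/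
theorem nonempty_baseChange_equiv {S T : Type u} [CommRing S] [CommRing T] [Algebra S T]
    (hT : Function.Surjective (algebraMap S T)) {E F : Type u} [AddCommGroup E] [Module S E] [AddCommGroup F]
    [Module T F] {ι κ : Type} [Fintype ι] (z : κ → ι → S) (e : ι → E) (f : ι → F)
    (he : Submodule.span S (Set.range e) = ⊤) (hf : Submodule.span T (Set.range f) = ⊤)
    (hre : ∀ v : ι → S, ∑ i, v i • e i = 0 ↔ v ∈ Submodule.span S (Set.range z))
    (hrf : ∀ v : ι → T, ∑ i, v i • f i = 0 ↔
      v ∈ Submodule.span T (Set.range fun l i => algebraMap S T (z l i))) :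
    Nonempty ((T ⊗[S] E) ≃ₗ[T] F) := by
  classical
  let pe : (ι → T) →ₗ[T] T ⊗[S] E := Fintype.linearCombination T fun i => (1 : T) ⊗ₜ[S] e i
  let pf : (ι → T) →ₗ[T] F := Fintype.linearCombination T f
  have hpf : Function.Surjective pf :=
    LinearMap.range_eq_top.mp (by rw [Fintype.range_linearCombination, hf])
  have hpe : Function.Surjective pe := by
    refine LinearMap.range_eq_top.mp (eq_top_iff.mpr fun x _ => ?_)
    induction x using TensorProduct.induction_on with
    | zero => exact zero_mem _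
    | tmul s m =>
      obtain ⟨v, rfl⟩ := (Submodule.mem_span_range_iff_exists_fun S).mp (he ▸ Submodule.mem_top : m ∈ Submodule.span S (Set.range e))
      refine ⟨fun i => s * algebraMap S T (v i), ?_⟩
      simp only [pe, Fintype.linearCombination_apply, TensorProduct.tmul_sum, TensorProduct.smul_tmul', smul_eq_mul,
        mul_one, ← TensorProduct.smul_tmul]
      exact Finset.sum_congr rfl fun i _ => by rw [Algebra.smul_def, mul_comm]
    | add x y hx hy => exact add_mem (hx trivial) (hy trivial)
  have hker : LinearMap.ker pe = LinearMap.ker pf := by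
    refine le_antisymm (fun v hv => ?_) (fun v hv => ?_)
    · rw [LinearMap.mem_ker, Fintype.linearCombination_apply, hrf]
      choose v' hv' using fun i => hT (v i)
      have h0 : (1 : T) ⊗ₜ[S] (∑ i, v' i • e i) = 0 := by
        rw [← LinearMap.mem_ker.mp hv]
        simp only [pe, Fintype.linearCombination_apply, TensorProduct.tmul_sum, TensorProduct.tmul_smul,
          ← hv', algebraMap_smul]
      have hE : ∑ i, v' i • e i ∈ (RingHom.ker (algebraMap S T) • ⊤ : Submodule S E) := by
        have hex : Function.Exact (RingHom.ker (algebraMap S T)).subtype (Algebra.linearMap S T) := fun x =>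
          ⟨fun hx => ⟨⟨x, hx⟩, rfl⟩, by rintro ⟨x, rfl⟩; exact x.2⟩
        obtain ⟨w, hw⟩ := (rTensor_exact E hex hT ((1 : S) ⊗ₜ[S] (∑ i, v' i • e i))).mp (by
          rw [LinearMap.rTensor_tmul, Algebra.linearMap_apply, map_one, h0])
        have := congrArg (TensorProduct.lid S E) hw
        rw [TensorProduct.lid_tmul, one_smul] at this
        rw [← this]
        clear this hw
        induction w using TensorProduct.induction_on with
        | zero => simp
        | tmul x m => simpa using Submodule.smul_mem_smul x.2 (Submodule.mem_top (x := m))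
        | add x y hx hy => rw [map_add, map_add]; exact add_mem hx hy
      obtain ⟨u, hu, hu'⟩ : ∃ u : ι → S, (∀ i, u i ∈ RingHom.ker (algebraMap S T)) ∧
          ∑ i, u i • e i = ∑ i, v' i • e i := by
        rw [← he] at hE
        obtain ⟨u, hu, hu'⟩ := (Submodule.mem_ideal_smul_span_iff_exists_sum _ e _).mp hE
        exact ⟨u, hu, by rw [← hu', Finsupp.sum_fintype]; simp⟩
      have hrel : v' - u ∈ Submodule.span S (Set.range z) := by
        rw [← hre]
        simp [sub_smul, Finset.sum_sub_distrib, hu']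
      have hv'' : v = fun i => algebraMap S T ((v' - u) i) := funext fun i => by
        rw [Pi.sub_apply, map_sub, RingHom.mem_ker.mp (hu i), sub_zero, hv']
      rw [hv'']
      generalize v' - u = d at hrel
      induction hrel using Submodule.span_induction with
      | mem x hx => obtain ⟨l, rfl⟩ := hx; exact Submodule.subset_span ⟨l, rfl⟩
      | zero => simp only [Pi.zero_apply, map_zero]; exact zero_mem _
      | add x y _ _ hx hy => simp only [Pi.add_apply, map_add]; exact add_mem hx hy
      | smul a x _ hx =>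
        simp only [Pi.smul_apply, smul_eq_mul, map_mul]
        exact Submodule.smul_mem _ (algebraMap S T a) hx
    · rw [LinearMap.mem_ker, Fintype.linearCombination_apply, hrf] at hv
      refine Submodule.span_le.mpr ?_ hv
      rintro _ ⟨l, rfl⟩
      rw [SetLike.mem_coe, LinearMap.mem_ker]
      simp only [pe, Fintype.linearCombination_apply, algebraMap_smul, ← TensorProduct.tmul_smul,
        ← TensorProduct.tmul_sum, (hre _).mpr (Submodule.subset_span ⟨l, rfl⟩), TensorProduct.tmul_zero]
  exact ⟨(LinearMap.quotKerEquivOfSurjective pe hpe).symm ≪≫ₗ Submodule.quotEquivOfEq _ _ hker ≪≫ₗ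
    LinearMap.quotKerEquivOfSurjective pf hpf⟩

end Groth.Agent.H3CAlg.CompletedCI
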