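import Groth.Agent.H3CAlg.ArtinFlat
import Mathlib.RingTheory.Ideal.AssociatedPrime.Basic
import Mathlib.RingTheory.Regular.RegularSequence
import Mathlib.RingTheory.HopkinsLevitzki

/-! Regular sequences on flat modules over an Artinian local ring. -/

set_option autoImplicit false

open TensorProduct Pointwise

namespace Groth.Agent.H3CAlg

universe u v w

variable {A : Type u} [CommRing A] [IsLocalRing A] [IsArtinianRing A]

/-- A flat module transports injectivity from any nontrivial module to the residue field. -/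
theorem lTensor_residueField_injective_of (M0 : Type w) [AddCommGroup M0] [Module A M0] [Nontrivial M0]
    {P : Type v} [AddCommGroup P] [Module A P] [Module.Flat A P]
    (h : P →ₗ[A] P) (hi : Function.Injective (h.lTensor M0)) :
    Function.Injective (h.lTensor (IsLocalRing.ResidueField A)) := by
  obtain ⟨p, hp⟩ := associatedPrimes.nonempty A M0
  rw [AssociatedPrimes.mem_iff, isAssociatedPrime_iff] at hp
  obtain ⟨hpp, x, hx⟩ := hp
  have hpm : p = IsLocalRing.maximalIdeal A := IsLocalRing.eq_maximalIdeal (Ideal.isMaximal_of_isPrime p)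
  rw [hpm] at hx
  let ι : IsLocalRing.ResidueField A →ₗ[A] M0 :=
    (IsLocalRing.maximalIdeal A).liftQ (LinearMap.toSpanSingleton A M0 x) (fun a ha => by
      rw [hx, Submodule.mem_colon_singleton, Submodule.mem_bot] at ha
      simpa using ha)
  have hι : Function.Injective ι := by
    rw [injective_iff_map_eq_zero]
    intro z hz
    obtain ⟨a, rfl⟩ := Submodule.Quotient.mk_surjective _ z
    refine (Submodule.Quotient.mk_eq_zero _).mpr ?_
    rw [hx, Submodule.mem_colon_singleton, Submodule.mem_bot]
    change a • x = 0 at hz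
    exact hz
  have hinj : Function.Injective (ι.rTensor P) := Module.Flat.rTensor_preserves_injective_linearMap ι hι
  have hcomm : (h.lTensor M0).comp (ι.rTensor P) = (ι.rTensor P).comp (h.lTensor (IsLocalRing.ResidueField A)) :=
    TensorProduct.ext' fun _ _ => rfl
  have h2 : Function.Injective ((ι.rTensor P).comp (h.lTensor (IsLocalRing.ResidueField A))) := by
    rw [← hcomm]; exact hi.comp hinj
  exact Function.Injective.of_comp (f := ι.rTensor P) h2

theorem flat_of_exact_of_lTensor_injective {M N P : Type v} [AddCommGroup M] [Module A M]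
    [AddCommGroup N] [Module A N] [AddCommGroup P] [Module A P] [Module.Flat A N]
    (f : M →ₗ[A] N) (g : N →ₗ[A] P) (hg : Function.Surjective g) (hfg : Function.Exact f g)
    (hi : Function.Injective (f.lTensor (IsLocalRing.ResidueField A))) : Module.Flat A P := by
  obtain ⟨⟨r, hr⟩, -⟩ := exists_leftInverse_and_flat f hi
  let t : N →ₗ[A] N := LinearMap.id - f.comp r
  have ht : LinearMap.ker g ≤ LinearMap.ker t := by
    intro y hy
    obtain ⟨x, rfl⟩ := (hfg y).mp hy
    simp [t, show r (f x) = x from LinearMap.congr_fun hr x]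
  let s : P →ₗ[A] N := ((LinearMap.ker g).liftQ t ht).comp (g.quotKerEquivOfSurjective hg).symm.toLinearMap
  refine Module.Flat.of_retract s g (LinearMap.ext fun p => ?_)
  obtain ⟨y, rfl⟩ := hg p
  have : (g.quotKerEquivOfSurjective hg).symm (g y) = Submodule.Quotient.mk y := by
    rw [LinearEquiv.symm_apply_eq]; rfl
  simp [s, this, t, hfg.apply_apply_eq_zero]

section

variable {S : Type v} [CommRing S] [Algebra A S] (I : Ideal A)
  (M : Type v) [AddCommGroup M] [Module A M] [Module S M] [IsScalarTower A S M] [Module.Flat A M]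

theorem isSMulRegular_quotient_iff_lTensor (r : S) :
    IsSMulRegular (M ⧸ (I.map (algebraMap A S) • ⊤ : Submodule S M)) r ↔
      Function.Injective (((LinearMap.lsmul S M r).restrictScalars A).lTensor (A ⧸ I)) := by
  have hmem : ∀ x : M, x ∈ (I.map (algebraMap A S) • ⊤ : Submodule S M) ↔ x ∈ (I • ⊤ : Submodule A M) := by
    intro x
    rw [← Submodule.restrictScalars_mem A, Submodule.restrictScalars_map_smul_eq, Submodule.restrictScalars_top]
  let h : M →ₗ[A] M := (LinearMap.lsmul S M r).restrictScalars A
  let e := TensorProduct.quotTensorEquivQuotSMul M I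
  have he : ∀ x, e (h.lTensor (A ⧸ I) (e.symm (Submodule.Quotient.mk x))) = Submodule.Quotient.mk (r • x) := by
    intro x
    have : e.symm (Submodule.Quotient.mk x) = Ideal.Quotient.mk I 1 ⊗ₜ[A] x := by
      rw [LinearEquiv.symm_apply_eq]; simp [e]
    rw [this, LinearMap.lTensor_tmul]
    simp [e, h]
  rw [isSMulRegular_iff_right_eq_zero_of_smul, injective_iff_map_eq_zero]
  constructor
  · intro hr z hz
    obtain ⟨x, hx⟩ := Submodule.Quotient.mk_surjective _ (e z)
    have hz' : z = e.symm (Submodule.Quotient.mk x) := by rw [hx, e.symm_apply_apply]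
    rw [hz'] at hz ⊢
    have h2 := congrArg e hz
    rw [he, map_zero, Submodule.Quotient.mk_eq_zero, ← hmem] at h2
    have h3 := hr (Submodule.Quotient.mk x)
      (by rw [← Submodule.Quotient.mk_smul, Submodule.Quotient.mk_eq_zero]; exact h2)
    rw [Submodule.Quotient.mk_eq_zero, hmem, ← Submodule.Quotient.mk_eq_zero] at h3
    rw [h3, map_zero]
  · intro hi x hx
    obtain ⟨x, rfl⟩ := Submodule.Quotient.mk_surjective _ x
    rw [← Submodule.Quotient.mk_smul, Submodule.Quotient.mk_eq_zero, hmem, ← Submodule.Quotient.mk_eq_zero, ← he, LinearEquiv.map_eq_zero_iff] at hx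
    have h3 := hi _ hx
    rw [LinearEquiv.map_eq_zero_iff, Submodule.Quotient.mk_eq_zero, ← hmem, ← Submodule.Quotient.mk_eq_zero] at h3
    exact h3

theorem lTensor_residueField_injective_of_isSMulRegular (r : S) (hr : IsSMulRegular M r) :
    Function.Injective (((LinearMap.lsmul S M r).restrictScalars A).lTensor (IsLocalRing.ResidueField A)) := by
  refine lTensor_residueField_injective_of A _ ?_
  intro a b hab
  have := congrArg (TensorProduct.lid A M) hab
  obtain ⟨x, rfl⟩ := (TensorProduct.lid A M).symm.surjective a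
  obtain ⟨y, rfl⟩ := (TensorProduct.lid A M).symm.surjective b
  simp at this
  rw [hr this]

theorem isSMulRegular_quotient_iff (hI : I ≠ ⊤) (r : S) :
    IsSMulRegular M r ↔ IsSMulRegular (M ⧸ (I.map (algebraMap A S) • ⊤ : Submodule S M)) r := by
  rw [isSMulRegular_quotient_iff_lTensor]
  constructor
  · intro hr
    obtain ⟨⟨q, hq⟩, -⟩ := exists_leftInverse_and_flat _ (lTensor_residueField_injective_of_isSMulRegular (A := A) M r hr)
    have h1 := congrArg (fun g : M →ₗ[A] M => g.lTensor (A ⧸ I)) hq
    simp only [LinearMap.lTensor_comp, LinearMap.lTensor_id] at h1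
    intro a b hab
    have := congrArg (q.lTensor (A ⧸ I)) hab
    rwa [← LinearMap.comp_apply, ← LinearMap.comp_apply, h1] at this
  · intro hi
    have : Nontrivial (A ⧸ I) := Ideal.Quotient.nontrivial_iff.mpr hI
    obtain ⟨⟨q, hq⟩, -⟩ := exists_leftInverse_and_flat _ (lTensor_residueField_injective_of (A ⧸ I) _ hi)
    intro a b hab
    exact (LinearMap.congr_fun hq a).symm.trans ((congrArg q hab).trans (LinearMap.congr_fun hq b))

theorem flat_quotSMulTop (r : S) (hr : IsSMulRegular M r) : Module.Flat A (QuotSMulTop r M) := by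
  refine flat_of_exact_of_lTensor_injective ((LinearMap.lsmul S M r).restrictScalars A)
    ((Submodule.mkQ (r • ⊤ : Submodule S M)).restrictScalars A) (Submodule.mkQ_surjective _) ?_
    (lTensor_residueField_injective_of_isSMulRegular (A := A) M r hr)
  intro y
  change (Submodule.mkQ (r • ⊤ : Submodule S M)) y = 0 ↔ _
  rw [Submodule.mkQ_apply, Submodule.Quotient.mk_eq_zero, Submodule.mem_smul_pointwise_iff_exists]
  exact ⟨fun ⟨b, _, hb⟩ => ⟨b, hb⟩, fun ⟨b, hb⟩ => ⟨b, trivial, hb⟩⟩

end

/-- For a flat module, weak regularity of a sequence can be tested modulo a proper ideal of the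
Artinian base, and the quotient by a weakly regular sequence is flat. -/
theorem isWeaklyRegular_iff_and_flat {S : Type v} [CommRing S] [Algebra A S] (I : Ideal A) (hI : I ≠ ⊤)
    (rs : List S) : ∀ (M : Type v) [AddCommGroup M] [Module A M] [Module S M] [IsScalarTower A S M]
      [Module.Flat A M],
    (RingTheory.Sequence.IsWeaklyRegular M rs ↔
      RingTheory.Sequence.IsWeaklyRegular (M ⧸ (I.map (algebraMap A S) • ⊤ : Submodule S M)) rs) ∧
    (RingTheory.Sequence.IsWeaklyRegular M rs →
      Module.Flat A (M ⧸ (Ideal.ofList rs • ⊤ : Submodule S M))) := by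
  induction rs with
  | nil =>
    intro M _ _ _ _ _
    refine ⟨by simp, fun _ => ?_⟩
    have h : (Ideal.ofList ([] : List S) • ⊤ : Submodule S M) = ⊥ := by simp
    exact Module.Flat.of_linearEquiv ((Submodule.quotEquivOfEqBot _ h).restrictScalars A)
  | cons r rs ih =>
    intro M _ _ _ _ _
    simp only [RingTheory.Sequence.isWeaklyRegular_cons_iff]
    let J := I.map (algebraMap A S)
    let e : (QuotSMulTop r M ⧸ (J • ⊤ : Submodule S (QuotSMulTop r M))) ≃ₗ[S]
        QuotSMulTop r (M ⧸ (J • ⊤ : Submodule S M)) :=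
      Submodule.quotEquivOfEq _ ((J • ⊤ : Submodule S M).map (r • ⊤ : Submodule S M).mkQ)
          (by rw [Submodule.map_smul'', Submodule.map_top, Submodule.range_mkQ]) ≪≫ₗ
        Submodule.quotientQuotientEquivQuotientSup (r • ⊤ : Submodule S M) (J • ⊤) ≪≫ₗ
        Submodule.quotEquivOfEq _ ((J • ⊤) ⊔ (r • ⊤ : Submodule S M)) (sup_comm _ _) ≪≫ₗ
        (Submodule.quotientQuotientEquivQuotientSup (J • ⊤ : Submodule S M) (r • ⊤)).symm ≪≫ₗ
        Submodule.quotEquivOfEq _ _ (by rw [Submodule.map_pointwise_smul, Submodule.map_top, Submodule.range_mkQ])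
    refine ⟨?_, fun ⟨h1, h2⟩ => ?_⟩
    · rw [isSMulRegular_quotient_iff I M hI r]
      refine and_congr_right fun h1 => ?_
      have := flat_quotSMulTop (A := A) M r ((isSMulRegular_quotient_iff I M hI r).mpr h1)
      rw [(ih (QuotSMulTop r M)).1, e.isWeaklyRegular_congr]
    · have := flat_quotSMulTop (A := A) M r h1
      have := (ih (QuotSMulTop r M)).2 h2
      exact Module.Flat.of_linearEquiv
        ((Submodule.quotOfListConsSMulTopEquivQuotSMulTopInner M r rs).restrictScalars A)

end Groth.Agent.H3CAlg
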