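import Groth.Agent.H3CAlg.McCoy
import Groth.Prelude.Def_CAlg
import Mathlib.LinearAlgebra.Matrix.Adjugate
import Mathlib.RingTheory.Regular.RegularSequence
import Mathlib.RingTheory.Ideal.Quotient.Noetherian
import Mathlib.Tactic

/-!
The Hilbert–Burch theorem, elementary proof.
-/

namespace Groth.Agent.H3CAlg.HilbertBurch

open Matrix

universe u

variable {R : Type u} [CommRing R]

/-- signed maximal minors of a `(t+1) × t` matrix -/
noncomputable def cof {t : ℕ} (Ψ : Matrix (Fin (t + 1)) (Fin t) R) (i : Fin (t + 1)) : R :=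
  (-1) ^ (i : ℕ) * (Ψ.submatrix i.succAbove id).det

/-- the square matrix `[v | Ψ]` -/
noncomputable def aug {t : ℕ} (Ψ : Matrix (Fin (t + 1)) (Fin t) R) (v : Fin (t + 1) → R) :
    Matrix (Fin (t + 1)) (Fin (t + 1)) R :=
  Matrix.of fun i => Fin.cons (v i) (Ψ i)

theorem aug_submatrix {t : ℕ} (Ψ : Matrix (Fin (t + 1)) (Fin t) R) (v : Fin (t + 1) → R) (i : Fin (t + 1)) :
    (aug Ψ v).submatrix i.succAbove Fin.succ = Ψ.submatrix i.succAbove id := by
  ext a b; simp [aug]

theorem det_aug {t : ℕ} (Ψ : Matrix (Fin (t + 1)) (Fin t) R) (v : Fin (t + 1) → R) :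
    (aug Ψ v).det = ∑ i, cof Ψ i * v i := by
  rw [Matrix.det_succ_column_zero]
  refine Finset.sum_congr rfl fun i _ => ?_
  rw [aug_submatrix]
  simp [aug, cof]; ring

theorem cof_mul_eq_zero {t : ℕ} (Ψ : Matrix (Fin (t + 1)) (Fin t) R) (j : Fin t) :
    ∑ i, cof Ψ i * Ψ i j = 0 := by
  rw [← det_aug Ψ (fun i => Ψ i j)]
  exact Matrix.det_zero_of_column_eq (Fin.succ_ne_zero j).symm fun i => by simp [aug]

theorem cof_dotProduct_mulVec {t : ℕ} (Ψ : Matrix (Fin (t + 1)) (Fin t) R) (x : Fin t → R) :
    ∑ i, cof Ψ i * Ψ.mulVecLin x i = 0 := by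
  simp only [Matrix.mulVecLin_apply, Matrix.mulVec, dotProduct, Finset.mul_sum]
  rw [Finset.sum_comm]
  refine Finset.sum_eq_zero fun j _ => ?_
  rw [← zero_mul (x j), ← cof_mul_eq_zero Ψ j, Finset.sum_mul]
  exact Finset.sum_congr rfl fun i _ => (mul_assoc _ _ _).symm

/-- Cramer: if `det [v | Ψ] = 0` then every signed minor times `v` is in the image of `Ψ`. -/
theorem cof_smul_mem_range {t : ℕ} (Ψ : Matrix (Fin (t + 1)) (Fin t) R) (v : Fin (t + 1) → R)
    (hv : ∑ i, cof Ψ i * v i = 0) (i : Fin (t + 1)) : cof Ψ i • v ∈ LinearMap.range Ψ.mulVecLin := by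
  refine ⟨fun j => -((aug Ψ v).adjugate j.succ i), funext fun r => ?_⟩
  have h := congrFun (congrFun (Matrix.mul_adjugate (aug Ψ v)) r) i
  rw [det_aug, hv, zero_smul, Matrix.mul_apply, Fin.sum_univ_succ] at h
  have h0 : (aug Ψ v).adjugate 0 i = cof Ψ i := by
    rw [Matrix.adjugate_fin_succ_eq_det_submatrix, Fin.succAbove_zero, aug_submatrix]
    simp [cof]
  rw [h0] at h
  have haug0 : aug Ψ v r 0 = v r := by simp [aug]
  have haug : ∀ j, aug Ψ v r j.succ = Ψ r j := fun j => by simp [aug]
  simp only [haug0, haug, Matrix.zero_apply] at h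
  simp only [Matrix.mulVecLin_apply, Matrix.mulVec, dotProduct, mul_neg, Finset.sum_neg_distrib, Pi.smul_apply, smul_eq_mul]
  linear_combination -h

theorem span_cof {t : ℕ} (Ψ : Matrix (Fin (t + 1)) (Fin t) R) :
    Ideal.span (Set.range (cof Ψ)) = CAlgX.minorIdeal Ψ t := by
  classical
  refine le_antisymm (Ideal.span_le.mpr ?_) ?_
  · rintro _ ⟨i, rfl⟩
    exact Ideal.mul_mem_left _ _ (Ideal.subset_span ⟨(i.succAbove, id), rfl⟩)
  · refine Ideal.span_le.mpr ?_
    rintro _ ⟨⟨f, g⟩, rfl⟩
    show (Ψ.submatrix f g).det ∈ _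
    by_cases hg : Function.Injective g
    swap
    · obtain ⟨a, b, hab, hne⟩ := Function.not_injective_iff.mp hg
      rw [Matrix.det_zero_of_column_eq hne fun k => by simp [hab]]; exact zero_mem _
    by_cases hf : Function.Injective f
    swap
    · obtain ⟨a, b, hab, hne⟩ := Function.not_injective_iff.mp hf
      rw [Matrix.det_zero_of_row_eq hne (funext fun k => by simp [hab])]; exact zero_mem _
    obtain ⟨i, hi⟩ : ∃ i, i ∉ Set.range f := by
      by_contra! hall
      have := Fintype.card_le_of_surjective f hall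
      simp at this
    have hf' : ∀ k, ∃ l, i.succAbove l = f k := fun k => Fin.exists_succAbove_eq fun h => hi ⟨k, h⟩
    choose σ hσ using hf'
    have hσi : Function.Injective σ := fun a b h => hf (by rw [← hσ a, ← hσ b, h])
    have hσb := Finite.injective_iff_bijective.mp hσi
    have hgb := Finite.injective_iff_bijective.mp hg
    let σe := Equiv.ofBijective σ hσb
    let ge := Equiv.ofBijective g hgb
    have heq : Ψ.submatrix f g = ((Ψ.submatrix i.succAbove id).submatrix σe id).submatrix id ge := by
      ext a b; simp [σe, ge, hσ]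
    rw [heq, Matrix.det_permute', Matrix.det_permute]
    refine Ideal.mul_mem_left _ _ (Ideal.mul_mem_left _ _ ?_)
    have h1 : (Ψ.submatrix i.succAbove id).det = (-1) ^ (i : ℕ) * cof Ψ i := by
      simp [cof, ← mul_assoc, ← pow_add, Even.neg_one_pow ⟨(i : ℕ), rfl⟩]
    rw [h1]
    exact Ideal.mul_mem_left _ _ (Ideal.subset_span ⟨i, rfl⟩)

theorem map_minorIdeal {S : Type u} [CommRing S] (φ : R →+* S) {n m : ℕ} (Ψ : Matrix (Fin n) (Fin m) R) (r : ℕ) :
    (CAlgX.minorIdeal Ψ r).map φ = CAlgX.minorIdeal (Ψ.map φ) r := by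
  rw [CAlgX.minorIdeal, Ideal.map_span, CAlgX.minorIdeal, ← Set.range_comp]
  congr 2
  funext fg
  simp only [Function.comp_apply]
  rw [RingHom.map_det, RingHom.mapMatrix_apply, Matrix.submatrix_map]

theorem exact_of_depth {t : ℕ} (Ψ : Matrix (Fin (t + 1)) (Fin t) R) [IsNoetherianRing R]
    (hdepth : 2 ≤ LocCoh.idealDepth (CAlgX.minorIdeal Ψ t) R) :
    LinearMap.ker Ψ.mulVecLin = ⊥ ∧
      ∀ v : Fin (t + 1) → R, ∑ i, cof Ψ i * v i = 0 → v ∈ LinearMap.range Ψ.mulVecLin := by
  set I := CAlgX.minorIdeal Ψ t with hI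
  have hmul : ∀ v : Fin (t + 1) → R, ∑ i, cof Ψ i * v i = 0 → ∀ z ∈ I, z • v ∈ LinearMap.range Ψ.mulVecLin := by
    intro v hv z hz
    rw [hI, ← span_cof] at hz
    induction hz using Submodule.span_induction with
    | mem x hx => obtain ⟨i, rfl⟩ := hx; exact cof_smul_mem_range Ψ v hv i
    | zero => rw [zero_smul]; exact zero_mem _
    | add a b _ _ ha hb => rw [add_smul]; exact add_mem ha hb
    | smul c a _ ha => rw [smul_assoc]; exact Submodule.smul_mem _ c ha
  by_cases htop : I = ⊤
  · refine ⟨LinearMap.ker_eq_bot.mpr (McCoy.injective_of_annihilator Ψ ?_), fun v hv => ?_⟩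
    · rw [← hI, htop]; exact (McCoy.annihilator_eq_bot_iff _).mpr (Or.inl rfl)
    · simpa using hmul v hv 1 (htop ▸ trivial)
  obtain ⟨x, y, hx, hy, hxreg, hyreg⟩ : ∃ x y, x ∈ I ∧ y ∈ I ∧ IsSMulRegular R x ∧
      ∀ z, y * z ∈ Ideal.span {x} → z ∈ Ideal.span {x} := by
    rw [LocCoh.idealDepth, if_neg (by simpa [smul_eq_mul, Ideal.mul_top] using htop)] at hdepth
    by_contra hno
    have : (⨆ (rs : List R) (_ : RingTheory.Sequence.IsWeaklyRegular R rs ∧ ∀ r ∈ rs, r ∈ I), (rs.length : ℕ∞)) ≤ 1 := by
      refine iSup₂_le fun rs hrs => ?_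
      match rs, hrs with
      | [], _ => simp
      | [_], _ => simp
      | x :: y :: rest, hrs =>
        refine absurd ⟨x, y, hrs.2 x (by simp), hrs.2 y (by simp), ?_, ?_⟩ hno
        · exact ((RingTheory.Sequence.isWeaklyRegular_cons_iff R x _).mp hrs.1).1
        · intro z hz
          have h := ((RingTheory.Sequence.isWeaklyRegular_cons_iff _ y _).mp
            ((RingTheory.Sequence.isWeaklyRegular_cons_iff R x _).mp hrs.1).2).1
          have h2 : y • (Submodule.Quotient.mk z : QuotSMulTop x R) = 0 := by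
            rw [← Submodule.Quotient.mk_smul, Submodule.Quotient.mk_eq_zero]
            obtain ⟨c, hc⟩ := Ideal.mem_span_singleton'.mp hz
            exact (Submodule.mem_smul_pointwise_iff_exists _ _ _).mpr ⟨c, trivial, by rw [smul_eq_mul, smul_eq_mul, ← hc, mul_comm]⟩
          have h3 := h (h2.trans (smul_zero y).symm)
          rw [Submodule.Quotient.mk_eq_zero] at h3
          obtain ⟨c, -, hc⟩ := (Submodule.mem_smul_pointwise_iff_exists _ _ _).mp h3
          exact Ideal.mem_span_singleton'.mpr ⟨c, by rw [← hc, smul_eq_mul, mul_comm]⟩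
    exact absurd (hdepth.trans this) (by decide)
  have hann : (CAlgX.minorIdeal Ψ t).annihilator = ⊥ := (McCoy.annihilator_eq_bot_iff _).mpr
    (Or.inr ⟨x, hx, isLeftRegular_iff_isRegular.mp (isLeftRegular_iff.mpr hxreg)⟩)
  have hinj := McCoy.injective_of_annihilator Ψ hann
  refine ⟨LinearMap.ker_eq_bot.mpr hinj, fun v hv => ?_⟩
  obtain ⟨w, hw⟩ := hmul v hv x hx
  obtain ⟨w', hw'⟩ := hmul v hv y hy
  have h1 : y • w = x • w' := hinj (by rw [map_smul, map_smul, hw, hw', smul_comm])
  have h2 : ∀ j, w j ∈ Ideal.span {x} := fun j => hyreg _ (Ideal.mem_span_singleton'.mpr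
    ⟨w' j, by have := congrFun h1 j; simp only [Pi.smul_apply, smul_eq_mul] at this; rw [this, mul_comm]⟩)
  choose u hu using fun j => Ideal.mem_span_singleton'.mp (h2 j)
  refine ⟨u, funext fun r => hxreg ?_⟩
  have : x • u = w := funext fun j => by rw [Pi.smul_apply, smul_eq_mul, mul_comm, hu]
  rw [← this, map_smul] at hw
  exact congrFun hw r

/-- the converse direction -/
theorem of_resolution [IsNoetherianRing R] {m n : ℕ} (Ψ : Matrix (Fin n) (Fin m) R) (π : (Fin n → R) →ₗ[R] R)
    (hΨ : LinearMap.ker Ψ.mulVecLin = ⊥) (hex : LinearMap.ker π = LinearMap.range Ψ.mulVecLin)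
    (hI : LinearMap.range π ≠ ⊥) :
    n = m + 1 ∧
      (∃ a : R, a ∈ nonZeroDivisors R ∧ LinearMap.range π = Ideal.span {a} * CAlgX.minorIdeal Ψ m) ∧
      2 ≤ LocCoh.idealDepth (CAlgX.minorIdeal Ψ m) R := by
  classical
  have hinj : Function.Injective Ψ.mulVecLin := LinearMap.ker_eq_bot.mp hΨ
  have hann := McCoy.annihilator_of_injective Ψ hinj
  let b : Fin n → R := fun i => π (Pi.single i 1)
  have hπ : ∀ v, π v = ∑ i, v i * b i := fun v => by
    conv_lhs => rw [pi_eq_sum_univ' v]
    simp [map_sum, map_smul, b]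
  have hbne : ∃ p, b p ≠ 0 := by
    by_contra! hb
    exact hI (LinearMap.range_eq_bot.mpr (LinearMap.ext fun v => by simp [hπ v, hb]))
  have hsym : ∀ u : Fin n → R, (∀ x, ∑ i, u i * Ψ.mulVecLin x i = 0) → ∀ p q, b p * u q = b q * u p := by
    intro u hu p q
    have hmem : (b p • Pi.single q (1 : R) - b q • Pi.single p (1 : R)) ∈ LinearMap.range Ψ.mulVecLin := by
      rw [← hex, LinearMap.mem_ker, map_sub, map_smul, map_smul, smul_eq_mul, smul_eq_mul, mul_comm, sub_eq_zero]
    obtain ⟨x, hx⟩ := hmem
    have h := hu x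
    rw [hx] at h
    simp only [Pi.sub_apply, Pi.smul_apply, smul_eq_mul, Pi.single_apply, mul_ite, mul_one, mul_zero,
      mul_sub, Finset.sum_sub_distrib, Finset.sum_ite_eq', Finset.mem_univ, if_true] at h
    linear_combination h
  have hΨb : ∀ x, ∑ i, Ψ.mulVecLin x i * b i = 0 := fun x => by
    rw [← hπ]
    exact LinearMap.mem_ker.mp (hex ▸ ⟨x, rfl⟩)
  have hnm : n = m + 1 := by
    rcases lt_trichotomy n (m + 1) with hlt | heq | hgt
    · exfalso
      rcases Nat.lt_or_ge n m with h | h
      · have hbot : CAlgX.minorIdeal Ψ m = ⊥ := by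
          rw [CAlgX.minorIdeal, Ideal.span_eq_bot]
          rintro _ ⟨⟨f, g⟩, rfl⟩
          obtain ⟨i, j, hne, hij⟩ := Fintype.exists_ne_map_eq_of_card_lt f (by simpa using h)
          exact Matrix.det_zero_of_row_eq hne (funext fun k => by simp [hij])
        rw [hbot, Submodule.annihilator_bot] at hann
        obtain ⟨p, hp⟩ := hbne
        exact hp ((Submodule.mem_bot R).mp (hann ▸ Submodule.mem_top))
      · obtain rfl : n = m := by omega
        obtain ⟨p, hp⟩ := hbne
        apply hp
        refine (Submodule.mem_bot R).mp (hann ▸ Submodule.mem_annihilator.mpr fun z hz => ?_)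
        induction hz using Submodule.span_induction with
        | mem y hy =>
          obtain ⟨⟨f, g⟩, rfl⟩ := hy
          show b p • (Ψ.submatrix f g).det = 0
          by_cases hfg : Function.Injective f ∧ Function.Injective g
          · let fe := Equiv.ofBijective f (Finite.injective_iff_bijective.mp hfg.1)
            let ge := Equiv.ofBijective g (Finite.injective_iff_bijective.mp hfg.2)
            rw [show Ψ.submatrix f g = (Ψ.submatrix fe id).submatrix id ge by ext a b; simp [fe, ge],
              Matrix.det_permute', Matrix.det_permute]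
            have h1 : Matrix.vecMul b Ψ = 0 := funext fun j => by
              have h := hΨb (Pi.single j 1)
              simp only [Matrix.mulVecLin_apply, Matrix.mulVec_single_one, Matrix.col_apply] at h
              simp only [Matrix.vecMul, dotProduct, Pi.zero_apply]
              rw [← h]
              exact Finset.sum_congr rfl fun i _ => mul_comm _ _
            have h2 := congrArg (fun r => Matrix.vecMul r Ψ.adjugate) h1
            simp only [Matrix.vecMul_vecMul, Matrix.mul_adjugate, Matrix.zero_vecMul, Matrix.vecMul_smul, Matrix.vecMul_one] at h2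
            have h3 := congrFun h2 p
            simp only [Pi.smul_apply, smul_eq_mul, Pi.zero_apply] at h3
            rw [smul_eq_mul]
            linear_combination ((Equiv.Perm.sign ge : ℤ) : R) * ((Equiv.Perm.sign fe : ℤ) : R) * h3
          · rw [not_and_or] at hfg
            rcases hfg with hf | hg
            · obtain ⟨a, c, hac, hne⟩ := Function.not_injective_iff.mp hf
              rw [Matrix.det_zero_of_row_eq hne (funext fun k => by simp [hac]), smul_zero]
            · obtain ⟨a, c, hac, hne⟩ := Function.not_injective_iff.mp hg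
              rw [Matrix.det_zero_of_column_eq hne fun k => by simp [hac], smul_zero]
        | zero => rw [smul_zero]
        | add a c _ _ ha hc => rw [smul_add, ha, hc, add_zero]
        | smul c a _ ha => rw [smul_comm, ha, smul_zero]
    · exact heq
    · exfalso
      have hkill : ∀ (f : Fin m → Fin n) (g : Fin m → Fin m) (p : Fin n),
          (Ψ.submatrix f g).det ^ 2 * b p = 0 := by
        intro f g p
        by_cases hf : Function.Injective f
        swap
        · obtain ⟨a, c, hac, hne⟩ := Function.not_injective_iff.mp hf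
          rw [Matrix.det_zero_of_row_eq hne (funext fun k => by simp [hac]), zero_pow two_ne_zero, zero_mul]
        obtain ⟨q₁, q₂, hq₁, hq₂, hne⟩ : ∃ q₁ q₂, q₁ ∉ Set.range f ∧ q₂ ∉ Set.range f ∧ q₁ ≠ q₂ := by
          have hcard : 1 < (Finset.univ \ Finset.univ.image f).card := by
            rw [Finset.card_sdiff_of_subset (Finset.subset_univ _), Finset.card_image_of_injective _ hf]
            simp only [Finset.card_univ, Fintype.card_fin]; omega
          obtain ⟨a, ha, c, hc, hac⟩ := Finset.one_lt_card.mp hcard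
          exact ⟨a, c, by simpa using ha, by simpa using hc, hac⟩
        -- the Cramer row attached to an extra row `q`
        have hrow : ∀ q ∉ Set.range f, ∃ u : Fin n → R, (∀ x, ∑ i, u i * Ψ.mulVecLin x i = 0) ∧
            u q = (Ψ.submatrix f g).det ∧ ∀ p, p ∉ Set.range f → p ≠ q → u p = 0 := by
          intro q hq
          let h : Fin (m + 1) → Fin n := Fin.cons q f
          let w : Fin (m + 1) → R := cof (Ψ.submatrix h g)
          refine ⟨∑ i, Pi.single (h i) (w i), fun x => ?_, ?_, fun p hp hpq => ?_⟩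
          · by_cases hg : Function.Injective g
            · let ge := Equiv.ofBijective g (Finite.injective_iff_bijective.mp hg)
              have h1 := cof_dotProduct_mulVec (Ψ.submatrix h g) (x ∘ g)
              simp only [Finset.sum_apply, Pi.single_apply, Finset.sum_mul, ite_mul, zero_mul]
              rw [Finset.sum_comm]
              simp only [Finset.sum_ite_eq', Finset.mem_univ, if_true]
              rw [← h1]
              refine Finset.sum_congr rfl fun i _ => congrArg _ ?_
              exact (Equiv.sum_comp ge (fun j => Ψ (h i) j * x j)).symm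
            · have hw : w = 0 := funext fun i => by
                obtain ⟨a, c, hac, hne⟩ := Function.not_injective_iff.mp hg
                show cof (Ψ.submatrix h g) i = 0
                rw [cof, Matrix.det_zero_of_column_eq hne fun k => by simp [hac], mul_zero]
              simp [hw]
          · rw [Finset.sum_apply, Finset.sum_eq_single 0]
            · simp [h, w, cof]
            · intro i _ hi
              obtain ⟨i', rfl⟩ := Fin.exists_succ_eq.mpr hi
              exact Pi.single_eq_of_ne (fun hh => hq ⟨i', by simpa [h] using hh.symm⟩) _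
            · simp
          · rw [Finset.sum_apply]
            refine Finset.sum_eq_zero fun i _ => Pi.single_eq_of_ne ?_ _
            refine Fin.cases (by simpa [h] using hpq) (fun i' hh => hp ⟨i', by simpa [h] using hh.symm⟩) i
        obtain ⟨u₁, hu₁, hu₁q, hu₁0⟩ := hrow q₁ hq₁
        obtain ⟨u₂, hu₂, hu₂q, hu₂0⟩ := hrow q₂ hq₂
        have e1 : b q₂ * (Ψ.submatrix f g).det = 0 := by
          rw [← hu₁q, hsym u₁ hu₁ q₂ q₁, hu₁0 q₂ hq₂ hne.symm, mul_zero]
        have e2 : b p * u₂ q₂ = b q₂ * u₂ p := hsym u₂ hu₂ p q₂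
        rw [hu₂q] at e2
        linear_combination (Ψ.submatrix f g).det * e2 + u₂ p * e1
      obtain ⟨p, hp⟩ := hbne
      rcases (McCoy.annihilator_eq_bot_iff _).mp hann with htop | ⟨y, hy, hyreg⟩
      · have hrad : (1 : R) ∈ (Submodule.annihilator (Ideal.span {b p})).radical := by
          have hle : CAlgX.minorIdeal Ψ m ≤ (Submodule.annihilator (Ideal.span {b p})).radical := Ideal.span_le.mpr (by
            rintro _ ⟨⟨f, g⟩, rfl⟩
            exact ⟨2, (Submodule.mem_annihilator_span_singleton (b p) _).mpr (hkill f g p)⟩)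
          exact hle (htop ▸ trivial)
        obtain ⟨k, hk⟩ := hrad
        rw [one_pow, Submodule.mem_annihilator_span_singleton, one_smul] at hk
        exact hp hk
      · have hle : CAlgX.minorIdeal Ψ m ≤ (Submodule.annihilator (Ideal.span {b p})).radical := Ideal.span_le.mpr (by
            rintro _ ⟨⟨f, g⟩, rfl⟩
            exact ⟨2, (Submodule.mem_annihilator_span_singleton (b p) _).mpr (hkill f g p)⟩)
        obtain ⟨k, hk⟩ := hle hy
        rw [Submodule.mem_annihilator_span_singleton, smul_eq_mul] at hk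
        exact hp ((hyreg.pow k).left.eq_iff.mp (hk.trans (mul_zero _).symm))
  subst hnm
  refine ⟨rfl, ?_⟩
  have hbu : ∀ p q, b p * cof Ψ q = b q * cof Ψ p := hsym (cof Ψ) (cof_dotProduct_mulVec Ψ)
  -- regularity modulo an element of the minor ideal
  have hmod : ∀ y ∈ CAlgX.minorIdeal Ψ m, IsRegular y →
      (CAlgX.minorIdeal (Ψ.map (Ideal.Quotient.mk (Ideal.span {y}))) m).annihilator = ⊥ := by
    intro y _ hy
    refine McCoy.annihilator_of_injective _ ?_
    rw [injective_iff_map_eq_zero]
    intro x hx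
    choose x' hx' using fun j => Ideal.Quotient.mk_surjective (x j)
    have hmem : ∀ i, Ψ.mulVecLin x' i ∈ Ideal.span {y} := fun i => by
      rw [← Ideal.Quotient.eq_zero_iff_mem]
      have h := congrFun hx i
      simp only [Matrix.mulVecLin_apply, Matrix.mulVec, dotProduct, Matrix.map_apply, Pi.zero_apply, ← hx', ← map_mul, ← map_sum] at h
      exact h
    choose z hz using fun i => Ideal.mem_span_singleton'.mp (hmem i)
    have hz0 : z ∈ LinearMap.range Ψ.mulVecLin := by
      rw [← hex, LinearMap.mem_ker]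
      have h1 : y • π z = 0 := by
        rw [← map_smul, show y • z = Ψ.mulVecLin x' from funext fun i => by rw [Pi.smul_apply, smul_eq_mul, mul_comm, hz]]
        exact LinearMap.mem_ker.mp (hex ▸ ⟨x', rfl⟩)
      exact hy.left.eq_iff.mp (h1.trans (mul_zero y).symm)
    obtain ⟨w, hw⟩ := hz0
    have : x' = y • w := hinj (by
      rw [map_smul, hw]; exact funext fun i => by rw [Pi.smul_apply, smul_eq_mul, mul_comm, hz])
    funext j
    rw [← hx', this, Pi.smul_apply, smul_eq_mul, Pi.zero_apply, Ideal.Quotient.eq_zero_iff_mem]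
    exact Ideal.mul_mem_right _ _ (Ideal.mem_span_singleton_self y)
  -- the factor `a`
  have ha : ∃ a, ∀ p, b p = a * cof Ψ p := by
    rcases (McCoy.annihilator_eq_bot_iff _).mp hann with htop | ⟨y, hy, hyreg⟩
    · obtain ⟨c, hc⟩ := (Ideal.mem_span_range_iff_exists_fun).mp
        (show (1 : R) ∈ Ideal.span (Set.range (cof Ψ)) by rw [span_cof, htop]; trivial)
      refine ⟨∑ i, c i * b i, fun p => ?_⟩
      calc b p = b p * ∑ i, c i * cof Ψ i := by rw [hc, mul_one]
        _ = _ := by rw [Finset.mul_sum, Finset.sum_mul]; exact Finset.sum_congr rfl fun i _ => by linear_combination c i * hbu p i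
    · obtain ⟨c, hc⟩ := (Ideal.mem_span_range_iff_exists_fun).mp
        (show y ∈ Ideal.span (Set.range (cof Ψ)) by rw [span_cof]; exact hy)
      have hd : ∀ p, y * b p = (∑ i, c i * b i) * cof Ψ p := fun p => by
        rw [← hc, Finset.sum_mul, Finset.sum_mul]; exact Finset.sum_congr rfl fun i _ => by linear_combination c i * hbu p i
      have hdy : (∑ i, c i * b i) ∈ Ideal.span {y} := by
        rw [← Ideal.Quotient.eq_zero_iff_mem, ← Submodule.mem_bot (R := R ⧸ Ideal.span {y}), ← hmod y hy hyreg,
          Submodule.mem_annihilator]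
        intro z hz
        rw [← map_minorIdeal, Ideal.mem_map_iff_of_surjective _ Ideal.Quotient.mk_surjective] at hz
        obtain ⟨z, hz, rfl⟩ := hz
        rw [smul_eq_mul, ← map_mul, Ideal.Quotient.eq_zero_iff_mem]
        rw [← span_cof] at hz
        induction hz using Submodule.span_induction with
        | mem x hx => obtain ⟨p, rfl⟩ := hx; rw [← hd]; exact Ideal.mul_mem_right _ _ (Ideal.mem_span_singleton_self y)
        | zero => rw [mul_zero]; exact zero_mem _
        | add a e _ _ ha he => rw [mul_add]; exact add_mem ha he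
        | smul e a _ ha => rw [smul_eq_mul, mul_left_comm]; exact Ideal.mul_mem_left _ _ ha
      obtain ⟨a, ha⟩ := Ideal.mem_span_singleton'.mp hdy
      exact ⟨a, fun p => hyreg.left (show y * b p = y * (a * cof Ψ p) by rw [hd, ← ha]; ring)⟩
  obtain ⟨a, ha⟩ := ha
  refine ⟨⟨a, ?_, ?_⟩, ?_⟩
  · rw [← isRegular_iff_mem_nonZeroDivisors, ← isLeftRegular_iff_isRegular, isLeftRegular_iff_right_eq_zero_of_mul]
    intro w hw
    refine (Submodule.mem_bot R).mp (hann ▸ Submodule.mem_annihilator.mpr fun z hz => ?_)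
    have hker : ∀ p, w * cof Ψ p = 0 := fun p => by
      have hmem : (w • Pi.single p (1 : R)) ∈ LinearMap.range Ψ.mulVecLin := by
        rw [← hex, LinearMap.mem_ker, map_smul, smul_eq_mul, show π (Pi.single p 1) = b p from rfl, ha]
        linear_combination cof Ψ p * hw
      obtain ⟨x, hx⟩ := hmem
      have h := cof_dotProduct_mulVec Ψ x
      rw [hx] at h
      simp only [Pi.smul_apply, smul_eq_mul, Pi.single_apply, mul_ite, mul_one, mul_zero, Finset.sum_ite_eq',
        Finset.mem_univ, if_true] at h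
      linear_combination h
    rw [← span_cof] at hz
    induction hz using Submodule.span_induction with
    | mem x hx => obtain ⟨p, rfl⟩ := hx; exact hker p
    | zero => rw [smul_zero]
    | add c e _ _ hc he => rw [smul_add, hc, he, add_zero]
    | smul c e _ he => rw [smul_comm, he, smul_zero]
  · have hb : LinearMap.range π = Ideal.span (Set.range b) := by
      refine le_antisymm ?_ (Submodule.span_le.mpr (by rintro _ ⟨i, rfl⟩; exact ⟨_, rfl⟩))
      rintro _ ⟨v, rfl⟩
      rw [hπ]
      exact Ideal.sum_mem _ fun i _ => Ideal.mul_mem_left _ _ (Ideal.subset_span ⟨i, rfl⟩)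
    rw [hb, ← span_cof, Ideal.span_mul_span']
    congr 1
    ext z
    simp only [Set.mem_range, Set.singleton_mul, Set.mem_image, exists_exists_eq_and, ← ha]
  · by_cases htop : CAlgX.minorIdeal Ψ m = ⊤
    · rw [LocCoh.idealDepth, if_pos (by rw [htop]; simp)]; exact le_top
    rcases (McCoy.annihilator_eq_bot_iff _).mp hann with h | ⟨y, hy, hyreg⟩
    · exact absurd h htop
    rcases (McCoy.annihilator_eq_bot_iff _).mp (hmod y hy hyreg) with h | ⟨z, hz, hzreg⟩
    · exfalso
      apply htop
      rw [← map_minorIdeal] at h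
      have := congrArg (Ideal.comap (Ideal.Quotient.mk (Ideal.span {y}))) h
      rw [Ideal.comap_map_of_surjective _ Ideal.Quotient.mk_surjective, ← RingHom.ker_eq_comap_bot, Ideal.mk_ker,
        Ideal.comap_top, sup_eq_left.mpr ((Ideal.span_singleton_le_iff_mem _).mpr hy)] at this
      exact this
    rw [← map_minorIdeal, Ideal.mem_map_iff_of_surjective _ Ideal.Quotient.mk_surjective] at hz
    obtain ⟨z, hzI, rfl⟩ := hz
    rw [LocCoh.idealDepth, if_neg (by simpa [smul_eq_mul, Ideal.mul_top] using htop)]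
    refine le_iSup₂_of_le [y, z] ⟨?_, by simp [hy, hzI]⟩ (by simp)
    rw [RingTheory.Sequence.isWeaklyRegular_cons_iff, RingTheory.Sequence.isWeaklyRegular_cons_iff]
    refine ⟨isLeftRegular_iff.mp hyreg.left, IsSMulRegular.of_right_eq_zero_of_smul fun w hw => ?_,
      RingTheory.Sequence.IsWeaklyRegular.nil _ _⟩
    induction w using Submodule.Quotient.induction_on with
    | H w =>
      open scoped Pointwise in
      have hmem : ∀ c : R, c ∈ (y • (⊤ : Submodule R R)) ↔ c ∈ Ideal.span {y} := fun c => by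
        rw [Submodule.mem_smul_pointwise_iff_exists, Ideal.mem_span_singleton']
        exact ⟨fun ⟨d, _, hd⟩ => ⟨d, by rw [← hd, smul_eq_mul, mul_comm]⟩, fun ⟨d, hd⟩ => ⟨d, trivial, by rw [smul_eq_mul, mul_comm, hd]⟩⟩
      rw [← Submodule.Quotient.mk_smul, Submodule.Quotient.mk_eq_zero, hmem, smul_eq_mul] at hw
      rw [Submodule.Quotient.mk_eq_zero, hmem, ← Ideal.Quotient.eq_zero_iff_mem]
      exact hzreg.left.eq_iff.mp ((by rw [← map_mul, Ideal.Quotient.eq_zero_iff_mem.mpr hw, mul_zero] :
        Ideal.Quotient.mk (Ideal.span {y}) z * Ideal.Quotient.mk _ w = Ideal.Quotient.mk _ z * 0))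

end Groth.Agent.H3CAlg.HilbertBurch
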