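import Groth.Agent.H3CAlg.DiagProps
import Groth.Agent.H3CAlg.CMTor
import Mathlib

/-!
# Positivity of the Tor formula by reduction to the diagonal
-/

set_option autoImplicit false
set_option linter.style.haveILetI false
universe u

open TensorProduct RingTheory.Sequence CategoryTheory Groth.Agent.H8Props.FieldDim

namespace Groth.Agent.H3CAlg.DiagMain

open Groth.Agent.H1Koszul

section core

variable {A E : Type u} [CommRing A] [CommRing E] [Algebra A E] [IsNoetherianRing A] [IsNoetherianRing E]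
  (Δ : E →ₐ[A] A) {l : List E} (hl : Ideal.ofList l = RingHom.ker Δ)

include hl in
/-- Vanishing on quotients extended from the base. -/
theorem vanish [Module.Flat A E] (hE : ∀ i : ℕ, Subsingleton (H E l ((i + 1 : ℕ) : ℤ))) (I : Ideal A) (i : ℕ) :
    Subsingleton (H (E ⧸ I.map (algebraMap A E)) l ((i + 1 : ℕ) : ℤ)) := by
  haveI := DiagRed.subsingleton_H_baseChange Δ hl hE i (A ⧸ I)
  exact DiagRed.subsingleton_H_congr l
    (Algebra.TensorProduct.quotIdealMapEquivTensorQuot E I).symm.toLinearEquiv _ this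

omit [IsNoetherianRing A] [IsNoetherianRing E] in
theorem chi_congr {N N' M : Type u} [AddCommGroup N] [Module A N] [AddCommGroup N'] [Module A N']
    [AddCommGroup M] [Module A M] (e : N ≃ₗ[A] N') : IntMult.chi A N M = IntMult.chi A N' M := by
  refine finsum_congr fun i => ?_
  have h : Module.length A (DRing.Tor A i N M) = Module.length A (DRing.Tor A i N' M) :=
    ((((CategoryTheory.Tor (ModuleCat.{u} A) i).mapIso e.toModuleIso).app (ModuleCat.of A M)).toLinearEquiv).length_eq
  exact congrArg (fun z : ℕ∞ => (-1 : ℤ) ^ i * (z.toNat : ℤ)) h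

theorem length_quot_smul' {S : Type u} [CommRing S] (I J : Ideal S) :
    Module.length S ((S ⧸ I) ⧸ (J • (⊤ : Submodule S (S ⧸ I)))) = Module.length S (S ⧸ (I ⊔ J)) :=
  TorMult.length_quot_smul I J

include hl in
/-- The Tor formula for cyclic modules as a Koszul Euler characteristic. -/
theorem chi_cyclic (K : Ideal E) [Module.Flat A (E ⧸ K)] (Q P : Ideal A) (hK : K.map Δ.toRingHom = Q)
    (hX : ∀ i : ℕ, Subsingleton (H (E ⧸ K) l ((i + 1 : ℕ) : ℤ))) :
    IntMult.chi A (A ⧸ Q) (A ⧸ P) = H1Koszul.chi l (E ⧸ (K ⊔ P.map (algebraMap A E))) := by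
  have hΔs : Function.Surjective Δ := fun x => ⟨algebraMap A E x, Δ.commutes x⟩
  have hcomap : Q.comap Δ.toRingHom = K ⊔ RingHom.ker Δ := by
    rw [← hK, Ideal.comap_map_of_surjective' Δ.toRingHom hΔs]
    rfl
  have hle : K ≤ Q.comap Δ.toRingHom := hcomap ▸ le_sup_left
  let π : (E ⧸ K) →ₗ[E] (E ⧸ Q.comap Δ.toRingHom) :=
    Submodule.mapQ K (Q.comap Δ.toRingHom) LinearMap.id (by rwa [Submodule.comap_id])
  have hπ : Function.Surjective π := fun z => by
    obtain ⟨z, rfl⟩ := Submodule.Quotient.mk_surjective _ z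
    exact ⟨Submodule.Quotient.mk z, rfl⟩
  have hk : LinearMap.ker π = Ideal.ofList l • (⊤ : Submodule E (E ⧸ K)) := by
    rw [Submodule.ker_mapQ, Submodule.comap_id, hcomap, hl, Submodule.map_sup, Submodule.mkQ_map_self,
      bot_sup_eq,
      show Submodule.map (Submodule.mkQ K) (RingHom.ker Δ : Submodule E E) =
        Submodule.map (Submodule.mkQ K) (RingHom.ker Δ • (⊤ : Submodule E E)) by
          rw [smul_eq_mul, Ideal.mul_top],
      Submodule.map_smul'', Submodule.map_top, Submodule.range_mkQ]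
  let e₀ : (E ⧸ Q.comap Δ.toRingHom) ≃ₐ[A] A ⧸ Q :=
    (Ideal.quotientEquivAlgOfEq A (show Q.comap Δ.toRingHom = RingHom.ker ((Ideal.Quotient.mkₐ A Q).comp Δ) by
      ext z
      rw [Ideal.mem_comap, RingHom.mem_ker, AlgHom.comp_apply, Ideal.Quotient.mkₐ_eq_mk,
        Ideal.Quotient.eq_zero_iff_mem]
      rfl)).trans
      (Ideal.quotientKerAlgEquivOfSurjective ((Ideal.Quotient.mkₐ_surjective A Q).comp hΔs))
  rw [← chi_congr e₀.toLinearEquiv, DiagRed.chi_eq Δ hl π hπ hk hX (A ⧸ P)]
  haveI : Module.Finite E (E ⧸ (K ⊔ P.map (algebraMap A E))) := inferInstance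
  let e₁ : ((E ⧸ K) ⊗[A] (A ⧸ P)) ≃ₗ[E] E ⧸ (K ⊔ P.map (algebraMap A E)) :=
    ((Algebra.TensorProduct.quotIdealMapEquivTensorQuot (E ⧸ K) P).symm.toLinearEquiv.restrictScalars E).trans
      (((Ideal.quotientEquivAlgOfEq E (show P.map (algebraMap A (E ⧸ K)) =
          (P.map (algebraMap A E)).map (Ideal.Quotient.mkₐ E K) by
            rw [IsScalarTower.algebraMap_eq A E (E ⧸ K), ← Ideal.map_map]; rfl)).trans
        (DoubleQuot.quotQuotEquivQuotSupₐ E K (P.map (algebraMap A E)))).toLinearEquiv)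
  unfold H1Koszul.chi
  exact Finset.sum_congr rfl fun i _ => by rw [len_congr e₁ l (i : ℤ)]

omit [IsNoetherianRing A] [IsNoetherianRing E] in
/-- The cyclic module on the diagonal is flat over the quotient of the base. -/
theorem flat_quotientMap (K : Ideal E) [Module.Flat A (E ⧸ K)] (P : Ideal A)
    (hle : P ≤ (K ⊔ P.map (algebraMap A E)).comap (algebraMap A E)) :
    (Ideal.quotientMap (K ⊔ P.map (algebraMap A E)) (algebraMap A E) hle).Flat := by
  let e : ((E ⧸ K) ⧸ P.map (algebraMap A (E ⧸ K))) ≃+* E ⧸ (K ⊔ P.map (algebraMap A E)) :=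
    ((Ideal.quotientEquivAlgOfEq E (show P.map (algebraMap A (E ⧸ K)) =
          (P.map (algebraMap A E)).map (Ideal.Quotient.mkₐ E K) by
            rw [IsScalarTower.algebraMap_eq A E (E ⧸ K), ← Ideal.map_map]; rfl)).trans
        (DoubleQuot.quotQuotEquivQuotSupₐ E K (P.map (algebraMap A E)))).toRingEquiv
  have h1 : (algebraMap (A ⧸ P) ((E ⧸ K) ⧸ P.map (algebraMap A (E ⧸ K)))).Flat := by
    rw [RingHom.flat_algebraMap_iff]
    exact Module.Flat.of_linearEquiv
      (Algebra.TensorProduct.quotIdealMapEquivQuotTensor (E ⧸ K) P).toLinearEquiv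
  have h2 : e.toRingHom.Flat := RingHom.Flat.of_bijective e.bijective
  have h3 := h1.comp h2
  convert h3 using 1
  refine Ideal.Quotient.ringHom_ext (RingHom.ext fun x => ?_)
  rfl

end core

theorem flat_of_hom {R S A L : Type u} [CommRing R] [CommRing S] [CommRing A] [CommRing L] [Algebra R A]
    (M : Submonoid R) [IsLocalization M A] [Algebra S L] (N : Submonoid S) [IsLocalization N L] (ι : R →+* S)
    (hι : ι.Flat) (α : A →+* L) (hα : ∀ r, algebraMap S L (ι r) = α (algebraMap R A r)) : α.Flat := by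
  letI : Algebra R S := ι.toAlgebra
  haveI : Module.Flat R S := hι
  haveI : Module.Flat R (S ⧸ (⊥ : Ideal S)) :=
    Module.Flat.of_linearEquiv ((AlgEquiv.quotientBot R S).toLinearEquiv)
  exact DiagLocal.flat_of_quotient M N (⊥ : Ideal S) (RingHom.id L) (fun x => ⟨x, rfl⟩)
    (by rw [Ideal.map_bot]; exact (RingHom.injective_iff_ker_eq_bot _).mp fun _ _ h => h) α hα

theorem isRegularLocalRing_descend {S T : Type u} [CommRing S] [IsNoetherianRing S] [IsLocalRing S] [CommRing T]
    [IsRegularLocalRing T] (f : S →+* T) (hf : f.Flat) (hloc : ∀ x, IsUnit (f x) → IsUnit x) :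
    IsRegularLocalRing S := by
  letI : Algebra S T := f.toAlgebra
  haveI : Module.Flat S T := hf
  haveI : IsLocalHom (algebraMap S T) := ⟨hloc⟩
  exact H05EGA4.isRegularLocalRing_of_flat (B := T)

section right

variable {k : Type u} [Field k] {R : Type u} [CommRing R] [Algebra k R] (Q₀ : Ideal R) [Q₀.IsPrime]
  (A : Type u) [CommRing A] [Algebra R A] [IsLocalization.AtPrime A Q₀]

theorem flat_includeRight : ((Algebra.TensorProduct.includeRight (R := k) (A := R) (B := R)).toRingHom).Flat := by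
  have hl : (Algebra.TensorProduct.includeLeftRingHom : R →+* R ⊗[k] R).Flat := by
    show RingHom.Flat (algebraMap R (R ⊗[k] R))
    rw [RingHom.flat_algebraMap_iff]
    infer_instance
  have hb : Function.Bijective (Algebra.TensorProduct.comm k R R).toRingHom :=
    (Algebra.TensorProduct.comm k R R).bijective
  have h' := hl.comp (RingHom.Flat.of_bijective hb)
  convert h' using 1
  exact RingHom.ext fun r => rfl

theorem flat_right : (DiagLocal.right k Q₀ A).Flat :=
  flat_of_hom Q₀.primeCompl (DiagLocal.D k Q₀).primeCompl _ (flat_includeRight (k := k) (R := R))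
    (DiagLocal.right k Q₀ A) fun r => (DiagLocal.right_algebraMap k Q₀ A r).symm

theorem vanish_right [IsNoetherianRing A] [IsNoetherianRing (DiagLocal.E k Q₀)] (l : List (DiagLocal.E k Q₀))
    (hl : Ideal.ofList l = RingHom.ker (DiagLocal.diag k Q₀ A))
    (hE : ∀ i : ℕ, Subsingleton (H (DiagLocal.E k Q₀) l ((i + 1 : ℕ) : ℤ))) (I : Ideal A) (i : ℕ) :
    Subsingleton (H (DiagLocal.E k Q₀ ⧸ I.map (DiagLocal.right k Q₀ A)) l ((i + 1 : ℕ) : ℤ)) := by
  letI : Algebra A (DiagLocal.E k Q₀) := (DiagLocal.right k Q₀ A).toAlgebra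
  let Δ' : DiagLocal.E k Q₀ →ₐ[A] A :=
    { DiagLocal.diag k Q₀ A with commutes' := DiagLocal.diag_right k Q₀ A }
  haveI : Module.Flat A (DiagLocal.E k Q₀) := flat_right Q₀ A
  exact vanish Δ' (l := l) hl hE I i

end right

-- data of a proper intersection in a smooth domain with coordinates
set_option maxHeartbeats 800000 in
theorem main {k : Type u} [Field k] {R : Type u} [CommRing R] [IsDomain R] [Algebra k R] [Algebra.Smooth k R]
    {n : ℕ} (g : MvPolynomial (Fin n) k →ₐ[k] R) (hg : g.toRingHom.FormallyUnramified)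
    (Q₀ : Ideal R) [Q₀.IsPrime] (A : Type u) [CommRing A] [Algebra R A] [IsLocalization.AtPrime A Q₀]
    [IsLocalRing A] (p q : Ideal R) [p.IsPrime] [q.IsPrime] (hp : p ≤ Q₀) (hq : q ≤ Q₀) {N a b c : ℕ}
    (hN : ringKrullDim R = N) (hnN : n ≤ N) (ha : ringKrullDim (R ⧸ p) = a) (hb : ringKrullDim (R ⧸ q) = b)
    (hc : ringKrullDim (R ⧸ Q₀) = c) (hsum : a + b = N + c)
    (hmax : ∀ S : Ideal A, S.IsPrime → p.map (algebraMap R A) ≤ S → q.map (algebraMap R A) ≤ S →
      S = IsLocalRing.maximalIdeal A) :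
    0 < IntMult.chi A (A ⧸ q.map (algebraMap R A)) (A ⧸ p.map (algebraMap R A)) ∧
      (Module.length A (A ⧸ (p.map (algebraMap R A) ⊔ q.map (algebraMap R A))) = 1 →
        IntMult.chi A (A ⧸ q.map (algebraMap R A)) (A ⧸ p.map (algebraMap R A)) = 1 ∧
          IsRegularLocalRing (A ⧸ p.map (algebraMap R A))) := by
  haveI : Algebra.FiniteType k R := inferInstance
  haveI : IsNoetherianRing R := Algebra.FiniteType.isNoetherianRing k R
  haveI : IsNoetherianRing A := IsLocalization.isNoetherianRing Q₀.primeCompl A inferInstance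
  have hinjA : Function.Injective (algebraMap R A) :=
    IsLocalization.injective A (M := Q₀.primeCompl)
      (le_nonZeroDivisors_of_noZeroDivisors fun h => h Q₀.zero_mem)
  haveI := DiagLocal.isRegularLocalRing k Q₀
  letI algAE : Algebra A (DiagLocal.E k Q₀) := (DiagLocal.left k Q₀ A).toAlgebra
  let Δ : DiagLocal.E k Q₀ →ₐ[A] A :=
    { DiagLocal.diag k Q₀ A with commutes' := DiagLocal.diag_left k Q₀ A }
  have hΔs : Function.Surjective Δ := DiagLocal.diag_surjective k Q₀ A
  obtain ⟨l, hldef⟩ : ∃ l, l = DiagLocal.gens k Q₀ g := ⟨_, rfl⟩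
  have hlen : l.length = n := by rw [hldef, DiagLocal.gens, List.length_ofFn]
  have hl : Ideal.ofList l = RingHom.ker Δ := hldef ▸ DiagLocal.span_gens k Q₀ A g hg hinjA
  have hlm : ∀ r ∈ l, r ∈ IsLocalRing.maximalIdeal (DiagLocal.E k Q₀) := fun r hr =>
    IsLocalRing.le_maximalIdeal (RingHom.ker_ne_top Δ) (hl.le (Ideal.subset_span hr))
  -- dimension of the diagonal local ring
  have hE2 : ((N + N - c : ℕ) : WithBot ℕ∞) ≤ ringKrullDim (DiagLocal.E k Q₀) := by
    have hb0 : ringKrullDim (R ⧸ (⊥ : Ideal R)) = N :=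
      (ringKrullDim_eq_of_ringEquiv (RingEquiv.quotientBot R)).trans hN
    haveI : (⊥ : Ideal R).IsPrime := Ideal.isPrime_bot
    exact (DiagLocal.le_ringKrullDim_quotient k Q₀ ⊥ ⊥ bot_le bot_le hb0 hb0 hc).trans
      (ringKrullDim_quotient_le _)
  have hA : ∃ dA : ℕ, ringKrullDim A = dA ∧ dA + c = N := by
    have h := height_add_dim_quotient k R Q₀
    rw [hc, hN] at h
    rw [IsLocalization.AtPrime.ringKrullDim_eq_height Q₀ A]
    revert h
    generalize Q₀.height = t
    intro h
    induction t using ENat.recTopCoe with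
    | top =>
      have h' : (⊤ : ℕ∞) + (c : ℕ∞) = (N : ℕ∞) := WithBot.coe_injective h
      simp at h'
    | coe t => exact ⟨t, rfl, by exact_mod_cast h⟩
  obtain ⟨dA, hdA, hdAc⟩ := hA
  have hwr : IsWeaklyRegular (DiagLocal.E k Q₀) l := by
    refine H8Props.MiracleFlat.isWeaklyRegular_of_supportDim l _ hlm
      (H4Depth.isCohenMacaulayLocalRing_of_regular _).supportDim_eq_depth ?_
    rw [Module.supportDim_eq_of_equiv (Submodule.quotEquivOfEq _ (Ideal.ofList l) (by rw [smul_eq_mul, Ideal.mul_top])),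
      Module.supportDim_quotient_eq_ringKrullDim, Module.supportDim_self_eq_ringKrullDim,
      ringKrullDim_eq_of_ringEquiv ((Ideal.quotEquivOfEq hl).trans (RingHom.quotientKerEquivOfSurjective hΔs)),
      hdA, hlen]
    refine le_trans ?_ hE2
    exact_mod_cast (show dA + n ≤ N + N - c by omega)
  have hE : ∀ i : ℕ, Subsingleton (H (DiagLocal.E k Q₀) l ((i + 1 : ℕ) : ℤ)) := fun i =>
    DiagLocal.subsingleton_H_of_regular l _ hwr _ (by positivity)
  -- the right quotient
  obtain ⟨K, hKdef⟩ : ∃ K, K = (q.map (algebraMap R A)).map (DiagLocal.right k Q₀ A) := ⟨_, rfl⟩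
  have hKΔ : K.map Δ.toRingHom = q.map (algebraMap R A) := by
    rw [hKdef, Ideal.map_map, show Δ.toRingHom.comp (DiagLocal.right k Q₀ A) = RingHom.id A from
      RingHom.ext (DiagLocal.diag_right k Q₀ A), Ideal.map_id]
  haveI hXflat : Module.Flat A (DiagLocal.E k Q₀ ⧸ K) := by
    have h := DiagLocal.flat_left k Q₀ A q (DiagLocal.E k Q₀ ⧸ K) (Ideal.Quotient.mk K)
      Ideal.Quotient.mk_surjective (Ideal.mk_ker.trans hKdef)
    exact RingHom.flat_algebraMap_iff.mp h
  have hX : ∀ i : ℕ, Subsingleton (H (DiagLocal.E k Q₀ ⧸ K) l ((i + 1 : ℕ) : ℤ)) := fun i => by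
    rw [hKdef]
    exact vanish_right Q₀ A l hl hE (q.map (algebraMap R A)) i
  rw [chi_cyclic Δ hl K (q.map (algebraMap R A)) (p.map (algebraMap R A)) hKΔ hX]
  obtain ⟨C, hCdef⟩ : ∃ C, C = K ⊔ (p.map (algebraMap R A)).map (algebraMap A (DiagLocal.E k Q₀)) := ⟨_, rfl⟩
  rw [← hCdef]
  -- only the closed point lies over the diagonal
  have hCJ : ∀ S : PrimeSpectrum (DiagLocal.E k Q₀), C ⊔ Ideal.ofList l ≤ S.asIdeal →
      S.asIdeal = IsLocalRing.maximalIdeal (DiagLocal.E k Q₀) := by
    intro S hS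
    have hker : RingHom.ker Δ.toRingHom ≤ S.asIdeal := hl.ge.trans (le_sup_right.trans hS)
    haveI : (S.asIdeal.map Δ.toRingHom).IsPrime := Ideal.map_isPrime_of_surjective hΔs hker
    have h1 : S.asIdeal.map Δ.toRingHom = IsLocalRing.maximalIdeal A := by
      refine hmax _ inferInstance ?_ ?_
      · intro x hx
        have : algebraMap A (DiagLocal.E k Q₀) x ∈ S.asIdeal := by
          refine (le_sup_left.trans hS) ?_
          rw [hCdef]
          exact Ideal.mem_sup_right (Ideal.mem_map_of_mem _ hx)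
        have h := Ideal.mem_map_of_mem Δ.toRingHom this
        rwa [show Δ.toRingHom (algebraMap A (DiagLocal.E k Q₀) x) = x from Δ.commutes x] at h
      · rw [← hKΔ]
        exact Ideal.map_mono ((hCdef ▸ le_sup_left : K ≤ C).trans (le_sup_left.trans hS))
    have h2 := congrArg (Ideal.comap Δ.toRingHom) h1
    rw [Ideal.comap_map_of_surjective' Δ.toRingHom hΔs, sup_eq_left.mpr hker] at h2
    rw [h2]
    exact IsLocalRing.eq_maximalIdeal (Ideal.comap_isMaximal_of_surjective _ hΔs)
  have hne := TorMult.length_ne_top_of_eq_maximal C (Ideal.ofList l) hCJ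
  have hdimC : Module.supportDim (DiagLocal.E k Q₀) (DiagLocal.E k Q₀ ⧸ C) = (n : WithBot ℕ∞) := by
    have hsmall : Small l (DiagLocal.E k Q₀ ⧸ C) := by
      rw [hldef, DiagLocal.gens]
      refine small_ofFn _ (Module.length_ne_top_iff.1 ?_)
      rw [← H1Koszul.span_ofFn]
      rw [hldef, DiagLocal.gens] at hne
      exact hne
    rw [hldef, DiagLocal.gens] at hsmall
    refine le_antisymm (H1Koszul.dim_chi n _ (fun j => hlm _ (by rw [hldef, DiagLocal.gens, List.mem_ofFn]; exact ⟨j, rfl⟩))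
      _ hsmall).1 ?_
    rw [Module.supportDim_quotient_eq_ringKrullDim]
    have h := DiagLocal.le_ringKrullDim_quotient k Q₀ p q hp hq ha hb hc
    refine le_trans (le_trans ?_ h) (le_of_eq (ringKrullDim_eq_of_ringEquiv (Ideal.quotEquivOfEq ?_)))
    · exact_mod_cast (show n ≤ a + b - c by omega)
    · rw [hCdef, hKdef, Ideal.map_sup, Ideal.map_map, Ideal.map_map, Ideal.map_map, Ideal.map_map, sup_comm]
      congr 1
      · congr 1
        exact RingHom.ext fun r => (DiagLocal.right_algebraMap k Q₀ A r).symm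
      · congr 1
        exact RingHom.ext fun r => (DiagLocal.left_algebraMap k Q₀ A r).symm
  refine ⟨?_, fun h1 => ?_⟩
  · have hsmall : Small l (DiagLocal.E k Q₀ ⧸ C) := by
      rw [hldef, DiagLocal.gens]
      refine small_ofFn _ (Module.length_ne_top_iff.1 ?_)
      rw [← H1Koszul.span_ofFn]
      rw [hldef, DiagLocal.gens] at hne
      exact hne
    rw [hldef, DiagLocal.gens] at hsmall ⊢
    exact (H1Koszul.dim_chi n _ (fun j => hlm _ (by rw [hldef, DiagLocal.gens, List.mem_ofFn]; exact ⟨j, rfl⟩))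
      _ hsmall).2.2.2 hdimC
  · -- reduced point: everything is regular
    haveI hsimp := (Module.length_eq_one_iff (R := A)).mp h1
    have hPQ : p.map (algebraMap R A) ⊔ q.map (algebraMap R A) = IsLocalRing.maximalIdeal A :=
      IsLocalRing.eq_maximalIdeal (Ideal.isMaximal_def.mpr (isSimpleModule_iff_isCoatom.mp hsimp))
    have hmE : C ⊔ Ideal.ofList l = IsLocalRing.maximalIdeal (DiagLocal.E k Q₀) := by
      have hmap : C.map Δ.toRingHom = IsLocalRing.maximalIdeal A := by
        rw [hCdef, Ideal.map_sup, hKΔ, Ideal.map_map, show Δ.toRingHom.comp (algebraMap A (DiagLocal.E k Q₀)) =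
          RingHom.id A from RingHom.ext Δ.commutes, Ideal.map_id, sup_comm, hPQ]
      have h2 := congrArg (Ideal.comap Δ.toRingHom) hmap
      rw [Ideal.comap_map_of_surjective' Δ.toRingHom hΔs] at h2
      rw [hl]
      exact h2.trans (IsLocalRing.eq_maximalIdeal (Ideal.comap_isMaximal_of_surjective _ hΔs))
    have hCne : C ≠ ⊤ := fun h => by
      rw [h, top_sup_eq] at hmE
      exact (IsLocalRing.maximalIdeal.isMaximal _).ne_top hmE.symm
    haveI : Nontrivial (DiagLocal.E k Q₀ ⧸ C) := Ideal.Quotient.nontrivial_iff.mpr hCne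
    haveI : IsLocalRing (DiagLocal.E k Q₀ ⧸ C) :=
      .of_surjective' (Ideal.Quotient.mk C) Ideal.Quotient.mk_surjective
    have hdC : ringKrullDim (DiagLocal.E k Q₀ ⧸ C) = n :=
      (Module.supportDim_quotient_eq_ringKrullDim C).symm.trans hdimC
    haveI hregC : IsRegularLocalRing (DiagLocal.E k Q₀ ⧸ C) := by
      refine IsRegularLocalRing.of_spanFinrank_maximalIdeal_le _ ?_
      rw [hdC, show IsLocalRing.maximalIdeal (DiagLocal.E k Q₀ ⧸ C) =
          (IsLocalRing.maximalIdeal (DiagLocal.E k Q₀)).map (Ideal.Quotient.mk C) from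
          (IsLocalRing.map_maximalIdeal_of_surjective _ Ideal.Quotient.mk_surjective).symm, ← hmE,
        Ideal.map_sup, Ideal.map_quotient_self, bot_sup_eq, show Ideal.ofList l = Ideal.span {x | x ∈ l} from rfl,
        Ideal.map_span]
      have hcard : ((Ideal.Quotient.mk C) '' {x | x ∈ l}).ncard ≤ n := by
        classical
        refine (Set.ncard_image_le (l.finite_toSet)).trans ?_
        rw [← hlen, show {x | x ∈ l} = (l.toFinset : Set (DiagLocal.E k Q₀)) by ext; simp, Set.ncard_coe_finset]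
        exact l.toFinset_card_le
      exact_mod_cast (Submodule.spanFinrank_span_le_ncard_of_finite ((l.finite_toSet).image _)).trans hcard
    refine ⟨?_, ?_⟩
    · have hwC : IsWeaklyRegular (DiagLocal.E k Q₀ ⧸ C) l := by
        refine H8Props.MiracleFlat.isWeaklyRegular_of_supportDim l _ hlm
          (CMTor.isCM_quotient C (H4Depth.isCohenMacaulayLocalRing_of_regular _)) ?_
        rw [hdimC, hlen]
        have h0 : Module.supportDim (DiagLocal.E k Q₀)
            ((DiagLocal.E k Q₀ ⧸ C) ⧸ (Ideal.ofList l • (⊤ : Submodule (DiagLocal.E k Q₀) (DiagLocal.E k Q₀ ⧸ C)))) ≤ 0 := by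
          rw [Module.supportDim]
          haveI : Subsingleton (Module.support (DiagLocal.E k Q₀)
              ((DiagLocal.E k Q₀ ⧸ C) ⧸ (Ideal.ofList l • (⊤ : Submodule (DiagLocal.E k Q₀) (DiagLocal.E k Q₀ ⧸ C))))) := by
            refine ⟨fun x y => Subtype.ext (PrimeSpectrum.ext ?_)⟩
            have key : ∀ z ∈ Module.support (DiagLocal.E k Q₀)
                ((DiagLocal.E k Q₀ ⧸ C) ⧸ (Ideal.ofList l • (⊤ : Submodule (DiagLocal.E k Q₀) (DiagLocal.E k Q₀ ⧸ C)))),
                (z : PrimeSpectrum _).asIdeal = IsLocalRing.maximalIdeal (DiagLocal.E k Q₀) := fun z hz => by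
              rw [Groth.Agent.H4Depth.support_quotient_smul_top, Set.mem_inter_iff, Module.support_eq_zeroLocus,
                Ideal.annihilator_quotient, PrimeSpectrum.mem_zeroLocus, PrimeSpectrum.mem_zeroLocus] at hz
              exact hCJ z (sup_le hz.1 hz.2)
            rw [key x x.2, key y y.2]
          exact Order.krullDim_nonpos_of_subsingleton
        exact le_trans (add_le_add h0 le_rfl) (le_of_eq (zero_add _))
      rw [TorMult.chi_eq_length_of_regular l _ hwC, TorMult.length_quot_smul, hmE]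
      haveI : IsSimpleModule (DiagLocal.E k Q₀) (DiagLocal.E k Q₀ ⧸ IsLocalRing.maximalIdeal (DiagLocal.E k Q₀)) :=
        isSimpleModule_iff_isCoatom.mpr (Ideal.isMaximal_def.mp (IsLocalRing.maximalIdeal.isMaximal _))
      rw [Module.length_eq_one]
      rfl
    · subst hCdef
      have hle : p.map (algebraMap R A) ≤ (K ⊔ (p.map (algebraMap R A)).map
          (algebraMap A (DiagLocal.E k Q₀))).comap (algebraMap A (DiagLocal.E k Q₀)) :=
        fun x hx => Ideal.mem_sup_right (Ideal.mem_map_of_mem _ hx)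
      have hfl := flat_quotientMap K (p.map (algebraMap R A)) hle
      have hpne : p.map (algebraMap R A) ≠ ⊤ := fun h => hCne (eq_top_iff.mpr fun z _ =>
        Ideal.mem_sup_right (by rw [h, Ideal.map_top]; trivial))
      haveI : Nontrivial (A ⧸ p.map (algebraMap R A)) := Ideal.Quotient.nontrivial_iff.mpr hpne
      haveI : IsLocalRing (A ⧸ p.map (algebraMap R A)) :=
        .of_surjective' (Ideal.Quotient.mk _) Ideal.Quotient.mk_surjective
      refine isRegularLocalRing_descend _ hfl fun x hx => ?_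
      obtain ⟨x, rfl⟩ := Ideal.Quotient.mk_surjective x
      refine IsUnit.map _ ?_
      by_contra hne'
      have hmem : algebraMap A (DiagLocal.E k Q₀) x ∈ IsLocalRing.maximalIdeal (DiagLocal.E k Q₀) := by
        intro hu
        exact hne' (by simpa using hu.map Δ.toRingHom)
      exact (IsLocalRing.mem_maximalIdeal _).mp ((IsLocalRing.map_maximalIdeal_of_surjective _
        Ideal.Quotient.mk_surjective).le (Ideal.mem_map_of_mem _ hmem)) hx

end Groth.Agent.H3CAlg.DiagMain
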