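import Groth.Agent.H29Blow.Basic
import Groth.Agent.H29Ref.DivisorPart
import Groth.Agent.H17.KerStalk
import Groth.Agent.H3CAlg.DiagMain
import Groth.Agent.H3CAlg.DiagRegular
import Groth.Agent.H3CAlg.TorKoszul
import Groth.Prelude.Def_IntMult
import Mathlib

/-! Reduction to the diagonal at the level of stalks. -/

set_option autoImplicit false
set_option linter.style.haveILetI false

universe u

open AlgebraicGeometry CategoryTheory CategoryTheory.Limits TopologicalSpace RingTheory.Sequence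
open Groth.Agent.H1Koszul

namespace Groth.Agent.H3CAlg.DiagStalk

/-- Stalks of a pulled back ideal sheaf. -/
theorem stalkIdeal_comap {P X : Scheme.{u}} (g : P ⟶ X) (I : X.IdealSheafData) (p : P) :
    IntMult.stalkIdeal (I.comap g) p = (IntMult.stalkIdeal I (g p)).map (g.stalkMap p).hom := by
  obtain ⟨U, hU, hpU, -⟩ := exists_isAffineOpen_mem_and_subset (X := X) (x := g p) (U := ⊤) trivial
  obtain ⟨V, hV, hpV, hVU⟩ := exists_isAffineOpen_mem_and_subset (X := P) (x := p) (U := g ⁻¹ᵁ U) hpU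
  rw [H29Ref.stalkIdeal_eq _ p ⟨V, hV⟩ hpV, H29Ref.stalkIdeal_eq _ (g p) ⟨U, hU⟩ hpU,
    H29Blow.ideal_comap I g ⟨U, hU⟩ ⟨V, hV⟩ hVU, Ideal.map_map, Ideal.map_map]
  congr 1
  rw [← CommRingCat.hom_comp, ← CommRingCat.hom_comp]
  congr 1
  simp [Scheme.Hom.appLE]

theorem stalkIdeal_sup {X : Scheme.{u}} (I J : X.IdealSheafData) (x : X) :
    IntMult.stalkIdeal (I ⊔ J) x = IntMult.stalkIdeal I x ⊔ IntMult.stalkIdeal J x := by
  obtain ⟨V, hV, hxV, -⟩ := exists_isAffineOpen_mem_and_subset (X := X) (x := x) (U := ⊤) trivial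
  rw [H29Ref.stalkIdeal_eq _ x ⟨V, hV⟩ hxV, H29Ref.stalkIdeal_eq _ x ⟨V, hV⟩ hxV,
    H29Ref.stalkIdeal_eq _ x ⟨V, hV⟩ hxV, Scheme.IdealSheafData.ideal_sup, Pi.sup_apply, Ideal.map_sup]

/-- The ideal of a product of closed subschemes. -/
theorem ker_map {X Y S : Scheme.{u}} (f : X ⟶ S) (g : Y ⟶ S) (I : X.IdealSheafData) (J : Y.IdealSheafData) :
    (pullback.map (I.subschemeι ≫ f) (J.subschemeι ≫ g) f g I.subschemeι J.subschemeι (𝟙 _)
        (Category.comp_id _) (Category.comp_id _)).ker =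
      I.comap (pullback.fst f g) ⊔ J.comap (pullback.snd f g) := by
  refine le_antisymm ?_ (sup_le ?_ ?_)
  · generalize hK : I.comap (pullback.fst f g) ⊔ J.comap (pullback.snd f g) = K
    have h1 : I.subschemeι.ker ≤ (K.subschemeι ≫ pullback.fst f g).ker := by
      rw [Scheme.IdealSheafData.ker_subschemeι, Scheme.Hom.ker_comp, Scheme.IdealSheafData.ker_subschemeι,
        Scheme.IdealSheafData.le_map_iff_comap_le, ← hK]
      exact le_sup_left
    have h2 : J.subschemeι.ker ≤ (K.subschemeι ≫ pullback.snd f g).ker := by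
      rw [Scheme.IdealSheafData.ker_subschemeι, Scheme.Hom.ker_comp, Scheme.IdealSheafData.ker_subschemeι,
        Scheme.IdealSheafData.le_map_iff_comap_le, ← hK]
      exact le_sup_right
    let a := IsClosedImmersion.lift I.subschemeι _ h1
    let b := IsClosedImmersion.lift J.subschemeι _ h2
    have hab : a ≫ I.subschemeι ≫ f = b ≫ J.subschemeι ≫ g := by
      rw [← Category.assoc, ← Category.assoc, IsClosedImmersion.lift_fac, IsClosedImmersion.lift_fac,
        Category.assoc, Category.assoc, pullback.condition]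
    have hm : pullback.lift a b hab ≫ pullback.map (I.subschemeι ≫ f) (J.subschemeι ≫ g) f g I.subschemeι
        J.subschemeι (𝟙 _) (Category.comp_id _) (Category.comp_id _) = K.subschemeι := by
      refine pullback.hom_ext ?_ ?_
      · rw [Category.assoc, pullback.lift_fst, pullback.lift_fst_assoc, IsClosedImmersion.lift_fac]
      · rw [Category.assoc, pullback.lift_snd, pullback.lift_snd_assoc, IsClosedImmersion.lift_fac]
    conv_rhs => rw [← K.ker_subschemeι, ← hm]
    exact Scheme.Hom.le_ker_comp _ _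
  · rw [← Scheme.IdealSheafData.le_map_iff_comap_le, Scheme.IdealSheafData.map_ker, pullback.lift_fst]
    exact I.ker_subschemeι.ge.trans (Scheme.Hom.le_ker_comp _ _)
  · rw [← Scheme.IdealSheafData.le_map_iff_comap_le, Scheme.IdealSheafData.map_ker, pullback.lift_snd]
    exact J.ker_subschemeι.ge.trans (Scheme.Hom.le_ker_comp _ _)

/-- The map of local rings induced by a projection with section `σ`. -/
noncomputable def leg {P X : Scheme.{u}} (σ : X ⟶ P) (g : P ⟶ X) (h : σ ≫ g = 𝟙 X) (ξ : X) :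
    X.presheaf.stalk ξ ⟶ P.presheaf.stalk (σ ξ) :=
  X.presheaf.stalkSpecializes (specializes_of_eq (show g (σ ξ) = ξ by
    rw [← Scheme.Hom.comp_apply, h]; rfl)) ≫ g.stalkMap (σ ξ)

theorem bijective_stalkSpecializes {X : Scheme.{u}} {x y : X} (e : x = y) (hs : x ⤳ y) :
    Function.Bijective (X.presheaf.stalkSpecializes hs).hom := by
  subst e
  rw [TopCat.Presheaf.stalkSpecializes_refl]
  exact Function.bijective_id

theorem leg_stalkMap {P X : Scheme.{u}} (σ : X ⟶ P) (g : P ⟶ X) (h : σ ≫ g = 𝟙 X) (ξ : X) :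
    leg σ g h ξ ≫ σ.stalkMap ξ = 𝟙 _ := by
  have key : ∀ (e : X ⟶ X), e = 𝟙 X → ∀ hs : e ξ ⤳ ξ,
      X.presheaf.stalkSpecializes hs ≫ e.stalkMap ξ = 𝟙 _ := by
    rintro e rfl hs
    simp
  rw [leg, Category.assoc]
  have hs : (σ ≫ g) ξ ⤳ ξ := specializes_of_eq (by rw [h]; rfl)
  refine Eq.trans ?_ (key (σ ≫ g) h hs)
  rw [Scheme.Hom.stalkMap_comp]
  rfl

theorem stalkIdeal_leg {P X : Scheme.{u}} (σ : X ⟶ P) (g : P ⟶ X) (h : σ ≫ g = 𝟙 X) (ξ : X)
    (I : X.IdealSheafData) :
    IntMult.stalkIdeal (I.comap g) (σ ξ) = (IntMult.stalkIdeal I ξ).map (leg σ g h ξ).hom := by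
  rw [stalkIdeal_comap, leg, CommRingCat.hom_comp, ← Ideal.map_map, ← H29Ref.stalkIdeal_specializes]

theorem flat_leg {P X : Scheme.{u}} (σ : X ⟶ P) (g : P ⟶ X) [Flat g] (h : σ ≫ g = 𝟙 X) (ξ : X) :
    (leg σ g h ξ).hom.Flat := by
  have hb := bijective_stalkSpecializes (show g (σ ξ) = ξ by rw [← Scheme.Hom.comp_apply, h]; rfl)
    (specializes_of_eq (show g (σ ξ) = ξ by rw [← Scheme.Hom.comp_apply, h]; rfl))
  rw [leg, CommRingCat.hom_comp]
  exact (RingHom.Flat.of_bijective hb).comp (Flat.stalkMap g (σ ξ))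

/-- A flat subscheme gives a flat quotient of the local ring. -/
theorem flat_quotient {P X : Scheme.{u}} (σ : X ⟶ P) (g : P ⟶ X) (h : σ ≫ g = 𝟙 X) (ξ : X)
    (J : P.IdealSheafData) [Flat (J.subschemeι ≫ g)] (hmem : σ ξ ∈ J.support) :
    ((Ideal.Quotient.mk (IntMult.stalkIdeal J (σ ξ))).comp (leg σ g h ξ).hom).Flat := by
  obtain ⟨d, hd⟩ := IntLocal.exists_point J hmem
  have key : ∀ (p : P) (_ : J.subschemeι d = p) (φ : X.presheaf.stalk (g p) ⟶ P.presheaf.stalk p),
      φ = g.stalkMap p → ((Ideal.Quotient.mk (IntMult.stalkIdeal J p)).comp φ.hom).Flat := by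
    rintro p rfl φ rfl
    rw [IntLocal.stalkIdeal_eq_ker]
    let e := RingHom.quotientKerEquivOfSurjective
      (f := (J.subschemeι.stalkMap d).hom) (J.subschemeι.stalkMap_surjective d)
    have h1 : (Ideal.Quotient.mk (RingHom.ker (J.subschemeι.stalkMap d).hom)).comp (g.stalkMap (J.subschemeι d)).hom =
        e.symm.toRingHom.comp ((J.subschemeι ≫ g).stalkMap d).hom := by
      ext a
      apply e.injective
      refine Eq.trans ?_ (e.apply_symm_apply _).symm
      rw [Scheme.Hom.stalkMap_comp]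
      rfl
    rw [h1]
    exact (Flat.stalkMap _ d).comp (RingHom.Flat.of_bijective e.symm.bijective)
  rw [leg, CommRingCat.hom_comp, ← RingHom.comp_assoc]
  exact (RingHom.Flat.of_bijective
    (bijective_stalkSpecializes (show g (σ ξ) = ξ by rw [← Scheme.Hom.comp_apply, h]; rfl) _)).comp (key _ hd _ rfl)

/-- The core: two projections with a common section cut out by a regular sequence. -/
theorem chi_eq {A E : Type u} [CommRing A] [IsNoetherianRing A] [CommRing E] [IsNoetherianRing E]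
    (a b : A →+* E) (δ : E →+* A) (hδa : δ.comp a = RingHom.id A) (hδb : δ.comp b = RingHom.id A)
    (l : List E) (hl : Ideal.ofList l = RingHom.ker δ) (hreg : IsWeaklyRegular E l) (hbflat : b.Flat)
    (Q P : Ideal A) (hflat : ((Ideal.Quotient.mk (Q.map b)).comp a).Flat) :
    IntMult.chi A (A ⧸ Q) (A ⧸ P) = IntMult.chi E (E ⧸ RingHom.ker δ) (E ⧸ (P.map a ⊔ Q.map b)) := by
  have hE : ∀ i : ℕ, Subsingleton (H E l ((i + 1 : ℕ) : ℤ)) := fun i =>
    DiagLocal.subsingleton_H_of_regular l _ hreg _ (by positivity)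
  have hX : ∀ i : ℕ, Subsingleton (H (E ⧸ Q.map b) l ((i + 1 : ℕ) : ℤ)) := fun i => by
    letI : Algebra A E := b.toAlgebra
    haveI : Module.Flat A E := hbflat
    let Δ : E →ₐ[A] A := { δ with commutes' := fun x => RingHom.congr_fun hδb x }
    exact DiagMain.vanish Δ (l := l) hl hE Q i
  have hK : (Q.map b).map δ = Q := by rw [Ideal.map_map, hδb, Ideal.map_id]
  rw [← hl, TorKoszul.chi_eq_chi l ((S15821.result E _ hreg).1)]
  letI : Algebra A E := a.toAlgebra
  let Δ : E →ₐ[A] A := { δ with commutes' := fun x => RingHom.congr_fun hδa x }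
  haveI : Module.Flat A (E ⧸ Q.map b) := by
    have h : (algebraMap A (E ⧸ Q.map b)).Flat := by
      rw [IsScalarTower.algebraMap_eq A E (E ⧸ Q.map b)]
      exact hflat
    exact RingHom.flat_algebraMap_iff.mp h
  rw [DiagMain.chi_cyclic Δ (l := l) hl (Q.map b) Q P hK hX, sup_comm]
  rfl

end Groth.Agent.H3CAlg.DiagStalk
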