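import Groth.Agent.H3CAlg.WittComplete
import Groth.Agent.H9Hens.PairOps
import Groth.Agent.S0534
import Mathlib.RingTheory.WittVector.Truncated
import Mathlib.RingTheory.Nakayama
import Mathlib.RingTheory.AdicCompletion.Functoriality
import Mathlib.RingTheory.AdicCompletion.AsTensorProduct
import Mathlib.LinearAlgebra.TensorProduct.Quotient

/-!
# Finite projective modules over Witt vectors of a ring in which `p` is nilpotent
-/

universe u v

open WittVector
open scoped TensorProduct

namespace Groth.Agent.H3CAlg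

/-- A ring is complete for a nilpotent principal ideal. -/
theorem isAdicComplete_of_nilpotent {A : Type u} [CommRing A] {x : A} (hx : IsNilpotent x) :
    IsAdicComplete (Ideal.span {x}) A := by
  obtain ⟨k, hk⟩ := hx
  have hbot : ∀ n, k ≤ n → ((Ideal.span {x}) ^ n • ⊤ : Submodule A A) = ⊥ := fun n hn ↦ by
    rw [Ideal.span_singleton_pow, pow_eq_zero_of_le hn hk, Ideal.span_singleton_eq_bot.mpr rfl,
      Submodule.bot_smul]
  exact
    { haus' := fun z hz ↦ by
        have := hz k
        rwa [SModEq.sub_mem, hbot k le_rfl, Submodule.mem_bot, sub_zero] at this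
      prec' := fun f hf ↦ ⟨f k, fun n ↦ by
        rcases le_total n k with h | h
        · exact hf h
        · have := hf h
          rw [SModEq.sub_mem, hbot k le_rfl, Submodule.mem_bot, sub_eq_zero] at this
          rw [this]⟩ }

namespace WittProj

variable {p : ℕ} [hp : Fact p.Prime] {R : Type u} [CommRing R]

/-- The ideal `V W(R)`. -/
noncomputable abbrev VI (p : ℕ) [Fact p.Prime] (R : Type u) [CommRing R] : Ideal (WittVector p R) :=
  RingHom.ker (WittVector.constantCoeff : WittVector p R →+* R)

theorem isAdicComplete_VI (hR : IsNilpotent (p : R)) :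
    IsAdicComplete (VI p R) (WittVector p R) :=
  haveI := isAdicComplete_of_nilpotent hR
  WittComplete.isAdicComplete_ker

theorem exists_pow_le_ker_truncate (hR : IsNilpotent (p : R)) (n : ℕ) :
    ∃ m, VI p R ^ m ≤ RingHom.ker (WittVector.truncate (p := p) (R := R) n) := by
  obtain ⟨k, hk⟩ := hR
  refine ⟨k * n + 1, fun x hx ↦ ?_⟩
  obtain ⟨w, rfl⟩ := (WittComplete.mem_ker_pow_succ_iff (k * n) x).mp hx
  refine Ideal.mul_mem_right _ _ ((WittVector.mem_ker_truncate n _).mpr fun i hi ↦ ?_)
  simpa using WittComplete.coeff_pow_mul_eq_zero p hk n i hi 1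

theorem ker_truncate_one : RingHom.ker (WittVector.truncate (p := p) (R := R) 1) = VI p R := by
  ext x
  rw [WittVector.mem_ker_truncate, RingHom.mem_ker, WittVector.constantCoeff_apply]
  exact ⟨fun h ↦ h 0 one_pos, fun h i hi ↦ by obtain rfl : i = 0 := by omega
                                              exact h⟩

theorem ker_truncate_le_VI {n : ℕ} (hn : 0 < n) :
    RingHom.ker (WittVector.truncate (p := p) (R := R) n) ≤ VI p R := fun x hx ↦
  ((WittVector.mem_ker_truncate n x).mp hx 0 hn : x.coeff 0 = 0)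

theorem henselianRing_VI (hR : IsNilpotent (p : R)) : HenselianRing (WittVector p R) (VI p R) :=
  haveI := isAdicComplete_VI hR
  inferInstance

theorem iInf_ker_truncate : (⨅ n : ℕ, RingHom.ker (WittVector.truncate (p := p) (R := R) n)) = ⊥ := by
  refine eq_bot_iff.mpr fun x hx ↦ ?_
  simp only [Submodule.mem_iInf] at hx
  exact WittVector.ext fun i ↦ by
    simpa using (WittVector.mem_ker_truncate (i + 1) x).mp (hx (i + 1)) i i.lt_succ_self

/-- A linear functional maps `T P` into `T`. -/
theorem apply_mem_of_mem_smul_top {A P : Type*} [CommRing A] [AddCommGroup P] [Module A P]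
    (T : Ideal A) (f : P →ₗ[A] A) {x : P} (hx : x ∈ (T • ⊤ : Submodule A P)) : f x ∈ T :=
  Submodule.smul_induction_on hx
    (fun r hr n _ ↦ by rw [map_smul, smul_eq_mul]; exact Ideal.mul_mem_right _ _ hr)
    (fun a b ha hb ↦ by rw [map_add]; exact add_mem ha hb)

theorem iInf_smul_top_eq_bot {P : Type v} [AddCommGroup P] [Module (WittVector p R) P]
    [Module.Projective (WittVector p R) P] :
    (⨅ n : ℕ, (RingHom.ker (WittVector.truncate (p := p) (R := R) n) •
      (⊤ : Submodule (WittVector p R) P))) = ⊥ := by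
  refine eq_bot_iff.mpr fun x hx ↦ ?_
  simp only [Submodule.mem_iInf] at hx
  rw [Submodule.mem_bot, ← Module.forall_dual_apply_eq_zero_iff (WittVector p R)]
  intro f
  have : f x ∈ (⨅ n : ℕ, RingHom.ker (WittVector.truncate (p := p) (R := R) n)) :=
    Submodule.mem_iInf _ |>.mpr fun n ↦ apply_mem_of_mem_smul_top _ f (hx n)
  rwa [iInf_ker_truncate, Submodule.mem_bot] at this

theorem finite_projective_quotient {A : Type u} [CommRing A] {P : Type v} [AddCommGroup P]
    [Module A P] [Module.Finite A P] [Module.Projective A P] (T : Ideal A) :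
    Module.Finite (A ⧸ T) (P ⧸ (T • ⊤ : Submodule A P)) ∧
      Module.Projective (A ⧸ T) (P ⧸ (T • ⊤ : Submodule A P)) := by
  let e := (TensorProduct.quotTensorEquivQuotSMul P T).extendScalarsOfSurjective
    (S := A ⧸ T) Ideal.Quotient.mk_surjective
  exact ⟨Module.Finite.equiv e, Module.Projective.of_equiv e⟩

/-- An idempotent endomorphism whose image lies in `J N` is zero if `J` acts nilpotently. -/
theorem eq_zero_of_range_le_smul {A N : Type*} [CommRing A] [AddCommGroup N] [Module A N]
    (J : Ideal A) (m : ℕ) (hm : (J ^ m • ⊤ : Submodule A N) = ⊥) (e : N →ₗ[A] N)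
    (he : e ∘ₗ e = e) (h : LinearMap.range e ≤ J • ⊤) : e = 0 := by
  have h2 : ∀ k, LinearMap.range e ≤ J ^ k • ⊤ := by
    intro k
    induction k with
    | zero => simp
    | succ k ih =>
      have h3 : LinearMap.range e ≤ J • LinearMap.range e := by
        calc LinearMap.range e = Submodule.map e (LinearMap.range e) := by
              rw [← LinearMap.range_comp, he]
          _ ≤ Submodule.map e (J • ⊤) := Submodule.map_mono h
          _ = J • LinearMap.range e := by rw [Submodule.map_smul'', Submodule.map_top]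
      refine h3.trans ?_
      rw [pow_succ', ← smul_eq_mul, Submodule.smul_assoc]
      exact smul_mono_right J ih
  exact LinearMap.range_eq_bot.mp (eq_bot_iff.mpr (hm ▸ h2 m))

theorem finite_projective_of_truncations (hR : IsNilpotent (p : R)) {P : Type v} [AddCommGroup P]
    [Module (WittVector p R) P]
    (hsep : (⨅ n : ℕ, (RingHom.ker (WittVector.truncate (p := p) (R := R) n) •
      (⊤ : Submodule (WittVector p R) P))) = ⊥)
    (hP : ∀ n : ℕ, Module.Finite (WittVector p R ⧸ RingHom.ker (WittVector.truncate (p := p) (R := R) n))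
          (P ⧸ (RingHom.ker (WittVector.truncate (p := p) (R := R) n) • (⊤ : Submodule (WittVector p R) P))) ∧
        Module.Projective (WittVector p R ⧸ RingHom.ker (WittVector.truncate (p := p) (R := R) n))
          (P ⧸ (RingHom.ker (WittVector.truncate (p := p) (R := R) n) • (⊤ : Submodule (WittVector p R) P)))) :
    Module.Finite (WittVector p R) P ∧ Module.Projective (WittVector p R) P := by
  let A := WittVector p R
  let I : Ideal A := VI p R
  have hc : IsAdicComplete I A := isAdicComplete_VI hR
  have : HenselianRing A I := henselianRing_VI hR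
  have hP1 := hP 1
  rw [ker_truncate_one] at hP1
  obtain ⟨_, _⟩ := hP1
  obtain ⟨n, s, hs⟩ := Module.Finite.exists_fin' (A ⧸ I) (P ⧸ (I • ⊤ : Submodule A P))
  obtain ⟨σ, hσ⟩ := Module.projective_lifting_property s LinearMap.id hs
  obtain ⟨E, hE, hEmap⟩ := H9Hens.exists_idem_matrix_lift (LinearMap.toMatrix' (σ ∘ₗ s)) (by
    show LinearMap.toMatrix' (σ ∘ₗ s) * LinearMap.toMatrix' (σ ∘ₗ s) = _
    rw [← LinearMap.toMatrix'_comp]
    congr 1
    exact LinearMap.ext fun x ↦ by
      simp only [LinearMap.comp_apply]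
      exact congrArg σ (DFunLike.congr_fun hσ (s x)))
  -- lifts of the generators
  choose g hg using fun i ↦ Submodule.Quotient.mk_surjective (I • ⊤ : Submodule A P)
    (s (Pi.single i 1))
  let Ψ : (Fin n → A) →ₗ[A] P := Fintype.linearCombination A g
  have hred : ∀ c : Fin n → A, (Submodule.Quotient.mk (Ψ c) : P ⧸ (I • ⊤ : Submodule A P)) =
      s (fun i ↦ Ideal.Quotient.mk I (c i)) := by
    intro c
    rw [← Finset.univ_sum_single (fun i ↦ Ideal.Quotient.mk I (c i)), map_sum,
      show Ψ c = ∑ i, c i • g i from Fintype.linearCombination_apply .., ← Submodule.mkQ_apply,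
      map_sum]
    refine Finset.sum_congr rfl fun i _ ↦ ?_
    rw [map_smul, Submodule.mkQ_apply, hg,
      show Pi.single i (Ideal.Quotient.mk I (c i)) = Ideal.Quotient.mk I (c i) •
        (Pi.single i (1 : A ⧸ I) : Fin n → A ⧸ I) by rw [← Pi.single_smul, smul_eq_mul, mul_one],
      map_smul]
    rfl
  let Q := LinearMap.range E.mulVecLin
  let E' : (Fin n → A) →ₗ[A] Q := E.mulVecLin.rangeRestrict
  have hEp : ∀ q : Q, E' (q : Fin n → A) = q := by
    rintro ⟨_, v, rfl⟩
    apply Subtype.ext
    show E.mulVec (E.mulVec v) = E.mulVec v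
    rw [Matrix.mulVec_mulVec, hE.eq]
  have hQproj : Module.Projective A Q := Module.Projective.of_split Q.subtype E' (LinearMap.ext hEp)
  let Φ : Q →ₗ[A] P := Ψ.comp Q.subtype
  have hσs : ∀ c : Fin n → A, σ (Submodule.Quotient.mk (Ψ c)) =
      fun i ↦ Ideal.Quotient.mk I (E.mulVec c i) := by
    intro c
    rw [hred]
    funext i
    rw [← LinearMap.comp_apply, ← Matrix.toLin'_toMatrix' (σ ∘ₗ s), Matrix.toLin'_apply, ← hEmap]
    exact (RingHom.map_mulVec (Ideal.Quotient.mk I) E c i).symm
  have hinf : (⨅ m : ℕ, (I ^ m • ⊤ : Submodule A P)) = ⊥ := by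
    refine eq_bot_iff.mpr (hsep ▸ le_iInf fun m ↦ ?_)
    obtain ⟨m', hm'⟩ := exists_pow_le_ker_truncate hR m
    exact (iInf_le _ m').trans (Submodule.smul_mono_left hm')
  have hHaus : IsHausdorff I P := ⟨fun x hx ↦ by
    have : x ∈ ⨅ m : ℕ, (I ^ m • ⊤ : Submodule A P) := (Submodule.mem_iInf _).mpr fun m ↦ by
      have := hx m
      rwa [SModEq.sub_mem, sub_zero] at this
    rwa [hinf, Submodule.mem_bot] at this⟩
  have hΦ : Function.Surjective Φ := by
    suffices Function.Surjective (Φ.comp E') from
      fun y ↦ ⟨_, (this y).choose_spec⟩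
    have : IsPrecomplete I (Fin n → A) := by
      have := hc.toIsPrecomplete
      refine ⟨fun f hf ↦ ?_⟩
      have h1 : ∀ i, ∃ L : A, ∀ m, f m i ≡ L [SMOD (I ^ m • ⊤ : Submodule A A)] := fun i ↦
        IsPrecomplete.prec' (fun m ↦ f m i) fun {a b} hab ↦ by
          have := hf hab
          rw [SModEq.sub_mem] at this ⊢
          rw [smul_eq_mul, Ideal.mul_top]
          exact apply_mem_of_mem_smul_top _ (LinearMap.proj i) this
      choose L hL using h1
      refine ⟨L, fun m ↦ ?_⟩
      rw [SModEq.sub_mem, ← Finset.univ_sum_single (f m - L)]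
      refine sum_mem fun i _ ↦ ?_
      rw [show Pi.single i ((f m - L) i) = (f m i - L i) • (Pi.single i (1 : A) : Fin n → A) by
        rw [← Pi.single_smul, smul_eq_mul, mul_one, Pi.sub_apply]]
      have := hL i m
      rw [SModEq.sub_mem, smul_eq_mul, Ideal.mul_top] at this
      exact Submodule.smul_mem_smul this trivial
    apply surjective_of_mkQ_comp_surjective (I := I)
    intro y
    obtain ⟨d, hd⟩ : ∃ d : Fin n → A, (fun i ↦ Ideal.Quotient.mk I (d i)) = σ y := by
      choose d hd using fun i ↦ Ideal.Quotient.mk_surjective (σ y i)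
      exact ⟨d, funext hd⟩
    refine ⟨d, ?_⟩
    show Submodule.Quotient.mk (Ψ (E.mulVec d)) = y
    have h1 := hσs d
    rw [hred, hd, show s (σ y) = y from DFunLike.congr_fun hσ y] at h1
    rw [hred, ← h1]
    exact DFunLike.congr_fun hσ y
  have hker0 : ∀ q : Q, Φ q ∈ (I • ⊤ : Submodule A P) → q ∈ (I • ⊤ : Submodule A Q) := by
    intro q hq
    have h1 := hσs (q : Fin n → A)
    have h0 : (Submodule.Quotient.mk (Ψ (q : Fin n → A)) : P ⧸ (I • ⊤ : Submodule A P)) = 0 :=
      (Submodule.Quotient.mk_eq_zero _).mpr hq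
    rw [h0, map_zero, show E.mulVec (q : Fin n → A) = q from congrArg Subtype.val (hEp q)] at h1
    rw [← hEp q, ← Finset.univ_sum_single (q : Fin n → A), map_sum]
    refine sum_mem fun i _ ↦ ?_
    rw [show Pi.single i ((q : Fin n → A) i) = ((q : Fin n → A) i) • (Pi.single i (1 : A) : Fin n → A)
      by rw [← Pi.single_smul, smul_eq_mul, mul_one], map_smul]
    exact Submodule.smul_mem_smul (Ideal.Quotient.eq_zero_iff_mem.mp (congrFun h1 i).symm) trivial
  have hinj : Function.Injective Φ := by
    rw [injective_iff_map_eq_zero]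
    intro q hq
    have : q ∈ (⨅ m : ℕ, (RingHom.ker (WittVector.truncate (p := p) (R := R) m) •
        (⊤ : Submodule A Q))) := by
      refine (Submodule.mem_iInf _).mpr fun m ↦ ?_
      rcases Nat.eq_zero_or_pos m with rfl | hm
      · rw [show RingHom.ker (WittVector.truncate (p := p) (R := R) 0) = ⊤ from eq_top_iff.mpr
          fun x _ ↦ (WittVector.mem_ker_truncate 0 x).mpr fun i hi ↦ absurd hi i.not_lt_zero,
          Submodule.top_smul]
        trivial
      let T : Ideal A := RingHom.ker (WittVector.truncate (p := p) (R := R) m)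
      have hTI : T ≤ I := ker_truncate_le_VI hm
      have hproj : Module.Projective (A ⧸ T) (P ⧸ (T • ⊤ : Submodule A P)) := (hP m).2
      let π : (Q ⧸ (T • ⊤ : Submodule A Q)) →ₗ[A] P ⧸ (T • ⊤ : Submodule A P) :=
        Submodule.mapQ _ _ Φ (by
          rw [← Submodule.map_le_iff_le_comap, Submodule.map_smul'']
          exact smul_mono_right _ le_top)
      let π' := π.extendScalarsOfSurjective (S := A ⧸ T) Ideal.Quotient.mk_surjective
      obtain ⟨t, ht⟩ := Module.projective_lifting_property π' LinearMap.id (fun y ↦ by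
        obtain ⟨y, rfl⟩ := Submodule.Quotient.mk_surjective _ y
        obtain ⟨q, rfl⟩ := hΦ y
        exact ⟨Submodule.Quotient.mk q, rfl⟩)
      let e : (Q ⧸ (T • ⊤ : Submodule A Q)) →ₗ[A] Q ⧸ (T • ⊤ : Submodule A Q) :=
        LinearMap.id - (t.restrictScalars A).comp π
      have hπe : ∀ x, π (e x) = 0 := fun x ↦ by
        show π (x - t (π x)) = 0
        rw [map_sub]
        exact sub_eq_zero.mpr (DFunLike.congr_fun ht (π x)).symm
      have he : e ∘ₗ e = e := LinearMap.ext fun x ↦ by
        show e x - t (π (e x)) = e x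
        rw [hπe, map_zero, sub_zero]
      obtain ⟨m', hm'⟩ := exists_pow_le_ker_truncate hR m
      have hbot : (I ^ m' • ⊤ : Submodule A (Q ⧸ (T • ⊤ : Submodule A Q))) = ⊥ := by
        rw [← Submodule.range_mkQ (T • ⊤ : Submodule A Q), ← Submodule.map_top,
          ← Submodule.map_smul'', eq_bot_iff, Submodule.map_le_iff_le_comap, Submodule.comap_bot,
          Submodule.ker_mkQ]
        exact Submodule.smul_mono_left hm'
      have he0 := eq_zero_of_range_le_smul I m' hbot e he (by
        rintro _ ⟨x, rfl⟩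
        obtain ⟨q', hq'⟩ := Submodule.Quotient.mk_surjective _ (e x)
        have h1 : Submodule.Quotient.mk (Φ q') = (0 : P ⧸ (T • ⊤ : Submodule A P)) := by
          rw [← hπe x, ← hq']; rfl
        rw [← hq', ← Submodule.range_mkQ (T • ⊤ : Submodule A Q), ← Submodule.map_top,
          ← Submodule.map_smul'']
        exact Submodule.mem_map_of_mem (hker0 q'
          (Submodule.smul_mono_left hTI ((Submodule.Quotient.mk_eq_zero _).mp h1))))
      have h2 := DFunLike.congr_fun he0 (Submodule.Quotient.mk q)
      have h3 : π (Submodule.Quotient.mk q) = 0 := by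
        show Submodule.Quotient.mk (Φ q) = (0 : P ⧸ (T • ⊤ : Submodule A P))
        rw [hq, Submodule.Quotient.mk_zero]
      change Submodule.Quotient.mk q - t (π (Submodule.Quotient.mk q)) = 0 at h2
      rw [h3, map_zero, sub_zero] at h2
      exact (Submodule.Quotient.mk_eq_zero _).mp h2
    rwa [iInf_smul_top_eq_bot, Submodule.mem_bot] at this
  let eqv := LinearEquiv.ofBijective Φ ⟨hinj, hΦ⟩
  exact ⟨Module.Finite.equiv eqv, Module.Projective.of_equiv eqv⟩

/-- The kernel of `W(φ)` gives a henselian pair when `ker φ` is nil and `p` is nilpotent. -/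
theorem henselianRing_ker_map {S : Type u} [CommRing S] (φ : S →+* R)
    (hnil : ∀ a : S, φ a = 0 → IsNilpotent a) (hS : IsNilpotent (p : S)) :
    HenselianRing (WittVector p S) (RingHom.ker (WittVector.map (p := p) φ)) := by
  let K : Ideal (WittVector p S) :=
    Ideal.comap (WittVector.constantCoeff : WittVector p S →+* S) (nilradical S)
  have hVK : VI p S ≤ K := fun x hx ↦ by
    show constantCoeff x ∈ nilradical S
    rw [RingHom.mem_ker.mp hx]; exact zero_mem _
  have h1 : HenselianRing (WittVector p S) (VI p S) := henselianRing_VI hS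
  have h2 : HenselianRing (WittVector p S ⧸ VI p S) (K.map (Ideal.Quotient.mk (VI p S))) := by
    refine H9Hens.henselianRing_of_isNilpotent fun x hx ↦ ?_
    obtain ⟨y, rfl⟩ := Ideal.Quotient.mk_surjective x
    rw [Ideal.mem_quotient_iff_mem hVK] at hx
    obtain ⟨k, hk⟩ : IsNilpotent (constantCoeff y) := mem_nilradical.mp hx
    exact ⟨k, by rw [← map_pow]; exact Ideal.Quotient.eq_zero_iff_mem.mpr (RingHom.mem_ker.mpr (by
      rw [map_pow, hk]))⟩
  have : HenselianRing (WittVector p S) K := H9Hens.henselianRing_of_quotient hVK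
  refine H9Hens.henselianRing_of_le (J := K) fun x hx ↦ ?_
  refine mem_nilradical.mpr (hnil _ ?_)
  have := congrArg (fun w ↦ WittVector.coeff w 0) (RingHom.mem_ker.mp hx)
  simpa [WittVector.map_coeff] using this

end WittProj

end Groth.Agent.H3CAlg
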