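import Mathlib.RingTheory.WittVector.Basic
import Mathlib.RingTheory.MvPolynomial.WeightedHomogeneous
import Mathlib.Algebra.DualNumber

/-!
Weighted homogeneity of Witt structure polynomials.
-/

open MvPolynomial

universe u

namespace Groth.Agent.H3CAlg

section Bind

variable {σ τ : Type*} {R : Type*} [CommSemiring R]

theorem isWeightedHomogeneous_bind₁ {w : σ → ℕ} {w' : τ → ℕ} {φ : MvPolynomial σ R} {m c : ℕ}
    {g : σ → MvPolynomial τ R} (hφ : IsWeightedHomogeneous w φ m)
    (hg : ∀ i, IsWeightedHomogeneous w' (g i) (w i * c)) :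
    IsWeightedHomogeneous w' (bind₁ g φ) (m * c) := by
  classical
  rw [φ.as_sum, map_sum]
  refine IsWeightedHomogeneous.sum _ _ _ fun d hd => ?_
  rw [bind₁_monomial]
  refine IsWeightedHomogeneous.C_mul ?_ _
  have h := IsWeightedHomogeneous.prod d.support (fun i => g i ^ d i) (fun i => d i * (w i * c))
    fun i _ => by simpa using (hg i).pow (d i)
  have hd' := hφ (mem_support_iff.mp hd)
  have e : ∑ i ∈ d.support, d i * (w i * c) = m * c := by
    rw [← hd', Finsupp.weight_apply, Finsupp.sum, Finset.sum_mul]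
    exact Finset.sum_congr rfl fun i _ => by rw [smul_eq_mul, mul_assoc]
  rwa [e] at h

theorem isWeightedHomogeneous_rename {w : τ → ℕ} {w' : σ → ℕ} {φ : MvPolynomial σ R} {m c : ℕ}
    (f : σ → τ) (hφ : IsWeightedHomogeneous w' φ m) (hf : ∀ i, w (f i) = w' i * c) :
    IsWeightedHomogeneous w (rename f φ) (m * c) := by
  rw [show rename f φ = bind₁ (fun i => X (f i)) φ from
    AlgHom.congr_fun (algHom_ext (g := bind₁ (fun i => X (f i))) (fun i => by simp)) φ]
  exact isWeightedHomogeneous_bind₁ hφ fun i => hf i ▸ isWeightedHomogeneous_X R w (f i)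

end Bind

variable (p : ℕ) [hp : Fact p.Prime]

theorem isWeightedHomogeneous_wittPolynomial (R : Type*) [CommRing R] (n : ℕ) :
    IsWeightedHomogeneous (fun i => p ^ i) (wittPolynomial p R n) (p ^ n) := by
  refine IsWeightedHomogeneous.sum _ _ _ fun i hi => isWeightedHomogeneous_monomial _ _ _ ?_
  rw [Finsupp.weight_apply, Finsupp.sum_single_index (by simp), smul_eq_mul, ← pow_add]
  congr 1
  simp at hi
  omega

theorem isWeightedHomogeneous_xInTermsOfW (n : ℕ) :
    IsWeightedHomogeneous (fun i => p ^ i) (xInTermsOfW p ℚ n) (p ^ n) := by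
  induction n using Nat.strong_induction_on with
  | _ n ih =>
    rw [xInTermsOfW_eq, mul_comm]
    refine IsWeightedHomogeneous.C_mul (IsWeightedHomogeneous.sub (isWeightedHomogeneous_X ℚ (fun i => p ^ i) n) ?_) _
    refine IsWeightedHomogeneous.sum _ _ _ fun i hi => IsWeightedHomogeneous.C_mul ?_ _
    simp at hi
    have h := (ih i hi).pow (p ^ (n - i))
    rwa [smul_eq_mul, ← pow_add, Nat.sub_add_cancel hi.le] at h

variable {idx : Type*}

theorem isWeightedHomogeneous_wittStructureInt (Φ : MvPolynomial idx ℤ) (ω : idx → ℕ) (d : ℕ)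
    (hΦ : IsWeightedHomogeneous ω Φ d) (n : ℕ) :
    IsWeightedHomogeneous (fun x : idx × ℕ => ω x.1 * p ^ x.2) (wittStructureInt p Φ n) (d * p ^ n) := by
  have hQ : IsWeightedHomogeneous (fun x : idx × ℕ => ω x.1 * p ^ x.2)
      (wittStructureRat p (map (Int.castRingHom ℚ) Φ) n) (p ^ n * d) := by
    refine isWeightedHomogeneous_bind₁ (isWeightedHomogeneous_xInTermsOfW p n) fun k => ?_
    rw [mul_comm]
    refine isWeightedHomogeneous_bind₁ (w := ω) ?_ fun i => ?_
    · intro x hx
      refine hΦ (fun h => hx ?_)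
      rw [coeff_map, h, map_zero]
    · rw [mul_comm]
      exact isWeightedHomogeneous_rename (Prod.mk i) (isWeightedHomogeneous_wittPolynomial p ℚ k)
        fun j => by simp [mul_comm]
  rw [← map_wittStructureInt] at hQ
  intro x hx
  rw [mul_comm]
  exact hQ (by rw [coeff_map]; exact (map_ne_zero_iff _ Int.cast_injective).mpr hx)

theorem isWeightedHomogeneous_wittAdd (n : ℕ) :
    IsWeightedHomogeneous (fun i : Fin 2 × ℕ => p ^ i.2) (WittVector.wittAdd p n) (p ^ n) := by
  have h := isWeightedHomogeneous_wittStructureInt p (X 0 + X 1 : MvPolynomial (Fin 2) ℤ) (fun _ => 1) 1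
    ((isWeightedHomogeneous_X ℤ (fun _ => 1) 0).add (isWeightedHomogeneous_X ℤ (fun _ => 1) 1)) n
  simpa [WittVector.wittAdd, WittVector.wittMul] using h

theorem isWeightedHomogeneous_wittMul (n : ℕ) :
    IsWeightedHomogeneous (fun i : Fin 2 × ℕ => if i.1 = 1 then p ^ i.2 else 0) (WittVector.wittMul p n) (p ^ n) := by
  have h := isWeightedHomogeneous_wittStructureInt p (X 0 * X 1 : MvPolynomial (Fin 2) ℤ) (fun i => if i = 1 then 1 else 0) 1
    (by simpa using (isWeightedHomogeneous_X ℤ (fun i : Fin 2 => if i = 1 then 1 else 0) 0).mul (isWeightedHomogeneous_X ℤ (fun i : Fin 2 => if i = 1 then 1 else 0) 1)) n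
  simpa [WittVector.wittAdd, WittVector.wittMul] using h

theorem weight_degree_lt (n : ℕ) (e : Fin 2 × ℕ →₀ ℕ)
    (hw : Finsupp.weight (fun i : Fin 2 × ℕ => p ^ i.2) e = p ^ n) (hdeg : ∑ x ∈ e.support, e x < p) :
    ∃ i, e = Finsupp.single (i, n) 1 := by
  classical
  have hp2 := hp.out.two_le
  have hsum : (∑ x ∈ e.support, e x * p ^ x.2 : ℕ) = p ^ n := by
    rw [← hw, Finsupp.weight_apply]; rfl
  have hmod : ∀ k : ℕ, p ^ k ≡ 1 [MOD p - 1] := fun k => by
    have h1 : p ≡ 1 [MOD p - 1] := by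
      rw [Nat.ModEq.comm, Nat.modEq_iff_dvd' (by omega)]
    simpa using h1.pow k
  have hm : (∑ x ∈ e.support, e x) ≡ 1 [MOD p - 1] := by
    refine Nat.ModEq.trans ?_ (hmod n)
    rw [← hsum]
    induction e.support using Finset.induction_on with
    | empty => rfl
    | insert a s ha ih =>
      rw [Finset.sum_insert ha, Finset.sum_insert ha]
      exact Nat.ModEq.add (by simpa using ((hmod a.2).mul_left (e a)).symm) ih
  have hpos : 1 ≤ ∑ x ∈ e.support, e x := by
    by_contra h
    have h0 : ∀ x ∈ e.support, e x = 0 := Finset.sum_eq_zero_iff.mp (by omega)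
    rw [Finset.sum_eq_zero (fun x hx => by rw [h0 x hx, zero_mul])] at hsum
    exact pow_ne_zero n hp.out.ne_zero hsum.symm
  have hS : ∑ x ∈ e.support, e x = 1 := by
    have hd : p - 1 ∣ (∑ x ∈ e.support, e x) - 1 := (Nat.modEq_iff_dvd' hpos).mp hm.symm
    rcases Nat.eq_zero_or_pos ((∑ x ∈ e.support, e x) - 1) with h | h
    · omega
    · have := Nat.le_of_dvd h hd
      omega
  obtain ⟨x, hx⟩ : ∃ x, x ∈ e.support := by
    by_contra h
    push Not at h
    rw [Finset.eq_empty_of_forall_notMem h] at hS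
    simp at hS
  have hx1 : e x = 1 := by
    have h1 := Finset.single_le_sum (f := fun x => e x) (fun _ _ => Nat.zero_le _) hx
    have h2 := Finsupp.mem_support_iff.mp hx
    omega
  have he : e = Finsupp.single x 1 := by
    ext y
    by_cases hy : y = x
    · subst hy; rw [hx1, Finsupp.single_eq_same]
    · rw [Finsupp.single_eq_of_ne hy]
      by_contra h
      have hy' := Finsupp.mem_support_iff.mpr h
      have := Finset.sum_pair (f := fun x => e x) hy
      have h2 := Finset.sum_le_sum_of_subset (f := fun x => e x) (show ({y, x} : Finset _) ⊆ e.support by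
        simp [Finset.insert_subset_iff, hy', hx])
      omega
  refine ⟨x.1, ?_⟩
  rw [he] at hw
  rw [Finsupp.weight_single, smul_eq_mul, one_mul] at hw
  rw [he, ← Nat.pow_right_injective hp2 hw]

theorem wittAdd_eval_eq_linear (n : ℕ) :
    ∃ c : Fin 2 → ℤ, ∀ (S : Type u) [CommRing S] (v : Fin 2 × ℕ → S),
      (∀ e : Fin 2 × ℕ →₀ ℕ, p ≤ ∑ x ∈ e.support, e x → ∏ x ∈ e.support, v x ^ e x = 0) →
        aeval v (WittVector.wittAdd p n) = (c 0 : S) * v (0, n) + (c 1 : S) * v (1, n) := by
  classical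
  set φ := WittVector.wittAdd p n
  refine ⟨fun i => coeff (Finsupp.single (i, n) 1) φ, fun S _ v hv => ?_⟩
  rw [aeval_def, eval₂_eq]
  let T : Finset (Fin 2 × ℕ →₀ ℕ) := {Finsupp.single (0, n) 1, Finsupp.single (1, n) 1}
  rw [Finset.sum_subset (show φ.support ⊆ φ.support ∪ T from Finset.subset_union_left) (fun x _ hx => by
    rw [notMem_support_iff.mp hx, map_zero, zero_mul]),
    ← Finset.sum_subset (show T ⊆ φ.support ∪ T from Finset.subset_union_right) (fun e _ heT => by
      by_cases h0 : coeff e φ = 0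
      · rw [h0, map_zero, zero_mul]
      rcases lt_or_ge (∑ x ∈ e.support, e x) p with h | h
      · exfalso
        obtain ⟨i, rfl⟩ := weight_degree_lt p n e (isWeightedHomogeneous_wittAdd p n h0) h
        fin_cases i <;> simp [T] at heT
      · rw [hv e h, mul_zero])]
  have hne : (Finsupp.single ((0 : Fin 2), n) 1) ≠ Finsupp.single ((1 : Fin 2), n) 1 := by
    intro h
    have := (Finsupp.single_left_inj one_ne_zero).mp h
    simp at this
  rw [Finset.sum_pair hne]
  simp [Finsupp.support_single]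

theorem wittAdd_eval_linear (n : ℕ) (S : Type u) [CommRing S] (v : Fin 2 × ℕ → S)
    (hv : ∀ e : Fin 2 × ℕ →₀ ℕ, p ≤ ∑ x ∈ e.support, e x → ∏ x ∈ e.support, v x ^ e x = 0) :
    aeval v (WittVector.wittAdd p n) = v (0, n) + v (1, n) := by
  obtain ⟨c, hc⟩ := wittAdd_eval_eq_linear.{u} p n
  have key : ∀ i : Fin 2, (c i : ULift.{u} ℤ) = 1 := by
    intro i
    let a : WittVector p (DualNumber (ULift.{u} ℤ)) := WittVector.mk p fun k => if k = n then DualNumber.eps else 0
    have hev : ∀ x y : WittVector p (DualNumber (ULift.{u} ℤ)),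
        (∀ e : Fin 2 × ℕ →₀ ℕ, p ≤ ∑ x ∈ e.support, e x → ∏ z ∈ e.support, (Function.uncurry ![x.coeff, y.coeff] z) ^ e z = 0) →
        (x + y).coeff n = (c 0 : (DualNumber (ULift.{u} ℤ))) * x.coeff n + (c 1 : (DualNumber (ULift.{u} ℤ))) * y.coeff n := by
      intro x y h
      rw [WittVector.add_coeff]
      exact hc (DualNumber (ULift.{u} ℤ)) _ h
    have hvan : ∀ x y : WittVector p (DualNumber (ULift.{u} ℤ)), (∀ k, x.coeff k = 0 ∨ x.coeff k = DualNumber.eps) → (∀ k, y.coeff k = 0 ∨ y.coeff k = DualNumber.eps) →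
        ∀ e : Fin 2 × ℕ →₀ ℕ, p ≤ ∑ x ∈ e.support, e x → ∏ z ∈ e.support, (Function.uncurry ![x.coeff, y.coeff] z) ^ e z = 0 := by
      intro x y hx hy e he
      have hz : ∀ z : Fin 2 × ℕ, ∃ d : (DualNumber (ULift.{u} ℤ)), Function.uncurry ![x.coeff, y.coeff] z = DualNumber.eps * d := by
        rintro ⟨j, k⟩
        fin_cases j
        · rcases hx k with h | h <;> [exact ⟨0, by simp [h]⟩; exact ⟨1, by simp [h]⟩]
        · rcases hy k with h | h <;> [exact ⟨0, by simp [h]⟩; exact ⟨1, by simp [h]⟩]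
      choose d hd using hz
      simp only [hd, mul_pow, Finset.prod_mul_distrib, Finset.prod_pow_eq_pow_sum]
      have h2 : (DualNumber.eps : (DualNumber (ULift.{u} ℤ))) ^ 2 = 0 := by rw [pow_two, DualNumber.eps_mul_eps]
      rw [pow_eq_zero_of_le (hp.out.two_le.trans he) h2, zero_mul]
    have ha : ∀ k, a.coeff k = 0 ∨ a.coeff k = DualNumber.eps := fun k => by
      simp only [a, WittVector.coeff_mk]; split_ifs <;> simp
    have h0 : ∀ k, (0 : WittVector p (DualNumber (ULift.{u} ℤ))).coeff k = 0 ∨ (0 : WittVector p (DualNumber (ULift.{u} ℤ))).coeff k = DualNumber.eps :=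
      fun k => Or.inl (WittVector.zero_coeff p (DualNumber (ULift.{u} ℤ)) k)
    fin_cases i
    · have := hev a 0 (hvan a 0 ha h0)
      rw [(add_zero a : a + 0 = a)] at this
      have h' := congrArg TrivSqZeroExt.snd this
      simpa [a] using h'.symm
    · have := hev 0 a (hvan 0 a h0 ha)
      rw [(zero_add a : 0 + a = a)] at this
      have h' := congrArg TrivSqZeroExt.snd this
      simpa [a] using h'.symm
  rw [hc S v hv]
  have h0 := congrArg ULift.down (key 0)
  have h1 := congrArg ULift.down (key 1)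
  simp only [ULift.down_intCast, ULift.one_down, Int.cast_id] at h0 h1
  simp [h0, h1]

end Groth.Agent.H3CAlg
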