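import Groth.Agent.H3CAlg.DiagScheme
import Groth.Agent.H05EGA4.Equidim
import Mathlib

/-!
# Vanishing of the Tor Euler characteristic below the expected dimension, smooth over a field
-/

set_option autoImplicit false
set_option linter.style.haveILetI false
universe u

open TensorProduct RingTheory.Sequence CategoryTheory AlgebraicGeometry Groth.Agent.H8Props.FieldDim
  Groth.Agent.H1Koszul Groth.Agent.H22Alg.IntersectDim

namespace Groth.Agent.H3CAlg.ChiVanish

variable (k : Type u) [Field k]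

theorem dim_quotient_ker {S T : Type u} [CommRing S] [CommRing T] (f : S →+* T) (hf : Function.Surjective f) :
    ringKrullDim (S ⧸ RingHom.ker f) = ringKrullDim T :=
  ringKrullDim_eq_of_ringEquiv (RingHom.quotientKerEquivOfSurjective hf)

theorem dim_le_of_minimalPrimes (S : Type u) [CommRing S] {d : WithBot ℕ∞}
    (h : ∀ P ∈ minimalPrimes S, ringKrullDim (S ⧸ P) ≤ d) : ringKrullDim S ≤ d :=
  le_trans (le_of_eq (ringKrullDim_eq_of_ringEquiv (RingEquiv.quotientBot S).symm))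
    (H05EGA4.ringKrullDim_quotient_le_of_minimalPrimes ⊥ h)

set_option maxHeartbeats 800000 in
/-- Quotients of the diagonal local ring by two primes are small. -/
theorem dim_quotient_diag_le {R : Type u} [CommRing R] [Algebra k R] (Q₀ : Ideal R) [Q₀.IsPrime] [Algebra.FiniteType k R] (p q : Ideal R) [p.IsPrime] [q.IsPrime]
    (hp : p ≤ Q₀) (hq : q ≤ Q₀) {a b c : ℕ} (ha : ringKrullDim (R ⧸ p) = a) (hb : ringKrullDim (R ⧸ q) = b)
    (hc : ringKrullDim (R ⧸ Q₀) = c) :
    ringKrullDim (DiagLocal.E k Q₀ ⧸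
      (p.map (Algebra.TensorProduct.includeLeftRingHom : R →+* R ⊗[k] R) ⊔
        q.map (Algebra.TensorProduct.includeRight (R := k) (A := R) (B := R)).toRingHom).map
        (algebraMap (R ⊗[k] R) (DiagLocal.E k Q₀))) + c ≤ ((a + b : ℕ) : WithBot ℕ∞) := by
  haveI : Algebra.FiniteType k (R ⧸ p) := Algebra.FiniteType.trans (R := k) (S := R) inferInstance inferInstance
  haveI : Algebra.FiniteType k (R ⧸ q) := Algebra.FiniteType.trans (R := k) (S := R) inferInstance inferInstance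
  obtain ⟨J, hJ⟩ : ∃ J, J = p.map (Algebra.TensorProduct.includeLeftRingHom : R →+* R ⊗[k] R) ⊔
      q.map (Algebra.TensorProduct.includeRight (R := k) (A := R) (B := R)).toRingHom := ⟨_, rfl⟩
  rw [← hJ]
  have hD : ∀ w, w ∈ DiagLocal.D k Q₀ ↔ Algebra.TensorProduct.lmul' k (S := R) w ∈ Q₀ := fun w => Iff.rfl
  have hJD : J ≤ DiagLocal.D k Q₀ := by
    rw [hJ]
    refine sup_le (Ideal.map_le_iff_le_comap.mpr fun x hx => ?_) (Ideal.map_le_iff_le_comap.mpr fun x hx => ?_)
    · rw [Ideal.mem_comap, hD]; simpa using hp hx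
    · rw [Ideal.mem_comap, hD]; simpa using hq hx
  let Φ : R ⊗[k] R →ₐ[k] (R ⧸ p) ⊗[k] (R ⧸ q) :=
    Algebra.TensorProduct.map (Ideal.Quotient.mkₐ k p) (Ideal.Quotient.mkₐ k q)
  have hΦs : Function.Surjective Φ :=
    TensorProduct.map_surjective (Ideal.Quotient.mkₐ_surjective k p) (Ideal.Quotient.mkₐ_surjective k q)
  have hker : RingHom.ker Φ = J := by
    rw [hJ]
    have h := Algebra.TensorProduct.map_ker (Ideal.Quotient.mkₐ k p) (Ideal.Quotient.mkₐ k q)
      (Ideal.Quotient.mkₐ_surjective k p) (Ideal.Quotient.mkₐ_surjective k q)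
    refine h.trans ?_
    rw [show RingHom.ker (Ideal.Quotient.mkₐ k p) = p from Ideal.mk_ker,
      show RingHom.ker (Ideal.Quotient.mkₐ k q) = q from Ideal.mk_ker]
    rfl
  haveI : (DiagLocal.D k Q₀ |>.map (Ideal.Quotient.mk J)).IsPrime := Ideal.isPrime_map_quotientMk_of_isPrime hJD
  rw [DiagLocal.dim_localization_quotient (DiagLocal.D k Q₀) J hJD (DiagLocal.E k Q₀)]
  have hc' : ringKrullDim (((R ⊗[k] R) ⧸ J) ⧸ (DiagLocal.D k Q₀).map (Ideal.Quotient.mk J)) = c := by
    rw [ringKrullDim_eq_of_ringEquiv (DoubleQuot.quotQuotEquivQuotOfLE hJD), ← hc]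
    refine ringKrullDim_eq_of_ringEquiv ((Ideal.quotEquivOfEq (show DiagLocal.D k Q₀ = RingHom.ker
      ((Ideal.Quotient.mk Q₀).comp (Algebra.TensorProduct.lmul' k (S := R)).toRingHom) by
        ext w; rw [RingHom.mem_ker, RingHom.comp_apply, Ideal.Quotient.eq_zero_iff_mem]; rfl)).trans
      (RingHom.quotientKerEquivOfSurjective (Ideal.Quotient.mk_surjective.comp fun x => ⟨x ⊗ₜ 1, by simp⟩)))
  have h := H05EGA4.height_add_dim_quotient_le ((DiagLocal.D k Q₀).map (Ideal.Quotient.mk J))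
  rw [hc'] at h
  refine h.trans ?_
  rw [← hker]
  refine le_trans (le_of_eq (dim_quotient_ker Φ.toRingHom hΦs)) ?_
  exact dim_le_of_minimalPrimes _ fun P hP => le_of_eq (by
    rw [dim_quotient_minimalPrimes_tensor k (R ⧸ p) P hP, ha, hb, Nat.cast_add])

set_option maxHeartbeats 1600000 in
/-- Vanishing for a cyclic pair over a chart. -/
theorem chart {R : Type u} [CommRing R] [IsDomain R] [Algebra k R] {m : ℕ}
    (g : MvPolynomial (Fin m) k →ₐ[k] R) (hg : g.toRingHom.Etale) (Q₀ : Ideal R) [Q₀.IsPrime]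
    (A : Type u) [CommRing A] [Algebra R A] [IsLocalization.AtPrime A Q₀] [IsLocalRing A]
    (P Q : Ideal A) [P.IsPrime] [Q.IsPrime] {c dA dP dQ : ℕ} (hc : ringKrullDim (R ⧸ Q₀) = c)
    (hdA : ringKrullDim A = dA) (hdP : ringKrullDim (A ⧸ P) = dP) (hdQ : ringKrullDim (A ⧸ Q) = dQ)
    (hsum : dP + dQ < dA)
    (hmax : ∀ S : Ideal A, S.IsPrime → P ≤ S → Q ≤ S → S = IsLocalRing.maximalIdeal A) :
    IntMult.chi A (A ⧸ Q) (A ⧸ P) = 0 := by
  haveI := DiagScheme.smooth_of_etale g hg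
  haveI : Algebra.FiniteType k R := inferInstance
  haveI : IsNoetherianRing R := Algebra.FiniteType.isNoetherianRing k R
  haveI : IsNoetherianRing A := IsLocalization.isNoetherianRing Q₀.primeCompl A inferInstance
  obtain ⟨p, hpdef⟩ : ∃ p, p = P.comap (algebraMap R A) := ⟨_, rfl⟩
  obtain ⟨q, hqdef⟩ : ∃ q, q = Q.comap (algebraMap R A) := ⟨_, rfl⟩
  haveI : p.IsPrime := hpdef ▸ Ideal.IsPrime.comap _
  haveI : q.IsPrime := hqdef ▸ Ideal.IsPrime.comap _
  have hPmap : p.map (algebraMap R A) = P := hpdef ▸ IsLocalization.map_comap Q₀.primeCompl A P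
  have hQmap : q.map (algebraMap R A) = Q := hqdef ▸ IsLocalization.map_comap Q₀.primeCompl A Q
  have hle : ∀ S : Ideal A, S.IsPrime → S.comap (algebraMap R A) ≤ Q₀ := fun S hS => by
    conv_rhs => rw [← IsLocalization.AtPrime.comap_maximalIdeal A Q₀]
    exact Ideal.comap_mono (IsLocalRing.le_maximalIdeal hS.ne_top)
  have hp : p ≤ Q₀ := hpdef ▸ hle P inferInstance
  have hq : q ≤ Q₀ := hqdef ▸ hle Q inferInstance
  have key : ∀ (P : Ideal R) (_ : P.IsPrime) (dP : ℕ), P ≤ Q₀ →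
      ringKrullDim (A ⧸ P.map (algebraMap R A)) = dP → ringKrullDim (R ⧸ P) = ((dP + c : ℕ) : WithBot ℕ∞) := by
    intro P hP dP hle hd
    haveI : (Q₀.map (Ideal.Quotient.mk P)).IsPrime := Ideal.isPrime_map_quotientMk_of_isPrime hle
    rw [DiagLocal.dim_localization_quotient Q₀ P hle A] at hd
    haveI : Algebra.FiniteType k (R ⧸ P) := Algebra.FiniteType.trans (R := k) (S := R) inferInstance inferInstance
    have h := height_add_dim_quotient k (R ⧸ P) (Q₀.map (Ideal.Quotient.mk P))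
    rw [hd, ringKrullDim_eq_of_ringEquiv (DoubleQuot.quotQuotEquivQuotOfLE hle), hc] at h
    rw [← h, Nat.cast_add]
  have ha := key p inferInstance dP hp (hPmap.symm ▸ hdP)
  have hb := key q inferInstance dQ hq (hQmap.symm ▸ hdQ)
  have hN : ringKrullDim R = ((dA + c : ℕ) : WithBot ℕ∞) := by
    rw [← height_add_dim_quotient k R Q₀, hc, ← IsLocalization.AtPrime.ringKrullDim_eq_height Q₀ A, hdA,
      Nat.cast_add]
  have hmN : m ≤ dA + c := DiagScheme.le_dim_of_etale g hg hN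
  have hinjA : Function.Injective (algebraMap R A) :=
    IsLocalization.injective A (M := Q₀.primeCompl)
      (le_nonZeroDivisors_of_noZeroDivisors fun h => h Q₀.zero_mem)
  haveI := DiagLocal.isRegularLocalRing k Q₀
  letI algAE : Algebra A (DiagLocal.E k Q₀) := (DiagLocal.left k Q₀ A).toAlgebra
  let Δ : DiagLocal.E k Q₀ →ₐ[A] A :=
    { DiagLocal.diag k Q₀ A with commutes' := DiagLocal.diag_left k Q₀ A }
  have hΔs : Function.Surjective Δ := DiagLocal.diag_surjective k Q₀ A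
  obtain ⟨l, hldef⟩ : ∃ l, l = DiagLocal.gens k Q₀ g := ⟨_, rfl⟩
  have hlen : l.length = m := by rw [hldef, DiagLocal.gens, List.length_ofFn]
  have hl : Ideal.ofList l = RingHom.ker Δ := hldef ▸ DiagLocal.span_gens k Q₀ A g hg.formallyUnramified hinjA
  have hlm : ∀ r ∈ l, r ∈ IsLocalRing.maximalIdeal (DiagLocal.E k Q₀) := fun r hr =>
    IsLocalRing.le_maximalIdeal (RingHom.ker_ne_top Δ) (hl.le (Ideal.subset_span hr))
  have hE2 : ((dA + c + (dA + c) - c : ℕ) : WithBot ℕ∞) ≤ ringKrullDim (DiagLocal.E k Q₀) := by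
    have hb0 : ringKrullDim (R ⧸ (⊥ : Ideal R)) = ((dA + c : ℕ) : WithBot ℕ∞) :=
      (ringKrullDim_eq_of_ringEquiv (RingEquiv.quotientBot R)).trans hN
    haveI : (⊥ : Ideal R).IsPrime := Ideal.isPrime_bot
    exact (DiagLocal.le_ringKrullDim_quotient k Q₀ ⊥ ⊥ bot_le bot_le hb0 hb0 hc).trans
      (ringKrullDim_quotient_le _)
  have hdl : ringKrullDim (DiagLocal.E k Q₀ ⧸ Ideal.ofList l) = dA := by
    rw [ringKrullDim_eq_of_ringEquiv ((Ideal.quotEquivOfEq hl).trans (RingHom.quotientKerEquivOfSurjective hΔs)), hdA]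
  have hwr : IsWeaklyRegular (DiagLocal.E k Q₀) l := by
    refine H8Props.MiracleFlat.isWeaklyRegular_of_supportDim l _ hlm
      (H4Depth.isCohenMacaulayLocalRing_of_regular _).supportDim_eq_depth ?_
    rw [Module.supportDim_eq_of_equiv (Submodule.quotEquivOfEq _ (Ideal.ofList l) (by rw [smul_eq_mul, Ideal.mul_top])),
      Module.supportDim_quotient_eq_ringKrullDim, Module.supportDim_self_eq_ringKrullDim, hdl, hlen]
    refine le_trans ?_ hE2
    exact_mod_cast (show dA + m ≤ dA + c + (dA + c) - c by omega)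
  have hNm : dA + c ≤ m := by
    have h := ringKrullDim_le_ringKrullDim_quotient_add_encard {x | x ∈ l}
      (fun x hx => by rw [IsLocalRing.ringJacobson_eq_maximalIdeal]; exact hlm x hx)
    rw [show Ideal.span {x | x ∈ l} = Ideal.ofList l from rfl, hdl] at h
    have h2 := le_trans hE2 h
    have hcard : {x | x ∈ l}.encard ≤ (m : ℕ∞) := by
      classical
      rw [show {x | x ∈ l} = (l.toFinset : Set (DiagLocal.E k Q₀)) by ext; simp, Set.encard_coe_eq_coe_finsetCard,
        ← hlen]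
      exact_mod_cast l.toFinset_card_le
    have h3 : ((dA + c + (dA + c) - c : ℕ) : WithBot ℕ∞) ≤ ((dA + m : ℕ) : WithBot ℕ∞) := by
      refine le_trans h2 ?_
      rw [Nat.cast_add]
      exact add_le_add le_rfl (WithBot.coe_le_coe.mpr hcard)
    have : dA + c + (dA + c) - c ≤ dA + m := by exact_mod_cast h3
    omega
  have hE : ∀ i : ℕ, Subsingleton (H (DiagLocal.E k Q₀) l ((i + 1 : ℕ) : ℤ)) := fun i =>
    DiagLocal.subsingleton_H_of_regular l _ hwr _ (by positivity)
  obtain ⟨K, hKdef⟩ : ∃ K, K = (q.map (algebraMap R A)).map (DiagLocal.right k Q₀ A) := ⟨_, rfl⟩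
  have hKΔ : K.map Δ.toRingHom = q.map (algebraMap R A) := by
    rw [hKdef, Ideal.map_map, show Δ.toRingHom.comp (DiagLocal.right k Q₀ A) = RingHom.id A from
      RingHom.ext (DiagLocal.diag_right k Q₀ A), Ideal.map_id]
  haveI hXflat : Module.Flat A (DiagLocal.E k Q₀ ⧸ K) := by
    have h := DiagLocal.flat_left k Q₀ A q (DiagLocal.E k Q₀ ⧸ K) (Ideal.Quotient.mk K)
      Ideal.Quotient.mk_surjective (Ideal.mk_ker.trans hKdef)
    exact RingHom.flat_algebraMap_iff.mp h
  have hX : ∀ i : ℕ, Subsingleton (H (DiagLocal.E k Q₀ ⧸ K) l ((i + 1 : ℕ) : ℤ)) := fun i => by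
    rw [hKdef]
    exact DiagMain.vanish_right Q₀ A l hl hE (q.map (algebraMap R A)) i
  rw [← hPmap, ← hQmap, DiagMain.chi_cyclic Δ hl K (q.map (algebraMap R A)) (p.map (algebraMap R A)) hKΔ hX]
  rw [← hPmap, ← hQmap] at hmax
  obtain ⟨C, hCdef⟩ : ∃ C, C = K ⊔ (p.map (algebraMap R A)).map (algebraMap A (DiagLocal.E k Q₀)) := ⟨_, rfl⟩
  rw [← hCdef]
  have hCJ : ∀ S : PrimeSpectrum (DiagLocal.E k Q₀), C ⊔ Ideal.ofList l ≤ S.asIdeal →
      S.asIdeal = IsLocalRing.maximalIdeal (DiagLocal.E k Q₀) := by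
    intro S hS
    have hker : RingHom.ker Δ.toRingHom ≤ S.asIdeal := hl.ge.trans (le_sup_right.trans hS)
    haveI : (S.asIdeal.map Δ.toRingHom).IsPrime := Ideal.map_isPrime_of_surjective hΔs hker
    have h1 : S.asIdeal.map Δ.toRingHom = IsLocalRing.maximalIdeal A := by
      refine hmax _ inferInstance ?_ ?_
      · intro x hx
        have : algebraMap A (DiagLocal.E k Q₀) x ∈ S.asIdeal := by
          refine (le_sup_left.trans hS) ?_
          rw [hCdef]
          exact Ideal.mem_sup_right (Ideal.mem_map_of_mem _ hx)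
        have h := Ideal.mem_map_of_mem Δ.toRingHom this
        rwa [show Δ.toRingHom (algebraMap A (DiagLocal.E k Q₀) x) = x from Δ.commutes x] at h
      · rw [← hKΔ]
        exact Ideal.map_mono ((hCdef ▸ le_sup_left : K ≤ C).trans (le_sup_left.trans hS))
    have h2 := congrArg (Ideal.comap Δ.toRingHom) h1
    rw [Ideal.comap_map_of_surjective' Δ.toRingHom hΔs, sup_eq_left.mpr hker] at h2
    rw [h2]
    exact IsLocalRing.eq_maximalIdeal (Ideal.comap_isMaximal_of_surjective _ hΔs)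
  have hne := TorMult.length_ne_top_of_eq_maximal C (Ideal.ofList l) hCJ
  have hsmall : Small l (DiagLocal.E k Q₀ ⧸ C) := by
    rw [hldef, DiagLocal.gens]
    refine small_ofFn _ (Module.length_ne_top_iff.1 ?_)
    rw [← H1Koszul.span_ofFn]
    rw [hldef, DiagLocal.gens] at hne
    exact hne
  rw [hldef, DiagLocal.gens] at hsmall ⊢
  refine (H1Koszul.dim_chi m _ (fun j => hlm _ (by rw [hldef, DiagLocal.gens, List.mem_ofFn]; exact ⟨j, rfl⟩))
    _ hsmall).2.2.1 ?_
  rw [Module.supportDim_quotient_eq_ringKrullDim]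
  have hU := dim_quotient_diag_le k Q₀ p q hp hq ha hb hc
  have hCeq : C = (p.map (Algebra.TensorProduct.includeLeftRingHom : R →+* R ⊗[k] R) ⊔
        q.map (Algebra.TensorProduct.includeRight (R := k) (A := R) (B := R)).toRingHom).map
        (algebraMap (R ⊗[k] R) (DiagLocal.E k Q₀)) := by
    rw [hCdef, hKdef, Ideal.map_sup, Ideal.map_map, Ideal.map_map, Ideal.map_map, Ideal.map_map, sup_comm]
    congr 1
    · congr 1
      exact RingHom.ext fun r => DiagLocal.left_algebraMap k Q₀ A r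
    · congr 1
      exact RingHom.ext fun r => DiagLocal.right_algebraMap k Q₀ A r
  rw [hCeq]
  have harith : ∀ d : WithBot ℕ∞, d + (c : WithBot ℕ∞) ≤ ((dP + c + (dQ + c) : ℕ) : WithBot ℕ∞) → d < (m : WithBot ℕ∞) := by
    intro d hU
    match d, hU with
    | ⊥, _ => exact WithBot.bot_lt_coe _
    | ((⊤ : ℕ∞) : WithBot ℕ∞), hU =>
      rw [show ((c : ℕ) : WithBot ℕ∞) = ((c : ℕ∞) : WithBot ℕ∞) from rfl, ← WithBot.coe_add, top_add] at hU
      exact absurd (WithBot.coe_le_coe.mp hU) (not_le.mpr (ENat.coe_lt_top _))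
    | ((d : ℕ) : WithBot ℕ∞), hU =>
      have : d + c ≤ dP + c + (dQ + c) := by exact_mod_cast hU
      exact_mod_cast (show d < m by omega)
  exact harith _ hU

variable {K : Type u} [Field K] {X : Scheme.{u}} (f : X ⟶ Spec (CommRingCat.of K))

/-- Serre's vanishing theorem for smooth schemes over a field, cyclic modules. -/
theorem chi_eq_zero [Smooth f] [IsIntegral X] (ξ : X) (P Q : Ideal (X.presheaf.stalk ξ))
    [P.IsPrime] [Q.IsPrime]
    (hmax : ∀ S : Ideal (X.presheaf.stalk ξ), S.IsPrime → P ≤ S → Q ≤ S →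
      S = IsLocalRing.maximalIdeal (X.presheaf.stalk ξ))
    {dA dP dQ : ℕ} (hdA : ringKrullDim (X.presheaf.stalk ξ) = dA)
    (hdP : ringKrullDim (X.presheaf.stalk ξ ⧸ P) = dP)
    (hdQ : ringKrullDim (X.presheaf.stalk ξ ⧸ Q) = dQ) (hsum : dP + dQ < dA) :
    IntMult.chi (X.presheaf.stalk ξ) (X.presheaf.stalk ξ ⧸ Q) (X.presheaf.stalk ξ ⧸ P) = 0 := by
  obtain ⟨U, hU, V, hV, hxV, e, hstd⟩ := Smooth.exists_isStandardSmooth f ξ
  obtain ⟨m, g, hgC, hg⟩ := hstd.exists_etale_mvPolynomial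
  have hUtop : U = ⊤ := by
    refine eq_top_iff.mpr fun z _ => ?_
    rw [Subsingleton.elim (α := PrimeSpectrum K) z (f ξ)]
    exact e hxV
  subst hUtop
  have hfield : IsField Γ(Spec (CommRingCat.of K), ⊤) :=
    MulEquiv.isField (Field.toIsField K)
      (Scheme.ΓSpecIso (CommRingCat.of K)).commRingCatIsoToRingEquiv.toMulEquiv
  letI := hfield.toField
  letI : Algebra Γ(Spec (CommRingCat.of K), ⊤) Γ(X, V) := (f.appLE ⊤ V e).hom.toAlgebra
  let g' : MvPolynomial (Fin m) Γ(Spec (CommRingCat.of K), ⊤) →ₐ[Γ(Spec (CommRingCat.of K), ⊤)] Γ(X, V) :=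
    { g with commutes' := fun c => RingHom.congr_fun hgC c }
  haveI : Nonempty V := ⟨⟨ξ, hxV⟩⟩
  haveI : IsDomain Γ(X, V) := inferInstance
  letI : Algebra Γ(X, V) (X.presheaf.stalk ξ) := (X.presheaf.germ V ξ hxV).hom.toAlgebra
  haveI : IsLocalization.AtPrime (X.presheaf.stalk ξ) (hV.primeIdealOf ⟨ξ, hxV⟩).asIdeal :=
    hV.isLocalization_stalk ⟨ξ, hxV⟩
  obtain ⟨c, hc⟩ := exists_nat_cdim f ξ
  have hc' : ringKrullDim (Γ(X, V) ⧸ (hV.primeIdealOf ⟨ξ, hxV⟩).asIdeal) = c := by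
    have h := cdim_eq_chart f (A := Γ(X, V)) hV.fromSpec (hV.primeIdealOf ⟨ξ, hxV⟩)
    erw [hV.fromSpec_primeIdealOf] at h
    rw [← h]
    exact hc
  exact chart _ g' hg (hV.primeIdealOf ⟨ξ, hxV⟩).asIdeal (X.presheaf.stalk ξ) P Q hc' hdA hdP hdQ hsum hmax

end Groth.Agent.H3CAlg.ChiVanish
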