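import Groth.Agent.H3CAlg.ChiStalk
import Groth.Agent.H3CAlg.ChiVanish
import Groth.Agent.H8Props.PseudoCoh.Regular
import Groth.Agent.H05EGA4.Regular
import Groth.Agent.H05EGA4.GlobalDim
import Groth.Agent.H19Grp.RegularSmooth
import Groth.Prelude.Def_IntMult
import Mathlib

/-!
# The Tor Euler characteristic of coherent modules is the intersection product of their cycles
-/

set_option autoImplicit false
set_option linter.style.haveILetI false
universe u

open CategoryTheory AlgebraicGeometry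

namespace Groth.Agent.H3CAlg.ChiMain

open Groth.Agent.H8Props.FieldDim

theorem chi_eq_zero_of_subsingleton {A : Type u} [CommRing A] [IsNoetherianRing A] [IsLocalRing A]
    (M N : Type u) [AddCommGroup M] [Module A M] [Module.Finite A M] [Subsingleton M]
    [AddCommGroup N] [Module A N] [Module.Finite A N] : IntMult.chi A M N = 0 := by
  refine finsum_eq_zero_of_forall_eq_zero fun i => ?_
  haveI : Subsingleton (DRing.Tor A i M N) := subsingleton_of_forall_eq 0 fun x => by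
    have := (ChiAdd.finite_and_killed (A := A) M i N).2 1
      (Module.mem_annihilator.mpr fun m => Subsingleton.elim _ _) x
    rwa [one_smul] at this
  rw [Module.length_eq_zero, ENat.toNat_zero, Nat.cast_zero, mul_zero]

theorem exists_bound (A : Type u) [CommRing A] [IsRegularLocalRing A] (N : Type u) [AddCommGroup N]
    [Module A N] : ∃ D : ℕ, ∀ (M : Type u) [AddCommGroup M] [Module A M],
      ∀ i, D < i → Subsingleton (DRing.Tor A i N M) := by
  obtain ⟨D, -, hk⟩ := H05EGA4.exists_pd_residueField A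
  exact ⟨D, fun M _ _ i hi => H8Props.PseudoCoh.hasTorDimLE_of_hasProjectiveDimensionLT D N
    (H05EGA4.hasProjectiveDimensionLT_of_residueField D hk _) M i hi⟩

variable {K : Type u} [Field K] {X : Scheme.{u}} (f : X ⟶ Spec (CommRingCat.of K))

theorem nontrivial_of_generization (F : X.Modules) (hF : Coh.IsQCoh F) {v x : X} (h : v ⤳ x)
    (hv : Nontrivial (F.presheaf.stalk v)) : Nontrivial (F.presheaf.stalk x) := by
  by_contra hn
  rw [not_nontrivial_iff_subsingleton] at hn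
  haveI : (IntMult.stalkIdeal (IntMult.ptIdeal v) x).IsPrime := IntPt.stalkIdeal_ptIdeal_prime h
  have := ChiStalk.length_localized_stalk F hF h ⟨IntMult.stalkIdeal (IntMult.ptIdeal v) x, IntPt.stalkIdeal_ptIdeal_prime h⟩ rfl
  have h0 : Module.length (X.presheaf.stalk v) (F.presheaf.stalk v) = 0 := by
    rw [← this]
    haveI : Subsingleton (LocalizedModule (IntMult.stalkIdeal (IntMult.ptIdeal v) x).primeCompl
        (F.presheaf.stalk x)) := subsingleton_of_forall_eq 0 fun z => by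
      induction z using LocalizedModule.induction_on with
      | _ m s => rw [Subsingleton.elim m 0, LocalizedModule.zero_mk]
    exact Module.length_eq_zero
  exact (not_subsingleton _) (Module.length_eq_zero_iff.mp h0)

theorem nontrivial_of_sheafFun_ne_zero (F : X.Modules) (δ : X → ℤ) (r : ℤ) {v : X}
    (h : Cyc.sheafFun δ r F v ≠ 0) : δ v = r ∧ Nontrivial (F.presheaf.stalk v) := by
  rw [Cyc.sheafFun] at h
  obtain ⟨hv, h⟩ : δ v = r ∧ ((Module.length (X.presheaf.stalk v) (F.presheaf.stalk v)).toNat : ℤ) ≠ 0 := by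
    by_cases hv : δ v = r
    · exact ⟨hv, by simpa [hv] using h⟩
    · simp [hv] at h
  refine ⟨hv, ?_⟩
  by_contra hn
  rw [not_nontrivial_iff_subsingleton] at hn
  exact h (by rw [Module.length_eq_zero (M := F.presheaf.stalk v), ENat.toNat_zero, Nat.cast_zero])

theorem topologicalKrullDim_eq [IsIntegral X] (η : ℕ) (hη : cdim (genericPoint X) = η) :
    topologicalKrullDim X = η := by
  rw [← hη, cdim, show closure {genericPoint X} = Set.univ from genericPoint_spec X]
  exact (IsHomeomorph.topologicalKrullDim_eq _ (Homeomorph.Set.univ X).isHomeomorph).symm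

variable [Smooth f] [IsIntegral X]

set_option maxHeartbeats 800000 in
theorem chi_stalk (δ : X → ℤ) (hδ : Cyc.DeltaCompat f δ (fun _ => 0)) (n : ℤ) (hn : δ (genericPoint X) = n)
    (F G : X.Modules) (hF : Coh.IsCoh F) (hG : Coh.IsCoh G) (r s : ℤ)
    (hr : ∀ x : X, Nontrivial (F.presheaf.stalk x) → δ x ≤ r)
    (hs : ∀ x : X, Nontrivial (G.presheaf.stalk x) → δ x ≤ s) (ζ : X) (hζ : δ ζ = r + s - n)
    (hmax : ∀ x : X, Nontrivial (F.presheaf.stalk x) → Nontrivial (G.presheaf.stalk x) → x ⤳ ζ → x = ζ) :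
    IntMult.chi (X.presheaf.stalk ζ) (F.presheaf.stalk ζ) (G.presheaf.stalk ζ) =
      IntMult.interProd δ n (Cyc.sheafFun δ r F) (Cyc.sheafFun δ s G) ζ := by
  classical
  haveI : IsLocallyNoetherian X := LocallyOfFiniteType.isLocallyNoetherian f
  haveI : IsRegularLocalRing (X.presheaf.stalk ζ) := H19Grp.isRegularLocalRing_stalk_of_smooth f ζ
  haveI := ChiStalk.finite_stalk F hF ζ
  haveI := ChiStalk.finite_stalk G hG ζ
  obtain ⟨cn, hcn, hcn'⟩ := IntPt.delta_eq_cdim f δ hδ (genericPoint X)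
  obtain ⟨cz, hcz, hcz'⟩ := IntPt.delta_eq_cdim f δ hδ ζ
  obtain ⟨dA, hdA, hdAz⟩ := IntLocal.ringKrullDim_stalk f (topologicalKrullDim_eq cn hcn) ζ hcz
  rw [IntMult.interProd]
  by_cases hnt : Nontrivial (F.presheaf.stalk ζ) ∧ Nontrivial (G.presheaf.stalk ζ)
  swap
  · have hL : IntMult.chi (X.presheaf.stalk ζ) (F.presheaf.stalk ζ) (G.presheaf.stalk ζ) = 0 := by
      rw [not_and_or, not_nontrivial_iff_subsingleton, not_nontrivial_iff_subsingleton] at hnt
      rcases hnt with h | h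
      · exact chi_eq_zero_of_subsingleton _ _
      · rw [TorComm.chi_comm]
        exact chi_eq_zero_of_subsingleton _ _
    rw [hL, finsum_eq_zero_of_forall_eq_zero]
    rintro ⟨⟨v, w⟩, hv, hw, hd⟩
    by_contra h0
    simp only [mul_eq_zero, not_or] at h0
    exact hnt ⟨nontrivial_of_generization F hF.1 hv (nontrivial_of_sheafFun_ne_zero F δ r h0.1.1).2,
      nontrivial_of_generization G hG.1 hw (nontrivial_of_sheafFun_ne_zero G δ s h0.1.2).2⟩
  obtain ⟨dF, hdF⟩ : ∃ dF : ℕ, (dF : ℤ) = r - cz := ⟨(r - cz).toNat, by have := hr ζ hnt.1; omega⟩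
  obtain ⟨dG, hdG⟩ : ∃ dG : ℕ, (dG : ℤ) = s - cz := ⟨(s - cz).toNat, by have := hs ζ hnt.2; omega⟩
  choose v hv hvI using fun P : PrimeSpectrum (X.presheaf.stalk ζ) => ChiStalk.exists_generization P
  have hdimv : ∀ P, ∃ d : ℕ, ringKrullDim (X.presheaf.stalk ζ ⧸ P.asIdeal) = d ∧ (d : ℤ) + cz = δ (v P) := by
    intro P
    obtain ⟨a, ha, ha'⟩ := IntPt.delta_eq_cdim f δ hδ (v P)
    obtain ⟨d, hd, hda⟩ := IntPt.ringKrullDim_quotient_ptIdeal f (hv P) ha hcz
    rw [hvI] at hd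
    exact ⟨d, hd, by omega⟩
  have hdim_iff : ∀ (P : PrimeSpectrum (X.presheaf.stalk ζ)) (e : ℕ),
      ringKrullDim (X.presheaf.stalk ζ ⧸ P.asIdeal) = e ↔ δ (v P) = e + cz := by
    intro P e
    obtain ⟨d, hd, hd'⟩ := hdimv P
    rw [hd]
    constructor
    · intro h; have : d = e := by exact_mod_cast h
      omega
    · intro h; have : d = e := by omega
      rw [this]
  have hsuppF : ∀ P ∈ Module.support (X.presheaf.stalk ζ) (F.presheaf.stalk ζ),
      Nontrivial (F.presheaf.stalk (v P)) := fun P hP => ChiStalk.mem_support_stalk F hF (hv P) P (hvI P) hP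
  have hsuppG : ∀ P ∈ Module.support (X.presheaf.stalk ζ) (G.presheaf.stalk ζ),
      Nontrivial (G.presheaf.stalk (v P)) := fun P hP => ChiStalk.mem_support_stalk G hG (hv P) P (hvI P) hP
  have hdFle : Module.supportDim (X.presheaf.stalk ζ) (F.presheaf.stalk ζ) ≤ dF :=
    ChiStalk.supportDim_le_of_forall fun P hP => by
      obtain ⟨d, hd, hd'⟩ := hdimv P
      have := hr _ (hsuppF P hP)
      rw [hd]
      exact_mod_cast (show d ≤ dF by omega)
  have hdGle : Module.supportDim (X.presheaf.stalk ζ) (G.presheaf.stalk ζ) ≤ dG :=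
    ChiStalk.supportDim_le_of_forall fun P hP => by
      obtain ⟨d, hd, hd'⟩ := hdimv P
      have := hs _ (hsuppG P hP)
      rw [hd]
      exact_mod_cast (show d ≤ dG by omega)
  have hmeet : ∀ P : PrimeSpectrum (X.presheaf.stalk ζ),
      Module.annihilator (X.presheaf.stalk ζ) (F.presheaf.stalk ζ) ≤ P.asIdeal →
      Module.annihilator (X.presheaf.stalk ζ) (G.presheaf.stalk ζ) ≤ P.asIdeal →
      P.asIdeal = IsLocalRing.maximalIdeal (X.presheaf.stalk ζ) := by
    intro P h1 h2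
    have e := hmax (v P) (hsuppF P (Module.mem_support_iff_of_finite.mpr h1))
      (hsuppG P (Module.mem_support_iff_of_finite.mpr h2)) (hv P)
    rw [← hvI P, e]
    exact IntPt.stalkIdeal_ptIdeal_self ζ
  have expand : ∀ q : PrimeSpectrum (X.presheaf.stalk ζ),
      ChiAdd.Meet (X.presheaf.stalk ζ) (X.presheaf.stalk ζ ⧸ q.asIdeal) (F.presheaf.stalk ζ) →
      ringKrullDim (X.presheaf.stalk ζ ⧸ q.asIdeal) ≤ dG →
      IntMult.chi (X.presheaf.stalk ζ) (F.presheaf.stalk ζ) (X.presheaf.stalk ζ ⧸ q.asIdeal) =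
        ∑ᶠ p ∈ {p : PrimeSpectrum (X.presheaf.stalk ζ) | ringKrullDim (X.presheaf.stalk ζ ⧸ p.asIdeal) = dF},
          ChiDev.lenAt (F.presheaf.stalk ζ) p *
            IntMult.chi (X.presheaf.stalk ζ) (X.presheaf.stalk ζ ⧸ q.asIdeal) (X.presheaf.stalk ζ ⧸ p.asIdeal) := by
    intro q hq hqd
    obtain ⟨D, hD⟩ := exists_bound (X.presheaf.stalk ζ) (X.presheaf.stalk ζ ⧸ q.asIdeal)
    rw [TorComm.chi_comm]
    refine ChiDev.chi_dev _ dF D hD (fun p hp hpd => ?_) _ inferInstance (fun P h1 h2 => hq P h2 h1) hdFle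
    obtain ⟨dp, hdp, -⟩ := hdimv p
    obtain ⟨dq, hdq, -⟩ := hdimv q
    refine ChiVanish.chi_eq_zero f ζ p.asIdeal q.asIdeal (fun S hS h1 h2 => hp ⟨S, hS⟩ ?_ ?_) hdA hdp hdq ?_
    · rwa [Ideal.annihilator_quotient]
    · rwa [Ideal.annihilator_quotient]
    · rw [hdp] at hpd
      rw [hdq] at hqd
      have h1 : dp < dF := by exact_mod_cast hpd
      have h2 : dq ≤ dG := by exact_mod_cast hqd
      omega
  obtain ⟨D, hD⟩ := exists_bound (X.presheaf.stalk ζ) (F.presheaf.stalk ζ)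
  have hFfin := ChiDev.finite_index (F.presheaf.stalk ζ) hdFle
  have hGfin := ChiDev.finite_index (G.presheaf.stalk ζ) hdGle
  rw [ChiDev.chi_dev _ dG D hD (fun q hq hqd => by
    rw [expand q hq hqd.le]
    refine finsum_mem_eq_zero_of_forall_eq_zero fun p hp => ?_
    by_cases hp0 : ChiDev.lenAt (F.presheaf.stalk ζ) p = 0
    · rw [hp0, zero_mul]
    rw [ChiVanish.chi_eq_zero f ζ p.asIdeal q.asIdeal ?_ hdA hp (hdimv q).choose_spec.1 ?_, mul_zero]
    · intro S hS h1 h2
      refine hq ⟨S, hS⟩ (by rwa [Ideal.annihilator_quotient]) (le_trans ?_ h1)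
      exact Module.mem_support_iff_of_finite.mp (ChiDev.mem_support_of_lenAt_ne hp0)
    · rw [(hdimv q).choose_spec.1] at hqd
      have : (hdimv q).choose < dG := by exact_mod_cast hqd
      omega) _ inferInstance (fun P h1 h2 => hmeet P h2 h1) hdGle]
  rw [← finsum_mem_inter_support, finsum_mem_inter_support_eq _ _
    {q | ringKrullDim (X.presheaf.stalk ζ ⧸ q.asIdeal) = dG ∧ ChiDev.lenAt (G.presheaf.stalk ζ) q ≠ 0} ?_,
    finsum_mem_eq_finite_toFinset_sum _ hGfin]
  swap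
  · ext q
    simp only [Set.mem_inter_iff, Set.mem_setOf_eq, Function.mem_support]
    exact ⟨fun h => ⟨⟨h.1.1, fun h0 => h.2 (by rw [h0, zero_mul])⟩, h.2⟩, fun h => ⟨⟨h.1.1, h.2⟩, h.2⟩⟩
  have hmeetq : ∀ q ∈ hGfin.toFinset,
      IntMult.chi (X.presheaf.stalk ζ) (F.presheaf.stalk ζ) (X.presheaf.stalk ζ ⧸ q.asIdeal) =
        ∑ p ∈ hFfin.toFinset, ChiDev.lenAt (F.presheaf.stalk ζ) p *
          IntMult.chi (X.presheaf.stalk ζ) (X.presheaf.stalk ζ ⧸ q.asIdeal) (X.presheaf.stalk ζ ⧸ p.asIdeal) := by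
    intro q hq
    rw [Set.Finite.mem_toFinset] at hq
    rw [expand q ?_ hq.1.le, finsum_mem_inter_support_eq _ _
      {p | ringKrullDim (X.presheaf.stalk ζ ⧸ p.asIdeal) = dF ∧ ChiDev.lenAt (F.presheaf.stalk ζ) p ≠ 0} ?_,
      finsum_mem_eq_finite_toFinset_sum _ hFfin]
    · ext p
      simp only [Set.mem_inter_iff, Set.mem_setOf_eq, Function.mem_support]
      exact ⟨fun h => ⟨⟨h.1, fun h0 => h.2 (by rw [h0, zero_mul])⟩, h.2⟩, fun h => ⟨h.1.1, h.2⟩⟩
    · intro P h1 h2
      refine hmeet P h2 (le_trans ?_ h1)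
      rw [Ideal.annihilator_quotient]
      exact Module.mem_support_iff_of_finite.mp (ChiDev.mem_support_of_lenAt_ne hq.2)
  rw [Finset.sum_congr rfl fun q hq => by rw [hmeetq q hq, Finset.mul_sum], Finset.sum_comm,
    ← Finset.sum_product', ← Finset.sum_attach]
  have hlen : ∀ (H : X.Modules) (_ : Coh.IsCoh H) (t : ℤ) (P : PrimeSpectrum (X.presheaf.stalk ζ)), δ (v P) = t →
      Cyc.sheafFun δ t H (v P) = ChiDev.lenAt (H.presheaf.stalk ζ) P := by
    intro H hH t P hP
    rw [Cyc.sheafFun, if_pos hP, ChiDev.lenAt, ChiStalk.length_localized_stalk H hH.1 (hv P) P (hvI P)]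
  let Φ : {x // x ∈ hFfin.toFinset ×ˢ hGfin.toFinset} →
      {p : X × X // p.1 ⤳ ζ ∧ p.2 ⤳ ζ ∧ δ p.1 + δ p.2 - n = δ ζ} := fun x =>
    ⟨(v x.1.1, v x.1.2), hv _, hv _, by
      obtain ⟨h1, h2⟩ := Finset.mem_product.mp x.2
      rw [Set.Finite.mem_toFinset] at h1 h2
      have := (hdim_iff _ _).mp h1.1
      have := (hdim_iff _ _).mp h2.1
      simp only
      omega⟩
  have hinj : ∀ P Q : PrimeSpectrum (X.presheaf.stalk ζ), v P = v Q → P = Q := fun P Q h => by
    apply PrimeSpectrum.ext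
    rw [← hvI P, ← hvI Q, h]
  have hΦ : Function.Injective Φ := fun a b h => by
    have h' := congrArg Subtype.val h
    simp only [Φ, Prod.mk.injEq] at h'
    exact Subtype.ext (Prod.ext (hinj _ _ h'.1) (hinj _ _ h'.2))
  rw [finsum_eq_sum_of_support_subset _ (s := (hFfin.toFinset ×ˢ hGfin.toFinset).attach.image Φ) ?_,
    Finset.sum_image fun a _ b _ h => hΦ h]
  · refine Finset.sum_congr rfl fun x _ => ?_
    obtain ⟨h1, h2⟩ := Finset.mem_product.mp x.2
    rw [Set.Finite.mem_toFinset] at h1 h2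
    show _ = Cyc.sheafFun δ r F (v x.1.1) * Cyc.sheafFun δ s G (v x.1.2) *
      IntMult.mult (IntMult.ptIdeal (v x.1.1)) (IntMult.ptIdeal (v x.1.2)) ζ
    rw [hlen F hF r _ (by have := (hdim_iff _ _).mp h1.1; omega), hlen G hG s _ (by have := (hdim_iff _ _).mp h2.1; omega),
      IntMult.mult, hvI, hvI]
    ring
  · rintro ⟨⟨a, b⟩, ha, hb, hab⟩ hne
    change δ a + δ b - n = δ ζ at hab
    change a ⤳ ζ at ha
    change b ⤳ ζ at hb
    simp only [Function.mem_support, ne_eq, mul_eq_zero, not_or] at hne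
    obtain ⟨hda, hnta⟩ := nontrivial_of_sheafFun_ne_zero F δ r hne.1.1
    obtain ⟨hdb, hntb⟩ := nontrivial_of_sheafFun_ne_zero G δ s hne.1.2
    have key : ∀ {a : X} (ha : a ⤳ ζ), v ⟨_, IntPt.stalkIdeal_ptIdeal_prime ha⟩ = a := fun {a} ha =>
      IntPt.stalkIdeal_ptIdeal_injective (hv _) ha (hvI _)
    rw [Finset.coe_image]
    refine ⟨⟨(⟨_, IntPt.stalkIdeal_ptIdeal_prime ha⟩, ⟨_, IntPt.stalkIdeal_ptIdeal_prime hb⟩), ?_⟩,
      Finset.mem_attach _ _, Subtype.ext (Prod.ext (key ha) (key hb))⟩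
    rw [Finset.mem_product, Set.Finite.mem_toFinset, Set.Finite.mem_toFinset]
    refine ⟨⟨(hdim_iff _ _).mpr (by rw [key ha]; omega), ?_⟩, ⟨(hdim_iff _ _).mpr (by rw [key hb]; omega), ?_⟩⟩
    · rw [← hlen F hF r _ (by rw [key ha]; exact hda), key ha]; exact hne.1.1
    · rw [← hlen G hG s _ (by rw [key hb]; exact hdb), key hb]; exact hne.1.2

/-- A specialization between points of equal dimension is trivial. -/
theorem eq_of_specializes (δ : X → ℤ) (hδ : Cyc.DeltaCompat f δ (fun _ => 0)) {v x : X} (h : v ⤳ x) :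
    δ x ≤ δ v ∧ (δ v ≤ δ x → v = x) := by
  obtain ⟨a, ha, ha'⟩ := IntPt.delta_eq_cdim f δ hδ v
  obtain ⟨b, hb, hb'⟩ := IntPt.delta_eq_cdim f δ hδ x
  obtain ⟨d, hd, hda⟩ := IntPt.ringKrullDim_quotient_ptIdeal f h ha hb
  refine ⟨by omega, fun hle => ?_⟩
  haveI := IntPt.stalkIdeal_ptIdeal_prime h
  have hd0 : d = 0 := by omega
  have hmax : (IntMult.stalkIdeal (IntMult.ptIdeal v) x).IsMaximal := by
    refine Ideal.Quotient.maximal_of_isField _ ?_
    haveI : Ring.KrullDimLE 0 (X.presheaf.stalk x ⧸ IntMult.stalkIdeal (IntMult.ptIdeal v) x) := by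
      rw [Ring.KrullDimLE, Order.krullDimLE_iff]
      refine le_of_eq ?_
      rw [← ringKrullDim, hd, hd0]
    exact Ring.KrullDimLE.isField_of_isDomain
  refine IntPt.stalkIdeal_ptIdeal_injective h specializes_rfl ?_
  rw [IntPt.stalkIdeal_ptIdeal_self]
  exact IsLocalRing.eq_maximalIdeal hmax

end Groth.Agent.H3CAlg.ChiMain
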