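import Groth.Agent.H3CAlg.PairPt
import Groth.Agent.H3CAlg.ChiMain
import Groth.Agent.LeadDev.Sub
import Groth.Agent.H17.PrinStalk
import Groth.Agent.H06EGA9.StructureStalk
import Mathlib

/-!
# The coherent module of the closure of a point
-/

set_option autoImplicit false
set_option linter.style.haveILetI false
universe u

open CategoryTheory AlgebraicGeometry

namespace Groth.Agent.H3CAlg.PrimeMod

variable {X : Scheme.{u}}

/-- The structure sheaf of the reduced closure of a point, as a module on `X`. -/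
noncomputable def primeMod (v : X) : X.Modules :=
  (Coh.push (IntMult.ptIdeal v).subschemeι).obj (Coh.structureModule _)

theorem isCoh_primeMod [IsNoetherian X] (v : X) : Coh.IsCoh (primeMod v) :=
  LeadDev.isCoh_push_structure _

theorem specializes_of_nontrivial (v x : X) (h : Nontrivial ((primeMod v).presheaf.stalk x)) : v ⤳ x := by
  by_contra hn
  have hx : x ∉ Set.range (IntMult.ptIdeal v).subschemeι := by
    rw [PairPt.range_ptIdeal]
    exact fun hc => hn (specializes_iff_mem_closure.mpr hc)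
  refine (not_subsingleton ((primeMod v).presheaf.stalk x)) (subsingleton_of_forall_eq 0 fun a => ?_)
  obtain ⟨U, hU, a, rfl⟩ := (primeMod v).presheaf.exists_germ_eq a
  let i := (IntMult.ptIdeal v).subschemeι
  let C : X.Opens := ⟨(Set.range i)ᶜ, i.isClosedEmbedding.isClosed_range.isOpen_compl⟩
  let W : X.Opens := U ⊓ C
  rw [← (primeMod v).presheaf.germ_res_apply (homOfLE (inf_le_left : W ≤ U)) x ⟨hU, hx⟩ a]
  have hW : i ⁻¹ᵁ W = ⊥ := eq_bot_iff.mpr fun y hy => hy.2 ⟨y, rfl⟩
  haveI : Subsingleton Γ((IntMult.ptIdeal v).subscheme, i ⁻¹ᵁ W) := hW ▸ inferInstance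
  haveI : Subsingleton Γ(primeMod v, W) := this
  rw [Subsingleton.elim ((primeMod v).presheaf.map (homOfLE (inf_le_left : W ≤ U)).op a) 0, map_zero]

theorem stalk_equiv {Z : Scheme.{u}} (i : Z ⟶ X) [IsClosedImmersion i] (z : Z) :
    Nonempty (((Coh.push i).obj (Coh.structureModule Z)).presheaf.stalk (i z) ≃ₗ[X.presheaf.stalk (i z)]
      X.presheaf.stalk (i z) ⧸ IntMult.stalkIdeal i.ker (i z)) := by
  letI : Algebra (X.presheaf.stalk (i z)) (Z.presheaf.stalk z) := (Groth.Agent.H17.PrinStalk.stalkTo i z rfl).toAlgebra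
  have halg : algebraMap (X.presheaf.stalk (i z)) (Z.presheaf.stalk z) = (i.stalkMap z).hom := by
    show (X.presheaf.stalkSpecializes (specializes_of_eq rfl) ≫ i.stalkMap z).hom = _
    rw [TopCat.Presheaf.stalkSpecializes_refl, Category.id_comp]
  have hsurj : Function.Surjective (Algebra.linearMap (X.presheaf.stalk (i z)) (Z.presheaf.stalk z)) := by
    show Function.Surjective (algebraMap (X.presheaf.stalk (i z)) (Z.presheaf.stalk z))
    rw [halg]
    exact SurjectiveOnStalks.stalkMap_surjective i z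
  have hker : LinearMap.ker (Algebra.linearMap (X.presheaf.stalk (i z)) (Z.presheaf.stalk z)) =
      IntMult.stalkIdeal i.ker (i z) := by
    rw [IntPt.stalkIdeal_ker, ← halg]
    rfl
  letI := Module.compHom ((Coh.structureModule Z).presheaf.stalk z) (algebraMap (X.presheaf.stalk (i z)) (Z.presheaf.stalk z))
  haveI : IsScalarTower (X.presheaf.stalk (i z)) (Z.presheaf.stalk z) ((Coh.structureModule Z).presheaf.stalk z) :=
    IsScalarTower.of_algebraMap_smul fun _ _ => rfl
  let e : ((Coh.push i).obj (Coh.structureModule Z)).presheaf.stalk (i z) ≃ₗ[X.presheaf.stalk (i z)] (Coh.structureModule Z).presheaf.stalk z :=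
    LinearEquiv.ofBijective
      ({ toFun := Groth.Agent.H17.PrinStalk.pushTo i (Coh.structureModule Z) z rfl
         map_add' := map_add _
         map_smul' := Groth.Agent.H17.PrinStalk.pushTo_smul i (Coh.structureModule Z) z rfl } :
        ((Coh.push i).obj (Coh.structureModule Z)).presheaf.stalk (i z) →ₗ[X.presheaf.stalk (i z)] (Coh.structureModule Z).presheaf.stalk z)
      (Groth.Agent.H17.PrinStalk.pushTo_bijective i i.isClosedEmbedding.isInducing _ z rfl)
  let e' := LinearEquiv.ofBijective (LinearMap.toSpanSingleton (Z.presheaf.stalk z) _ (Groth.Agent.H06EGA9.oneStalk z))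
    (Groth.Agent.H06EGA9.bijective_smul_oneStalk z)
  exact ⟨e.trans ((e'.symm.restrictScalars (X.presheaf.stalk (i z))).trans
    ((Submodule.quotEquivOfEq _ _ hker.symm).trans (LinearMap.quotKerEquivOfSurjective _ hsurj)).symm)⟩

theorem stalk_primeMod {v x : X} (h : v ⤳ x) :
    Nonempty ((primeMod v).presheaf.stalk x ≃ₗ[X.presheaf.stalk x]
      X.presheaf.stalk x ⧸ IntMult.stalkIdeal (IntMult.ptIdeal v) x) := by
  have hx : x ∈ Set.range (IntMult.ptIdeal v).subschemeι := by
    rw [PairPt.range_ptIdeal]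
    exact specializes_iff_mem_closure.mp h
  obtain ⟨z, rfl⟩ := hx
  obtain ⟨e⟩ := stalk_equiv (IntMult.ptIdeal v).subschemeι z
  exact ⟨e.trans (Submodule.quotEquivOfEq _ _ (by rw [Scheme.IdealSheafData.ker_subschemeι]))⟩

theorem nontrivial_iff (v x : X) : Nontrivial ((primeMod v).presheaf.stalk x) ↔ v ⤳ x := by
  refine ⟨specializes_of_nontrivial v x, fun h => ?_⟩
  obtain ⟨e⟩ := stalk_primeMod h
  haveI := IntPt.stalkIdeal_ptIdeal_prime h
  haveI : Nontrivial (X.presheaf.stalk x ⧸ IntMult.stalkIdeal (IntMult.ptIdeal v) x) :=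
    Ideal.Quotient.nontrivial_iff.mpr (Ideal.IsPrime.ne_top inferInstance)
  exact e.toEquiv.nontrivial

theorem length_self (v : X) : Module.length (X.presheaf.stalk v) ((primeMod v).presheaf.stalk v) = 1 := by
  obtain ⟨e⟩ := stalk_primeMod (specializes_rfl (x := v))
  rw [e.length_eq, Module.length_eq_one_iff, isSimpleModule_iff_isCoatom]
  rw [IntPt.stalkIdeal_ptIdeal_self]
  exact Ideal.isMaximal_def.mp (IsLocalRing.maximalIdeal.isMaximal _)

end Groth.Agent.H3CAlg.PrimeMod
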