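import Groth.Agent.H3CAlg.ChiAdd
import Groth.Agent.H3CAlg.TorFlatBC
import Mathlib.RingTheory.Flat.Equalizer
import Mathlib

/-!
# Flat base change of the Tor Euler characteristic
-/

set_option autoImplicit false
set_option linter.style.haveILetI false
universe u

open CategoryTheory CategoryTheory.Limits TensorProduct

namespace Groth.Agent.H3CAlg.ChiBC

variable {A : Type u} [CommRing A]

theorem tor_one_equiv (M : Type u) [AddCommGroup M] [Module A M] {K G N : Type u} [AddCommGroup K] [Module A K]
    [AddCommGroup G] [Module A G] [Module.Projective A G] [AddCommGroup N] [Module A N]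
    (f : K →ₗ[A] G) (g : G →ₗ[A] N) (hf : Function.Injective f) (hg : Function.Surjective g)
    (hfg : Function.Exact f g) :
    Nonempty (DRing.Tor A 1 M N ≃ₗ[A] LinearMap.ker (f.lTensor M)) := by
  obtain ⟨-, -, δ, h₁, h₂⟩ := ChiAdd.exists_les M hf hg hfg 0
  have hδ : Function.Injective δ := by
    rw [← LinearMap.ker_eq_bot, h₁.linearMap_ker_eq, LinearMap.range_eq_bot]
    haveI := ChiAdd.subsingleton_tor_projective (A := A) M G 0
    exact LinearMap.ext fun z => by rw [Subsingleton.elim z 0, map_zero, map_zero]
  let z₁ := ((Tor.zeroIso (ModuleCat.of A M)).app (ModuleCat.of A K)).toLinearEquiv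
  let z₂ := ((Tor.zeroIso (ModuleCat.of A M)).app (ModuleCat.of A G)).toLinearEquiv
  have hnat : ∀ v, z₂ (ChiAdd.torMap M f 0 v) = f.lTensor M (z₁ v) := fun v =>
    LinearMap.congr_fun (congrArg ModuleCat.Hom.hom ((Tor.zeroIso (ModuleCat.of A M)).hom.naturality (ModuleCat.ofHom f))) v
  refine ⟨(LinearEquiv.ofInjective δ hδ).trans ((LinearEquiv.ofEq _ _ h₂.linearMap_ker_eq.symm).trans
    (z₁.ofSubmodules _ _ ?_))⟩
  refine le_antisymm ?_ fun v hv => ?_
  · rintro _ ⟨v, hv, rfl⟩
    show f.lTensor M (z₁ v) = 0
    rw [← hnat, show ChiAdd.torMap M f 0 v = 0 from hv, map_zero]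
  · refine ⟨z₁.symm v, ?_, z₁.apply_symm_apply v⟩
    show ChiAdd.torMap M f 0 (z₁.symm v) = 0
    apply z₂.injective
    rw [hnat, z₁.apply_symm_apply, map_zero]
    exact hv

theorem tor_step_equiv (M : Type u) [AddCommGroup M] [Module A M] {K G N : Type u} [AddCommGroup K] [Module A K]
    [AddCommGroup G] [Module A G] [Module.Projective A G] [AddCommGroup N] [Module A N]
    (f : K →ₗ[A] G) (g : G →ₗ[A] N) (hf : Function.Injective f) (hg : Function.Surjective g)
    (hfg : Function.Exact f g) (i : ℕ) :
    Nonempty (DRing.Tor A (i + 2) M N ≃ₗ[A] DRing.Tor A (i + 1) M K) := by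
  obtain ⟨-, -, δ, h₁, h₂⟩ := ChiAdd.exists_les M hf hg hfg (i + 1)
  refine ⟨LinearEquiv.ofBijective δ ⟨?_, ?_⟩⟩
  · rw [← LinearMap.ker_eq_bot, h₁.linearMap_ker_eq, LinearMap.range_eq_bot]
    haveI := ChiAdd.subsingleton_tor_projective (A := A) M G (i + 1)
    exact LinearMap.ext fun z => by rw [Subsingleton.elim z 0, map_zero, map_zero]
  · haveI := ChiAdd.subsingleton_tor_projective (A := A) M G i
    exact fun v => (h₂ v).mp (Subsingleton.elim _ _)

variable (B : Type u) [CommRing B] [Algebra A B] [Module.Flat A B] (M : Type u) [AddCommGroup M] [Module A M]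

theorem tor_baseChange : ∀ (i : ℕ) (N : Type u) [AddCommGroup N] [Module A N],
    Nonempty (DRing.Tor B i (B ⊗[A] M) (B ⊗[A] N) ≃ₗ[B] B ⊗[A] DRing.Tor A i M N) := by
  intro i
  induction i with
  | zero =>
    intro N _ _
    exact ⟨((Tor.zeroIso (ModuleCat.of B (B ⊗[A] M))).app (ModuleCat.of B (B ⊗[A] N))).toLinearEquiv.trans
      ((AlgebraTensorModule.distribBaseChange A B M N).symm.trans
        (AlgebraTensorModule.congr (LinearEquiv.refl B B)
          ((Tor.zeroIso (ModuleCat.of A M)).app (ModuleCat.of A N)).toLinearEquiv).symm)⟩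
  | succ i ih =>
    intro N _ _
    obtain ⟨G, iG, iG', iG'', g, hg⟩ := TorFlatBC.exists_free_cover A N
    let f : LinearMap.ker g →ₗ[A] G := (LinearMap.ker g).subtype
    have hfg : Function.Exact f g := LinearMap.exact_subtype_ker_map g
    have hfB : Function.Injective (f.baseChange B) :=
      Module.Flat.lTensor_preserves_injective_linearMap (M := B) f (LinearMap.ker g).injective_subtype
    have hgB : Function.Surjective (g.baseChange B) := LinearMap.lTensor_surjective B hg
    have h0 : Function.Exact (f.lTensor B) (g.lTensor B) := Module.Flat.lTensor_exact B (f := f) (g := g) hfg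
    have hfgB : Function.Exact (f.baseChange B) (g.baseChange B) := fun z => h0 z
    cases i with
    | zero =>
      obtain ⟨e⟩ := tor_one_equiv M f g (LinearMap.ker g).injective_subtype hg hfg
      obtain ⟨e'⟩ := tor_one_equiv (B ⊗[A] M) (f.baseChange B) (g.baseChange B) hfB hgB hfgB
      let k : B ⊗[A] LinearMap.ker (f.lTensor M) ≃ₗ[B]
          LinearMap.ker (AlgebraTensorModule.lTensor B B (f.lTensor M)) := LinearMap.tensorKerEquiv B B (f.lTensor M)
      suffices h : Nonempty (LinearMap.ker ((f.baseChange B).lTensor (B ⊗[A] M)) ≃ₗ[B]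
          LinearMap.ker (AlgebraTensorModule.lTensor B B (f.lTensor M))) by
        obtain ⟨d⟩ := h
        exact ⟨(e'.trans d).trans (k.symm.trans (AlgebraTensorModule.congr (LinearEquiv.refl B B) e).symm)⟩
      refine ⟨(AlgebraTensorModule.distribBaseChange A B M (LinearMap.ker g)).symm.ofSubmodules _ _ ?_⟩
      have hc : ∀ v, AlgebraTensorModule.lTensor B B (f.lTensor M)
          ((AlgebraTensorModule.distribBaseChange A B M (LinearMap.ker g)).symm v) =
          (AlgebraTensorModule.distribBaseChange A B M G).symm ((f.baseChange B).lTensor (B ⊗[A] M) v) := by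
        intro v
        induction v using TensorProduct.induction_on with
        | zero => simp
        | tmul x y =>
          induction x using TensorProduct.induction_on with
          | zero => simp
          | tmul b m =>
            induction y using TensorProduct.induction_on with
            | zero => simp
            | tmul c k => simp [AlgebraTensorModule.distribBaseChange, TensorProduct.smul_tmul']
            | add p q hp hq => simp only [TensorProduct.tmul_add, map_add, hp, hq]
          | add p q hp hq => simp only [TensorProduct.add_tmul, map_add, hp, hq]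
        | add p q hp hq => simp only [map_add, hp, hq]
      refine le_antisymm ?_ fun v hv => ?_
      · rintro _ ⟨v, hv, rfl⟩
        show AlgebraTensorModule.lTensor B B (f.lTensor M) _ = 0
        erw [hc v]
        rw [show (f.baseChange B).lTensor (B ⊗[A] M) v = 0 from hv, map_zero]
      · refine ⟨AlgebraTensorModule.distribBaseChange A B M (LinearMap.ker g) v, ?_, LinearEquiv.symm_apply_apply _ v⟩
        show (f.baseChange B).lTensor (B ⊗[A] M) _ = 0
        apply (AlgebraTensorModule.distribBaseChange A B M G).symm.injective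
        rw [← hc, LinearEquiv.symm_apply_apply, map_zero]
        exact hv
    | succ i =>
      obtain ⟨e⟩ := tor_step_equiv M f g (LinearMap.ker g).injective_subtype hg hfg i
      obtain ⟨e'⟩ := tor_step_equiv (B ⊗[A] M) (f.baseChange B) (g.baseChange B) hfB hgB hfgB i
      obtain ⟨d⟩ := ih (LinearMap.ker g)
      exact ⟨e'.trans (d.trans (AlgebraTensorModule.congr (LinearEquiv.refl B B) e).symm)⟩

variable [IsLocalRing A] [IsLocalRing B] [IsLocalHom (algebraMap A B)]

/-- Flat base change multiplies the Euler characteristic by the length of the closed fibre. -/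
theorem chi_baseChange (N : Type u) [AddCommGroup N] [Module A N] :
    IntMult.chi B (B ⊗[A] M) (B ⊗[A] N) = IntMult.chi A M N *
      ((Module.length B (B ⧸ (IsLocalRing.maximalIdeal A).map (algebraMap A B))).toNat : ℤ) := by
  simp only [IntMult.chi]
  rw [finsum_mul]
  refine finsum_congr fun i => ?_
  obtain ⟨e⟩ := tor_baseChange (A := A) B M i N
  rw [e.length_eq, IsLocalRing.length_baseChange A B, ENat.toNat_mul, Nat.cast_mul, mul_assoc]

end Groth.Agent.H3CAlg.ChiBC
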