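import Groth.Agent.H3CAlg.ChiMain
import Groth.Agent.H3CAlg.ChiBC
import Groth.Agent.H06Mod.StalkPullback
import Groth.Agent.H29Fitt.PullbackQCoh
import Groth.Agent.H22Alg.CycBasic
import Mathlib

/-!
# The Tor Euler characteristic of flat pullbacks of coherent modules
-/

set_option autoImplicit false
set_option linter.style.haveILetI false
universe u

open CategoryTheory AlgebraicGeometry TensorProduct

namespace Groth.Agent.H3CAlg.ChiPull

variable {X Y : Scheme.{u}} (f : X ⟶ Y) (F G : Y.Modules) (x : X)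

theorem isCoh_pullback (hF : Coh.IsCoh F) : Coh.IsCoh ((Scheme.Modules.pullback f).obj F) :=
  ⟨H29Fitt.isQCoh_pullback _ F hF.1, H29Fitt.isFT_pullback _ F hF.1 hF.2⟩

theorem nontrivial_of_pullback (h : Nontrivial (((Scheme.Modules.pullback f).obj F).presheaf.stalk x)) :
    Nontrivial (F.presheaf.stalk (f x)) := by
  letI := H06Mod.stalkAlgebra f x
  by_contra hn
  rw [not_nontrivial_iff_subsingleton] at hn
  haveI : Subsingleton (F.presheaf.stalk (f.base x)) := hn
  exact (not_subsingleton _) (H06Mod.pullStalkEquiv f F x).symm.toEquiv.subsingleton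

theorem length_pullback [Flat f] :
    Module.length (X.presheaf.stalk x) (((Scheme.Modules.pullback f).obj F).presheaf.stalk x) =
      Module.length (Y.presheaf.stalk (f x)) (F.presheaf.stalk (f x)) *
      Module.length (X.presheaf.stalk x) (X.presheaf.stalk x ⧸ Ideal.map (f.stalkMap x).hom
        (IsLocalRing.maximalIdeal (Y.presheaf.stalk (f x)))) := by
  letI := H06Mod.stalkAlgebra f x
  haveI : Module.Flat (Y.presheaf.stalk (f.base x)) (X.presheaf.stalk x) := Flat.stalkMap f x
  haveI : IsLocalHom (algebraMap (Y.presheaf.stalk (f.base x)) (X.presheaf.stalk x)) :=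
    inferInstanceAs (IsLocalHom (f.stalkMap x).hom)
  rw [← (H06Mod.pullStalkEquiv f F x).length_eq]
  exact IsLocalRing.length_baseChange (Y.presheaf.stalk (f.base x)) (X.presheaf.stalk x) (F.presheaf.stalk (f.base x))

theorem chi_pullback [Flat f] [IsLocallyNoetherian X] [IsLocallyNoetherian Y] (hF : Coh.IsCoh F) (hG : Coh.IsCoh G) :
    IntMult.chi (X.presheaf.stalk x) (((Scheme.Modules.pullback f).obj F).presheaf.stalk x)
        (((Scheme.Modules.pullback f).obj G).presheaf.stalk x) =
      IntMult.chi (Y.presheaf.stalk (f x)) (F.presheaf.stalk (f x)) (G.presheaf.stalk (f x)) *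
      ((Module.length (X.presheaf.stalk x) (X.presheaf.stalk x ⧸ Ideal.map (f.stalkMap x).hom
        (IsLocalRing.maximalIdeal (Y.presheaf.stalk (f x))))).toNat : ℤ) := by
  letI := H06Mod.stalkAlgebra f x
  haveI : Module.Flat (Y.presheaf.stalk (f.base x)) (X.presheaf.stalk x) := Flat.stalkMap f x
  haveI : IsLocalHom (algebraMap (Y.presheaf.stalk (f.base x)) (X.presheaf.stalk x)) :=
    inferInstanceAs (IsLocalHom (f.stalkMap x).hom)
  haveI := ChiStalk.finite_stalk G hG (f x)
  haveI := ChiStalk.finite_stalk F hF (f x)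
  haveI := ChiStalk.finite_stalk _ (isCoh_pullback f F hF) x
  haveI := ChiStalk.finite_stalk _ (isCoh_pullback f G hG) x
  haveI : Module.Finite (Y.presheaf.stalk (f.base x)) (F.presheaf.stalk (f.base x)) := ChiStalk.finite_stalk F hF (f x)
  haveI : Module.Finite (Y.presheaf.stalk (f.base x)) (G.presheaf.stalk (f.base x)) := ChiStalk.finite_stalk G hG (f x)
  rw [ChiDev.chi_congr _ (H06Mod.pullStalkEquiv f G x).symm, TorComm.chi_comm,
    ChiDev.chi_congr _ (H06Mod.pullStalkEquiv f F x).symm, TorComm.chi_comm]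
  exact ChiBC.chi_baseChange (X.presheaf.stalk x) (F.presheaf.stalk (f.base x)) (G.presheaf.stalk (f.base x))

variable {δX : X → ℤ} {δY : Y → ℤ}

theorem support_bound [LocallyOfFiniteType f] {e : ℕ} (hrel : Cyc.HasRelDim f e) (hδ : Cyc.DeltaCompat f δX δY)
    (r : ℤ) (hr : ∀ y : Y, Nontrivial (F.presheaf.stalk y) → δY y ≤ r)
    (h : Nontrivial (((Scheme.Modules.pullback f).obj F).presheaf.stalk x)) : δX x ≤ r + e := by
  have h1 := hr _ (nontrivial_of_pullback f F x h)
  have h2 := H22Alg.CycBasic.delta_le_of_hasRelDim f hrel hδ x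
  omega

end Groth.Agent.H3CAlg.ChiPull
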