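import Mathlib

/-!
# Abhyankar's inequality
-/

set_option autoImplicit false

universe u

namespace Groth.Agent.H3CAlg.Abhyankar

open IsLocalRing

variable {K L Γ₀ Γ₁ : Type u} [Field K] [Field L] [Algebra K L]
  [LinearOrderedCommGroupWithZero Γ₀] [LinearOrderedCommGroupWithZero Γ₁]
  (vK : Valuation K Γ₀) (vL : Valuation L Γ₁) [vK.HasExtension vL]

/-- The subgroup killed in the relative value group. -/
noncomputable abbrev small : Subgroup Lˣ :=
  vL.valuationSubring.unitGroup ⊔ (Units.map (algebraMap K L).toMonoidHom).range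

theorem exists_val_aeval_eq {κ : Type u} (y : κ → vL.valuationSubring)
    (hy : AlgebraicIndependent (ResidueField vK.valuationSubring) fun j => residue vL.valuationSubring (y j))
    (q : MvPolynomial κ K) (hq : q ≠ 0) :
    ∃ c : K, c ≠ 0 ∧ vL (MvPolynomial.aeval (fun j => (y j : L)) q) = vL (algebraMap K L c) := by
  classical
  obtain ⟨m₀, hm₀, hmax⟩ := q.support.exists_max_image (fun m => vK (q.coeff m))
    (MvPolynomial.support_nonempty.mpr hq)
  let c := q.coeff m₀
  have hc : c ≠ 0 := MvPolynomial.mem_support_iff.mp hm₀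
  refine ⟨c, hc, ?_⟩
  have hle : ∀ m, c⁻¹ * q.coeff m ∈ vK.valuationSubring := fun m => by
    rw [Valuation.mem_valuationSubring_iff, map_mul, map_inv₀, inv_mul_le_iff₀ (zero_lt_iff.mpr (vK.ne_zero_iff.mpr hc)), mul_one]
    by_cases h : m ∈ q.support
    · exact hmax m h
    · rw [MvPolynomial.notMem_support_iff.mp h, map_zero]; exact zero_le
  let q₀ : MvPolynomial κ vK.valuationSubring :=
    ∑ m ∈ q.support, MvPolynomial.monomial m (⟨_, hle m⟩ : vK.valuationSubring)
  have hval : ((MvPolynomial.aeval y q₀ : vL.valuationSubring) : L) =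
      algebraMap K L c⁻¹ * MvPolynomial.aeval (fun j => (y j : L)) q := by
    conv_rhs => rw [← MvPolynomial.support_sum_monomial_coeff q, map_sum, Finset.mul_sum]
    simp only [q₀, map_sum, AddSubmonoidClass.coe_finsetSum]
    refine Finset.sum_congr rfl fun m _ => ?_
    rw [MvPolynomial.aeval_monomial, MvPolynomial.aeval_monomial]
    show ((algebraMap vK.valuationSubring vL.valuationSubring ⟨_, hle m⟩ : vL.valuationSubring) : L) * _ = _
    rw [Valuation.HasExtension.coe_algebraMap_valuationSubring_eq, map_mul, mul_assoc]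
    congr 2
    simp [Finsupp.prod]
  have hres : residue vL.valuationSubring (MvPolynomial.aeval y q₀) ≠ 0 := by
    have h1 : residue vL.valuationSubring (MvPolynomial.aeval y q₀) =
        MvPolynomial.aeval (fun j => residue vL.valuationSubring (y j))
          (MvPolynomial.map (residue vK.valuationSubring) q₀) := by
      rw [MvPolynomial.aeval_def, MvPolynomial.aeval_def, MvPolynomial.eval₂_map, MvPolynomial.hom_eval₂]
      rfl
    rw [h1]
    intro h
    have h0 := congrArg (MvPolynomial.coeff m₀) (hy.eq_zero_of_aeval_eq_zero _ h)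
    rw [MvPolynomial.coeff_map, MvPolynomial.coeff_sum, Finset.sum_eq_single m₀ (fun m _ hm => by
      rw [MvPolynomial.coeff_monomial, if_neg hm]) (fun h => absurd hm₀ h), MvPolynomial.coeff_monomial,
      if_pos rfl] at h0
    have : (⟨_, hle m₀⟩ : vK.valuationSubring) = 1 := Subtype.ext (inv_mul_cancel₀ hc)
    rw [this, map_one, MvPolynomial.coeff_zero] at h0
    exact one_ne_zero h0
  have hu : IsUnit (MvPolynomial.aeval y q₀) := residue_ne_zero_iff_isUnit _ |>.mp hres
  have h1 : vL ((MvPolynomial.aeval y q₀ : vL.valuationSubring) : L) = 1 :=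
    (Valuation.integer.integers vL).one_of_isUnit hu
  rw [hval, map_mul, map_inv₀, map_inv₀] at h1
  exact (eq_of_inv_mul_eq_one h1).symm

theorem algebraicIndependent_sum {ι κ : Type u} (x : ι → Lˣ)
    (hx : LinearIndependent ℤ fun i => (QuotientAddGroup.mk (Additive.ofMul (x i)) :
      Additive Lˣ ⧸ Subgroup.toAddSubgroup (small (K := K) vL)))
    (y : κ → vL.valuationSubring)
    (hy : AlgebraicIndependent (ResidueField vK.valuationSubring) fun j => residue vL.valuationSubring (y j)) :
    AlgebraicIndependent K (Sum.elim (fun i => (x i : L)) fun j => (y j : L)) := by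
  classical
  rw [algebraicIndependent_iff]
  intro p hp
  by_contra hp0
  let P := MvPolynomial.sumAlgEquiv K ι κ p
  have hP : P ≠ 0 := (map_ne_zero_iff _ (MvPolynomial.sumAlgEquiv K ι κ).injective).mpr hp0
  let φ : MvPolynomial κ K →+* L := (MvPolynomial.aeval fun j => (y j : L)).toRingHom
  have hev : MvPolynomial.eval₂ φ (fun i => (x i : L)) P = 0 := by
    rw [← hp]
    have : (MvPolynomial.eval₂Hom φ fun i => (x i : L)).comp (MvPolynomial.sumAlgEquiv K ι κ).toRingEquiv.toRingHom =
        (MvPolynomial.aeval (Sum.elim (fun i => (x i : L)) fun j => (y j : L))).toRingHom := by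
      apply MvPolynomial.ringHom_ext
      · intro a; simp [φ]
      · rintro (i | j) <;> simp [φ]
    exact RingHom.congr_fun this p
  rw [MvPolynomial.eval₂_eq] at hev
  choose! c hc hcv using fun m (hm : m ∈ P.support) =>
    exists_val_aeval_eq vK vL y hy (P.coeff m) (MvPolynomial.mem_support_iff.mp hm)
  let mon : (ι →₀ ℕ) → Lˣ := fun m => m.prod fun i e => x i ^ e
  have hmon : ∀ m, (mon m : L) = ∏ i ∈ m.support, (x i : L) ^ m i := fun m => by
    simp [mon, Finsupp.prod]
  let f : (ι →₀ ℕ) → L := fun m => φ (P.coeff m) * ∏ i ∈ m.support, (x i : L) ^ m i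
  have hf : ∀ m ∈ P.support, vL (f m) = vL (algebraMap K L (c m) * (mon m : L)) := fun m hm => by
    show vL (_ * _) = _
    rw [map_mul, map_mul, hmon]
    congr 1
    exact hcv m hm
  have hinj : ∀ m ∈ P.support, ∀ m' ∈ P.support, vL (f m) = vL (f m') → m = m' := by
    intro m hm m' hm' h
    rw [hf m hm, hf m' hm'] at h
    let cu : ∀ m ∈ P.support, Kˣ := fun m hm => Units.mk0 (c m) (hc m hm)
    let a : Lˣ := Units.map (algebraMap K L).toMonoidHom (cu m hm) * mon m
    let b : Lˣ := Units.map (algebraMap K L).toMonoidHom (cu m' hm') * mon m'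
    have hab : a * b⁻¹ ∈ vL.valuationSubring.unitGroup := by
      rw [ValuationSubring.mem_unitGroup_iff]
      refine ((Valuation.isEquiv_valuation_valuationSubring vL).eq_one_iff_eq_one).mp ?_
      have hbne : vL ((b : Lˣ) : L) ≠ 0 := vL.ne_zero_iff.mpr b.ne_zero
      rw [Units.val_mul, map_mul, Units.val_inv_eq_inv_val, map_inv₀, ← div_eq_mul_inv, div_eq_one_iff_eq hbne]
      exact h
    have hdiff : mon m * (mon m')⁻¹ ∈ small (K := K) vL := by
      have e : mon m * (mon m')⁻¹ = (a * b⁻¹) *
          (Units.map (algebraMap K L).toMonoidHom (cu m' hm') * (Units.map (algebraMap K L).toMonoidHom (cu m hm))⁻¹) := by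
        simp only [a, b, mul_inv]
        apply Additive.ofMul.injective
        simp only [ofMul_mul, ofMul_inv]
        abel
      rw [e]
      refine mul_mem (Subgroup.mem_sup_left hab) (Subgroup.mem_sup_right (mul_mem ⟨_, rfl⟩ (inv_mem ⟨_, rfl⟩)))
    let G := Additive Lˣ ⧸ Subgroup.toAddSubgroup (small (K := K) vL)
    let π : Additive Lˣ →+ G := QuotientAddGroup.mk' _
    let g : ι → G := fun i => π (Additive.ofMul (x i))
    have hlin : ∀ m : ι →₀ ℕ, π (Additive.ofMul (mon m)) =
        Finsupp.linearCombination ℤ g (m.mapRange (fun e : ℕ => (e : ℤ)) rfl) := by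
      intro m
      rw [Finsupp.linearCombination_apply, Finsupp.sum_mapRange_index (h := fun i (a : ℤ) => a • g i) (fun i => zero_smul ℤ (g i))]
      simp only [mon, Finsupp.prod, Finsupp.sum, ofMul_prod, map_sum]
      exact Finset.sum_congr rfl fun i _ => by rw [ofMul_pow, map_nsmul, natCast_zsmul]
    have h0 : π (Additive.ofMul (mon m)) = π (Additive.ofMul (mon m')) := by
      refine QuotientAddGroup.eq_iff_sub_mem.mpr ?_
      show Additive.ofMul (mon m / mon m') ∈ Subgroup.toAddSubgroup (small (K := K) vL)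
      rw [div_eq_mul_inv]
      exact hdiff
    rw [hlin, hlin] at h0
    exact Finsupp.mapRange_injective _ _ Nat.cast_injective (hx h0)
  obtain ⟨m₀, hm₀, hmax⟩ := P.support.exists_max_image (fun m => vL (f m))
    (MvPolynomial.support_nonempty.mpr hP)
  have h := Valuation.map_sum_eq_of_lt vL hm₀ (f := f) fun m hm => by
    rw [Finset.mem_sdiff, Finset.mem_singleton] at hm
    exact lt_of_le_of_ne (hmax m hm.1) fun h => hm.2 (hinj m hm.1 m₀ hm₀ h)
  rw [hev, map_zero, hf m₀ hm₀] at h
  exact (vL.ne_zero_iff.mpr (mul_ne_zero ((map_ne_zero _).mpr (hc m₀ hm₀)) (mon m₀).ne_zero)) h.symm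

theorem abhyankar :
    Module.rank ℤ (Additive Lˣ ⧸ Subgroup.toAddSubgroup (small (K := K) vL)) +
      Algebra.trdeg (ResidueField vK.valuationSubring) (ResidueField vL.valuationSubring) ≤
      Algebra.trdeg K L := by
  obtain ⟨s, hs, hli⟩ := exists_set_linearIndependent_of_isDomain ℤ
    (Additive Lˣ ⧸ Subgroup.toAddSubgroup (small (K := K) vL))
  obtain ⟨t, ht⟩ := exists_isTranscendenceBasis (ResidueField vK.valuationSubring) (ResidueField vL.valuationSubring)
  choose x hx using fun i : s => QuotientAddGroup.mk_surjective i.1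
  choose y hy using fun j : t => residue_surjective (R := vL.valuationSubring) j.1
  rw [← hs, ← ht.cardinalMk_eq_trdeg, Cardinal.add_def]
  refine (algebraicIndependent_sum vK vL (fun i => Additive.toMul (x i)) ?_ y ?_).cardinalMk_le_trdeg
  · have : (fun i : s => (QuotientAddGroup.mk (Additive.ofMul (Additive.toMul (x i))) :
        Additive Lˣ ⧸ Subgroup.toAddSubgroup (small (K := K) vL))) = fun i => i.1 := funext fun i => hx i
    rw [this]; exact hli
  · have : (fun j : t => residue vL.valuationSubring (y j)) = ((↑) : t → _) := funext fun j => hy j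
    rw [this]; exact ht.1

end Groth.Agent.H3CAlg.Abhyankar
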