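import Groth.Agent.H3CAlg.AdicFree
import Groth.Agent.H05EGA4.Regular2
import Mathlib.RingTheory.AdicCompletion.Completeness
import Mathlib.RingTheory.AdicCompletion.Algebra
import Mathlib.RingTheory.Ideal.Maps

/-!
Completed base change of adically free modules.
-/

namespace Groth.Agent.H3CAlg.AdicFree

open W4c5adicflatcompl
open scoped TensorProduct

universe u

/-- Decaying functions only depend on the filtration. -/
noncomputable def decayingMapEquiv {R : Type u} [CommRing R] (S : Type u) [CommRing S] [Algebra R S]
    (J : Ideal R) (Z : Type u) :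
    decaying (J.map (algebraMap R S)) Z S ≃ₗ[R] decaying J Z S :=
  have key : ∀ (n : ℕ) (x : S), x ∈ (J.map (algebraMap R S) ^ n • ⊤ : Submodule S S) ↔ x ∈ (J ^ n • ⊤ : Submodule R S) :=
    fun n x => by
      rw [← Ideal.map_pow, ← Submodule.restrictScalars_mem R, Submodule.restrictScalars_map_smul_eq, Submodule.restrictScalars_top]
  { toFun := fun f => ⟨(f : Z → S), fun n => (f.2 n).subset fun z hz h => hz ((key n _).mp h)⟩
    invFun := fun f => ⟨(f : Z → S), fun n => (f.2 n).subset fun z hz h => hz ((key n _).mpr h)⟩
    map_add' := fun _ _ => rfl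
    map_smul' := fun r f => rfl
    left_inv := fun _ => rfl
    right_inv := fun _ => rfl }

variable {A B : Type u} [CommRing A] [CommRing B] [Algebra A B]
    [IsNoetherianRing A] [IsNoetherianRing B] (I : Ideal A) (J : Ideal B)
    (hIJ : I.map (algebraMap A B) ≤ J) (P : Type u) [AddCommGroup P] [Module A P]

include hIJ in
theorem isAdicFree_baseChange (hP : IsAdicFree I P) : IsAdicFree J (AdicCompletion J (B ⊗[A] P)) := by
  classical
  obtain ⟨Z, ⟨φ⟩⟩ := hP
  let Ah := AdicCompletion I A
  let Bh := AdicCompletion J B
  let J' := J.map (algebraMap B Bh)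
  let M := AdicCompletion J (B ⊗[A] P)
  haveI : IsAdicComplete J M := AdicCompletion.isAdicComplete (IsNoetherian.noetherian J)
  haveI : IsAdicComplete J' M := (IsAdicComplete.map_algebraMap_iff (I := J) M).mpr ‹_›
  haveI : IsAdicComplete J' Bh := AdicCompletion.isAdicComplete_self J (IsNoetherian.noetherian J)
  let p : Z → P := fun z => φ.symm (single I z (1 : Ah))
  let e : Z → M := fun z => AdicCompletion.of J (B ⊗[A] P) (1 ⊗ₜ p z)
  -- every element of `P` is a finite combination of the `p z` modulo `I`
  have hP1 : ∀ x : P, ∃ c : Z →₀ A, x - Finsupp.linearCombination A p c ∈ (I • ⊤ : Submodule A P) := by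
    intro x
    set f := φ x with hf
    haveI := Groth.Agent.H05EGA4.isNoetherianRing_adicCompletion A I
    haveI : IsAdicComplete (I.map (algebraMap A Ah)) Ah := AdicCompletion.isAdicComplete_self I (IsNoetherian.noetherian I)
    let T := (f.2 1).toFinset
    have hc : ∀ z, ∃ a : A, (f : Z → Ah) z - algebraMap A Ah a ∈ (I • ⊤ : Submodule A Ah) := by
      intro z
      obtain ⟨q, hq⟩ := Submodule.Quotient.mk_surjective _ (((f : Z → Ah) z).val 1)
      refine ⟨q, ?_⟩
      have : (f : Z → Ah) z - algebraMap A Ah q ∈ (I ^ 1 • ⊤ : Submodule A Ah) := by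
        rw [AdicCompletion.pow_smul_top_eq_ker_eval (IsNoetherian.noetherian I), LinearMap.mem_ker, map_sub, sub_eq_zero]
        exact hq.symm
      rwa [pow_one] at this
    choose a ha using hc
    refine ⟨∑ z ∈ T, Finsupp.single z (a z), ?_⟩
    let g : decaying I Z Ah := f - ∑ z ∈ T, a z • single I z (1 : Ah)
    have hg : ∀ z, (g : Z → Ah) z ∈ (I • ⊤ : Submodule A Ah) := by
      intro z
      have h1 : (g : Z → Ah) z = (f : Z → Ah) z - if z ∈ T then algebraMap A Ah (a z) else 0 := by
        simp [g, Finset.sum_apply, Pi.single_apply, Algebra.smul_def]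
      rw [h1]
      split_ifs with hz
      · exact ha z
      · rw [sub_zero]
        have : (f : Z → Ah) z ∈ (I ^ 1 • ⊤ : Submodule A Ah) := not_not.mp fun h => hz ((f.2 1).mem_toFinset.mpr h)
        rwa [pow_one] at this
    have hg' : g ∈ (I • ⊤ : Submodule A (decaying I Z Ah)) := by
      let e' := decayingMapEquiv Ah I Z
      have h2 : e'.symm g ∈ ((I.map (algebraMap A Ah)) ^ 1 • ⊤ : Submodule Ah (decaying (I.map (algebraMap A Ah)) Z Ah)) := by
        refine (mem_pow_smul_iff _).mpr fun z => mem_self_iff.mp ?_
        rw [pow_one, ← Submodule.restrictScalars_mem A, Submodule.restrictScalars_map_smul_eq, Submodule.restrictScalars_top]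
        exact hg z
      rw [pow_one, ← Submodule.restrictScalars_mem A, Submodule.restrictScalars_map_smul_eq, Submodule.restrictScalars_top] at h2
      have := Submodule.mem_map_of_mem (f := e'.toLinearMap) h2
      rwa [Submodule.map_smul'', Submodule.map_top, LinearEquiv.range, LinearEquiv.coe_coe, e'.apply_symm_apply] at this
    have h3 := Submodule.mem_map_of_mem (f := φ.symm.toLinearMap) hg'
    rw [Submodule.map_smul'', Submodule.map_top, LinearEquiv.range, LinearEquiv.coe_coe] at h3
    convert h3 using 1
    simp [g, hf, p, map_sum, Finsupp.linearCombination_single]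
  have hspan : ⊤ ≤ Submodule.span Bh (Set.range e) ⊔ J' • (⊤ : Submodule Bh M) := by
    intro y _
    obtain ⟨q, hq⟩ := Submodule.Quotient.mk_surjective _ (y.val 1)
    have hy : y - AdicCompletion.of J (B ⊗[A] P) q ∈ J' • (⊤ : Submodule Bh M) := by
      rw [← Submodule.restrictScalars_mem B, Submodule.restrictScalars_map_smul_eq, Submodule.restrictScalars_top]
      have : y - AdicCompletion.of J (B ⊗[A] P) q ∈ (J ^ 1 • ⊤ : Submodule B M) := by
        rw [AdicCompletion.pow_smul_top_eq_ker_eval (IsNoetherian.noetherian J), LinearMap.mem_ker, map_sub, sub_eq_zero]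
        exact hq.symm
      rwa [pow_one] at this
    refine (sub_add_cancel y (AdicCompletion.of J (B ⊗[A] P) q)) ▸ add_mem (Submodule.mem_sup_right hy) ?_
    clear hq hy
    induction q using TensorProduct.induction_on with
    | zero => rw [map_zero]; exact zero_mem _
    | add u v hu hv => rw [map_add]; exact add_mem hu hv
    | tmul b x =>
      obtain ⟨c, hc⟩ := hP1 x
      rw [show b ⊗ₜ[A] x = b • ((1 : B) ⊗ₜ[A] Finsupp.linearCombination A p c) + b ⊗ₜ[A] (x - Finsupp.linearCombination A p c) by
        rw [TensorProduct.smul_tmul', smul_eq_mul, mul_one, ← TensorProduct.tmul_add, add_sub_cancel], map_add]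
      refine add_mem (Submodule.mem_sup_left ?_) (Submodule.mem_sup_right ?_)
      · rw [map_smul, Finsupp.linearCombination_apply, Finsupp.sum, TensorProduct.tmul_sum, map_sum]
        refine Submodule.smul_of_tower_mem _ b (sum_mem fun z _ => ?_)
        rw [TensorProduct.tmul_smul, ← algebraMap_smul B (c z), map_smul]
        exact Submodule.smul_of_tower_mem _ _ (Submodule.subset_span ⟨z, rfl⟩)
      · rw [← Submodule.restrictScalars_mem B, Submodule.restrictScalars_map_smul_eq, Submodule.restrictScalars_top]
        have h1 : b ⊗ₜ[A] (x - Finsupp.linearCombination A p c) ∈ (J • ⊤ : Submodule B (B ⊗[A] P)) := by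
          generalize x - Finsupp.linearCombination A p c = w at hc
          induction hc using Submodule.smul_induction_on' with
          | smul a ha v _ =>
            rw [TensorProduct.tmul_smul, ← algebraMap_smul B a]
            exact Submodule.smul_mem_smul (hIJ (Ideal.mem_map_of_mem _ ha)) trivial
          | add u _ v _ hu hv => rw [TensorProduct.tmul_add]; exact add_mem hu hv
        have := Submodule.mem_map_of_mem (f := AdicCompletion.of J (B ⊗[A] P)) h1
        rw [Submodule.map_smul''] at this
        exact (smul_mono_right _ le_top : _ ≤ (J • ⊤ : Submodule B M)) this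
  have hind : ∀ (n : ℕ) (c : Z →₀ Bh), Finsupp.linearCombination Bh e c ∈ (J' ^ n • ⊤ : Submodule Bh M) →
      ∀ z, c z ∈ J' ^ n := by
    intro n c hc z
    have hη : (I ^ n • ⊤ : Submodule A A) ≤
        LinearMap.ker (((J ^ n • ⊤ : Submodule B B).mkQ.restrictScalars A).comp (Algebra.linearMap A B)) := by
      intro a ha
      rw [LinearMap.mem_ker, LinearMap.comp_apply, LinearMap.restrictScalars_apply, Submodule.mkQ_apply,
        Submodule.Quotient.mk_eq_zero, mem_self_iff]
      exact Ideal.pow_right_mono hIJ n (Ideal.map_pow (algebraMap A B) I n ▸ Ideal.mem_map_of_mem _ (mem_self_iff.mp ha))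
    let η : (A ⧸ (I ^ n • ⊤ : Submodule A A)) →ₗ[A] (B ⧸ (J ^ n • ⊤ : Submodule B B)) := Submodule.liftQ _ _ hη
    let coord : P →ₗ[A] Ah := ((LinearMap.proj z).comp (decaying I Z Ah).subtype).comp φ.toLinearMap
    let g : B ⊗[A] P →ₗ[B] (B ⧸ (J ^ n • ⊤ : Submodule B B)) :=
      LinearMap.liftBaseChange B (η.comp ((AdicCompletion.eval I A n).comp coord))
    have hg : (J ^ n • ⊤ : Submodule B (B ⊗[A] P)) ≤ LinearMap.ker g := by
      rw [Submodule.smul_le]
      intro r hr v _
      rw [LinearMap.mem_ker, map_smul]
      obtain ⟨b, hb⟩ := Submodule.Quotient.mk_surjective _ (g v)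
      rw [← hb, ← Submodule.Quotient.mk_smul, Submodule.Quotient.mk_eq_zero]
      exact Submodule.smul_mem_smul hr trivial
    let h := Submodule.liftQ _ g hg
    have hval : ∀ d : Z →₀ Bh, h ((Finsupp.linearCombination Bh e d : M).val n) = (d z).val n := by
      intro d
      induction d using Finsupp.induction_linear with
      | zero => simp
      | add f f' hf hf' => rw [map_add, AdicCompletion.val_add_apply, map_add, hf, hf', Finsupp.add_apply, AdicCompletion.val_add_apply]
      | single w r =>
        obtain ⟨b, hb⟩ := Submodule.Quotient.mk_surjective _ (r.val n)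
        rw [Finsupp.linearCombination_single, AdicCompletion.smul_eval, ← hb]
        change h (Submodule.Quotient.mk (b • ((1 : B) ⊗ₜ[A] p w))) = _
        rw [show h (Submodule.Quotient.mk (b • ((1 : B) ⊗ₜ[A] p w))) = g (b • ((1 : B) ⊗ₜ[A] p w)) from rfl, map_smul,
          show g ((1 : B) ⊗ₜ[A] p w) = η ((coord (p w)).val n) by simp [g]; rfl]
        rw [show coord (p w) = if z = w then 1 else 0 by simp [coord, p, Pi.single_apply]]
        rw [Finsupp.single_apply]
        split_ifs with h1 h2 h2
        · rw [← hb, AdicCompletion.val_one]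
          show b • (Submodule.Quotient.mk (algebraMap A B 1) : B ⧸ (J ^ n • ⊤ : Submodule B B)) = _
          rw [map_one, ← Submodule.Quotient.mk_smul]; congr 1; exact mul_one b
        · exact absurd h1.symm h2
        · exact absurd h2.symm h1
        · simp
    rw [← Submodule.restrictScalars_mem B, ← Ideal.map_pow, Submodule.restrictScalars_map_smul_eq, Submodule.restrictScalars_top,
      AdicCompletion.pow_smul_top_eq_ker_eval (IsNoetherian.noetherian J), LinearMap.mem_ker] at hc
    have h1 := hval c
    rw [show (Finsupp.linearCombination Bh e c : M).val n = 0 from hc, map_zero] at h1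
    have h2 : c z ∈ (J ^ n • ⊤ : Submodule B Bh) := by
      rw [AdicCompletion.pow_smul_top_eq_ker_eval (IsNoetherian.noetherian J), LinearMap.mem_ker]
      exact h1.symm
    rwa [← mem_self_iff (I := J.map (algebraMap B Bh)), ← Ideal.map_pow, ← Submodule.restrictScalars_mem B,
      Submodule.restrictScalars_map_smul_eq, Submodule.restrictScalars_top]
  obtain ⟨Φ⟩ := exists_equiv (I := J') e hspan hind
  exact ⟨Z, ⟨(Φ.symm.restrictScalars B).trans (decayingMapEquiv Bh J Z)⟩⟩

end Groth.Agent.H3CAlg.AdicFree
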