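import Groth.Prelude.Def_W4c5adicflatcomplDec
import Mathlib.RingTheory.AdicCompletion.Basic
import Mathlib.RingTheory.Filtration
import Mathlib.RingTheory.Flat.EquationalCriterion
import Mathlib.RingTheory.Nakayama
import Mathlib.LinearAlgebra.Basis.VectorSpace
import Mathlib.RingTheory.LocalRing.ResidueField.Basic
import Mathlib.Tactic

/-!
Adically decaying functions: completeness, flatness, and adically free modules.
-/

namespace Groth.Agent.H3CAlg.AdicFree

open W4c5adicflatcompl

universe u v w

variable {A : Type u} [CommRing A] {I : Ideal A} {Z : Type v} {M : Type w} [AddCommGroup M] [Module A M]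

omit [AddCommGroup M] [Module A M] in
theorem mem_self_iff {n : ℕ} {x : A} : x ∈ (I ^ n • ⊤ : Submodule A A) ↔ x ∈ I ^ n := by
  rw [smul_eq_mul, Ideal.mul_top]

/-- Elements of `J • span (range s)`. -/
theorem exists_coeff_of_mem_smul_span {r : ℕ} {s : Fin r → M} {J : Ideal A} {x : M}
    (hx : x ∈ J • Submodule.span A (Set.range s)) : ∃ c : Fin r → A, (∀ j, c j ∈ J) ∧ x = ∑ j, c j • s j := by
  induction hx using Submodule.smul_induction_on' with
  | smul a ha y hy =>
    obtain ⟨d, rfl⟩ := (Submodule.mem_span_range_iff_exists_fun A).mp hy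
    exact ⟨fun j => a * d j, fun j => J.mul_mem_right _ ha, by simp [Finset.smul_sum, mul_smul]⟩
  | add x _ y _ hx hy =>
    obtain ⟨c, hc, rfl⟩ := hx
    obtain ⟨d, hd, rfl⟩ := hy
    exact ⟨c + d, fun j => J.add_mem (hc j) (hd j), by simp [add_smul, Finset.sum_add_distrib]⟩

/-- A representation with coefficients as deep as possible. -/
theorem exists_deep_coeff [IsHausdorff I A] [IsHausdorff I M] {r : ℕ} (s : Fin r → M) (k₀ : ℕ)
    (N : ℕ → Submodule A M)
    (hN : ∀ i, N i ≤ I ^ i • Submodule.span A (Set.range s))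
    (hN0 : (⋂ i, (N i : Set M)) ⊆ {0}) (hdec : ∀ i, N (i + 1) ≤ N i)
    (x : M) (hx : x ∈ Submodule.span A (Set.range s)) :
    ∃ c : Fin r → A, x = ∑ j, c j • s j ∧ ∀ i, x ∈ N (i + k₀) → ∀ j, c j ∈ I ^ i := by
  classical
  by_cases hall : ∀ i, x ∈ N (i + k₀)
  · refine ⟨0, ?_, fun i _ j => by simp⟩
    have hanti : Antitone N := antitone_nat_of_succ_le hdec
    have : x = 0 := hN0 (Set.mem_iInter.mpr fun i => hanti (Nat.le_add_right i k₀) (hall i))
    simp [this]
  · push Not at hall
    have hanti : Antitone N := antitone_nat_of_succ_le hdec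
    obtain ⟨K, hK, hKmin⟩ : ∃ K, x ∉ N (K + k₀) ∧ ∀ i < K, x ∈ N (i + k₀) :=
      ⟨Nat.find hall, Nat.find_spec hall, fun i hi => not_not.mp (Nat.find_min hall hi)⟩
    rcases K with _ | K
    · obtain ⟨c, hc⟩ := (Submodule.mem_span_range_iff_exists_fun A).mp hx
      exact ⟨c, hc.symm, fun i hi j => absurd (hanti (by omega) hi) hK⟩
    · have h1 : x ∈ I ^ K • Submodule.span A (Set.range s) :=
        Submodule.smul_mono_left (Ideal.pow_le_pow_right (Nat.le_add_right K k₀)) (hN _ (hKmin K K.lt_succ_self))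
      obtain ⟨c, hc, hx'⟩ := exists_coeff_of_mem_smul_span h1
      refine ⟨c, hx', fun i hi j => ?_⟩
      have : i ≤ K := by
        by_contra hlt
        exact hK (hanti (by omega) hi)
      exact Ideal.pow_le_pow_right this (hc j)

theorem decaying_apply_mem {h : decaying I Z M} {n : ℕ}
    (hh : h ∈ (I ^ n • ⊤ : Submodule A (decaying I Z M))) (z : Z) :
    (h : Z → M) z ∈ (I ^ n • ⊤ : Submodule A M) := by
  have := Submodule.mem_map_of_mem (f := (LinearMap.proj z).comp (decaying I Z M).subtype) hh
  rw [Submodule.map_smul''] at this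
  exact (smul_mono_right _ le_top : _ ≤ (I ^ n • ⊤ : Submodule A M)) this

theorem iInter_pow_eq [IsHausdorff I A] : (⋂ i, ((I ^ i : Ideal A) : Set A)) ⊆ {0} := fun x hx =>
  IsHausdorff.haus (I := I) ‹_› x fun n => SModEq.zero.mpr (mem_self_iff.mpr (Set.mem_iInter.mp hx n))

theorem mem_pow_smul_iff [IsNoetherianRing A] [IsHausdorff I A] {n : ℕ} (h : decaying I Z A) :
    h ∈ (I ^ n • ⊤ : Submodule A (decaying I Z A)) ↔ ∀ z, (h : Z → A) z ∈ I ^ n := by
  classical
  refine ⟨fun hh z => mem_self_iff.mp (decaying_apply_mem hh z), fun hh => ?_⟩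
  obtain ⟨r, a, ha⟩ := Submodule.fg_iff_exists_fin_generating_family.mp (IsNoetherian.noetherian (I ^ n))
  have ha' : Submodule.span A (Set.range a) = I ^ n := ha
  have key := fun z => exists_deep_coeff (I := I) a n (fun i => I ^ i * I ^ n)
    (fun i => by rw [ha', smul_eq_mul])
    (subset_trans (Set.iInter_mono fun i => SetLike.coe_subset_coe.mpr Ideal.mul_le_left) iInter_pow_eq)
    (fun i => Ideal.mul_mono_left (Ideal.pow_le_pow_right i.le_succ))
    ((h : Z → A) z) (ha' ▸ hh z)
  choose c hc1 hc2 using key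
  have hdec : ∀ j, (fun z => c z j) ∈ decaying I Z A := by
    intro j i
    refine ((h.2 (i + n + n))).subset fun z hz hbad => hz (mem_self_iff.mpr (hc2 z i ?_ j))
    have h1 := mem_self_iff.mp hbad
    rwa [pow_add] at h1
  have : h = ∑ j, a j • (⟨fun z => c z j, hdec j⟩ : decaying I Z A) := by
    refine Subtype.ext (funext fun z => ?_)
    rw [Submodule.coe_sum, Finset.sum_apply, hc1 z]
    exact Finset.sum_congr rfl fun j _ => mul_comm _ _
  rw [this]
  exact sum_mem fun j _ => Submodule.smul_mem_smul (ha' ▸ Submodule.subset_span ⟨j, rfl⟩) trivial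

theorem isAdicComplete_decaying [IsNoetherianRing A] [IsAdicComplete I A] :
    IsAdicComplete I (decaying I Z A) :=
  { haus' := fun f hf => by
      refine Subtype.ext (funext fun z => IsHausdorff.haus (I := I) inferInstance _ fun n => ?_)
      exact SModEq.zero.mpr (decaying_apply_mem (SModEq.zero.mp (hf n)) z)
    prec' := fun f hf => by
      classical
      have hz : ∀ z, ∃ L : A, ∀ n, (f n : Z → A) z ≡ L [SMOD (I ^ n • ⊤ : Submodule A A)] := fun z =>
        IsPrecomplete.prec inferInstance fun {m n} hmn => SModEq.sub_mem.mpr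
          (by simpa using decaying_apply_mem (SModEq.sub_mem.mp (hf hmn)) z)
      choose L hL using hz
      have hLd : L ∈ decaying I Z A := by
        intro n
        refine ((f n).2 n).subset fun z hz hbad => hz ?_
        have := sub_mem hbad (SModEq.sub_mem.mp (hL z n))
        rwa [sub_sub_cancel] at this
      refine ⟨⟨L, hLd⟩, fun n => SModEq.sub_mem.mpr ((mem_pow_smul_iff _).mpr fun z => ?_)⟩
      exact mem_self_iff.mp (SModEq.sub_mem.mp (hL z n)) }

theorem flat_decaying [IsNoetherianRing A] [IsAdicComplete I A] : Module.Flat A (decaying I Z A) := by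
  classical
  rw [Module.Flat.iff_forall_isTrivialRelation]
  intro l f x hfx
  let φ : (Fin l → A) →ₗ[A] A := Fintype.linearCombination A f
  let K := LinearMap.ker φ
  obtain ⟨r, s, hs⟩ := Submodule.fg_iff_exists_fin_generating_family.mp (IsNoetherian.noetherian K)
  obtain ⟨k₀, hk₀⟩ := Ideal.exists_pow_inf_eq_pow_smul I K
  have hpi : ∀ (i : ℕ) (v : Fin l → A), (∀ j, v j ∈ I ^ i) → v ∈ (I ^ i • ⊤ : Submodule A (Fin l → A)) := by
    intro i v hv
    rw [pi_eq_sum_univ v]
    exact sum_mem fun j _ => Submodule.smul_mem_smul (hv j) trivial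
  have hpi' : ∀ (i : ℕ) (v : Fin l → A), v ∈ (I ^ i • ⊤ : Submodule A (Fin l → A)) → ∀ j, v j ∈ I ^ i := by
    intro i v hv j
    have := Submodule.mem_map_of_mem (f := (LinearMap.proj j : (Fin l → A) →ₗ[A] A)) hv
    rw [Submodule.map_smul''] at this
    exact mem_self_iff.mp ((smul_mono_right _ le_top : _ ≤ (I ^ i • ⊤ : Submodule A A)) this)
  haveI : IsHausdorff I (Fin l → A) := ⟨fun v hv => funext fun j =>
    IsHausdorff.haus (I := I) inferInstance _ fun n => SModEq.zero.mpr (mem_self_iff.mpr (hpi' n v (SModEq.zero.mp (hv n)) j))⟩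
  have key := fun z => exists_deep_coeff (I := I) s 0 (fun i => I ^ (i + k₀) • ⊤ ⊓ K)
    (fun i => by
      rw [hk₀ _ (Nat.le_add_left _ _), Nat.add_sub_cancel, hs]
      exact smul_mono_right _ inf_le_right)
    (fun v hv => funext fun j => iInter_pow_eq (I := I) (Set.mem_iInter.mpr fun i =>
      Ideal.pow_le_pow_right (Nat.le_add_right i k₀) (hpi' _ v (Set.mem_iInter.mp hv i).1 j)))
    (fun i => inf_le_inf_right _ (Submodule.smul_mono_left (Ideal.pow_le_pow_right (by omega))))
    (fun j => (x j : Z → A) z) (by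
      rw [hs, LinearMap.mem_ker, Fintype.linearCombination_apply]
      have := congrArg (fun h : decaying I Z A => (h : Z → A) z) hfx
      simpa [mul_comm] using this)
  choose c hc1 hc2 using key
  have hdec : ∀ t, (fun z => c z t) ∈ decaying I Z A := by
    intro t i
    have hfin : (⋃ j, {z | (x j : Z → A) z ∉ (I ^ (i + k₀) • ⊤ : Submodule A A)}).Finite :=
      Set.finite_iUnion fun j => (x j).2 (i + k₀)
    refine hfin.subset fun z hz => ?_
    by_contra hbad
    simp only [Set.mem_iUnion, Set.mem_ofPred_eq, not_exists, not_not] at hbad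
    refine hz (mem_self_iff.mpr (hc2 z i ⟨hpi _ _ fun j => mem_self_iff.mp (hbad j), ?_⟩ t))
    show (fun j => (x j : Z → A) z) ∈ LinearMap.ker φ
    rw [LinearMap.mem_ker, Fintype.linearCombination_apply]
    have := congrArg (fun h : decaying I Z A => (h : Z → A) z) hfx
    simpa [mul_comm] using this
  refine ⟨r, fun j t => s t j, fun t => ⟨fun z => c z t, hdec t⟩, fun j => Subtype.ext (funext fun z => ?_), fun t => ?_⟩
  · have := congrFun (hc1 z) j
    simpa [mul_comm] using this
  · have h1 : s t ∈ K := hs ▸ Submodule.subset_span ⟨t, rfl⟩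
    have h2 : φ (s t) = 0 := h1
    rw [Fintype.linearCombination_apply] at h2
    simpa [mul_comm] using h2

section basis

variable [IsAdicComplete I M] (e : Z → M)

theorem partialSum_sub_mem (f : decaying I Z A) {n : ℕ} {T T' : Finset Z} (hTT : T ⊆ T')
    (hT : ∀ z ∉ T, (f : Z → A) z ∈ I ^ n) :
    ∑ z ∈ T', (f : Z → A) z • e z - ∑ z ∈ T, (f : Z → A) z • e z ∈ (I ^ n • ⊤ : Submodule A M) := by
  classical
  rw [← Finset.sum_sdiff hTT, add_sub_cancel_right]
  exact sum_mem fun z hz => Submodule.smul_mem_smul (hT z (Finset.mem_sdiff.mp hz).2) trivial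

theorem exists_bad (f : decaying I Z A) (n : ℕ) : ∃ T : Finset Z, ∀ z ∉ T, (f : Z → A) z ∈ I ^ n :=
  ⟨(f.2 n).toFinset, fun z hz => mem_self_iff.mp (not_not.mp fun h => hz ((f.2 n).mem_toFinset.mpr h))⟩

/-- `x` is the sum of the decaying series `∑ f z • e z`. -/
def IsSeriesSum (f : decaying I Z A) (x : M) : Prop :=
  ∀ (n : ℕ) (T : Finset Z), (∀ z ∉ T, (f : Z → A) z ∈ I ^ n) →
    x - ∑ z ∈ T, (f : Z → A) z • e z ∈ (I ^ n • ⊤ : Submodule A M)

theorem isSeriesSum_unique {f : decaying I Z A} {x y : M} (hx : IsSeriesSum e f x) (hy : IsSeriesSum e f y) :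
    x = y := by
  refine sub_eq_zero.mp (IsHausdorff.haus (I := I) inferInstance _ fun n => ?_)
  obtain ⟨T, hT⟩ := exists_bad f n
  have := sub_mem (hx n T hT) (hy n T hT)
  rw [sub_sub_sub_cancel_right] at this
  exact SModEq.zero.mpr this

theorem exists_seriesSum (f : decaying I Z A) : ∃ x, IsSeriesSum e f x := by
  classical
  choose T hT using fun n => exists_bad f n
  let U : ℕ → Finset Z := fun n => (Finset.range (n + 1)).biUnion T
  have hU : ∀ n, ∀ z ∉ U n, (f : Z → A) z ∈ I ^ n := fun n z hz => hT n z fun h =>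
    hz (Finset.mem_biUnion.mpr ⟨n, by simp, h⟩)
  have hmono : ∀ {a b}, a ≤ b → U a ⊆ U b := fun hab =>
    Finset.biUnion_subset_biUnion_of_subset_left _ (Finset.range_mono (by omega))
  obtain ⟨x, hx⟩ := IsPrecomplete.prec (I := I) (M := M) inferInstance
    (f := fun n => ∑ z ∈ U n, (f : Z → A) z • e z) fun {a b} hab => SModEq.symm (SModEq.sub_mem.mpr
      (partialSum_sub_mem e f (hmono hab) (hU a)))
  refine ⟨x, fun n T' hT' => ?_⟩
  have h1 : ∑ z ∈ T' ∪ U n, (f : Z → A) z • e z - ∑ z ∈ T', (f : Z → A) z • e z ∈ (I ^ n • ⊤ : Submodule A M) :=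
    partialSum_sub_mem e f Finset.subset_union_left hT'
  have h2 : ∑ z ∈ T' ∪ U n, (f : Z → A) z • e z - ∑ z ∈ U n, (f : Z → A) z • e z ∈ (I ^ n • ⊤ : Submodule A M) :=
    partialSum_sub_mem e f Finset.subset_union_right (hU n)
  have h3 := SModEq.sub_mem.mp (hx n)
  have := sub_mem (sub_mem h1 h2) h3
  convert this using 1
  abel

/-- Modules with a topological basis are adically free. -/
theorem exists_equiv
    (hspan : ⊤ ≤ Submodule.span A (Set.range e) ⊔ I • (⊤ : Submodule A M))
    (hind : ∀ (n : ℕ) (c : Z →₀ A), Finsupp.linearCombination A e c ∈ (I ^ n • ⊤ : Submodule A M) →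
      ∀ z, c z ∈ I ^ n) [IsHausdorff I A] [IsPrecomplete I A] :
    Nonempty (decaying I Z A ≃ₗ[A] M) := by
  classical
  choose Φ hΦ using exists_seriesSum (I := I) (Z := Z) e
  have huniq : ∀ {f : decaying I Z A} {x}, IsSeriesSum e f x → Φ f = x :=
    fun h => isSeriesSum_unique e (hΦ _) h
  have hadd : ∀ f g, Φ (f + g) = Φ f + Φ g := by
    intro f g
    refine huniq fun n T hT => ?_
    obtain ⟨Tf, hTf⟩ := exists_bad f n
    obtain ⟨Tg, hTg⟩ := exists_bad g n
    have hf := hΦ f n (T ∪ Tf ∪ Tg) fun z hz => hTf z fun h => hz (by simp [h])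
    have hg := hΦ g n (T ∪ Tf ∪ Tg) fun z hz => hTg z fun h => hz (by simp [h])
    have hfg := partialSum_sub_mem e (f + g) (T := T) (T' := T ∪ Tf ∪ Tg) (by simp [Finset.union_assoc]) hT
    have := add_mem (add_mem hf hg) hfg
    convert this using 1
    simp only [Submodule.coe_add, Pi.add_apply, add_smul, Finset.sum_add_distrib]
    abel
  have hsmul : ∀ (a : A) f, Φ (a • f) = a • Φ f := by
    intro a f
    refine huniq fun n T hT => ?_
    obtain ⟨Tf, hTf⟩ := exists_bad f n
    have hf := hΦ f n (T ∪ Tf) fun z hz => hTf z fun h => hz (by simp [h])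
    have hfg := partialSum_sub_mem e (a • f) (T := T) (T' := T ∪ Tf) Finset.subset_union_left hT
    have := add_mem (Submodule.smul_mem _ a hf) hfg
    convert this using 1
    simp only [Submodule.coe_smul, Pi.smul_apply, smul_sub, Finset.smul_sum, mul_smul, smul_eq_mul]
    abel
  let L : decaying I Z A →ₗ[A] M := { toFun := Φ, map_add' := hadd, map_smul' := hsmul }
  refine ⟨LinearEquiv.ofBijective L ⟨?_, ?_⟩⟩
  · rw [injective_iff_map_eq_zero]
    intro f hf
    refine Subtype.ext (funext fun z => IsHausdorff.haus (I := I) inferInstance _ fun n => SModEq.zero.mpr (mem_self_iff.mpr ?_))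
    obtain ⟨T, hT⟩ := exists_bad f n
    by_cases hz : z ∈ T
    · have h := hΦ f n T hT
      rw [show Φ f = 0 from hf, zero_sub, neg_mem_iff] at h
      let c : Z →₀ A := ∑ w ∈ T, Finsupp.single w ((f : Z → A) w)
      have hc : Finsupp.linearCombination A e c = ∑ w ∈ T, (f : Z → A) w • e w := by
        simp [c, map_sum, Finsupp.linearCombination_single]
      have := hind n c (hc ▸ h) z
      simpa [c, Finsupp.single_apply, hz] using this
    · exact hT z hz
  · intro x
    have hstep : ∀ (n : ℕ) (y : M), y ∈ (I ^ n • ⊤ : Submodule A M) →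
        ∃ c : Z →₀ A, (∀ z, c z ∈ I ^ n) ∧ y - Finsupp.linearCombination A e c ∈ (I ^ (n + 1) • ⊤ : Submodule A M) := by
      intro n y hy
      induction hy using Submodule.smul_induction_on' with
      | smul a ha w _ =>
        obtain ⟨u, hu, v, hv, rfl⟩ := Submodule.mem_sup.mp (hspan (Submodule.mem_top (x := w)))
        obtain ⟨c, rfl⟩ := (Finsupp.mem_span_range_iff_exists_finsupp).mp hu
        refine ⟨a • c, fun z => (I ^ n).mul_mem_right _ ha, ?_⟩
        rw [map_smul, ← smul_sub, Finsupp.linearCombination_apply, add_sub_cancel_left, pow_succ, Submodule.mul_smul]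
        exact Submodule.smul_mem_smul ha hv
      | add p _ q _ hp hq =>
        obtain ⟨c, hc, hc'⟩ := hp
        obtain ⟨d, hd, hd'⟩ := hq
        refine ⟨c + d, fun z => (I ^ n).add_mem (hc z) (hd z), ?_⟩
        rw [map_add, add_sub_add_comm]
        exact add_mem hc' hd'
    choose! c hc1 hc2 using hstep
    let y : ℕ → M := fun n => Nat.rec x (fun k yk => yk - Finsupp.linearCombination A e (c k yk)) n
    have hy : ∀ n, y n ∈ (I ^ n • ⊤ : Submodule A M) := by
      intro n
      induction n with
      | zero => simp [y]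
      | succ n ih => exact hc2 n _ ih
    let P : ℕ → (Z →₀ A) := fun n => ∑ k ∈ Finset.range n, c k (y k)
    have hP : ∀ n, x - Finsupp.linearCombination A e (P n) = y n := by
      intro n
      induction n with
      | zero => simp [P, y]
      | succ n ih =>
        rw [show y (n + 1) = y n - Finsupp.linearCombination A e (c n (y n)) from rfl]
        simp only [P] at ih ⊢
        rw [Finset.sum_range_succ, map_add, sub_add_eq_sub_sub, ih]
    have hcauchy : ∀ z, ∀ {a b : ℕ}, a ≤ b → P a z ≡ P b z [SMOD (I ^ a • ⊤ : Submodule A A)] := by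
      intro z a b hab
      refine SModEq.symm (SModEq.sub_mem.mpr (mem_self_iff.mpr ?_))
      obtain ⟨t, rfl⟩ := Nat.exists_eq_add_of_le hab
      simp only [P, Finset.sum_range_add, Finsupp.add_apply, add_sub_cancel_left, Finsupp.finsetSum_apply]
      exact sum_mem fun i _ => Ideal.pow_le_pow_right (Nat.le_add_right a i) (hc1 _ _ (hy _) z)
    choose g hg using fun z => IsPrecomplete.prec (I := I) (M := A) inferInstance (hcauchy z)
    have hgP : ∀ n z, g z - P n z ∈ I ^ n := fun n z => by
      have := mem_self_iff.mp (SModEq.sub_mem.mp (hg z n))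
      rw [← neg_sub]; exact neg_mem this
    have hgd : g ∈ decaying I Z A := fun n => (P n).support.finite_toSet.subset fun z hz => by
      by_contra hns
      apply hz
      have := hgP n z
      rw [Finsupp.notMem_support_iff.mp hns, sub_zero] at this
      exact mem_self_iff.mpr this
    refine ⟨⟨g, hgd⟩, huniq fun n T hT => ?_⟩
    have hpart := partialSum_sub_mem e ⟨g, hgd⟩ (T := T) (T' := T ∪ (P n).support) Finset.subset_union_left hT
    have hlc : Finsupp.linearCombination A e (P n) = ∑ z ∈ T ∪ (P n).support, P n z • e z := by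
      rw [Finsupp.linearCombination_apply, Finsupp.sum_of_support_subset _ Finset.subset_union_right _ (by simp)]
    have hdiff : ∑ z ∈ T ∪ (P n).support, g z • e z - Finsupp.linearCombination A e (P n) ∈ (I ^ n • ⊤ : Submodule A M) := by
      rw [hlc, ← Finset.sum_sub_distrib]
      exact sum_mem fun z _ => by rw [← sub_smul]; exact Submodule.smul_mem_smul (hgP n z) trivial
    have := sub_mem (add_mem (hy n) hpart) hdiff
    rw [← hP n] at this
    convert this using 1
    simp only
    abel

end basis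

section localRing

variable [IsLocalRing A] [IsNoetherianRing A]

/-- A lift of a basis of `M / 𝔪M` of a flat module is independent modulo every power of `𝔪`. -/
theorem independent_of_flat [Module.Flat A M] (e : Z → M)
    (he : ∀ c : Z →₀ A, Finsupp.linearCombination A e c ∈ (IsLocalRing.maximalIdeal A • ⊤ : Submodule A M) →
      ∀ z, c z ∈ IsLocalRing.maximalIdeal A) (n : ℕ) :
    ∀ c : Z →₀ A, Finsupp.linearCombination A e c ∈ ((IsLocalRing.maximalIdeal A) ^ n • ⊤ : Submodule A M) →
      ∀ z, c z ∈ (IsLocalRing.maximalIdeal A) ^ n := by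
  classical
  set m := IsLocalRing.maximalIdeal A
  induction n with
  | zero => intro c _ z; simp
  | succ n ih =>
    intro c hc
    have hcn : ∀ z, c z ∈ m ^ n := ih c (Submodule.smul_mono_left (Ideal.pow_le_pow_right n.le_succ) hc)
    -- a minimal family generating `m ^ n` modulo `m ^ (n + 1)`
    obtain ⟨r, a, hamem, hspan, hmin⟩ : ∃ (r : ℕ) (a : Fin r → A), (∀ j, a j ∈ m ^ n) ∧
        m ^ n ≤ Submodule.span A (Set.range a) ⊔ m ^ (n + 1) ∧
        ∀ (d : Fin r → A), ∑ j, d j * a j ∈ m ^ (n + 1) → ∀ j, d j ∈ m := by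
      have hex : ∃ r, ∃ a : Fin r → A, (∀ j, a j ∈ m ^ n) ∧ m ^ n ≤ Submodule.span A (Set.range a) ⊔ m ^ (n + 1) := by
        obtain ⟨r, a, ha⟩ := Submodule.fg_iff_exists_fin_generating_family.mp (IsNoetherian.noetherian (m ^ n))
        exact ⟨r, a, fun j => ha ▸ Submodule.subset_span ⟨j, rfl⟩, le_sup_of_le_left (ha.ge)⟩
      obtain ⟨a, ham, ha⟩ := Nat.find_spec hex
      refine ⟨_, a, ham, ha, fun d hd j => by_contra fun hj => ?_⟩
      have hu : IsUnit (d j) := IsLocalRing.notMem_maximalIdeal.mp hj
      obtain ⟨q, hq⟩ : ∃ q, Nat.find hex = q + 1 := ⟨Nat.find hex - 1, by have := j.isLt; omega⟩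
      apply Nat.find_min hex (show q < Nat.find hex by omega)
      obtain ⟨e', rfl⟩ : ∃ j' : Fin (q + 1), Fin.cast hq.symm j' = j := ⟨Fin.cast hq j, by simp⟩
      refine ⟨fun t => a (Fin.cast hq.symm (e'.succAbove t)), fun t => ham _, ha.trans (sup_le (Submodule.span_le.mpr ?_) le_sup_right)⟩
      rintro _ ⟨i, rfl⟩
      obtain ⟨i', rfl⟩ : ∃ i' : Fin (q + 1), Fin.cast hq.symm i' = i := ⟨Fin.cast hq i, by simp⟩
      rcases eq_or_ne i' e' with rfl | hne
      · have hsplit : d (Fin.cast hq.symm i') * a (Fin.cast hq.symm i') =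
            (∑ t, d t * a t) - ∑ t : Fin q, d (Fin.cast hq.symm (i'.succAbove t)) * a (Fin.cast hq.symm (i'.succAbove t)) := by
          rw [← (finCongr hq.symm).sum_comp (fun t => d t * a t), Fin.sum_univ_succAbove _ i']
          simp
        have hmem : d (Fin.cast hq.symm i') * a (Fin.cast hq.symm i') ∈
            Submodule.span A (Set.range fun t => a (Fin.cast hq.symm (i'.succAbove t))) ⊔ m ^ (n + 1) := by
          rw [hsplit]
          exact sub_mem (Submodule.mem_sup_right hd) (Submodule.mem_sup_left (sum_mem fun t _ =>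
            Submodule.smul_mem _ _ (Submodule.subset_span ⟨t, rfl⟩)))
        exact (Ideal.unit_mul_mem_iff_mem _ hu).mp hmem
      · obtain ⟨t, rfl⟩ := Fin.exists_succAbove_eq hne
        exact Submodule.mem_sup_left (Submodule.subset_span ⟨t, rfl⟩)
    have hdec : ∀ z, ∃ d : Fin r → A, (c z = 0 → d = 0) ∧ c z - ∑ j, d j * a j ∈ m ^ (n + 1) := by
      intro z
      by_cases h0 : c z = 0
      · exact ⟨0, fun _ => rfl, by simp [h0]⟩
      obtain ⟨u, hu, v, hv, huv⟩ := Submodule.mem_sup.mp (hspan (hcn z))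
      obtain ⟨d, rfl⟩ := (Submodule.mem_span_range_iff_exists_fun A).mp hu
      exact ⟨d, fun h => absurd h h0, by rw [← huv]; simpa using hv⟩
    choose d hd0 hd using hdec
    let D : Fin r → (Z →₀ A) := fun j => Finsupp.onFinset c.support (fun z => d z j) fun z hz =>
      Finsupp.mem_support_iff.mpr fun h => hz (by simp [hd0 z h])
    have h1 : ∑ j, a j • Finsupp.linearCombination A e (D j) ∈ (m ^ (n + 1) • ⊤ : Submodule A M) := by
      have h2 : Finsupp.linearCombination A e c - ∑ j, a j • Finsupp.linearCombination A e (D j) ∈ (m ^ (n + 1) • ⊤ : Submodule A M) := by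
        simp only [← map_smul, ← map_sum, ← map_sub]
        rw [Finsupp.linearCombination_apply]
        refine sum_mem fun z _ => Submodule.smul_mem_smul ?_ trivial
        simpa [D, mul_comm, Finsupp.finsetSum_apply] using hd z
      have := sub_mem hc h2
      rwa [sub_sub_cancel] at this
    -- write it as `∑ b l • w l` with generators `b` of `m ^ (n + 1)`
    obtain ⟨q, b, hb⟩ := Submodule.fg_iff_exists_fin_generating_family.mp (IsNoetherian.noetherian (m ^ (n + 1)))
    have hbw : ∀ y ∈ (m ^ (n + 1) • ⊤ : Submodule A M), ∃ w : Fin q → M, y = ∑ l, b l • w l := by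
      intro y hy
      induction hy using Submodule.smul_induction_on' with
      | smul p hp y _ =>
        rw [← hb] at hp
        obtain ⟨g, rfl⟩ := (Submodule.mem_span_range_iff_exists_fun A).mp hp
        exact ⟨fun l => g l • y, by simp [Finset.sum_smul, smul_smul, mul_comm]⟩
      | add p _ p' _ hp hp' =>
        obtain ⟨w, rfl⟩ := hp
        obtain ⟨w', rfl⟩ := hp'
        exact ⟨w + w', by simp [Finset.sum_add_distrib]⟩
    obtain ⟨w, hw⟩ := hbw _ h1
    have hrel : ∑ i, (Sum.elim a (fun l => -b l)) i • (Sum.elim (fun j => Finsupp.linearCombination A e (D j)) w) i = 0 := by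
      simp [Fintype.sum_sum_type, hw]
    obtain ⟨k, α, u, hα, hα0⟩ := Module.Flat.isTrivialRelation_of_sum_smul_eq_zero hrel
    have hαm : ∀ j t, α (Sum.inl j) t ∈ m := fun j t => hmin (fun j => α (Sum.inl j) t) (by
      have := hα0 t
      rw [Fintype.sum_sum_type] at this
      simp only [Sum.elim_inl, Sum.elim_inr, neg_mul, Finset.sum_neg_distrib] at this
      rw [← sub_eq_add_neg, sub_eq_zero] at this
      rw [Finset.sum_congr rfl fun j _ => mul_comm (α (Sum.inl j) t) (a j), this]
      exact sum_mem fun l _ => Ideal.mul_mem_right _ _ (hb ▸ Submodule.subset_span ⟨l, rfl⟩)) j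
    have hDm : ∀ j z, D j z ∈ m := fun j => he (D j) (by
      have := hα (Sum.inl j)
      simp only [Sum.elim_inl] at this
      rw [this]
      exact sum_mem fun t _ => Submodule.smul_mem_smul (hαm j t) trivial)
    intro z
    have h3 : ∑ j, d z j * a j ∈ m ^ (n + 1) := by
      rw [pow_succ']
      exact sum_mem fun j _ => Ideal.mul_mem_mul (by simpa [D] using hDm j z) (hamem j)
    have := add_mem (hd z) h3
    rwa [sub_add_cancel] at this

end localRing

end Groth.Agent.H3CAlg.AdicFree
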