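import Groth.Agent.H3CAlg.AdicFree
import Mathlib.LinearAlgebra.FreeModule.Basic
import Mathlib.RingTheory.AdicCompletion.Completeness

/-!
Adically free modules over a complete Noetherian local ring.
-/

namespace Groth.Agent.H3CAlg.AdicFree

open W4c5adicflatcompl IsLocalRing

universe u

variable {A : Type u} [CommRing A]

/-- Transport of decaying functions along a linear equivalence. -/
noncomputable def decayingCongr (I : Ideal A) (Z : Type u) {M N : Type u} [AddCommGroup M] [Module A M]
    [AddCommGroup N] [Module A N] (φ : M ≃ₗ[A] N) : decaying I Z M ≃ₗ[A] decaying I Z N :=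
  let e : (Z → M) ≃ₗ[A] (Z → N) := LinearEquiv.piCongrRight fun _ => φ
  (LinearEquiv.submoduleMap e (decaying I Z M)).trans (LinearEquiv.ofEq _ _ (by
    have key : ∀ (n : ℕ) (x : M), φ x ∈ (I ^ n • ⊤ : Submodule A N) ↔ x ∈ (I ^ n • ⊤ : Submodule A M) := fun n x => by
      constructor
      · intro h
        have := Submodule.mem_map_of_mem (f := φ.symm.toLinearMap) h
        rw [Submodule.map_smul'', Submodule.map_top, LinearEquiv.range] at this
        simpa using this
      · intro h
        have := Submodule.mem_map_of_mem (f := φ.toLinearMap) h
        rwa [Submodule.map_smul'', Submodule.map_top, LinearEquiv.range] at this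
    ext g
    simp only [Submodule.mem_map, W4c5adicflatcompl.mem_decaying_iff]
    constructor
    · rintro ⟨f, hf, rfl⟩ n
      exact (hf n).subset fun z hz h => hz ((key n _).mpr h)
    · intro hg
      refine ⟨e.symm g, fun n => (hg n).subset fun z hz h => hz ?_, e.apply_symm_apply g⟩
      exact (key n _).mp (by simpa [e] using h)))

variable [IsLocalRing A] [IsNoetherianRing A] [IsAdicComplete (maximalIdeal A) A]

theorem isAdicFree_iff (M : Type u) [AddCommGroup M] [Module A M] :
    IsAdicFree (maximalIdeal A) M ↔ Module.Flat A M ∧ IsAdicComplete (maximalIdeal A) M := by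
  constructor
  · rintro ⟨Z, ⟨e⟩⟩
    let e' := e.trans (decayingCongr (maximalIdeal A) Z (AdicCompletion.ofLinearEquiv (maximalIdeal A) A).symm)
    haveI := flat_decaying (I := maximalIdeal A) (Z := Z)
    refine ⟨Module.Flat.of_linearEquiv e', ?_⟩
    haveI := isAdicComplete_decaying (I := maximalIdeal A) (Z := Z)
    exact { haus' := fun x hx => e'.injective (by
              rw [map_zero]
              refine IsHausdorff.haus (I := maximalIdeal A) inferInstance _ fun n => SModEq.zero.mpr ?_
              have := Submodule.mem_map_of_mem (f := e'.toLinearMap) (SModEq.zero.mp (hx n))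
              rwa [Submodule.map_smul'', Submodule.map_top, LinearEquiv.range] at this)
            prec' := fun f hf => by
              obtain ⟨L, hL⟩ := IsPrecomplete.prec (I := maximalIdeal A) (M := decaying (maximalIdeal A) Z A) inferInstance
                (f := fun n => e' (f n)) fun {a b} hab => by
                  have := Submodule.mem_map_of_mem (f := e'.toLinearMap) (SModEq.sub_mem.mp (hf hab))
                  rw [Submodule.map_smul'', Submodule.map_top, LinearEquiv.range, map_sub] at this
                  exact SModEq.sub_mem.mpr this
              refine ⟨e'.symm L, fun n => SModEq.sub_mem.mpr ?_⟩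
              have := Submodule.mem_map_of_mem (f := e'.symm.toLinearMap) (SModEq.sub_mem.mp (hL n))
              rw [Submodule.map_smul'', Submodule.map_top, LinearEquiv.range, map_sub] at this
              simpa using this }
  · rintro ⟨hflat, hcomp⟩
    letI : Field (A ⧸ maximalIdeal A) := Ideal.Quotient.field _
    let m := maximalIdeal A
    let Q := M ⧸ (m • ⊤ : Submodule A M)
    let b := Module.Free.chooseBasis (A ⧸ m) Q
    choose e he using fun z => Submodule.Quotient.mk_surjective _ (b z)
    have hmk : ∀ c : _ →₀ A, Submodule.Quotient.mk (p := (m • ⊤ : Submodule A M)) (Finsupp.linearCombination A e c) =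
        Finsupp.linearCombination (A ⧸ m) b (c.mapRange (Ideal.Quotient.mk m) (map_zero _)) := by
      intro c
      induction c using Finsupp.induction_linear with
      | zero => simp
      | add f g hf hg => rw [map_add, Submodule.Quotient.mk_add, hf, hg, Finsupp.mapRange_add (by simp), map_add]
      | single z a =>
        rw [Finsupp.linearCombination_single, Submodule.Quotient.mk_smul, he, Finsupp.mapRange_single,
          Finsupp.linearCombination_single]
        rfl
    have hind1 : ∀ c : _ →₀ A, Finsupp.linearCombination A e c ∈ (m • ⊤ : Submodule A M) → ∀ z, c z ∈ m := by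
      intro c hc z
      have h := hmk c
      rw [(Submodule.Quotient.mk_eq_zero _).mpr hc] at h
      have := DFunLike.congr_fun (linearIndependent_iff.mp b.linearIndependent _ h.symm) z
      simpa [Ideal.Quotient.eq_zero_iff_mem] using this
    have hspan : ⊤ ≤ Submodule.span A (Set.range e) ⊔ m • (⊤ : Submodule A M) := by
      intro x _
      obtain ⟨c, hc⟩ := Finsupp.mapRange_surjective (Ideal.Quotient.mk m) (map_zero _) Ideal.Quotient.mk_surjective
        (b.repr (Submodule.Quotient.mk x))
      refine Submodule.mem_sup.mpr ⟨Finsupp.linearCombination A e c, ?_, x - Finsupp.linearCombination A e c, ?_, by abel⟩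
      · exact Finsupp.range_linearCombination A (v := e) ▸ ⟨c, rfl⟩
      · rw [← Submodule.Quotient.mk_eq_zero, Submodule.Quotient.mk_sub, hmk, hc, b.linearCombination_repr, sub_self]
    obtain ⟨φ⟩ := exists_equiv (I := m) e hspan fun n => independent_of_flat e hind1 n
    exact ⟨_, ⟨φ.symm.trans (decayingCongr m _ (AdicCompletion.ofLinearEquiv m A))⟩⟩

end Groth.Agent.H3CAlg.AdicFree
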