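import Groth.Agent.H3CAlg.AdicFreeLocal
import Mathlib.RingTheory.Ideal.Quotient.Operations
import Mathlib.RingTheory.LocalRing.RingHom.Basic

/-!
Limits of towers of modules flat over the truncations of a complete local ring.
-/

namespace Groth.Agent.H3CAlg.AdicFree

open W4c5adicflatcompl IsLocalRing

universe u

variable {A : Type u} [CommRing A] [IsLocalRing A] [IsNoetherianRing A]
    [IsAdicComplete (maximalIdeal A) A]
    (M : ℕ → Type u) [∀ n, AddCommGroup (M n)] [∀ n, Module A (M n)]
    [∀ n, Module (A ⧸ maximalIdeal A ^ (n + 1)) (M n)]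
    [∀ n, IsScalarTower A (A ⧸ maximalIdeal A ^ (n + 1)) (M n)]
    [∀ n, Module.Flat (A ⧸ maximalIdeal A ^ (n + 1)) (M n)]
    (ψ : ∀ n, M (n + 1) →ₗ[A] M n) (hψ : ∀ n, Function.Surjective (ψ n))
    (hker : ∀ n, LinearMap.ker (ψ n) =
      (maximalIdeal A ^ (n + 1) • ⊤ : Submodule A (M (n + 1))))

omit [∀ n, Module.Flat (A ⧸ maximalIdeal A ^ (n + 1)) (M n)] [IsAdicComplete (maximalIdeal A) A] [IsNoetherianRing A] in
theorem smul_eq_zero_of_mem {n : ℕ} {a : A} (ha : a ∈ maximalIdeal A ^ (n + 1)) (y : M n) : a • y = 0 := by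
  rw [← one_smul (A ⧸ maximalIdeal A ^ (n + 1)) y, ← smul_assoc, Algebra.smul_def, mul_one,
    Ideal.Quotient.algebraMap_eq, Ideal.Quotient.eq_zero_iff_mem.mpr ha, zero_smul]

omit [∀ n, Module (A ⧸ maximalIdeal A ^ (n + 1)) (M n)] [∀ n, IsScalarTower A (A ⧸ maximalIdeal A ^ (n + 1)) (M n)]
  [∀ n, Module.Flat (A ⧸ maximalIdeal A ^ (n + 1)) (M n)] [IsAdicComplete (maximalIdeal A) A] [IsNoetherianRing A]
  [IsLocalRing A] in
theorem apply_eq_zero_of_le {x : sysLim M ψ} {i k : ℕ} (hik : i ≤ k) (hx : (x : ∀ n, M n) k = 0) :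
    (x : ∀ n, M n) i = 0 := by
  induction hik with
  | refl => exact hx
  | @step k _ ih =>
    refine ih ?_
    rw [← x.2 k, hx, map_zero]

include hψ in
omit [∀ n, Module (A ⧸ maximalIdeal A ^ (n + 1)) (M n)] [∀ n, IsScalarTower A (A ⧸ maximalIdeal A ^ (n + 1)) (M n)]
  [∀ n, Module.Flat (A ⧸ maximalIdeal A ^ (n + 1)) (M n)] [IsAdicComplete (maximalIdeal A) A] [IsNoetherianRing A]
  [IsLocalRing A] in
theorem sysProj_surjective : ∀ n, Function.Surjective (sysProj M ψ n) := by
  have h0 : ∀ n (y : M n), ∃ x : sysLim M ψ, (x : ∀ k, M k) n = y := by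
    intro n y
    let s : ∀ k, M k → M (k + 1) := fun k z => (hψ k z).choose
    have hs : ∀ k z, ψ k (s k z) = z := fun k z => (hψ k z).choose_spec
    -- descend to level 0 and lift
    induction n with
    | zero =>
      let g : ∀ k, M k := fun k => Nat.rec y (fun k z => s k z) k
      exact ⟨⟨g, fun k => hs k _⟩, rfl⟩
    | succ n ih =>
      obtain ⟨x, hx⟩ := ih (ψ n y)
      let g : ∀ k, M k := fun k => Nat.rec ((x : ∀ k, M k) 0)
        (fun k z => if h : k = n then h ▸ y else if k < n then (x : ∀ k, M k) (k + 1) else s k z) k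
      have hg : ∀ k ≤ n, g k = (x : ∀ k, M k) k := by
        intro k hk
        induction k with
        | zero => rfl
        | succ k _ =>
          show (if h : k = n then h ▸ y else if k < n then (x : ∀ k, M k) (k + 1) else s k (g k)) = _
          rw [dif_neg (by omega), if_pos (by omega)]
      have hgs : ∀ k, g (k + 1) = if h : k = n then h ▸ y else if k < n then (x : ∀ k, M k) (k + 1) else s k (g k) := fun k => rfl
      refine ⟨⟨g, fun k => ?_⟩, ?_⟩
      · rw [hgs]
        split_ifs with h1 h2
        · subst h1; rw [hg k le_rfl, hx]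
        · rw [hg k h2.le]; exact x.2 k
        · exact hs k _
      · show g (n + 1) = y
        rw [hgs, dif_pos rfl]
  exact h0

include hψ hker in
omit [∀ n, Module.Flat (A ⧸ maximalIdeal A ^ (n + 1)) (M n)] [IsAdicComplete (maximalIdeal A) A] in
theorem ker_sysProj (n : ℕ) :
    LinearMap.ker (sysProj M ψ n) = (maximalIdeal A ^ (n + 1) • ⊤ : Submodule A (sysLim M ψ)) := by
  classical
  apply le_antisymm
  swap
  · rw [Submodule.smul_le]
    intro a ha x _
    rw [LinearMap.mem_ker, map_smul]
    exact smul_eq_zero_of_mem M ha _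
  intro x hx
  rw [LinearMap.mem_ker, sysProj_apply] at hx
  obtain ⟨r, a, ha⟩ := Submodule.fg_iff_exists_fin_generating_family.mp (IsNoetherian.noetherian (maximalIdeal A ^ (n + 1)))
  have hstep : ∀ (d : ℕ) (S : Fin r → sysLim M ψ),
      (((x - ∑ j, a j • S j : sysLim M ψ)) : ∀ k, M k) (n + d) = 0 →
      ∃ S' : Fin r → sysLim M ψ, (((x - ∑ j, a j • S' j : sysLim M ψ)) : ∀ k, M k) (n + d + 1) = 0 ∧
        ∀ j, ∀ i < d, (S' j : ∀ k, M k) i = (S j : ∀ k, M k) i := by
    intro d S hS
    set y := x - ∑ j, a j • S j with hy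
    have h1 : (y : ∀ k, M k) (n + d + 1) ∈ (maximalIdeal A ^ (n + d + 1) • ⊤ : Submodule A (M (n + d + 1))) := by
      rw [← hker, LinearMap.mem_ker, y.2 (n + d), hS]
    rw [show maximalIdeal A ^ (n + d + 1) = maximalIdeal A ^ d * maximalIdeal A ^ (n + 1) by rw [← pow_add]; ring_nf,
      ← LinearMap.range_eq_top.mpr (sysProj_surjective M ψ hψ (n + d + 1)), LinearMap.range_eq_map, ← Submodule.map_smul''] at h1
    obtain ⟨v, hv, hvy⟩ := h1
    rw [mul_comm, Submodule.mul_smul, SetLike.mem_coe, ← ha] at hv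
    obtain ⟨w, hw, hvw⟩ : ∃ w : Fin r → sysLim M ψ, (∀ j, w j ∈ (maximalIdeal A ^ d • ⊤ : Submodule A (sysLim M ψ))) ∧
        v = ∑ j, a j • w j := by
      clear hvy
      induction hv using Submodule.smul_induction_on' with
      | smul b hb z hz =>
        obtain ⟨g, rfl⟩ := (Submodule.mem_span_range_iff_exists_fun A).mp hb
        exact ⟨fun j => g j • z, fun j => Submodule.smul_mem _ _ hz, by simp [Finset.sum_smul, smul_smul, mul_comm]⟩
      | add p _ q _ hp hq =>
        obtain ⟨w, hw, rfl⟩ := hp
        obtain ⟨w', hw', rfl⟩ := hq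
        exact ⟨w + w', fun j => add_mem (hw j) (hw' j), by simp [Finset.sum_add_distrib]⟩
    refine ⟨S + w, ?_, fun j i hi => ?_⟩
    · have : x - ∑ j, a j • (S + w) j = y - v := by
        rw [hvw, hy]; simp [Finset.sum_add_distrib, sub_add_eq_sub_sub]
      rw [this, Submodule.coe_sub, Pi.sub_apply, sub_eq_zero]
      exact hvy.symm
    · have h0 : (w j : ∀ k, M k) i = 0 := by
        have hle : (maximalIdeal A ^ d • ⊤ : Submodule A (sysLim M ψ)) ≤ LinearMap.ker (sysProj M ψ i) := by
          rw [Submodule.smul_le]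
          intro b hb z _
          rw [LinearMap.mem_ker, map_smul]
          exact smul_eq_zero_of_mem M (Ideal.pow_le_pow_right (by omega) hb) _
        exact hle (hw j)
      simp [h0]
  choose! next hn1 hn2 using hstep
  let S : ℕ → (Fin r → sysLim M ψ) := fun d => Nat.rec 0 (fun d s => next d s) d
  have hS : ∀ d, (((x - ∑ j, a j • S d j : sysLim M ψ)) : ∀ k, M k) (n + d) = 0 := by
    intro d
    induction d with
    | zero => simpa [S] using hx
    | succ d ih => exact hn1 d _ ih
  let W : Fin r → sysLim M ψ := fun j => ⟨fun i => (S (i + 1) j : ∀ k, M k) i, fun i => by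
    rw [(S (i + 1 + 1) j).2 i]
    exact hn2 (i + 1) _ (hS _) j i i.lt_succ_self⟩
  have hxW : x = ∑ j, a j • W j := by
    refine Subtype.ext (funext fun i => sub_eq_zero.mp ?_)
    have := apply_eq_zero_of_le M ψ (i := i) (by omega) (hS (i + 1))
    simpa [Finset.sum_apply, W] using this
  rw [hxW]
  exact sum_mem fun j _ => Submodule.smul_mem_smul (ha ▸ Submodule.subset_span ⟨j, rfl⟩) trivial

include hψ hker in
omit [∀ n, Module.Flat (A ⧸ maximalIdeal A ^ (n + 1)) (M n)] [IsAdicComplete (maximalIdeal A) A] in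
theorem isAdicComplete_sysLim : IsAdicComplete (maximalIdeal A) (sysLim M ψ) :=
  { haus' := fun x hx => Subtype.ext (funext fun i => by
      have h := SModEq.zero.mp (hx (i + 1))
      rw [← ker_sysProj M ψ hψ hker] at h
      exact h)
    prec' := fun f hf => by
      refine ⟨⟨fun i => (f (i + 1) : ∀ k, M k) i, fun i => ?_⟩, fun k => SModEq.sub_mem.mpr ?_⟩
      · rw [(f (i + 1 + 1)).2 i]
        have h := SModEq.sub_mem.mp (hf (Nat.le_succ (i + 1)))
        rw [← ker_sysProj M ψ hψ hker, LinearMap.mem_ker, map_sub, sub_eq_zero] at h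
        exact h.symm
      · rcases k with _ | k
        · simp
        · rw [← ker_sysProj M ψ hψ hker, LinearMap.mem_ker, map_sub, sub_eq_zero]
          rfl }

include hψ hker in
theorem isAdicFree_sysLim : IsAdicFree (maximalIdeal A) (sysLim M ψ) := by
  classical
  haveI := isAdicComplete_sysLim M ψ hψ hker
  letI : Field (A ⧸ (maximalIdeal A)) := Ideal.Quotient.field _
  let Q := (sysLim M ψ) ⧸ ((maximalIdeal A) • ⊤ : Submodule A (sysLim M ψ))
  let b := Module.Free.chooseBasis (A ⧸ (maximalIdeal A)) Q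
  choose e he using fun z => Submodule.Quotient.mk_surjective _ (b z)
  have hmk : ∀ c : _ →₀ A, Submodule.Quotient.mk (p := ((maximalIdeal A) • ⊤ : Submodule A (sysLim M ψ))) (Finsupp.linearCombination A e c) =
      Finsupp.linearCombination (A ⧸ (maximalIdeal A)) b (c.mapRange (Ideal.Quotient.mk (maximalIdeal A)) (map_zero _)) := by
    intro c
    induction c using Finsupp.induction_linear with
    | zero => simp
    | add f g hf hg => rw [map_add, Submodule.Quotient.mk_add, hf, hg, Finsupp.mapRange_add (by simp), map_add]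
    | single z a =>
      rw [Finsupp.linearCombination_single, Submodule.Quotient.mk_smul, he, Finsupp.mapRange_single,
        Finsupp.linearCombination_single]
      rfl
  have hspan : ⊤ ≤ Submodule.span A (Set.range e) ⊔ (maximalIdeal A) • (⊤ : Submodule A (sysLim M ψ)) := by
    intro x _
    obtain ⟨c, hc⟩ := Finsupp.mapRange_surjective (Ideal.Quotient.mk (maximalIdeal A)) (map_zero _) Ideal.Quotient.mk_surjective
      (b.repr (Submodule.Quotient.mk x))
    refine Submodule.mem_sup.mpr ⟨Finsupp.linearCombination A e c, ?_, x - Finsupp.linearCombination A e c, ?_, by abel⟩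
    · exact Finsupp.range_linearCombination A (v := e) ▸ ⟨c, rfl⟩
    · rw [← Submodule.Quotient.mk_eq_zero, Submodule.Quotient.mk_sub, hmk, hc, b.linearCombination_repr, sub_self]
  have hind : ∀ (n : ℕ) (c : _ →₀ A), Finsupp.linearCombination A e c ∈ ((maximalIdeal A) ^ n • ⊤ : Submodule A (sysLim M ψ)) →
      ∀ z, c z ∈ (maximalIdeal A) ^ n := by
    rintro (_ | n) c hc z
    · simp
    let B := A ⧸ (maximalIdeal A) ^ (n + 1)
    let π : A →+* B := Ideal.Quotient.mk _
    haveI : Nontrivial B := Ideal.Quotient.nontrivial_iff.mpr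
      (ne_top_of_le_ne_top (maximalIdeal.isMaximal A).ne_top (Ideal.pow_le_self n.succ_ne_zero))
    haveI : IsLocalRing B := .of_surjective' π Ideal.Quotient.mk_surjective
    have hmax : maximalIdeal B = Ideal.map π (maximalIdeal A) := (IsLocalRing.map_maximalIdeal_of_surjective π Ideal.Quotient.mk_surjective).symm
    let e' := fun z => (e z : ∀ k, M k) n
    have hlc : ∀ d : _ →₀ A, (Finsupp.linearCombination A e d : ∀ k, M k) n =
        Finsupp.linearCombination B e' (d.mapRange π (map_zero _)) := by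
      intro d
      induction d using Finsupp.induction_linear with
      | zero => simp
      | add f g hf hg => rw [map_add, Submodule.coe_add, Pi.add_apply, hf, hg, Finsupp.mapRange_add (by simp), map_add]
      | single w a =>
        rw [Finsupp.linearCombination_single, Finsupp.mapRange_single, Finsupp.linearCombination_single,
          Submodule.coe_smul, Pi.smul_apply]
        rw [← algebraMap_smul B a]
        rfl
    have he' : ∀ d : _ →₀ B, Finsupp.linearCombination B e' d ∈ (maximalIdeal B • ⊤ : Submodule B (M n)) →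
        ∀ z, d z ∈ maximalIdeal B := by
      intro d hd w
      obtain ⟨d, rfl⟩ := Finsupp.mapRange_surjective π (map_zero _) Ideal.Quotient.mk_surjective d
      rw [← hlc] at hd
      have hA : ∀ v ∈ (maximalIdeal B • ⊤ : Submodule B (M n)), ∃ x ∈ ((maximalIdeal A) • ⊤ : Submodule A (sysLim M ψ)), sysProj M ψ n x = v := by
        intro v hv
        induction hv using Submodule.smul_induction_on' with
        | smul p hp v _ =>
          rw [hmax, Ideal.mem_map_iff_of_surjective π Ideal.Quotient.mk_surjective] at hp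
          obtain ⟨a, ha, rfl⟩ := hp
          obtain ⟨x, rfl⟩ := sysProj_surjective M ψ hψ n v
          exact ⟨a • x, Submodule.smul_mem_smul ha trivial, by rw [map_smul, ← algebraMap_smul B a]; rfl⟩
        | add p _ q _ hp hq =>
          obtain ⟨x, hx, rfl⟩ := hp
          obtain ⟨y, hy, rfl⟩ := hq
          exact ⟨x + y, add_mem hx hy, map_add _ _ _⟩
      obtain ⟨x, hx, hxv⟩ := hA _ hd
      have h0 : Finsupp.linearCombination A e d - x ∈ ((maximalIdeal A) • ⊤ : Submodule A (sysLim M ψ)) := by
        refine (Submodule.smul_mono_left (Ideal.pow_le_self n.succ_ne_zero) : _ ≤ ((maximalIdeal A) • ⊤ : Submodule A (sysLim M ψ))) ?_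
        rw [← ker_sysProj M ψ hψ hker n, LinearMap.mem_ker, map_sub, hxv, sysProj_apply, sub_self]
      have h1 := add_mem h0 hx
      rw [sub_add_cancel, ← Submodule.Quotient.mk_eq_zero, hmk] at h1
      have h2 := DFunLike.congr_fun (linearIndependent_iff.mp b.linearIndependent _ h1) w
      rw [Finsupp.mapRange_apply, hmax]
      exact Ideal.mem_map_of_mem π (by simpa [Ideal.Quotient.eq_zero_iff_mem] using h2)
    have h0 : (Finsupp.linearCombination A e c : ∀ k, M k) n = 0 := by
      rw [← ker_sysProj M ψ hψ hker n] at hc; exact hc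
    have := independent_of_flat e' he' (n + 1) (c.mapRange π (map_zero _)) (by rw [← hlc, h0]; exact zero_mem _) z
    rw [hmax, ← Ideal.map_pow, Ideal.map_quotient_self, Ideal.mem_bot, Finsupp.mapRange_apply] at this
    exact Ideal.Quotient.eq_zero_iff_mem.mp this
  obtain ⟨φ⟩ := exists_equiv (I := (maximalIdeal A)) e hspan hind
  exact ⟨_, ⟨φ.symm.trans (decayingCongr (maximalIdeal A) _ (AdicCompletion.ofLinearEquiv (maximalIdeal A) A))⟩⟩

end Groth.Agent.H3CAlg.AdicFree
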