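import Mathlib
import Groth.Agent.H3CAlg.BigSection
import Groth.Agent.H11Proj.ProjSpace
import Groth.Agent.H22Alg.RedIntegral
import Groth.Agent.S1618

/-!
# Complements of affine opens in proper varieties of dimension at least two
-/

set_option autoImplicit false
set_option linter.style.haveILetI false
set_option maxHeartbeats 1000000
set_option backward.isDefEq.respectTransparency false

universe u

open CategoryTheory CategoryTheory.Limits AlgebraicGeometry Opposite TopologicalSpace

namespace Groth.Agent.H3CAlg.AffineCompl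

/-- If a morphism factors through a closed immersion into an open of the target of a separated morphism,
its image is closed over that open. -/
theorem closure_range_inter_subset {P A S T : Scheme.{u}} (s : P ⟶ S) [IsSeparated s] (ω : A ⟶ S)
    [IsOpenImmersion ω] (σ : T ⟶ P) (c : T ⟶ A) [IsClosedImmersion c] (h : σ ≫ s = c ≫ ω) :
    closure (Set.range σ.base) ∩ s.base ⁻¹' Set.range ω.base ⊆ Set.range σ.base := by
  let τ := pullback.lift σ c h
  haveI : IsClosedImmersion (τ ≫ pullback.snd s ω) := by rw [pullback.lift_snd]; infer_instance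
  haveI : IsClosedImmersion τ := IsClosedImmersion.of_comp τ (pullback.snd s ω)
  rintro y ⟨hy, hys⟩
  have hy' : y ∈ Set.range (pullback.fst s ω).base := by
    rw [Scheme.Pullback.range_fst]; exact hys
  obtain ⟨z, rfl⟩ := hy'
  have hpre : (pullback.fst s ω).base ⁻¹' Set.range σ.base = Set.range τ.base := by
    ext w
    constructor
    · rintro ⟨t, ht⟩
      refine ⟨t, (pullback.fst s ω).isOpenEmbedding.injective ?_⟩
      rw [← ht, ← Scheme.Hom.comp_apply, pullback.lift_fst]
    · rintro ⟨t, rfl⟩
      exact ⟨t, by rw [← Scheme.Hom.comp_apply, pullback.lift_fst]⟩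
  have hz : z ∈ closure ((pullback.fst s ω).base ⁻¹' Set.range σ.base) := by
    rw [← (pullback.fst s ω).isOpenMap.preimage_closure_eq_closure_preimage (pullback.fst s ω).continuous]
    exact hy
  rw [hpre, τ.isClosedMap.isClosed_range.closure_eq] at hz
  obtain ⟨t, rfl⟩ := hz
  exact ⟨t, by rw [← Scheme.Hom.comp_apply, pullback.lift_fst]⟩

open MvPolynomial CohB1 Groth.Agent.H11Proj.ProjSpace in
/-- An affine scheme of finite type over a field is closed in the complement of a hyperplane. -/
theorem exists_chart {k : Type u} [Field k] {R : Type u} [CommRing R] (a : k →+* R) (ha : a.FiniteType) :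
    ∃ (n : ℕ) (A : Scheme.{u}) (ω : A ⟶ ProjSpace n k) (c : Spec (CommRingCat.of R) ⟶ A)
      (ℓ : MvPolynomial (Fin (n + 1)) k),
      IsOpenImmersion ω ∧ IsClosedImmersion c ∧ ℓ ∈ polyGrading n k 1 ∧
      c ≫ ω ≫ ProjSpace.toSpec n k = Spec.map (CommRingCat.ofHom a) ∧
      Set.range ω.base = (Proj.basicOpen (polyGrading n k) ℓ).carrier := by
  letI := a.toAlgebra
  haveI : Algebra.FiniteType k R := ha
  obtain ⟨n, φ, hφ⟩ := Algebra.FiniteType.iff_quotient_mvPolynomial''.1 ‹Algebra.FiniteType k R›
  let φ' : MvPolynomial {j : Fin (n + 1) // j ≠ 0} k →ₐ[k] R :=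
    φ.comp (rename (finSuccAboveEquiv (0 : Fin (n + 1))).symm)
  have hφ' : Function.Surjective φ' :=
    hφ.comp (rename_surjective _ (finSuccAboveEquiv (0 : Fin (n + 1))).symm.surjective)
  let E := RingEquiv.ofBijective _ (chartMap_bijective n k 0)
  let ψ : HomogeneousLocalization.Away (polyGrading n k) (X (0 : Fin (n + 1))) →+* R :=
    φ'.toRingHom.comp E.symm.toRingHom
  refine ⟨n, _, Proj.awayι (polyGrading n k) (X 0) (X_mem n k 0) one_pos,
    Spec.map (CommRingCat.ofHom ψ), X 0, inferInstance,
    IsClosedImmersion.spec_of_surjective _ (hφ'.comp E.symm.surjective), X_mem n k 0, ?_, ?_⟩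
  · have hval : ψ.comp ((HomogeneousLocalization.fromZeroRingHom (polyGrading n k)
        (Submonoid.powers (X (0 : Fin (n + 1))))).comp (algebraMap k (polyGrading n k 0))) = a := by
      refine RingHom.ext fun r => ?_
      have hC : E (C r) = (HomogeneousLocalization.fromZeroRingHom (polyGrading n k)
          (Submonoid.powers (X (0 : Fin (n + 1))))) (algebraMap k (polyGrading n k 0) r) := eval₂Hom_C _ _ r
      show φ' (E.symm ((HomogeneousLocalization.fromZeroRingHom (polyGrading n k)
          (Submonoid.powers (X (0 : Fin (n + 1))))) (algebraMap k (polyGrading n k 0) r))) = a r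
      rw [← hC, RingEquiv.symm_apply_apply, ← MvPolynomial.algebraMap_eq, AlgHom.commutes]
      rfl
    show Spec.map (CommRingCat.ofHom ψ) ≫ Proj.awayι (polyGrading n k) (X 0) (X_mem n k 0) one_pos ≫
      (Proj.toSpecZero (polyGrading n k) ≫ Spec.map (CommRingCat.ofHom (algebraMap k (polyGrading n k 0)))) = _
    rw [Proj.awayι_toSpecZero_assoc, ← Spec.map_comp, ← Spec.map_comp, ← CommRingCat.ofHom_comp,
      ← CommRingCat.ofHom_comp, ← hval]
  · exact congrArg SetLike.coe (Proj.opensRange_awayι (polyGrading n k) (X 0) (X_mem n k 0) one_pos)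

/-- The complement of a nonempty proper affine open in an integral proper variety of dimension at least two
is connected. -/
theorem isConnected_compl {k : Type u} [Field k] {X : Scheme.{u}} (f : X ⟶ Spec (CommRingCat.of k))
    [IsProper f] [IsIntegral X] (hdim : (2 : WithBot ℕ∞) ≤ topologicalKrullDim X)
    (U : X.Opens) (hU : IsAffineOpen U) (hne : (U : Set X).Nonempty) :
    _root_.IsPreconnected ((U : Set X)ᶜ) := by
  let e := hU.fromSpec
  let ae := Spec.preimage (e ≫ f)
  have hae : Spec.map ae = e ≫ f := Spec.map_preimage _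
  have hft : ae.hom.FiniteType := by
    haveI : LocallyOfFiniteType (Spec.map ae) := by rw [hae]; infer_instance
    exact (HasRingHomProperty.Spec_iff (P := @LocallyOfFiniteType)).1 inferInstance
  obtain ⟨n, A, ω, c, ℓ, hω, hc, hℓ, hcω, hωr⟩ := exists_chart ae.hom hft
  let p := CohB1.ProjSpace.toSpec n k
  haveI : IsProper p := H27Weil.isProper_toSpec n k
  have hsq : e ≫ f = (c ≫ ω) ≫ p := by rw [Category.assoc, hcω, ← hae]; rfl
  let σ := pullback.lift e (c ≫ ω) hsq
  haveI : IrreducibleSpace ↥(Spec Γ(X, U)) := by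
    haveI : Nonempty U := ⟨⟨_, hne.some_mem⟩⟩
    infer_instance
  let η := genericPoint ↥(Spec Γ(X, U))
  let W0 : Closeds ↥(pullback f p) := ⟨closure {σ.base η}, isClosed_closure⟩
  have hσW : Set.range σ.base ⊆ (W0 : Set ↥(pullback f p)) := by
    rintro _ ⟨t, rfl⟩
    exact ((genericPoint_specializes t).map σ.continuous).mem_closure
  have hWσ : (W0 : Set ↥(pullback f p)) ⊆ closure (Set.range σ.base) :=
    closure_mono (Set.singleton_subset_iff.2 ⟨η, rfl⟩)
  let J := Scheme.IdealSheafData.vanishingIdeal W0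
  haveI : IsIntegral J.subscheme := H22Alg.isIntegral_vanishingIdeal_closure (σ.base η)
  let i := J.subschemeι
  have hir : Set.range i.base = (W0 : Set ↥(pullback f p)) :=
    (Scheme.IdealSheafData.range_subschemeι J).trans (Scheme.IdealSheafData.coe_support_vanishingIdeal W0)
  haveI : IsProper (pullback.fst f p ≫ f) := inferInstance
  haveI : IsProper (i ≫ pullback.fst f p) := inferInstance
  let g := i ≫ pullback.snd f p
  let π := i ≫ pullback.fst f p
  have hgp : g ≫ p = π ≫ f := by
    simp only [g, π, Category.assoc, pullback.condition]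
  have h1 := closure_range_inter_subset (pullback.snd f p) ω σ c (pullback.lift_snd _ _ _)
  haveI : IsClosedImmersion (𝟙 (Spec Γ(X, U))) := inferInstance
  have h2 := closure_range_inter_subset (pullback.fst f p) e σ (𝟙 _)
    (by rw [pullback.lift_fst, Category.id_comp])
  have he : Set.range e.base = (U : Set X) := by
    exact hU.range_fromSpec
  have hdim' : (2 : WithBot ℕ∞) ≤ topologicalKrullDim ↥(Set.range g.base) := by
    letI : X.Over (Spec (CommRingCat.of k)) := ⟨f⟩
    haveI : LocallyOfFiniteType (X ↘ Spec (CommRingCat.of k)) := inferInstanceAs (LocallyOfFiniteType f)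
    have hdU := S1618.result k X U hne
    rw [← hdU] at hdim
    refine hdim.trans ?_
    let l : ↥U → ↥(Set.range g.base) := fun x =>
      ⟨ω.base (c.base ((hU.isoSpec.hom).base x)), by
        obtain ⟨w, hw⟩ : σ.base ((hU.isoSpec.hom).base x) ∈ Set.range i.base := hir ▸ hσW ⟨_, rfl⟩
        exact ⟨w, by rw [Scheme.Hom.comp_apply, hw, ← Scheme.Hom.comp_apply, pullback.lift_snd]; rfl⟩⟩
    have hl : Topology.IsEmbedding l :=
      ((ω.isOpenEmbedding.isEmbedding.comp c.isClosedEmbedding.isEmbedding).comp
        hU.isoSpec.hom.homeomorph.isEmbedding).codRestrict _ _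
    exact hl.isInducing.topologicalKrullDim_le
  have hconn := BigSection.isConnected_preimage_compl (π ≫ f) n g hgp hdim' hℓ
  rw [← hωr] at hconn
  have hsurj : Set.range π.base = Set.univ := by
    haveI : Nonempty U := ⟨⟨_, hne.some_mem⟩⟩
    refine Set.eq_univ_iff_forall.2 fun x => ?_
    have hd : Dense (U : Set X) := U.2.dense hne
    refine closure_minimal ?_ π.isClosedMap.isClosed_range (hd x)
    rintro y hy
    obtain ⟨t, rfl⟩ := he ▸ hy
    obtain ⟨w, hw⟩ : σ.base t ∈ Set.range i.base := hir ▸ hσW ⟨_, rfl⟩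
    exact ⟨w, by rw [Scheme.Hom.comp_apply, hw, ← Scheme.Hom.comp_apply, pullback.lift_fst]⟩
  have himg : π.base '' (g.base ⁻¹' Set.range ω.base)ᶜ = (U : Set X)ᶜ := by
    ext x
    constructor
    · rintro ⟨w, hw, rfl⟩ hxU
      obtain ⟨t, ht⟩ := h2 ⟨hWσ (hir ▸ ⟨w, rfl⟩),
        show (pullback.fst f p).base (i.base w) ∈ Set.range e.base from he.symm ▸ hxU⟩
      refine hw ⟨c.base t, ?_⟩
      show ω.base (c.base t) = (pullback.snd f p).base (i.base w)
      rw [← ht, ← Scheme.Hom.comp_apply, ← Scheme.Hom.comp_apply, pullback.lift_snd]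
      rfl
    · intro hx
      obtain ⟨w, rfl⟩ : x ∈ Set.range π.base := hsurj ▸ trivial
      refine ⟨w, fun hw => hx ?_, rfl⟩
      obtain ⟨t, ht⟩ := h1 ⟨hWσ (hir ▸ ⟨w, rfl⟩), hw⟩
      rw [SetLike.mem_coe, ← SetLike.mem_coe, ← he]
      have h3 := congrArg (fun z => (pullback.fst f p).base z) ht
      simp only [← Scheme.Hom.comp_apply, pullback.lift_fst, σ] at h3
      exact ⟨t, h3⟩
  rw [← himg]
  exact hconn.isPreconnected.image _ π.continuous.continuousOn

end Groth.Agent.H3CAlg.AffineCompl
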