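import Mathlib

/-!
# Every algebra is a filtered colimit of finitely presented algebras, and functors preserving
filtered colimits
-/

set_option autoImplicit false
set_option linter.style.haveILetI false
set_option linter.deprecated false
universe u

open CategoryTheory Limits MvPolynomial

namespace Groth.Agent.H3CAlg.AlgFPColim

variable (R Λ : Type u) [CommRing R] [CommRing Λ] [Algebra R Λ]

/-- Finite sets of generators and relations. -/
abbrev Idx : Type u :=
  {p : Finset Λ × Finset (MvPolynomial Λ R) // ∀ r ∈ p.2, aeval (id : Λ → Λ) r = 0}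

instance : Nonempty (Idx R Λ) := ⟨⟨(∅, ∅), fun r hr => (Finset.notMem_empty r hr).elim⟩⟩

instance : IsDirectedOrder (Idx R Λ) := by
  classical
  exact ⟨fun p q => ⟨⟨(p.1.1 ∪ q.1.1, p.1.2 ∪ q.1.2), fun r hr =>
    (Finset.mem_union.1 hr).elim (p.2 r) (q.2 r)⟩,
    ⟨Finset.subset_union_left, Finset.subset_union_left⟩,
    ⟨Finset.subset_union_right, Finset.subset_union_right⟩⟩⟩

/-- The relations of a stage. -/
noncomputable def rel (j : Idx R Λ) : Ideal (MvPolynomial j.1.1 R) :=
  Ideal.span (rename (Subtype.val : j.1.1 → Λ) ⁻¹' (j.1.2 : Set (MvPolynomial Λ R)))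

/-- A finitely presented stage. -/
abbrev Stage (j : Idx R Λ) : Type u := MvPolynomial j.1.1 R ⧸ rel R Λ j

theorem rel_fg (j : Idx R Λ) : (rel R Λ j).FG :=
  Submodule.fg_span ((j.1.2.finite_toSet).preimage (rename_injective _ Subtype.val_injective).injOn)

instance (j : Idx R Λ) : Algebra.FinitePresentation R (Stage R Λ j) :=
  Algebra.FinitePresentation.quotient (rel_fg R Λ j)

/-- Transition maps. -/
noncomputable def trans {i j : Idx R Λ} (h : i ≤ j) : Stage R Λ i →ₐ[R] Stage R Λ j :=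
  Ideal.Quotient.liftₐ (rel R Λ i)
    ((Ideal.Quotient.mkₐ R (rel R Λ j)).comp (rename fun x : i.1.1 => (⟨x.1, h.1 x.2⟩ : j.1.1))) (by
      have : rel R Λ i ≤ RingHom.ker ((Ideal.Quotient.mkₐ R (rel R Λ j)).comp
          (rename fun x : i.1.1 => (⟨x.1, h.1 x.2⟩ : j.1.1))) := by
        refine Ideal.span_le.2 fun r hr => ?_
        refine Ideal.Quotient.eq_zero_iff_mem.2 (Ideal.subset_span ?_)
        show rename Subtype.val (rename _ r) ∈ (j.1.2 : Set (MvPolynomial Λ R))
        rw [rename_rename]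
        exact h.2 hr
      exact this)

theorem trans_mk {i j : Idx R Λ} (h : i ≤ j) (P : MvPolynomial i.1.1 R) :
    trans R Λ h (Ideal.Quotient.mk _ P) =
      Ideal.Quotient.mk _ (rename (fun x : i.1.1 => (⟨x.1, h.1 x.2⟩ : j.1.1)) P) := rfl

/-- The map of a stage to the algebra. -/
noncomputable def toAlg (j : Idx R Λ) : Stage R Λ j →ₐ[R] Λ :=
  Ideal.Quotient.liftₐ (rel R Λ j) (aeval Subtype.val) (by
    have : rel R Λ j ≤ RingHom.ker (aeval (Subtype.val : j.1.1 → Λ)) := by
      refine Ideal.span_le.2 fun r hr => ?_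
      show aeval (Subtype.val : j.1.1 → Λ) r = 0
      have := j.2 _ hr
      rwa [aeval_rename] at this
    exact this)

theorem toAlg_mk (j : Idx R Λ) (P : MvPolynomial j.1.1 R) :
    toAlg R Λ j (Ideal.Quotient.mk _ P) = aeval Subtype.val P := rfl

theorem stage_hom_ext {j : Idx R Λ} {T : Type u} [CommRing T] [Algebra R T] {f g : Stage R Λ j →ₐ[R] T}
    (h : ∀ x, f (Ideal.Quotient.mk _ (X x)) = g (Ideal.Quotient.mk _ (X x))) : f = g :=
  Ideal.Quotient.algHom_ext _ (MvPolynomial.algHom_ext h)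

/-- The diagram of stages. -/
noncomputable def diagram : Idx R Λ ⥤ CommAlgCat.{u} R where
  obj j := CommAlgCat.of R (Stage R Λ j)
  map h := CommAlgCat.ofHom (trans R Λ (leOfHom h))
  map_id j := CommAlgCat.hom_ext (stage_hom_ext R Λ fun x => by
    rw [CommAlgCat.hom_ofHom, trans_mk, rename_X]; rfl)
  map_comp {i j k} f g := CommAlgCat.hom_ext (stage_hom_ext R Λ fun x => by
    rw [CommAlgCat.hom_ofHom, CommAlgCat.hom_comp, CommAlgCat.hom_ofHom, CommAlgCat.hom_ofHom,
      AlgHom.comp_apply, trans_mk, trans_mk, trans_mk, rename_X, rename_X, rename_X])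

/-- The cocone with point `Λ`. -/
noncomputable def cocone : Cocone (diagram R Λ) :=
  Cocone.mk (CommAlgCat.of R Λ)
    { app := fun j => CommAlgCat.ofHom (toAlg R Λ j)
      naturality := fun i j f => CommAlgCat.hom_ext (stage_hom_ext R Λ fun x => by
        show toAlg R Λ j (trans R Λ (leOfHom f) (Ideal.Quotient.mk _ (X x))) = toAlg R Λ i (Ideal.Quotient.mk _ (X x))
        rw [trans_mk, rename_X, toAlg_mk, toAlg_mk, aeval_X, aeval_X]) }

theorem exists_desc (s : Cocone (diagram R Λ)) :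
    ∃ g : Λ →ₐ[R] s.pt, ∀ j, g.comp (toAlg R Λ j) = (s.ι.app j).hom := by
  classical
  let one : Λ → Idx R Λ := fun l => ⟨({l}, ∅), fun r hr => (Finset.notMem_empty r hr).elim⟩
  let g₀ : Λ → s.pt := fun l =>
    (s.ι.app (one l)).hom (Ideal.Quotient.mk _ (X ⟨l, Finset.mem_singleton_self l⟩))
  have hcomp : ∀ {i j : Idx R Λ} (h : i ≤ j) (z : Stage R Λ i),
      (s.ι.app j).hom (trans R Λ h z) = (s.ι.app i).hom z := fun {i j} h z =>
    AlgHom.congr_fun (congrArg CommAlgCat.Hom.hom (s.w (homOfLE h))) z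
  have key : ∀ j : Idx R Λ, ∀ P : MvPolynomial j.1.1 R,
      (s.ι.app j).hom (Ideal.Quotient.mk _ P) = aeval g₀ (rename (Subtype.val : j.1.1 → Λ) P) := by
    intro j P
    rw [aeval_rename]
    refine AlgHom.congr_fun (MvPolynomial.algHom_ext
      (f := (s.ι.app j).hom.comp (Ideal.Quotient.mkₐ R (rel R Λ j))) (g := aeval (g₀ ∘ Subtype.val)) fun x => ?_) P
    rw [aeval_X]
    have hle : one x.1 ≤ j := ⟨Finset.singleton_subset_iff.2 x.2, Finset.empty_subset _⟩
    show (s.ι.app j).hom (Ideal.Quotient.mk _ (X x)) = _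
    refine Eq.trans ?_ (hcomp hle _)
    rw [trans_mk, rename_X]
  have hker : ∀ r : MvPolynomial Λ R, aeval (id : Λ → Λ) r = 0 → (aeval g₀ : MvPolynomial Λ R →ₐ[R] s.pt) r = 0 := by
    intro r hr
    obtain ⟨S, r', rfl⟩ := exists_finset_rename r
    let j : Idx R Λ := ⟨(S, {rename Subtype.val r'}), fun r'' hr'' => by rw [Finset.mem_singleton] at hr''; rw [hr'']; exact hr⟩
    have h0 : Ideal.Quotient.mk (rel R Λ j) r' = 0 :=
      Ideal.Quotient.eq_zero_iff_mem.2 (Ideal.subset_span (by simp [j]))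
    exact (key j r').symm.trans ((congrArg (s.ι.app j).hom h0).trans (map_zero (s.ι.app j).hom))
  have hsurj : Function.Surjective (aeval (id : Λ → Λ) : MvPolynomial Λ R →ₐ[R] Λ) := fun l => ⟨X l, aeval_X _ l⟩
  let G : Λ →ₐ[R] s.pt := (Ideal.Quotient.liftₐ _ (aeval g₀) hker).comp
    (Ideal.quotientKerAlgEquivOfSurjective hsurj).symm.toAlgHom
  have hG : ∀ r : MvPolynomial Λ R, G (aeval (id : Λ → Λ) r) = (aeval g₀ : MvPolynomial Λ R →ₐ[R] s.pt) r := fun r => by
    show Ideal.Quotient.liftₐ _ (aeval g₀) hker ((Ideal.quotientKerAlgEquivOfSurjective hsurj).symm (aeval id r)) = _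
    rw [show aeval (id : Λ → Λ) r = Ideal.quotientKerAlgEquivOfSurjective hsurj (Ideal.Quotient.mk _ r) from rfl,
      AlgEquiv.symm_apply_apply]
    rfl
  refine ⟨G, fun j => AlgHom.ext fun z => ?_⟩
  obtain ⟨P, rfl⟩ := Ideal.Quotient.mk_surjective z
  refine Eq.trans ?_ (key j P).symm
  rw [← hG, AlgHom.comp_apply, toAlg_mk, aeval_rename]
  rfl

theorem hom_ext {T : Type u} [CommRing T] [Algebra R T] (g g' : Λ →ₐ[R] T)
    (h : ∀ j, g.comp (toAlg R Λ j) = g'.comp (toAlg R Λ j)) : g = g' := AlgHom.ext fun l => by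
  let j : Idx R Λ := ⟨({l}, ∅), fun r hr => (Finset.notMem_empty r hr).elim⟩
  have := AlgHom.congr_fun (h j) (Ideal.Quotient.mk _ (X ⟨l, Finset.mem_singleton_self l⟩))
  rwa [AlgHom.comp_apply, AlgHom.comp_apply, toAlg_mk, aeval_X] at this

/-- The algebra is the colimit of its stages. -/
noncomputable def isColimit : IsColimit (cocone R Λ) where
  desc s := CommAlgCat.ofHom (exists_desc R Λ s).choose
  fac s j := CommAlgCat.hom_ext ((exists_desc R Λ s).choose_spec j)
  uniq s m hm := CommAlgCat.hom_ext (@hom_ext R Λ _ _ _ s.pt _ _ (show Λ →ₐ[R] s.pt from m.hom) (exists_desc R Λ s).choose fun j =>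
    (congrArg CommAlgCat.Hom.hom (hm j)).trans ((exists_desc R Λ s).choose_spec j).symm)

variable {R Λ}
variable (F : CommAlgCat.{u} R ⥤ Type u) [PreservesFilteredColimitsOfSize.{u, u} F]

/-- A value at `Λ` comes from a finitely presented algebra mapping to `Λ`. -/
theorem exists_factor (y : F.obj (CommAlgCat.of R Λ)) :
    ∃ (B : Type u) (_ : CommRing B) (_ : Algebra R B) (_ : Algebra.FinitePresentation R B)
      (g : B →ₐ[R] Λ) (z : F.obj (CommAlgCat.of R B)), F.map (CommAlgCat.ofHom g) z = y := by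
  obtain ⟨j, z, hz⟩ := Types.jointly_surjective_of_isColimit
    (isColimitOfPreserves F (isColimit R Λ)) y
  exact ⟨Stage R Λ j, inferInstance, inferInstance, inferInstance, toAlg R Λ j, z, hz⟩

/-- Values at finitely presented algebras which agree at `Λ` agree at a finitely presented algebra. -/
theorem exists_eq {B : Type u} [CommRing B] [Algebra R B] [Algebra.FinitePresentation R B] (g : B →ₐ[R] Λ)
    (x x' : F.obj (CommAlgCat.of R B)) (h : F.map (CommAlgCat.ofHom g) x = F.map (CommAlgCat.ofHom g) x') :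
    ∃ (C : Type u) (_ : CommRing C) (_ : Algebra R C) (_ : Algebra.FinitePresentation R C)
      (e : B →ₐ[R] C) (g' : C →ₐ[R] Λ), g'.comp e = g ∧
      F.map (CommAlgCat.ofHom e) x = F.map (CommAlgCat.ofHom e) x' := by
  classical
  -- lift `g` to a stage
  obtain ⟨n, π, hπ, hK⟩ := Algebra.FinitePresentation.out (R := R) (A := B)
  obtain ⟨T, hT⟩ := hK
  let a : Fin n → Λ := fun i => g (π (X i))
  have hga : ∀ P, g (π P) = aeval a P := fun P =>
    AlgHom.congr_fun (MvPolynomial.algHom_ext (f := g.comp π) (g := aeval a) fun i => (aeval_X a i).symm) P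
  let j : Idx R Λ := ⟨(Finset.univ.image a, T.image (rename a)), by
    intro r hr
    obtain ⟨P, hP, rfl⟩ := Finset.mem_image.1 hr
    have hP' : π P = 0 := (RingHom.mem_ker).1 (hT ▸ Ideal.subset_span hP)
    rw [aeval_rename, Function.id_comp, ← hga, hP', map_zero]⟩
  let a' : Fin n → j.1.1 := fun i => ⟨a i, Finset.mem_image_of_mem a (Finset.mem_univ i)⟩
  let e₀ : MvPolynomial (Fin n) R →ₐ[R] Stage R Λ j := (Ideal.Quotient.mkₐ R _).comp (rename a')
  have he₀ : RingHom.ker π.toRingHom ≤ RingHom.ker e₀.toRingHom := by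
    rw [← hT]
    refine Ideal.span_le.2 fun P hP => ?_
    refine Ideal.Quotient.eq_zero_iff_mem.2 (Ideal.subset_span ?_)
    show rename Subtype.val (rename a' P) ∈ ((T.image (rename a)) : Set _)
    rw [rename_rename]
    exact Finset.mem_image_of_mem _ hP
  let e : B →ₐ[R] Stage R Λ j := AlgHom.liftOfSurjective π hπ e₀ he₀
  have he : (toAlg R Λ j).comp e = g := AlgHom.ext fun b => by
    obtain ⟨P, rfl⟩ := hπ b
    rw [AlgHom.comp_apply, AlgHom.liftOfSurjective_apply, hga]
    show aeval Subtype.val (rename a' P) = aeval a P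
    rw [aeval_rename]
    rfl
  have h' : F.map (CommAlgCat.ofHom (toAlg R Λ j)) (F.map (CommAlgCat.ofHom e) x) =
      F.map (CommAlgCat.ofHom (toAlg R Λ j)) (F.map (CommAlgCat.ofHom e) x') := by
    rw [← FunctorToTypes.map_comp_apply, ← FunctorToTypes.map_comp_apply, ← CommAlgCat.ofHom_comp, he]
    exact h
  obtain ⟨k, f, hf⟩ := (Types.FilteredColimit.isColimit_eq_iff' (isColimitOfPreserves F (isColimit R Λ))
    (F.map (CommAlgCat.ofHom e) x) (F.map (CommAlgCat.ofHom e) x')).1 h'
  refine ⟨Stage R Λ k, inferInstance, inferInstance, inferInstance, (trans R Λ (leOfHom f)).comp e, toAlg R Λ k, ?_, ?_⟩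
  · rw [← AlgHom.comp_assoc]
    have := congrArg CommAlgCat.Hom.hom ((cocone R Λ).w f)
    rw [show (toAlg R Λ k).comp (trans R Λ (leOfHom f)) = toAlg R Λ j from this, he]
  · rw [CommAlgCat.ofHom_comp, FunctorToTypes.map_comp_apply, FunctorToTypes.map_comp_apply]
    exact hf

end Groth.Agent.H3CAlg.AlgFPColim
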