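import Groth.Agent.S15075
import Groth.Agent.S15076
import Groth.Agent.H06Mod.StalkPullback
import Groth.Agent.H16Derived.KFlat.FinLocFree
import Groth.Agent.H10Coh.FinType2
import Mathlib

/-!
Skyscrapers of modules over a sheaf of algebras, and exactness of extension of scalars along a flat algebra.
-/

set_option autoImplicit false
set_option linter.style.haveILetI false
set_option backward.isDefEq.respectTransparency.types false
set_option backward.isDefEq.respectTransparency false

universe u

open CategoryTheory CategoryTheory.Limits AlgebraicGeometry TopologicalSpace Opposite TensorProduct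

namespace Groth.Agent.H3CAlg.AlgSky

open Groth.Agent.S15076 (St MSt unitEquiv)

variable {X : Scheme.{u}} {A : Sheaf (Opens.grothendieckTopology X) RingCat.{u}}

/-- Germs of the ring sheaf. -/
noncomputable abbrev gA (U : X.Opens) (x : X) (hU : x ∈ U) : A.obj.obj (op U) →+* St A x :=
  (TopCat.Presheaf.germ (C := RingCat.{u}) (X := X.carrier) A.obj U x hU).hom

theorem gA_res {U V : X.Opens} (i : V ⟶ U) (x : X) (hV : x ∈ V) (a : A.obj.obj (op U)) :
    gA V x hV (A.obj.map i.op a) = gA U x (i.le hV) a :=
  TopCat.Presheaf.germ_res_apply A.obj i x hV a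

/-- Germs of a sheaf of modules. -/
noncomputable abbrev gM (P : SheafOfModules.{u} A) (U : X.Opens) (x : X) (hU : x ∈ U) :
    P.val.presheaf.obj (op U) →+ MSt P x :=
  (TopCat.Presheaf.germ (C := Ab.{u}) (X := X.carrier) P.val.presheaf U x hU).hom

theorem gM_smul (P : SheafOfModules.{u} A) (U : X.Opens) (x : X) (hU : x ∈ U) (r : A.obj.obj (op U))
    (m : P.val.obj (op U)) : gM P U x hU (r • m) = gA U x hU r • gM P U x hU m :=
  PresheafOfModules.germ_ringCat_smul P.val x U hU r m

section Sky

variable (x : X) (N : Type u) [AddCommGroup N] [Module (St A x) N]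

noncomputable instance skyModule (U : (Opens X)ᵒᵖ) :
    Module (A.obj.obj U) ((H06Mod.skyPre x N).obj U) where
  smul r g := fun h => gA (A := A) U.unop x h.down.down r • (g h : N)
  one_smul g := funext fun h => by
    show gA (A := A) U.unop x h.down.down 1 • (g h : N) = g h
    rw [map_one, one_smul]
  mul_smul r s g := funext fun h =>
    (congrArg (· • (g h : N)) (map_mul (gA U.unop x h.down.down) r s)).trans (mul_smul _ _ _)
  smul_zero r := funext fun h => smul_zero _
  smul_add r g g' := funext fun h => smul_add _ _ _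
  add_smul r s g := funext fun h =>
    (congrArg (· • (g h : N)) (map_add (gA U.unop x h.down.down) r s)).trans (add_smul _ _ _)
  zero_smul g := funext fun h => by
    show gA (A := A) U.unop x h.down.down 0 • (g h : N) = (0 : N)
    rw [map_zero, zero_smul]

/-- The skyscraper module with value the stalk module `N`. -/
noncomputable def skyA : SheafOfModules.{u} A where
  val := PresheafOfModules.ofPresheaf (R := A.obj) (H06Mod.skyPre x N) fun U V i r g => by
    funext h
    show gA U.unop x (i.unop.le h.down.down) r • (g _ : N) = gA V.unop x h.down.down (A.obj.map i r) • (g _ : N)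
    rw [show gA V.unop x h.down.down (A.obj.map i r) = gA U.unop x (i.unop.le h.down.down) r from
      gA_res i.unop x h.down.down r]
  isSheaf := by
    change TopCat.Presheaf.IsSheaf (H06Mod.skyPre x N : TopCat.Presheaf AddCommGrpCat.{u} X)
    rw [TopCat.Presheaf.isSheaf_iff_isSheafUniqueGluing]
    intro ι U sf hsf
    refine ⟨fun h => sf _ ⟨⟨(Opens.mem_iSup.mp h.down.down).choose_spec⟩⟩, fun i => ?_, fun s hs => ?_⟩
    · funext h
      exact congrFun (hsf (Opens.mem_iSup.mp (Opens.mem_iSup.mpr ⟨i, h.down.down⟩)).choose i)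
        ⟨⟨(Opens.mem_iSup.mp (Opens.mem_iSup.mpr ⟨i, h.down.down⟩)).choose_spec, h.down.down⟩⟩
    · funext h
      exact congrFun (hs _) ⟨⟨(Opens.mem_iSup.mp h.down.down).choose_spec⟩⟩

variable {x N}

/-- The value at `x` of a section of the skyscraper. -/
noncomputable def evalA (U : X.Opens) (h : x ∈ U) : (skyA (A := A) x N).val.presheaf.obj (op U) →+ N where
  toFun g := g ⟨⟨h⟩⟩
  map_zero' := rfl
  map_add' _ _ := rfl

/-- A morphism into the skyscraper gives a map of stalks. -/
noncomputable def stalkA₀ {P : SheafOfModules.{u} A} (g : P ⟶ skyA (A := A) x N) :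
    TopCat.Presheaf.stalk (C := Ab.{u}) (X := X.carrier) P.val.presheaf x ⟶ AddCommGrpCat.of N :=
  colimit.desc ((OpenNhds.inclusion x).op ⋙ P.val.presheaf)
    ⟨AddCommGrpCat.of N,
      { app := fun U => ((PresheafOfModules.toPresheaf A.obj).map g.val).app (op U.unop.1) ≫
          AddCommGrpCat.ofHom (evalA (A := A) U.unop.1 U.unop.2)
        naturality := fun U V i => by
          ext a
          exact congrArg (evalA (A := A) V.unop.1 V.unop.2)
            (ConcreteCategory.congr_hom (((PresheafOfModules.toPresheaf A.obj).map g.val).naturality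
              ((OpenNhds.inclusion x).op.map i)) a) }⟩

theorem stalkA₀_germ {P : SheafOfModules.{u} A} (g : P ⟶ skyA (A := A) x N) (U : X.Opens) (h : x ∈ U)
    (a : P.val.presheaf.obj (op U)) :
    stalkA₀ g (gM P U x h a) = evalA (A := A) U h ((g.val.app (op U)).hom a) := by
  show (colimit.ι ((OpenNhds.inclusion x).op ⋙ P.val.presheaf) (op (⟨U, h⟩ : OpenNhds x)) ≫ stalkA₀ g) a = _
  rw [stalkA₀, colimit.ι_desc]
  rfl

/-- A morphism into the skyscraper gives a linear map of stalks. -/
noncomputable def stalkA {P : SheafOfModules.{u} A} (g : P ⟶ skyA (A := A) x N) : MSt P x →ₗ[St A x] N where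
  toFun m := stalkA₀ g m
  map_add' a b := map_add _ a b
  map_smul' r m := by
    obtain ⟨U, hU, r', rfl⟩ := TopCat.Presheaf.germ_exist A.obj r
    obtain ⟨V, hV, m', rfl⟩ := TopCat.Presheaf.germ_exist P.val.presheaf m
    let W := U ⊓ V
    have hW : x ∈ W := ⟨hU, hV⟩
    rw [RingHom.id_apply, ← TopCat.Presheaf.germ_res_apply A.obj (homOfLE inf_le_left : W ⟶ U) x hW r',
      ← TopCat.Presheaf.germ_res_apply P.val.presheaf (homOfLE inf_le_right : W ⟶ V) x hW m']
    erw [← gM_smul P W x hW, stalkA₀_germ, stalkA₀_germ]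
    exact congrArg (evalA (A := A) W hW) (map_smul (g.val.app _).hom _ _)

/-- A linear map of stalks gives a morphism into the skyscraper. -/
noncomputable def homA {P : SheafOfModules.{u} A} (θ : MSt P x →ₗ[St A x] N) : P ⟶ skyA (A := A) x N :=
  ⟨PresheafOfModules.homMk
    { app := fun U => AddCommGrpCat.ofHom
        { toFun := fun a (h : ULift.{u} (PLift (x ∈ U.unop))) => θ (gM P U.unop x h.down.down a)
          map_zero' := funext fun h => by
            show θ (gM P U.unop x h.down.down 0) = 0
            rw [map_zero, map_zero]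
          map_add' := fun a b => funext fun h =>
            (congrArg θ (map_add (gM P U.unop x h.down.down) a b)).trans (map_add θ _ _) }
      naturality := fun U V i => by
        ext a
        funext h
        exact congrArg θ (TopCat.Presheaf.germ_res_apply P.val.presheaf i.unop x h.down.down a) }
    fun U r a => funext fun h => by
      show θ (gM P U.unop x h.down.down (r • a)) = gA U.unop x h.down.down r • θ (gM P U.unop x h.down.down a)
      rw [gM_smul P U.unop x h.down.down r a, map_smul]⟩

theorem stalkA_germ {P : SheafOfModules.{u} A} (g : P ⟶ skyA (A := A) x N) (U : X.Opens) (h : x ∈ U)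
    (a : P.val.presheaf.obj (op U)) : stalkA g (gM P U x h a) = evalA (A := A) U h ((g.val.app (op U)).hom a) :=
  stalkA₀_germ g U h a

theorem stalkA_homA {P : SheafOfModules.{u} A} (θ : MSt P x →ₗ[St A x] N) : stalkA (homA θ) = θ := by
  refine LinearMap.ext fun m => ?_
  obtain ⟨U, hU, a, rfl⟩ := TopCat.Presheaf.germ_exist P.val.presheaf m
  exact stalkA_germ (homA θ) U hU a

end Sky

variable (φ : X.ringCatSheaf ⟶ A)

theorem exists_phiSt (x : X) (r : X.presheaf.stalk x) : ∃ c : St A x, ∀ (U : X.Opens) (hU : x ∈ U) (t : Γ(X, U)),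
    X.presheaf.germ U x hU t = r → gA U x hU ((φ.hom.app (op U)).hom t) = c := by
  obtain ⟨V, hV, s, rfl⟩ := X.presheaf.exists_germ_eq r
  refine ⟨gA V x hV ((φ.hom.app (op V)).hom s), fun U hU t h => ?_⟩
  obtain ⟨W, hW, i, j, hij⟩ := X.presheaf.germ_eq x hU hV t s h
  rw [← gA_res i x hW, ← gA_res j x hW]
  refine congrArg _ ?_
  have h1 := ConcreteCategory.congr_hom (φ.hom.naturality i.op) t
  have h2 := ConcreteCategory.congr_hom (φ.hom.naturality j.op) s
  exact h1.symm.trans ((congrArg (φ.hom.app (op W)).hom hij).trans h2)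

/-- The stalk of the structure map. -/
noncomputable def phiSt (x : X) (r : X.presheaf.stalk x) : St A x := (exists_phiSt φ x r).choose

theorem phiSt_germ (x : X) (U : X.Opens) (hU : x ∈ U) (t : Γ(X, U)) :
    phiSt φ x (X.presheaf.germ U x hU t) = gA U x hU ((φ.hom.app (op U)).hom t) :=
  ((exists_phiSt φ x _).choose_spec U hU t rfl).symm

theorem exists_pair (x : X) (r s : X.presheaf.stalk x) :
    ∃ (U : X.Opens) (hU : x ∈ U) (a b : Γ(X, U)), X.presheaf.germ U x hU a = r ∧ X.presheaf.germ U x hU b = s := by
  obtain ⟨U, hU, a, rfl⟩ := X.presheaf.exists_germ_eq r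
  obtain ⟨V, hV, b, rfl⟩ := X.presheaf.exists_germ_eq s
  exact ⟨U ⊓ V, ⟨hU, hV⟩, X.presheaf.map (homOfLE inf_le_left).op a, X.presheaf.map (homOfLE inf_le_right).op b,
    X.presheaf.germ_res_apply _ x _ a, X.presheaf.germ_res_apply _ x _ b⟩

/-- The stalk of the structure map as a ring homomorphism. -/
noncomputable def phiHom (x : X) : X.presheaf.stalk x →+* St A x where
  toFun := phiSt φ x
  map_one' := by
    rw [← map_one (X.presheaf.germ ⊤ x trivial).hom]
    erw [phiSt_germ]
    exact (congrArg _ (map_one (φ.hom.app (op ⊤)).hom)).trans (map_one _)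
  map_mul' r s := by
    obtain ⟨U, hU, a, b, rfl, rfl⟩ := exists_pair x r s
    rw [← map_mul]
    erw [phiSt_germ, phiSt_germ, phiSt_germ]
    exact (congrArg _ (map_mul (φ.hom.app (op U)).hom a b)).trans (map_mul _ _ _)
  map_zero' := by
    rw [← map_zero (X.presheaf.germ ⊤ x trivial).hom]
    erw [phiSt_germ]
    exact (congrArg _ (map_zero (φ.hom.app (op ⊤)).hom)).trans (map_zero _)
  map_add' r s := by
    obtain ⟨U, hU, a, b, rfl, rfl⟩ := exists_pair x r s
    rw [← map_add]
    erw [phiSt_germ, phiSt_germ, phiSt_germ]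
    exact (congrArg _ (map_add (φ.hom.app (op U)).hom a b)).trans (map_add _ _ _)

theorem phiHom_comm (hcen : ∀ (U : (Opens X)ᵒᵖ) (s : X.ringCatSheaf.obj.obj U) (a : A.obj.obj U),
      φ.hom.app U s * a = a * φ.hom.app U s) (x : X) (r : X.presheaf.stalk x) (c : St A x) :
    phiHom φ x r * c = c * phiHom φ x r := by
  obtain ⟨U, hU, t, rfl⟩ := X.presheaf.exists_germ_eq r
  obtain ⟨V, hV, a, rfl⟩ := TopCat.Presheaf.germ_exist A.obj c
  let W := U ⊓ V
  have hW : x ∈ W := ⟨hU, hV⟩
  rw [← TopCat.Presheaf.germ_res_apply X.presheaf (homOfLE inf_le_left : W ⟶ U) x hW t,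
    ← TopCat.Presheaf.germ_res_apply A.obj (homOfLE inf_le_right : W ⟶ V) x hW a]
  show phiSt φ x _ * gA W x hW _ = gA W x hW _ * phiSt φ x _
  erw [phiSt_germ, ← map_mul, ← map_mul]
  exact congrArg _ (hcen _ _ _)

/-- The stalk of the structure sheaf acts on restricted modules through `phiHom`. -/
theorem smul_res (P : SheafOfModules.{u} A) (x : X) (r : X.presheaf.stalk x)
    (m : (id (α := X.Modules) ((SheafOfModules.restrictScalars φ).obj P)).presheaf.stalk x) :
    r • m = (show (id (α := X.Modules) ((SheafOfModules.restrictScalars φ).obj P)).presheaf.stalk x from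
      phiHom φ x r • (show MSt P x from m)) := by
  obtain ⟨U, hU, t, rfl⟩ := X.presheaf.exists_germ_eq r
  let Po : X.Modules := (SheafOfModules.restrictScalars φ).obj P
  obtain ⟨V, hV, s, rfl⟩ := Po.presheaf.exists_germ_eq m
  let W := U ⊓ V
  have hW : x ∈ W := ⟨hU, hV⟩
  rw [← TopCat.Presheaf.germ_res_apply X.presheaf (homOfLE inf_le_left : W ⟶ U) x hW t]
  erw [← TopCat.Presheaf.germ_res_apply Po.presheaf (homOfLE inf_le_right : W ⟶ V) x hW s]
  rw [← H17.AssPts.germ_smul' Po hW]
  show _ = phiSt φ x _ • _
  erw [phiSt_germ, ← PresheafOfModules.germ_ringCat_smul P.val x W hW]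
  rfl

/-- A semilinear map of stalks gives a morphism into a restricted skyscraper. -/
noncomputable def homO {M : X.Modules} {x : X} {N : Type u} [AddCommGroup N] [Module (St A x) N]
    (ψ : M.presheaf.stalk x →+ N) (hψ : ∀ r m, ψ (r • m) = phiHom φ x r • ψ m) :
    M ⟶ (SheafOfModules.restrictScalars φ).obj (skyA (A := A) x N) :=
  ⟨PresheafOfModules.homMk
    { app := fun U => AddCommGrpCat.ofHom
        { toFun := fun a (h : ULift.{u} (PLift (x ∈ U.unop))) => ψ (M.presheaf.germ U.unop x h.down.down a)
          map_zero' := funext fun h => by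
            show ψ (M.presheaf.germ U.unop x h.down.down 0) = 0
            rw [map_zero, map_zero]
          map_add' := fun a b => funext fun h =>
            (congrArg ψ (map_add (M.presheaf.germ U.unop x h.down.down).hom
              (show Γ(M, U.unop) from a) b)).trans (map_add ψ _ _) }
      naturality := fun U V i => by
        ext a
        funext h
        exact congrArg ψ (M.presheaf.germ_res_apply' i x h.down.down a) }
    fun U r a => funext fun h => by
      show ψ (M.presheaf.germ U.unop x h.down.down ((show Γ(X, U.unop) from r) • (show Γ(M, U.unop) from a))) =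
        gA U.unop x h.down.down ((φ.hom.app U).hom r) • ψ (M.presheaf.germ U.unop x h.down.down a)
      rw [H17.AssPts.germ_smul' M, hψ]
      show phiSt φ x _ • _ = _
      erw [phiSt_germ]⟩

section Adj

variable {φ} {L : SheafOfModules.{u} X.ringCatSheaf ⥤ SheafOfModules.{u} A}
  (adj : L ⊣ SheafOfModules.restrictScalars φ)

/-- The stalk of the unit. -/
noncomputable def etaSt (M : X.Modules) (x : X) : M.presheaf.stalk x → MSt (L.obj M) x :=
  fun m => RefHull.stalkMapₗ (G := id (α := X.Modules) ((SheafOfModules.restrictScalars φ).obj (L.obj M)))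
    (adj.unit.app M) x m

theorem etaSt_germ (M : X.Modules) (x : X) (U : X.Opens) (hU : x ∈ U) (a : Γ(M, U)) :
    etaSt adj M x (M.presheaf.germ U x hU a) = gM (L.obj M) U x hU (((adj.unit.app M).val.app (op U)).hom a) :=
  RefHull.stalkMapₗ_germ (G := id (α := X.Modules) ((SheafOfModules.restrictScalars φ).obj (L.obj M)))
    (adj.unit.app M) x hU a

theorem etaSt_add (M : X.Modules) (x : X) (a b : M.presheaf.stalk x) :
    etaSt adj M x (a + b) = etaSt adj M x a + etaSt adj M x b :=
  map_add (RefHull.stalkMapₗ (G := id (α := X.Modules) ((SheafOfModules.restrictScalars φ).obj (L.obj M)))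
    (adj.unit.app M) x) a b

theorem etaSt_smul (M : X.Modules) (x : X) (r : X.presheaf.stalk x) (a : M.presheaf.stalk x) :
    etaSt adj M x (r • a) = phiHom φ x r • etaSt adj M x a :=
  (map_smul (RefHull.stalkMapₗ (G := id (α := X.Modules) ((SheafOfModules.restrictScalars φ).obj (L.obj M)))
    (adj.unit.app M) x) r a).trans (smul_res φ (L.obj M) x r _)

variable {x : X} {N : Type u} [AddCommGroup N] [Module (St A x) N]

theorem ext_of_unit {M : X.Modules} (θ θ' : MSt (L.obj M) x →ₗ[St A x] N)
    (h : ∀ m, θ (etaSt adj M x m) = θ' (etaSt adj M x m)) : θ = θ' := by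
  rw [← stalkA_homA θ, ← stalkA_homA θ']
  refine congrArg stalkA ((adj.homEquiv _ _).injective ?_)
  rw [adj.homEquiv_unit, adj.homEquiv_unit]
  refine SheafOfModules.Hom.ext (PresheafOfModules.hom_ext fun U => ?_)
  ext a
  funext hx
  show θ (gM (L.obj M) U.unop x hx.down.down _) = θ' (gM (L.obj M) U.unop x hx.down.down _)
  have := h (M.presheaf.germ U.unop x hx.down.down a)
  rwa [etaSt_germ] at this

theorem exists_of_semilinear {M : X.Modules} (ψ : M.presheaf.stalk x →+ N)
    (hψ : ∀ r m, ψ (r • m) = phiHom φ x r • ψ m) :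
    ∃ θ : MSt (L.obj M) x →ₗ[St A x] N, ∀ m, θ (etaSt adj M x m) = ψ m := by
  refine ⟨stalkA ((adj.homEquiv M (skyA (A := A) x N)).symm (homO φ ψ hψ)), fun m => ?_⟩
  obtain ⟨U, hU, a, rfl⟩ := M.presheaf.exists_germ_eq m
  rw [etaSt_germ, stalkA_germ]
  have e := (adj.homEquiv M (skyA (A := A) x N)).apply_symm_apply (homO φ ψ hψ)
  rw [adj.homEquiv_unit] at e
  exact congrFun (congrArg (fun F : M ⟶ (SheafOfModules.restrictScalars φ).obj (skyA (A := A) x N) =>
    ((F.val.app (op U)).hom a : ULift.{u} (PLift (x ∈ U)) → N)) e) ⟨⟨hU⟩⟩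

include adj in
/-- Extension of scalars along a flat algebra is injective on stalks along injective maps. -/
theorem injective_stalk_map (hcen : ∀ (U : (Opens X)ᵒᵖ) (s : X.ringCatSheaf.obj.obj U) (a : A.obj.obj U),
      φ.hom.app U s * a = a * φ.hom.app U s)
    (hA : FlatMod.IsFlat (X := X) ((SheafOfModules.restrictScalars φ).obj (SheafOfModules.unit A)))
    {M M' : X.Modules} (f : M ⟶ M') (hf : Function.Injective (RefHull.stalkMapₗ f x)) :
    Function.Injective (S15075.stalkLin (X := X.carrier) (L.map f).val x) := by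
  classical
  let R := X.presheaf.stalk x
  letI algS : Algebra R (St A x) := (phiHom φ x).toAlgebra' fun r c => phiHom_comm φ hcen x r c
  let Uo : X.Modules := (SheafOfModules.restrictScalars φ).obj (SheafOfModules.unit A)
  let e : St A x ≃ₗ[R] Uo.presheaf.stalk x :=
    { toFun := fun c => unitEquiv A x c
      map_add' := map_add (unitEquiv A x)
      map_smul' := fun r c => (map_smul (unitEquiv A x) (phiHom φ x r) c).trans
        (smul_res φ (SheafOfModules.unit A) x r _).symm
      invFun := fun z => (unitEquiv A x).symm z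
      left_inv := (unitEquiv A x).symm_apply_apply
      right_inv := (unitEquiv A x).apply_symm_apply }
  haveI : Module.Flat R (Uo.presheaf.stalk x) := hA x
  haveI : Module.Flat R (St A x) := Module.Flat.of_linearEquiv e
  have hsmul : ∀ (r : R) (m : M.presheaf.stalk x),
      phiHom φ x r • ((1 : St A x) ⊗ₜ[R] m) = (1 : St A x) ⊗ₜ[R] (r • m) := fun r m => by
    rw [TensorProduct.smul_tmul', ← TensorProduct.smul_tmul]
    congr 1
  have hsmul' : ∀ (r : R) (m : M'.presheaf.stalk x),
      phiHom φ x r • ((1 : St A x) ⊗ₜ[R] m) = (1 : St A x) ⊗ₜ[R] (r • m) := fun r m => by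
    rw [TensorProduct.smul_tmul', ← TensorProduct.smul_tmul]
    congr 1
  obtain ⟨θ, hθ⟩ := exists_of_semilinear adj (x := x) (N := St A x ⊗[R] M.presheaf.stalk x)
    { toFun := fun m => (1 : St A x) ⊗ₜ[R] m
      map_zero' := TensorProduct.tmul_zero _ _
      map_add' := fun a b => TensorProduct.tmul_add _ _ _ } fun r m => (hsmul r m).symm
  obtain ⟨θ', hθ'⟩ := exists_of_semilinear adj (x := x) (N := St A x ⊗[R] M'.presheaf.stalk x)
    { toFun := fun m => (1 : St A x) ⊗ₜ[R] m
      map_zero' := TensorProduct.tmul_zero _ _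
      map_add' := fun a b => TensorProduct.tmul_add _ _ _ } fun r m => (hsmul' r m).symm
  -- `θ` is injective
  let g : St A x →+ (M.presheaf.stalk x →+ MSt (L.obj M) x) :=
    { toFun := fun c =>
        { toFun := fun m => c • etaSt adj M x m
          map_zero' := by
            have := etaSt_smul adj M x 0 0
            rw [zero_smul, map_zero, zero_smul] at this
            rw [this, smul_zero]
          map_add' := fun a b => by rw [etaSt_add, smul_add] }
      map_zero' := AddMonoidHom.ext fun m => zero_smul _ _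
      map_add' := fun a b => AddMonoidHom.ext fun m => add_smul _ _ _ }
  let ψ : St A x ⊗[R] M.presheaf.stalk x →+ MSt (L.obj M) x := TensorProduct.liftAddHom g fun r c m => by
    show (phiHom φ x r * c) • etaSt adj M x m = c • etaSt adj M x (r • m)
    rw [etaSt_smul, smul_smul, phiHom_comm φ hcen]
  let ψl : St A x ⊗[R] M.presheaf.stalk x →ₗ[St A x] MSt (L.obj M) x :=
    { toFun := ψ
      map_add' := map_add ψ
      map_smul' := fun c z => by
        rw [RingHom.id_apply]
        induction z using TensorProduct.induction_on with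
        | zero => rw [smul_zero, map_zero, smul_zero]
        | tmul a m =>
          rw [TensorProduct.smul_tmul']
          exact SemigroupAction.mul_smul (α := St A x) (β := MSt (L.obj M) x) c a (etaSt adj M x m)
        | add a b ha hb => rw [smul_add, map_add, map_add, smul_add, ha, hb] }
  have hθinj : Function.Injective θ := by
    have hid : ψl.comp θ = LinearMap.id := ext_of_unit adj _ _ fun m => by
      show ψ (θ (etaSt adj M x m)) = etaSt adj M x m
      rw [hθ]
      exact one_smul (St A x) (etaSt adj M x m)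
    exact Function.LeftInverse.injective (g := ψl) fun z => LinearMap.congr_fun hid z
  let F : St A x ⊗[R] M.presheaf.stalk x →ₗ[St A x] St A x ⊗[R] M'.presheaf.stalk x :=
    { toFun := (RefHull.stalkMapₗ f x).lTensor (St A x)
      map_add' := map_add _
      map_smul' := fun c z => by
        rw [RingHom.id_apply]
        induction z using TensorProduct.induction_on with
        | zero => rw [smul_zero, map_zero, smul_zero]
        | tmul a m => rfl
        | add a b ha hb => rw [smul_add, map_add, map_add, smul_add, ha, hb] }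
  have hF : Function.Injective F := Module.Flat.lTensor_preserves_injective_linearMap _ hf
  have key : θ'.comp (S15075.stalkLin (X := X.carrier) (L.map f).val x) = F.comp θ := ext_of_unit adj _ _ fun m => by
    show θ' _ = F (θ (etaSt adj M x m))
    rw [hθ]
    show θ' _ = (1 : St A x) ⊗ₜ[R] (RefHull.stalkMapₗ f x m)
    refine Eq.trans (congrArg θ' ?_) (hθ' (RefHull.stalkMapₗ f x m))
    obtain ⟨U, hU, a, rfl⟩ := M.presheaf.exists_germ_eq m
    rw [etaSt_germ, RefHull.stalkMapₗ_germ, etaSt_germ]
    show (TopCat.Presheaf.stalkFunctor Ab.{u} x).map ((PresheafOfModules.toPresheaf A.obj).map (L.map f).val)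
      (TopCat.Presheaf.germ (C := Ab.{u}) (X := X.carrier) (L.obj M).val.presheaf U x hU _) = _
    erw [TopCat.Presheaf.stalkFunctor_map_germ_apply]
    refine congrArg (gM (L.obj M') U x hU) ?_
    exact (congrArg (fun F : M ⟶ (SheafOfModules.restrictScalars φ).obj (L.obj M') => (F.val.app (op U)).hom a)
      (adj.unit.naturality f)).symm
  intro a b hab
  apply hθinj
  apply hF
  have ha := LinearMap.congr_fun key a
  have hb := LinearMap.congr_fun key b
  exact ha.symm.trans ((congrArg θ' hab).trans hb)

include adj in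
/-- Extension of scalars along a finite locally free algebra preserves monomorphisms. -/
theorem mono_map (hcen : ∀ (U : (Opens X)ᵒᵖ) (s : X.ringCatSheaf.obj.obj U) (a : A.obj.obj U),
      φ.hom.app U s * a = a * φ.hom.app U s)
    (hA : FlatMod.IsFinLocFree (X := X) ((SheafOfModules.restrictScalars φ).obj (SheafOfModules.unit A))) :
    L.PreservesMonomorphisms := ⟨fun {M M'} f hf => by
  haveI : Mono (id (α := (id (α := X.Modules) M ⟶ id (α := X.Modules) M')) f) := hf
  refine S15075.mono_of_injective (L.map f) fun ⟨U⟩ a b e => ?_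
  refine TopCat.Presheaf.section_ext (C := Ab.{u}) (X := X.carrier) ⟨(L.obj M).val.presheaf, (L.obj M).isSheaf⟩ U a b
    fun y hy => ?_
  apply injective_stalk_map adj (x := y) hcen (H16Derived.KFlat.Stalk.isFlat_of_isFinLocFree hA)
    (id (α := (id (α := X.Modules) M ⟶ id (α := X.Modules) M')) f)
    (TopCat.Presheaf.stalkFunctor_map_injective_of_app_injective
      (f := (id (α := (id (α := X.Modules) M ⟶ id (α := X.Modules) M')) f).mapPresheaf)
      (fun U => Groth.Agent.H10Coh.injective_app_of_mono' (id (α := (id (α := X.Modules) M ⟶ id (α := X.Modules) M')) f) U) y)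
  show (TopCat.Presheaf.stalkFunctor Ab.{u} y).map _ _ = (TopCat.Presheaf.stalkFunctor Ab.{u} y).map _ _
  erw [TopCat.Presheaf.stalkFunctor_map_germ_apply, TopCat.Presheaf.stalkFunctor_map_germ_apply]
  exact congrArg _ e⟩

end Adj

end Groth.Agent.H3CAlg.AlgSky
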