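import Groth.Agent.H3CAlg.TopVanishComplete
import Groth.Agent.H4LC.Hiso
import Groth.Agent.H4LC.GorQuotient

/-!
# An ideal killing higher local cohomology over a complete local ring
-/

set_option autoImplicit false
set_option linter.style.haveILetI false
set_option linter.unusedVariables false

universe u

open IsLocalRing Groth.Agent.H4LC

namespace Groth.Agent.H3CAlg

variable {A : Type u} [CommRing A] [IsLocalRing A] [IsNoetherianRing A] (I : Ideal A)

/-- `V(q)` meets `V(I)` outside the closed point. -/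
def NT (q : PrimeSpectrum A) : Prop :=
  ∃ r : PrimeSpectrum A, q ≤ r ∧ I ≤ r.asIdeal ∧ r.asIdeal ≠ maximalIdeal A

theorem exists_kill_higher_H [IsAdicComplete I A] (d : ℕ) (hcd : LocCoh.CdLE A I d) (F : Type u) [AddCommGroup F]
    [Module A F] [Module.Finite A F] :
    ∃ J : Ideal A, (∀ q : PrimeSpectrum A, J ≤ q.asIdeal → I ≤ q.asIdeal → q.asIdeal = maximalIdeal A) ∧
      ∀ a : ℕ, 0 < a → (∀ q ∈ Module.support A F, ¬ I ≤ q.asIdeal → NT I q →
        ringKrullDim (A ⧸ q.asIdeal) ≤ (a : WithBot ℕ∞) ∨ d < a) →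
        ∀ c ∈ J, ∀ x : LocCoh.H I a F, c • x = 0 := by
  let annE : F → Ideal A := fun m => LinearMap.ker (LinearMap.toSpanSingleton A F m)
  have hann : ∀ (m : F) (a : A), a ∈ annE m ↔ a • m = 0 := fun m a => by simp [annE]
  let G : Submodule A F :=
    { carrier := {m | ∀ q : PrimeSpectrum A, annE m ≤ q.asIdeal → I ≤ q.asIdeal ∨ ¬ NT I q}
      zero_mem' := fun q hq => absurd (hq ((hann 0 1).mpr (one_smul A (0 : F))))
        ((Ideal.ne_top_iff_one _).mp q.2.ne_top)
      add_mem' := by
        intro a b ha hb q hq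
        have h : annE a ⊓ annE b ≤ q.asIdeal := fun r hr => hq ((hann _ r).mpr (by
          rw [smul_add, (hann a r).mp hr.1, (hann b r).mp hr.2, add_zero]))
        rcases q.2.inf_le.mp h with h | h
        · exact ha q h
        · exact hb q h
      smul_mem' := by
        intro c m hm q hq
        exact hm q fun r hr => hq ((hann _ r).mpr (by rw [smul_comm, (hann m r).mp hr, smul_zero])) }
  have hT : ∀ p q : PrimeSpectrum A, p ≤ q → I ≤ p.asIdeal ∨ ¬ NT I p → I ≤ q.asIdeal ∨ ¬ NT I q := fun p q hpq h =>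
    h.elim (fun h => Or.inl (h.trans hpq)) fun h => Or.inr fun ⟨r, h1, h2, h3⟩ => h ⟨r, hpq.trans h1, h2, h3⟩
  let Γ : Submodule A G := DRing.torsionSub I G
  refine ⟨Module.annihilator A (G ⧸ Γ), fun q hJ hIq => ?_, fun a ha hF c hc x => ?_⟩
  · by_contra hqm
    obtain ⟨P, hP, hPq⟩ := Ideal.exists_minimalPrimes_le hJ
    haveI : P.IsPrime := hP.1.1
    have hass := Module.associatedPrimes.minimalPrimes_annihilator_subset_associatedPrimes A _ hP
    obtain ⟨-, x, hx⟩ := isAssociatedPrime_iff.1 hass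
    obtain ⟨y, rfl⟩ := Submodule.Quotient.mk_surjective _ x
    have hPy : ∀ t, t ∈ P ↔ t • y ∈ Γ := fun t => by
      rw [hx, Submodule.mem_colon_singleton, Submodule.mem_bot, ← Submodule.Quotient.mk_smul,
        Submodule.Quotient.mk_eq_zero]
    have hyann : annE (y : F) ≤ P := fun t ht => (hPy t).2 (by
      rw [show t • y = 0 from Subtype.ext ((hann (y : F) t).1 ht)]; exact Γ.zero_mem)
    rcases y.2 ⟨P, ‹_›⟩ hyann with hIP | hNT
    · refine ‹P.IsPrime›.ne_top ((Ideal.eq_top_iff_one _).2 ((hPy 1).2 ?_))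
      rw [one_smul]
      -- `y` is `I`-torsion
      obtain ⟨s, hs⟩ := IsNoetherian.noetherian I
      have hk : ∀ t ∈ s, ∃ k, ∀ b ∈ I ^ k, b • (t • y) = 0 := fun t ht =>
        (hPy t).1 (hIP (hs ▸ Ideal.subset_span ht))
      choose k hk using hk
      let K := s.attach.sup fun t => k t.1 t.2
      refine ⟨K + 1, fun b hb => ?_⟩
      rw [pow_succ] at hb
      refine Submodule.mul_induction_on hb (fun u hu v hv => ?_) fun u v hu hv => by rw [add_smul, hu, hv, add_zero]
      rw [← hs] at hv
      revert u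
      induction hv using Submodule.span_induction with
      | mem t ht =>
        intro u hu
        rw [mul_smul]
        exact hk t ht u (Ideal.pow_le_pow_right (Finset.le_sup (f := fun t => k t.1 t.2) (Finset.mem_attach s ⟨t, ht⟩)) hu)
      | zero => intro u _; rw [mul_zero, zero_smul]
      | add z w _ _ hz hw => intro u hu; rw [mul_add, add_smul, hz u hu, hw u hu, add_zero]
      | smul r z _ hz => intro u hu; rw [smul_eq_mul, ← mul_assoc]; exact hz _ (Ideal.mul_mem_right r _ hu)
    · exact hNT ⟨q, hPq, hIq, hqm⟩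
  · have hfq : Subsingleton (LocCoh.H I a (F ⧸ G)) := by
      by_cases hda : d < a
      · exact hcd _ a hda
      have hsupp : ∀ q ∈ Module.support A (F ⧸ G), ∃ P : PrimeSpectrum A, P ≤ q ∧ NT I P ∧
          ringKrullDim (A ⧸ P.asIdeal) ≤ (a : WithBot ℕ∞) := by
        intro q hq
        rw [Module.support_eq_zeroLocus] at hq
        obtain ⟨P, hP, hPq⟩ := Ideal.exists_minimalPrimes_le (show Module.annihilator A (F ⧸ G) ≤ q.asIdeal from hq)
        haveI : P.IsPrime := hP.1.1
        have hass := Module.associatedPrimes.minimalPrimes_annihilator_subset_associatedPrimes A _ hP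
        obtain ⟨-, x, hx⟩ := isAssociatedPrime_iff.1 hass
        obtain ⟨y, rfl⟩ := Submodule.Quotient.mk_surjective _ x
        have hPy : ∀ t, t ∈ P ↔ t • y ∈ G := fun t => by
          rw [hx, Submodule.mem_colon_singleton, Submodule.mem_bot, ← Submodule.Quotient.mk_smul,
            Submodule.Quotient.mk_eq_zero]
        have hgood : ¬ (I ≤ P ∨ ¬ NT I ⟨P, ‹_›⟩) := fun hbad => by
          refine ‹P.IsPrime›.ne_top ((Ideal.eq_top_iff_one _).2 ((hPy 1).2 ?_))
          rw [one_smul]
          intro r hr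
          by_contra hrT
          obtain ⟨b, hbP, hbr⟩ := Set.not_subset.mp fun h => hrT (hT ⟨P, ‹_›⟩ r h hbad)
          obtain ⟨t, ht, htr⟩ := Set.not_subset.mp fun h => hrT ((hPy b).1 hbP r h)
          exact (r.2.mul_notMem htr hbr) (hr ((hann y _).mpr (by rw [mul_smul]; exact (hann _ t).mp ht)))
        push Not at hgood
        refine ⟨⟨P, ‹_›⟩, hPq, hgood.2, (hF ⟨P, ‹_›⟩ ?_ hgood.1 hgood.2).resolve_right hda⟩
        refine Module.mem_support_iff'.2 ⟨y, fun t ht hty => ht ((hPy t).2 ?_)⟩
        rw [hty]; exact G.zero_mem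
      refine subsingleton_H_of_top I a _ (fun q hq => ?_) fun q hq heq => ?_
      · obtain ⟨P, hPq, -, hdim⟩ := hsupp q hq
        exact (ringKrullDim_le_of_surjective _ (Ideal.Quotient.factor_surjective hPq)).trans hdim
      · obtain ⟨P, hPq, hNT, hdim⟩ := hsupp q hq
        rcases hPq.eq_or_lt with rfl | hlt
        · exact hNT
        · exfalso
          have h1 := H4LC.ringKrullDim_quotient_succ_le_of_lt (q := P.asIdeal) (Q := q.asIdeal) hlt
          rw [heq] at h1
          have h2 : ((a : WithBot ℕ∞) + 1) ≤ (a : WithBot ℕ∞) := h1.trans hdim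
          have h3 : ((a + 1 : ℕ) : WithBot ℕ∞) ≤ ((a : ℕ) : WithBot ℕ∞) := by exact_mod_cast h2
          exact absurd (Nat.cast_le.1 h3) (by omega)
    obtain ⟨y, rfl⟩ := (exactH₂ I G.injective_subtype G.mkQ_surjective (LinearMap.exact_subtype_mkQ G) a x).1
      (@Subsingleton.elim _ hfq _ _)
    rw [← map_smul, show c • y = 0 from ?_, map_zero]
    have hb := Hmap_bijective_of_surjective I Γ.mkQ Γ.mkQ_surjective (Submodule.ker_mkQ Γ).le ha
    refine hb.1 ?_
    rw [map_smul, map_zero, ← Hmap_smul_id, show c • (LinearMap.id : G ⧸ Γ →ₗ[A] G ⧸ Γ) = (0 : A) • LinearMap.id from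
      LinearMap.ext fun z => (Module.mem_annihilator.1 hc z).trans (zero_smul A z).symm, Hmap_smul_id, zero_smul]

end Groth.Agent.H3CAlg
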