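import Groth.Agent.H3CAlg.CompletionAmp

/-!
# Completions with torsion cohomology
-/

set_option autoImplicit false
set_option linter.style.haveILetI false
set_option linter.unusedVariables false

universe u v

open CategoryTheory CategoryTheory.Limits Pretriangulated
open Groth.Agent.H4DR

attribute [local instance] HasDerivedCategory.standard

namespace Groth.Agent.H3CAlg

variable {A : Type u} [CommRing A] [IsNoetherianRing A]

/-- Torsion modules are closed under extensions. -/
theorem isPowerTorsion_mid (K : Ideal A) {X : Type v} {Y : Type v} {Z : Type v} [AddCommGroup X] [Module A X]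
    [AddCommGroup Y] [Module A Y] [AddCommGroup Z] [Module A Z] {f : X →ₗ[A] Y} {g : Y →ₗ[A] Z}
    (hfg : Function.Exact f g) (hX : LocCoh.IsPowerTorsion K X) (hZ : LocCoh.IsPowerTorsion K Z) :
    LocCoh.IsPowerTorsion K Y := fun y => by
  classical
  obtain ⟨n, hn⟩ := hZ (g y)
  obtain ⟨s, hs⟩ := IsNoetherian.noetherian (K ^ n)
  choose k hk using hX
  have hpre : ∀ b ∈ K ^ n, ∃ x, f x = b • y := fun b hb => (hfg _).1 (by rw [map_smul]; exact hn b hb)
  choose! pre hpre using hpre
  let m := s.sup fun b => k (pre b)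
  have hb : ∀ b ∈ K ^ n, ∀ c ∈ K ^ m, c • b • y = 0 := by
    intro b hb
    rw [← hs] at hb
    induction hb using Submodule.span_induction with
    | mem b hbs =>
      intro c hc
      rw [← hpre b (hs ▸ Submodule.subset_span hbs), ← map_smul,
        hk (pre b) c (Ideal.pow_le_pow_right (Finset.le_sup (f := fun b => k (pre b)) hbs) hc), map_zero]
    | zero => intro c _; rw [zero_smul, smul_zero]
    | add a b _ _ ha hb => intro c hc; rw [add_smul, smul_add, ha c hc, hb c hc, add_zero]
    | smul r b _ hb =>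
      intro c hc
      rw [smul_eq_mul, mul_smul, smul_comm, hb c hc, smul_zero]
  refine ⟨m + n, fun a ha => ?_⟩
  rw [pow_add] at ha
  refine Submodule.mul_induction_on ha (fun c hc b hb' => ?_) fun u v hu hv => by rw [add_smul, hu, hv, add_zero]
  rw [mul_smul]
  exact hb b hb' c hc

variable (I : Ideal A) [DRing.HasDerivedCompletion I]

/-- Completion commutes with shifts. -/
theorem nonempty_completion_shift (W : Dual.D A) (k : ℤ) :
    Nonempty (((DRing.derivedCompletion I).obj (W⟦k⟧)).obj ≅ ((DRing.derivedCompletion I).obj W).obj⟦k⟧) := by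
  have h := DComplete.isCompletion_unit (I := I) W
  have hk : DComplete.IsCompletion I (CategoryTheory.Functor.map (shiftFunctor (Dual.D A) k) (DRing.toDerivedCompletion I W)) := by
    refine ⟨DComplete.isDerivedComplete_shift h.complete k, fun E hE => ?_⟩
    let e : (E⟦-k⟧)⟦k⟧ ≅ E := (shiftFunctorCompIsoId (Dual.D A) (-k) k (by omega)).app E
    have hb := h.bij _ (DComplete.isDerivedComplete_shift hE (-k))
    let F := shiftFunctor (Dual.D A) k
    refine ⟨fun φ φ' hφ => ?_, fun v => ?_⟩
    · obtain ⟨a, ha⟩ := F.map_surjective (φ ≫ e.inv)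
      obtain ⟨a', ha'⟩ := F.map_surjective (φ' ≫ e.inv)
      have : DRing.toDerivedCompletion I W ≫ a = DRing.toDerivedCompletion I W ≫ a' := F.map_injective (by
        rw [Functor.map_comp, Functor.map_comp, ha, ha', ← Category.assoc, ← Category.assoc]
        exact congrArg (· ≫ e.inv) hφ)
      rw [← cancel_mono e.inv, ← ha, ← ha', hb.1 this]
    · obtain ⟨a, ha⟩ := F.map_surjective (v ≫ e.inv)
      obtain ⟨b, hb'⟩ := hb.2 a
      refine ⟨F.map b ≫ e.hom, ?_⟩
      show F.map _ ≫ F.map b ≫ e.hom = v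
      rw [← Category.assoc, ← Functor.map_comp, show DRing.toDerivedCompletion I W ≫ b = a from hb', ha,
        Category.assoc, Iso.inv_hom_id, Category.comp_id]
  obtain ⟨e, -⟩ := (DComplete.isCompletion_unit (I := I) (W⟦k⟧)).exists_iso hk
  exact ⟨e⟩

/-- The completion has torsion cohomology up to degree `c`. -/
def CompTor (K : Ideal A) (c : ℤ) (W : Dual.D A) : Prop :=
  ∀ i : ℤ, i ≤ c → LocCoh.IsPowerTorsion K (Dual.HD A ((DRing.derivedCompletion I).obj W).obj i)

variable {I}

theorem CompTor.of_iso {K : Ideal A} {c : ℤ} {W W' : Dual.D A} (e : W ≅ W') (h : CompTor I K c W) :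
    CompTor I K c W' := fun i hi x => by
  let L := PCoh.hEquiv i ((ObjectProperty.ι _).mapIso ((DRing.derivedCompletion I).mapIso e.symm))
  obtain ⟨n, hn⟩ := h i hi (L x)
  exact ⟨n, fun a ha => L.injective (by rw [map_smul, map_zero]; exact hn a ha)⟩

theorem CompTor.ext {K : Ideal A} {c : ℤ} (T : Triangle (Dual.D A)) (hT : T ∈ distTriang (Dual.D A))
    (h1 : CompTor I K c T.obj₁) (h3 : CompTor I K c T.obj₃) : CompTor I K c T.obj₂ := by
  obtain ⟨C, Z, p, q, p', q', z, hC, hZ, hz⟩ := DComplete.exists_cone_completion (I := I) T.mor₁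
  let eC : T.obj₃ ≅ C := Triangle.π₃.mapIso
    (isoTriangleOfIso₁₂ T (Triangle.mk T.mor₁ p q) hT hC (Iso.refl _) (Iso.refl _) ((Category.comp_id _).trans (Category.id_comp _).symm))
  obtain ⟨eZ, -⟩ := (DComplete.isCompletion_unit (I := I) C).exists_iso hz
  intro i hi
  refine isPowerTorsion_mid K (PCoh.ex₂ _ hZ i) (h1 i hi) fun x => ?_
  obtain ⟨n, hn⟩ := (CompTor.of_iso eC h3) i hi ((PCoh.hEquiv i eZ).symm x)
  exact ⟨n, fun a ha => (PCoh.hEquiv i eZ).symm.injective (((PCoh.hEquiv i eZ).symm.map_smul a x).trans ((hn a ha).trans (PCoh.hEquiv i eZ).symm.map_zero.symm))⟩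

theorem compTor_of_high [DRing.HasRgammaI I] {d : ℕ} (hcd : LocCoh.CdLE A I d) {K : Ideal A} {c a : ℤ}
    (hca : c + d < a) {W : Dual.D A} (hW : ∀ j, j < a → Subsingleton (Dual.HD A W j)) : CompTor I K c W :=
  fun i hi x => by
    haveI := subsingleton_HD_completion_of_cdLE I hcd (DComplete.isCompletion_unit W) hW i (by omega)
    exact ⟨0, fun _ _ => Subsingleton.elim _ _⟩

/-- Dévissage along the cohomology modules. -/
theorem compTor_of_modules [DRing.HasRgammaI I] {d : ℕ} (hcd : LocCoh.CdLE A I d) {K : Ideal A} {c : ℤ} :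
    ∀ (n : ℕ) (a : ℤ) (W : Dual.D A), c + d < a + n → (∀ j, j < a → Subsingleton (Dual.HD A W j)) →
      (∀ (j : ℤ), a ≤ j → j < a + n → ∀ i : ℤ, i ≤ c →
        LocCoh.IsPowerTorsion K (Dual.HD A ((DRing.derivedCompletion I).obj (Dual.inD A (Dual.HD A W j))).obj (i - j))) →
      CompTor I K c W := by
  intro n
  induction n with
  | zero => exact fun a W hca hW _ => compTor_of_high hcd (by omega) hW
  | succ n ih =>
    intro a W hca hW hm
    obtain ⟨Δ, hΔ, rfl, h1, h3, hb1, hb2⟩ := Ext.exists_trunc W (a + 1)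
    refine CompTor.ext Δ hΔ ?_ (ih (a + 1) Δ.obj₃ (by omega) h3 fun j hj hj' i hi x => ?_)
    · obtain ⟨e⟩ := Dualizing.nonempty_iso_single a (X := Δ.obj₁) (fun j hj => by
        rcases lt_or_gt_of_ne hj with h | h
        · haveI := hW j h
          exact (hb1 j (by omega)).1.subsingleton
        · exact h1 j (by omega)) (LinearEquiv.ofBijective (PCoh.hm a Δ.mor₁) (hb1 a (by omega)))
      refine CompTor.of_iso e.symm fun i hi x => ?_
      obtain ⟨eS⟩ := nonempty_completion_shift I (Dual.inD A (Dual.HD A Δ.obj₂ a)) (-a)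
      let L := (PCoh.hEquiv i eS).trans (PCoh.hShift _ (-a) i (i - a) (by omega))
      obtain ⟨k, hk⟩ := hm a le_rfl (by omega) i hi (L x)
      exact ⟨k, fun b hb => L.injective (by rw [map_smul, map_zero]; exact hk b hb)⟩
    · let e : Dual.inD A (Dual.HD A Δ.obj₂ j) ≅ Dual.inD A (Dual.HD A Δ.obj₃ j) :=
        (DerivedCategory.singleFunctor (ModuleCat.{u} A) 0).mapIso
          (LinearEquiv.ofBijective (PCoh.hm j Δ.mor₂) (hb2 j (by omega))).toModuleIso
      let L := PCoh.hEquiv (i - j) ((ObjectProperty.ι _).mapIso ((DRing.derivedCompletion I).mapIso e.symm))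
      obtain ⟨k, hk⟩ := hm j (by omega) (by omega) i hi (L x)
      exact ⟨k, fun b hb => L.injective (by rw [map_smul, map_zero]; exact hk b hb)⟩

end Groth.Agent.H3CAlg
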