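import Groth.Agent.H3CAlg.DualCompletion
import Groth.Agent.H3CAlg.AlgebraizeJ0
import Groth.Agent.H3CAlg.TorsionCompletion
import Groth.Agent.H4DR.LD.Applications
import Groth.Agent.H4DR.HT.FaltingsModule
import Groth.Agent.H4DR.DComplete.Series
import Groth.Agent.H4Inj.Essential

/-!
# Algebraizing local cohomology over a complete local ring
-/

set_option autoImplicit false
set_option linter.style.haveILetI false
set_option linter.unusedVariables false

universe u

open CategoryTheory CategoryTheory.Limits Pretriangulated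
open Groth.Agent.H4DR
open Groth.Agent.H4DR.Ext (Ex)
open Groth.Agent.H4DR.Dualizing (Loc loc deg)

attribute [local instance] HasDerivedCategory.standard

namespace Groth.Agent.H3CAlg

variable {A : Type u} [CommRing A] [IsNoetherianRing A]

/-- The unit to the completion is bijective in low degrees when the completion has torsion cohomology there. -/
theorem bijective_hm_completion_of_torsion (I J : Ideal A) [IsAdicComplete I A] [DRing.HasRgammaI J]
    [DRing.HasDerivedCompletion I] (M : Type u) [AddCommGroup M] [Module A M] [Module.Finite A M] (c : ℤ)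
    (hX : ∀ i : ℤ, i ≤ c → LocCoh.IsPowerTorsion J
      (Dual.HD A ((DRing.derivedCompletion I).obj ((DRing.RgammaI J).obj (Dual.inD A M))).obj i))
    (i : ℤ) (hi : i ≤ c) :
    Function.Bijective (PCoh.hm i (DRing.toDerivedCompletion I ((DRing.RgammaI J).obj (Dual.inD A M)))) := by
  haveI : DRing.HasRgammaI I := RG.hasRgammaI I
  haveI : DRing.HasRgammaI (J ⊔ I) := RG.hasRgammaI (J ⊔ I)
  let W := (DRing.RgammaI J).obj (Dual.inD A M)
  let X := ((DRing.derivedCompletion I).obj W).obj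
  let η : W ⟶ X := DRing.toDerivedCompletion I W
  let εM : W ⟶ Dual.inD A M := (DRing.RgammaIε J).app (Dual.inD A M)
  have hη : DComplete.IsCompletion I η := DComplete.isCompletion_unit W
  haveI : IsAdicComplete I M := H24Adic.isAdicComplete_of_finite I
  have hMc : DRing.IsDerivedComplete I (Dual.inD A M) :=
    (DComplete.isDerivedComplete_inD_iff I M).2 fun f hf => DComplete.bij_of_isAdicComplete I hf
  obtain ⟨f, hf⟩ := (hη.bij _ hMc).2 εM
  replace hf : η ≫ f = εM := hf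
  obtain ⟨C, p, q, hT⟩ := distinguished_cocone_triangle η
  have hC : RG.Orth I C := fun E hE y => by
    have h0 : p ≫ y = 0 := (hη.bij E hE).1 (by
      show η ≫ p ≫ y = η ≫ 0
      rw [comp_zero, ← Category.assoc]
      exact (congrArg (· ≫ y) (comp_distTriang_mor_zero₁₂ _ hT)).trans zero_comp)
    obtain ⟨z, hz⟩ := Triangle.yoneda_exact₃ _ hT y h0
    obtain ⟨z', rfl⟩ := (hη.bij_shift hE).2 z
    refine hz.trans ?_
    show q ≫ η⟦(1 : ℤ)⟧' ≫ z' = 0
    rw [← Category.assoc]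
    exact (congrArg (· ≫ z') (comp_distTriang_mor_zero₃₁ _ hT)).trans zero_comp
  have hbj : ∀ T : Dual.D A, RG.IsTors J T → Function.Bijective (fun y : T ⟶ X => y ≫ f) := by
    intro T hTJ
    let T' := (DRing.RgammaI I).obj T
    let εT : T' ⟶ T := (DRing.RgammaIε I).app T
    have hT'I : RG.IsTors I T' := RG.isTors_rgamma T
    have hT'J : RG.IsTors J T' := by
      haveI := RG.isIso_ε J T hTJ
      obtain ⟨e⟩ := RG.nonempty_rgamma_comp J I T
      refine fun j => ?_
      have hsup : RG.IsTors (J ⊔ I) T' := RG.isTors_of_iso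
        (e.symm ≪≫ (DRing.RgammaI I).mapIso (asIso ((DRing.RgammaIε J).app T))) (RG.isTors_rgamma T)
      intro x
      obtain ⟨n, hn⟩ := hsup j x
      exact ⟨n, fun a ha => hn a (Ideal.pow_right_mono le_sup_left n ha)⟩
    have hb1 : Function.Bijective (fun y : T' ⟶ W => y ≫ η) :=
      RG.bijective_postcomp_mor₁ hT T' (fun y => RG.hom_eq_zero_of_orth I hT'I hC y)
        (fun y => RG.hom_eq_zero_of_orth I hT'I (hC.shift (-1)) y)
    have hb2 : Function.Bijective (fun y : T' ⟶ W => y ≫ εM) := RG.bijective_postcomp_ε hT'J _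
    have hb3 : Function.Bijective (fun y : T' ⟶ X => y ≫ f) := by
      refine (Function.Bijective.of_comp_iff _ hb1).1 ?_
      refine Eq.mp (congrArg Function.Bijective (funext fun y => ?_)) hb2
      show y ≫ εM = (y ≫ η) ≫ f
      rw [Category.assoc, hf]
    refine (Function.Bijective.of_comp_iff' (RG.bijective_precomp_ε I T hMc) _).1 ?_
    refine Eq.mp (congrArg Function.Bijective (funext fun y => ?_))
      (hb3.comp (RG.bijective_precomp_ε I T hη.complete))
    exact Category.assoc _ _ _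
  let R := (DRing.RgammaI J).obj X
  let εX : R ⟶ X := (DRing.RgammaIε J).app X
  obtain ⟨v, hv⟩ := (RG.bijective_postcomp_ε (RG.isTors_rgamma (I := J) (Dual.inD A M)) X).2 η
  obtain ⟨r, hr⟩ := (RG.bijective_postcomp_ε (RG.isTors_rgamma (I := J) X) (Dual.inD A M)).2 (εX ≫ f)
  replace hv : v ≫ εX = η := hv
  replace hr : r ≫ εM = εX ≫ f := hr
  have hvr : v ≫ r = 𝟙 W := (RG.bijective_postcomp_ε (RG.isTors_rgamma (I := J) (Dual.inD A M)) _).1 (by
    show (v ≫ r) ≫ εM = 𝟙 W ≫ εM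
    rw [Category.assoc, hr, ← Category.assoc, hv, hf, Category.id_comp])
  have hrv : r ≫ v = 𝟙 R := (RG.bijective_postcomp_ε (RG.isTors_rgamma (I := J) X) X).1 ((hbj R (RG.isTors_rgamma X)).1 (by
    show ((r ≫ v) ≫ εX) ≫ f = (𝟙 R ≫ εX) ≫ f
    rw [Category.assoc r, hv, Category.assoc, hf, hr, Category.id_comp]))
  suffices hε : Function.Bijective (PCoh.hm i εX) by
    show Function.Bijective (PCoh.hm i η)
    rw [← hv, PCoh.hm_comp]
    haveI : IsIso v := ⟨r, hvr, hrv⟩
    exact hε.comp (PCoh.bijective_hm_of_isIso i v)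
  -- the low part of `X` is torsion
  obtain ⟨Δ, hΔ, hΔ2, h1, h3, hb1, -⟩ := Ext.exists_trunc X (c + 1)
  obtain ⟨Δ', hΔ', hΔ2', h1', h3', hb1', -⟩ := Ext.exists_trunc R (c + 1)
  let ι₁ : Δ.obj₁ ⟶ X := Δ.mor₁ ≫ eqToHom hΔ2
  let ι₂ : Δ'.obj₁ ⟶ R := Δ'.mor₁ ≫ eqToHom hΔ2'
  have hbι : ∀ j, j ≤ c → Function.Bijective (PCoh.hm j ι₁) := fun j hj => by
    rw [PCoh.hm_comp]; exact (PCoh.bijective_hm_of_isIso j _).comp (hb1 j (by omega))
  have hbι' : ∀ j, j ≤ c → Function.Bijective (PCoh.hm j ι₂) := fun j hj => by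
    rw [PCoh.hm_comp]; exact (PCoh.bijective_hm_of_isIso j _).comp (hb1' j (by omega))
  have ht1 : RG.IsTors J Δ.obj₁ := fun j x => by
    by_cases hj : j ≤ c
    · obtain ⟨n, hn⟩ := hX j hj (PCoh.hm j ι₁ x)
      exact ⟨n, fun a ha => (hbι j hj).1 (by rw [map_smul, map_zero]; exact hn a ha)⟩
    · haveI := h1 j (by omega)
      exact ⟨0, fun _ _ => Subsingleton.elim _ _⟩
  have ht2 : RG.IsTors J Δ'.obj₁ := fun j x => by
    by_cases hj : j ≤ c
    · obtain ⟨n, hn⟩ := RG.isTors_rgamma (I := J) X j (PCoh.hm j ι₂ x)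
      exact ⟨n, fun a ha => (hbι' j hj).1 (by rw [map_smul, map_zero]; exact hn a ha)⟩
    · haveI := h1' j (by omega)
      exact ⟨0, fun _ _ => Subsingleton.elim _ _⟩
  obtain ⟨t, ht⟩ := (RG.bijective_postcomp_ε ht1 X).2 ι₁
  replace ht : t ≫ εX = ι₁ := ht
  have hzero : ∀ w : Δ'.obj₁ ⟶ Δ.obj₃, w = 0 := fun w => by
    haveI : DerivedCategory.IsLE Δ'.obj₁ c := (DerivedCategory.isLE_iff _ c).2 fun j hj =>
      @ModuleCat.isZero_of_subsingleton _ _ _ (h1' j (by omega))
    haveI : DerivedCategory.IsGE Δ.obj₃ (c + 1) := (DerivedCategory.isGE_iff _ (c + 1)).2 fun j hj =>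
      @ModuleCat.isZero_of_subsingleton _ _ _ (h3 j hj)
    exact DerivedCategory.TStructure.t.zero w c (c + 1) (by omega)
  obtain ⟨w, hw⟩ := Triangle.coyoneda_exact₂ Δ hΔ ((ι₂ ≫ εX) ≫ eqToHom hΔ2.symm) (hzero _)
  have hw' : w ≫ ι₁ = ι₂ ≫ εX := by
    show w ≫ Δ.mor₁ ≫ eqToHom hΔ2 = _
    rw [← Category.assoc, ← hw, Category.assoc, eqToHom_trans, eqToHom_refl, Category.comp_id]
  have hwt : w ≫ t = ι₂ := (RG.bijective_postcomp_ε ht2 X).1 (by
    show (w ≫ t) ≫ εX = ι₂ ≫ εX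
    rw [Category.assoc, ht, hw'])
  have hts : Function.Surjective (PCoh.hm i t) := fun y => by
    obtain ⟨x, rfl⟩ := (hbι' i hi).2 y
    exact ⟨PCoh.hm i w x, by rw [← PCoh.hm_comp_apply, hwt]⟩
  refine ⟨fun y y' hy => ?_, fun y => ?_⟩
  · obtain ⟨x, rfl⟩ := hts y
    obtain ⟨x', rfl⟩ := hts y'
    rw [← PCoh.hm_comp_apply, ← PCoh.hm_comp_apply, ht] at hy
    rw [(hbι i hi).1 hy]
  · obtain ⟨x, rfl⟩ := (hbι i hi).2 y
    exact ⟨PCoh.hm i t x, by rw [← PCoh.hm_comp_apply, ht]⟩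

/-- `RΓ` only depends on the radical. -/
theorem nonempty_rgamma_of_radical {J K : Ideal A} [DRing.HasRgammaI J] [DRing.HasRgammaI K]
    (h : J.radical = K.radical) (X : Dual.D A) :
    Nonempty ((DRing.RgammaI J).obj X ≅ (DRing.RgammaI K).obj X) := by
  have key : ∀ {P Q : Ideal A}, P ≤ Q.radical → ∀ {L : Dual.D A}, RG.IsTors Q L → RG.IsTors P L := by
    intro P Q hPQ L hL j x
    obtain ⟨e, he⟩ := Ideal.exists_pow_le_of_le_radical_of_fg hPQ (IsNoetherian.noetherian _)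
    obtain ⟨n, hn⟩ := hL j x
    exact ⟨e * n, fun a ha => hn a (Ideal.pow_right_mono he n (by rwa [← pow_mul]))⟩
  have hJ : RG.IsTors K ((DRing.RgammaI J).obj X) := key (Ideal.le_radical.trans h.ge) (RG.isTors_rgamma X)
  have hK : RG.IsTors J ((DRing.RgammaI K).obj X) := key (Ideal.le_radical.trans h.le) (RG.isTors_rgamma X)
  obtain ⟨a, ha⟩ := (RG.bijective_postcomp_ε hJ X).2 ((DRing.RgammaIε J).app X)
  obtain ⟨b, hb⟩ := (RG.bijective_postcomp_ε hK X).2 ((DRing.RgammaIε K).app X)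
  replace ha : a ≫ (DRing.RgammaIε K).app X = (DRing.RgammaIε J).app X := ha
  replace hb : b ≫ (DRing.RgammaIε J).app X = (DRing.RgammaIε K).app X := hb
  refine ⟨⟨a, b, (RG.bijective_postcomp_ε (RG.isTors_rgamma X) X).1 ?_,
    (RG.bijective_postcomp_ε (RG.isTors_rgamma X) X).1 ?_⟩⟩
  · show (a ≫ b) ≫ _ = 𝟙 _ ≫ _
    rw [Category.assoc, hb, ha]
    exact (Category.id_comp _).symm
  · show (b ≫ a) ≫ _ = 𝟙 _ ≫ _
    rw [Category.assoc, ha, hb]
    exact (Category.id_comp _).symm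

variable [IsLocalRing A] {ω : Dual.D A} (hω : Dual.IsDualizing A ω) (hn : Dual.IsNormalized A ω)
include hω hn

/-- The degree of a prime for a normalized dualizing complex. -/
theorem ringKrullDim_quotient_eq_deg (p : PrimeSpectrum A) :
    ringKrullDim (A ⧸ p.asIdeal) = (((-deg hω p).toNat : ℕ∞) : WithBot ℕ∞) ∧ 0 ≤ -deg hω p := by
  let m₀ : PrimeSpectrum A := IsLocalRing.closedPoint A
  have hm : deg hω m₀ = 0 := by
    refine ((Dualizing.mem_support_iff_deg hω m₀ 0).1 ?_).symm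
    obtain ⟨e⟩ := Dualizing.norm_degree hω hn
    show m₀ ∈ Module.support A (Ex (Dual.inD A (A ⧸ IsLocalRing.maximalIdeal A)) ω 0)
    rw [e.support_eq, Module.support_eq_zeroLocus, Ideal.annihilator_quotient]
    exact (PrimeSpectrum.mem_zeroLocus _ _).2 subset_rfl
  have hp : p ≤ m₀ := IsLocalRing.le_maximalIdeal p.2.ne_top
  obtain ⟨t, -, -, ht⟩ := HT.exists_series hω hp
  have h := HT.krullDim_Icc hω hp
  rw [hm, zero_sub] at h
  refine ⟨?_, by omega⟩
  rw [ringKrullDim_quotient, ← h]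
  exact Order.krullDim_eq_of_orderIso
    { toFun := fun z => ⟨z.1, z.2, IsLocalRing.le_maximalIdeal z.1.2.ne_top⟩
      invFun := fun z => ⟨z.1, z.2.1⟩
      left_inv := fun _ => rfl
      right_inv := fun _ => rfl
      map_rel_iff' := Iff.rfl }

/-- Depth plus dimension at the support of `Ext^{-j}(M, ω)`. -/
theorem depth_add_le_of_mem_support (M : Type u) [AddCommGroup M] [Module A M] [Module.Finite A M] (j : ℕ)
    (p : PrimeSpectrum A) (hp : p ∈ Module.support A (Ex (Dual.inD A M) ω (-(j : ℤ)))) :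
    ∃ k δ : ℕ, LocCoh.depth (Localization.AtPrime p.asIdeal) (LocalizedModule p.asIdeal.primeCompl M) = k ∧
      ringKrullDim (A ⧸ p.asIdeal) = (δ : WithBot ℕ∞) ∧ k + δ ≤ j := by
  obtain ⟨hdim, hpos⟩ := ringKrullDim_quotient_eq_deg hω hn p
  have hns : ¬ Subsingleton (LD.H (IsLocalRing.maximalIdeal (Loc p)) ((loc (Dual.inD A M) p)⟦deg hω p + j⟧)) := by
    rw [HT.subsingleton_LD_iff hω (m := 0) (m' := 0) (fun l hl => PCoh.subsingleton_HD_inD (ModuleCat.of A M) l (by omega))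
      (HT.finite_HD_inD M) p, not_not, show deg hω p - (deg hω p + (j : ℤ)) = -(j : ℤ) by ring]
    exact hp
  have hi : 0 ≤ deg hω p + j := by
    by_contra hneg
    exact hns ((HT.forall_subsingleton_iff_depth M p 1 0).2 (lt_of_lt_of_le (by norm_num) le_add_self) _ (by omega))
  have hd : LocCoh.depth (Loc p) (LocalizedModule p.asIdeal.primeCompl M) ≤ ((deg hω p + j).toNat : ℕ∞) := by
    by_contra hlt
    exact hns ((HT.forall_subsingleton_iff_depth M p 0 (deg hω p + j).toNat).2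
      (by simpa using not_le.1 hlt) _ (by omega))
  obtain ⟨k, hk⟩ := ENat.ne_top_iff_exists.1 (ne_top_of_le_ne_top (ENat.natCast_ne_top _) hd)
  refine ⟨k, (-deg hω p).toNat, hk.symm, hdim, ?_⟩
  rw [← hk, Nat.cast_le] at hd
  omega

/-- The completion of `RΓ_m M` has torsion cohomology up to degree `s`. -/
theorem compTor_rgamma_maximal (I : Ideal A) [DRing.HasDerivedCompletion I] [DRing.HasRgammaI I]
    [DRing.HasRgammaI (IsLocalRing.maximalIdeal A)] (hI : I ≤ IsLocalRing.maximalIdeal A) {d : ℕ}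
    (hcd : LocCoh.CdLE A I d) (M : Type u) [AddCommGroup M] [Module A M] [Module.Finite A M] (s : ℕ)
    {E : Type u} [AddCommGroup E] [Module A E] {f : IsLocalRing.ResidueField A →ₗ[A] E}
    (hf : InjHull.IsInjectiveHull f) (F : ℕ → Type u) [∀ n, AddCommGroup (F n)] [∀ n, Module A (F n)]
    [∀ n, Module.Finite A (F n)]
    (eF : ∀ n : ℕ, F n ≃ₗ[A] Ex (Dual.inD A M) ω (-(n : ℤ))) {J : Ideal A}
    (hJm : J ≤ IsLocalRing.maximalIdeal A)
    (hkill : ∀ n a : ℕ, n ≤ s + d → 0 < a → n ≤ a + s → ∀ c ∈ J, ∀ y : LocCoh.H I a (F n), c • y = 0) :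
    CompTor I J (s : ℤ) ((DRing.RgammaI (IsLocalRing.maximalIdeal A)).obj (Dual.inD A M)) := by
  let m := IsLocalRing.maximalIdeal A
  let W := (DRing.RgammaI m).obj (Dual.inD A M)
  have hW : ∀ j : ℤ, j < 0 → Subsingleton (Dual.HD A W j) := fun j hj => by
    obtain ⟨e⟩ := RG.nonempty_equiv_HDI m (Dual.inD A M) j
    haveI : Subsingleton (LD.H m ((Dual.inD A M)⟦j⟧)) :=
      LD.subsingleton_H _ fun n => Ext.subsingleton_ex_low (a := 0) (HT.subsingleton_HD_inD_of_neg M) _ j hj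
    exact e.injective.subsingleton
  refine compTor_of_modules hcd (s + d + 1) 0 W (by omega) hW fun j hj0 hj l' hl' x => ?_
  obtain ⟨n, rfl⟩ := Int.eq_ofNat_of_zero_le hj0
  obtain ⟨e⟩ := RG.nonempty_equiv_HDI m (Dual.inD A M) (n : ℤ)
  obtain ⟨eD⟩ := LD.nonempty_duality_module hω hn hf M n
  let eN : Dual.HD A W n ≃ₗ[A] (F n →ₗ[A] E) :=
    (e.trans (LD.lcEquiv m M n).symm).trans (eD.trans (LinearEquiv.congrLeft E A (eF n).symm))
  let L := PCoh.hEquiv (l' - n) ((ObjectProperty.ι _).mapIso ((DRing.derivedCompletion I).mapIso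
    ((DerivedCategory.singleFunctor (ModuleCat.{u} A) 0).mapIso eN.toModuleIso)))
  have hIE : LocCoh.IsPowerTorsion I E := fun y => by
    obtain ⟨k, hk⟩ := H4Matlis.isPowerTorsion hf y
    exact ⟨k, fun a ha => hk a (Ideal.pow_right_mono
      hI k ha)⟩
  obtain ⟨hpos, hneg⟩ := exists_functional_completion_dual E I hf.isInjective hIE (F n) (l' - n) (L x)
  rcases lt_trichotomy (l' - (n : ℤ)) 0 with hq | hq | hq
  · obtain ⟨a, ha⟩ := Int.eq_ofNat_of_zero_le (show 0 ≤ -(l' - (n : ℤ)) by omega)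
    obtain ⟨φ, hφ⟩ := hneg a (by omega)
    refine ⟨1, fun c hc => L.injective ?_⟩
    rw [map_smul, map_zero]
    refine hφ c (LinearMap.ext fun y => ?_)
    rw [pow_one] at hc
    show c • φ y = 0
    rw [← map_smul, hkill n a (by omega) (by omega) (by omega) c hc y, map_zero]
  · obtain ⟨φ, hφ⟩ := hneg 0 (by omega)
    haveI := H4LC.finite_H_zero I (F n)
    obtain ⟨k, hk⟩ := isPowerTorsion_dual E m (H4Matlis.isPowerTorsion hf) (LocCoh.H I 0 (F n)) φ
    refine ⟨k, fun c hc => L.injective ?_⟩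
    rw [map_smul, map_zero]
    exact hφ c (hk c (Ideal.pow_right_mono hJm k hc))
  · refine ⟨0, fun c _ => L.injective ?_⟩
    rw [map_smul, hpos hq, smul_zero, map_zero]

/-- The main result. -/
theorem exists_algebraize (I : Ideal A) [IsAdicComplete I A] [DRing.HasDerivedCompletion I] (d : ℕ)
    (hcd : LocCoh.CdLE A I d) (M : Type u) [AddCommGroup M] [Module A M] [Module.Finite A M] (s : ℕ)
    (h4 : ∀ p : PrimeSpectrum A, ¬ I ≤ p.asIdeal → NT I p → ∀ k δ : ℕ,
      LocCoh.depth (Localization.AtPrime p.asIdeal) (LocalizedModule p.asIdeal.primeCompl M) = k →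
      ringKrullDim (A ⧸ p.asIdeal) = (δ : WithBot ℕ∞) → s ≤ k ∨ d + s < k + δ) :
    ∃ J₀ : Ideal A, (∀ q : PrimeSpectrum A, (J₀ ≤ q.asIdeal ∧ I ≤ q.asIdeal) ↔ q.asIdeal = IsLocalRing.maximalIdeal A ∧ I ≤ q.asIdeal) ∧
      ∀ (J : Ideal A) [DRing.HasRgammaI J], J ≤ J₀ → (J ⊔ I).radical = IsLocalRing.maximalIdeal A →
        ∀ i : ℤ, i ≤ s → Function.Bijective
          (PCoh.hm i (DRing.toDerivedCompletion I ((DRing.RgammaI J).obj (Dual.inD A M)))) := by
  classical
  let m := IsLocalRing.maximalIdeal A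
  obtain ⟨E, _, _, f, hf⟩ := H4Inj.exists_isInjectiveHull (R := A) (IsLocalRing.ResidueField A)
  obtain ⟨j₀, j₁, hfin, -⟩ := HT.exists_range hω (K := Dual.inD A M) (m := 0) (m' := 0)
    (fun l hl => PCoh.subsingleton_HD_inD (ModuleCat.of A M) l (by omega)) (HT.finite_HD_inD M)
  have hsmall := fun j : ℕ => haveI := hfin (-(j : ℤ)); LD.exists_small_equiv A (Ex (Dual.inD A M) ω (-(j : ℤ)))
  choose F instF instFm hFfin hFe using hsmall
  letI := instF
  letI := instFm
  haveI := hFfin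
  have hJ := fun j : ℕ => exists_kill_higher_H I d hcd (F j)
  choose J₁ hJ₁ hkill using hJ
  refine ⟨m * ∏ j ∈ Finset.range (s + d + 1), J₁ j, fun q => ⟨fun h => ⟨?_, h.2⟩, fun h => ⟨?_, h.2⟩⟩, ?_⟩
  · rcases q.2.mul_le.1 h.1 with h1 | h1
    · exact ((IsLocalRing.maximalIdeal.isMaximal A).eq_of_le q.2.ne_top h1).symm
    · obtain ⟨j, -, hj⟩ := q.2.prod_le.1 h1
      exact hJ₁ j q hj h.2
  · exact Ideal.mul_le_left.trans h.1.ge
  intro J _ hJle hrad i hi
  refine bijective_hm_completion_of_torsion I J M s (fun l hl x => ?_) i hi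
  haveI : DRing.HasRgammaI I := RG.hasRgammaI I
  haveI : DRing.HasRgammaI m := RG.hasRgammaI m
  haveI : DRing.HasRgammaI (J ⊔ I) := RG.hasRgammaI (J ⊔ I)
  let eF := fun n => (hFe n).some
  have hctor : CompTor I J (s : ℤ) ((DRing.RgammaI m).obj (Dual.inD A M)) := by
    refine compTor_rgamma_maximal hω hn I (le_sup_right.trans (Ideal.le_radical.trans hrad.le)) hcd M s hf F eF
      (hJle.trans Ideal.mul_le_left) fun n a hn' ha han c hc y => ?_
    have hc₁ : c ∈ J₁ n := (Ideal.prod_le_inf.trans (Finset.inf_le (f := J₁) (Finset.mem_range.2 (by omega))))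
      (Ideal.mul_le_right (hJle hc))
    refine hkill n a ha (fun p hp hpI hpNT => ?_) c hc₁ y
    obtain ⟨k, δ, hk, hδ, hle⟩ := depth_add_le_of_mem_support hω hn M n p ((eF n).support_eq ▸ hp)
    rcases h4 p hpI hpNT k δ hk hδ with h | h
    · exact Or.inl (by rw [hδ]; exact_mod_cast (show δ ≤ a by omega))
    · exact Or.inr (by omega)
  obtain ⟨g1⟩ := (RG.nonempty_greenlees_may I ((DRing.RgammaI J).obj (Dual.inD A M))).2
  obtain ⟨g2⟩ := RG.nonempty_rgamma_comp J I (Dual.inD A M)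
  obtain ⟨g3⟩ := nonempty_rgamma_of_radical (J := J ⊔ I) (K := m)
    (hrad.trans (IsLocalRing.maximalIdeal.isMaximal A).isPrime.radical.symm) (Dual.inD A M)
  let L := PCoh.hEquiv l ((ObjectProperty.ι _).mapIso (g1.symm ≪≫ (DRing.derivedCompletion I).mapIso (g2 ≪≫ g3)))
  obtain ⟨k, hk⟩ := hctor l hl (L x)
  exact ⟨k, fun c hc => L.injective (by rw [map_smul, map_zero]; exact hk c hc)⟩

end Groth.Agent.H3CAlg
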