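import Mathlib.LinearAlgebra.Matrix.SchurComplement
import Mathlib.LinearAlgebra.Matrix.NonsingularInverse
import Mathlib.RingTheory.Localization.FractionRing
import Mathlib.RingTheory.Polynomial.UniqueFactorization
import Mathlib.RingTheory.Polynomial.RationalRoot
import Mathlib.LinearAlgebra.Matrix.Notation
import Mathlib.Tactic.FieldSimp
import Mathlib.Tactic.FinCases
import Mathlib.Tactic.LinearCombination
import Mathlib.Logic.Equiv.Fintype

/-!
The determinant of an alternating matrix is a square.
-/

universe u v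

open Matrix

namespace Groth.Agent.H3CAlg

/-- Over a field the determinant of an alternating matrix is a square. -/
theorem isSquare_det_of_alternating_field {K : Type u} [Field K] : ∀ (n : ℕ) (N : Matrix (Fin n) (Fin n) K),
    (∀ i, N i i = 0) → (∀ i j, N j i = -N i j) → IsSquare N.det := by
  intro n
  induction n using Nat.strong_induction_on with
  | _ n ih =>
    intro N hd hs
    by_cases h0 : N = 0
    · rcases Nat.eq_zero_or_pos n with rfl | hn
      · rw [Matrix.det_fin_zero]; exact IsSquare.one
      · haveI : Nonempty (Fin n) := ⟨⟨0, hn⟩⟩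
        rw [h0, Matrix.det_zero]; exact IsSquare.zero
    obtain ⟨i, j, ha⟩ : ∃ i j, N i j ≠ 0 := by
      by_contra hc
      push Not at hc
      exact h0 (Matrix.ext hc)
    have hij : i ≠ j := fun h => ha (h ▸ hd i)
    obtain ⟨m, rfl⟩ : ∃ m, n = 2 + m := by
      have : 2 ≤ n := by
        by_contra h
        exact hij (Fin.ext (by have := i.isLt; have := j.isLt; omega))
      exact ⟨n - 2, by omega⟩
    obtain ⟨σ, hσ0, hσ1⟩ : ∃ σ : Equiv.Perm (Fin (2 + m)),
        σ (finSumFinEquiv (Sum.inl 0)) = i ∧ σ (finSumFinEquiv (Sum.inl 1)) = j := by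
      let z0 : Fin (2 + m) := finSumFinEquiv (Sum.inl 0)
      let z1 : Fin (2 + m) := finSumFinEquiv (Sum.inl 1)
      have hz : z0 ≠ z1 := fun h => by simp [z0, z1] at h
      let τ := Equiv.swap z0 i
      refine ⟨(Equiv.swap z1 (τ j)).trans τ, ?_, ?_⟩
      · have h1 : τ j ≠ z0 := fun h => hij (by
          have := congrArg τ h
          simpa [τ] using this.symm)
        show τ (Equiv.swap z1 (τ j) z0) = i
        rw [Equiv.swap_apply_of_ne_of_ne hz h1.symm]
        exact Equiv.swap_apply_left _ _
      · show τ (Equiv.swap z1 (τ j) z1) = j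
        rw [Equiv.swap_apply_left]
        exact Equiv.swap_apply_self _ _ _
    let e : Fin 2 ⊕ Fin m ≃ Fin (2 + m) := finSumFinEquiv.trans σ
    let M := N.submatrix e e
    have hM : M.det = N.det := Matrix.det_submatrix_equiv_self e N
    rw [← hM]
    let a := N i j
    have hσ0' : σ (Fin.castAdd m 0) = i := hσ0
    have hσ1' : σ (Fin.castAdd m 1) = j := hσ1
    have hQ : M.toBlocks₁₁ = !![0, a; -a, 0] := by
      ext p q
      fin_cases p <;> fin_cases q <;>
        simp [M, Matrix.toBlocks₁₁, e, hσ0', hσ1', hd, a, hs i j]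
    let Qi : Matrix (Fin 2) (Fin 2) K := !![0, -a⁻¹; a⁻¹, 0]
    haveI : Invertible M.toBlocks₁₁ := invertibleOfRightInverse _ Qi (by
      rw [hQ]
      ext p q
      fin_cases p <;> fin_cases q <;> simp [Qi, Matrix.mul_apply, ha, a])
    have hinv : ⅟(M.toBlocks₁₁) = Qi := invOf_eq_right_inv (by
      rw [hQ]
      ext p q
      fin_cases p <;> fin_cases q <;> simp [Qi, Matrix.mul_apply, ha, a])
    rw [← Matrix.fromBlocks_toBlocks M, Matrix.det_fromBlocks₁₁, hinv]
    have hdetQ : M.toBlocks₁₁.det = a * a := by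
      rw [hQ, Matrix.det_fin_two]
      simp
    rw [hdetQ]
    refine (IsSquare.mul_self a).mul (ih m (by omega) _ ?_ ?_)
    · intro k
      simp only [Matrix.sub_apply, Matrix.mul_apply, Fin.sum_univ_two]
      simp [M, Matrix.toBlocks₁₂, Matrix.toBlocks₂₁, Matrix.toBlocks₂₂, Qi, hd]
      rw [hs (e (Sum.inl 0)) (e (Sum.inr k)), hs (e (Sum.inl 1)) (e (Sum.inr k))]
      ring
    · intro k l
      simp only [Matrix.sub_apply, Matrix.mul_apply, Fin.sum_univ_two]
      simp [M, Matrix.toBlocks₁₂, Matrix.toBlocks₂₁, Matrix.toBlocks₂₂, Qi]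
      rw [hs (e (Sum.inl 0)) (e (Sum.inr k)), hs (e (Sum.inl 1)) (e (Sum.inr k)),
        hs (e (Sum.inl 0)) (e (Sum.inr l)), hs (e (Sum.inl 1)) (e (Sum.inr l)),
        hs (e (Sum.inr k)) (e (Sum.inr l))]
      ring

/-- Over an integrally closed domain the determinant of an alternating matrix is a square. -/
theorem isSquare_det_of_alternating {R : Type u} [CommRing R] [IsDomain R] [IsIntegrallyClosed R]
    {ι : Type v} [Fintype ι] [DecidableEq ι] (N : Matrix ι ι R) (hd : ∀ i, N i i = 0)
    (hs : ∀ i j, N j i = -N i j) : IsSquare N.det := by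
  let e := (Fintype.equivFin ι).symm
  let M := (N.map (algebraMap R (FractionRing R))).submatrix e e
  obtain ⟨x, hx⟩ := isSquare_det_of_alternating_field _ M (fun i => by simp [M, hd])
    (fun i j => by simp [M, hs (e i) (e j)])
  have hx' : algebraMap R (FractionRing R) N.det = x * x := by
    rw [← hx, Matrix.det_submatrix_equiv_self, RingHom.map_det]
    rfl
  have hint : IsIntegral R (x ^ 2) := by
    rw [sq, ← hx']
    exact isIntegral_algebraMap
  obtain ⟨y, hy⟩ := IsIntegrallyClosed.exists_algebraMap_eq_of_isIntegral_pow two_pos hint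
  refine ⟨y, IsFractionRing.injective R (FractionRing R) ?_⟩
  rw [map_mul, hy, hx']

end Groth.Agent.H3CAlg
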