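import Mathlib
import Groth.Agent.H02CA.SerreSplit
import Groth.Agent.S7113

/-!
# Bass cancellation for projective modules of rank larger than the dimension
-/

set_option autoImplicit false

universe u

namespace Groth.Agent.H3CAlg.BassCancel

open TopologicalSpace
open Groth.Agent.H02CA

attribute [local instance] Ideal.Quotient.field

variable {R : Type u} [CommRing R] [IsNoetherianRing R]

instance noetherianSpace_maximalSpectrum : NoetherianSpace (MaximalSpectrum R) :=
  Topology.IsInducing.noetherianSpace (i := MaximalSpectrum.toPrimeSpectrum (R := R)) ⟨rfl⟩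

theorem coheight_le {d : ℕ} (hd : ringKrullDim R ≤ d) (Z : IrreducibleCloseds (MaximalSpectrum R)) :
    Order.coheight Z ≤ (d : ℕ∞) := by
  have h0 : topologicalKrullDim (MaximalSpectrum R) ≤ d :=
    ((Topology.IsInducing.topologicalKrullDim_le (f := MaximalSpectrum.toPrimeSpectrum) ⟨rfl⟩).trans_eq
      (PrimeSpectrum.topologicalKrullDim_eq_ringKrullDim R)).trans hd
  exact WithBot.coe_le_coe.mp ((Order.coheight_le_krullDim Z).trans h0)

variable {M : Type u} [AddCommGroup M] [Module R M]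

theorem indep_singleton (x : MaximalSpectrum R) (u : M) :
    SerreSplit.Indep (fun x ↦ R ⧸ x.asIdeal) (SerreSplit.imq M) x ![u] ↔ SerreSplit.imq M x u ≠ 0 := by
  rw [SerreSplit.Indep, linearIndependent_unique_iff]
  simp

theorem isClosed_zero (u : M) : IsClosed {x : MaximalSpectrum R | SerreSplit.imq M x u = 0} := by
  have h := SerreSplit.isClosed_not_indep (R := R) 1 ![u]
  simp only [indep_singleton, not_not] at h
  exact h

/-- General position: a unimodular pair `(p, a)` can be changed into a nowhere vanishing `p + a • q`. -/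
theorem exists_forall_add_smul_ne_zero {d : ℕ} (hd : ringKrullDim R ≤ d)
    (hrk : ∀ x : MaximalSpectrum R, d + 1 ≤ Module.finrank (R ⧸ x.asIdeal) (SerreSplit.Vq M x))
    (p : M) (a : R) (hu : ∀ x : MaximalSpectrum R, SerreSplit.imq M x p ≠ 0 ∨ a ∉ x.asIdeal) :
    ∃ q : M, ∀ x : MaximalSpectrum R, SerreSplit.imq M x (p + a • q) ≠ 0 := by
  classical
  have hnz : ∀ x : MaximalSpectrum R, ∃ v : SerreSplit.Vq M x, v ≠ 0 := fun x ↦ by
    by_contra hall
    push_neg at hall
    haveI : Subsingleton (SerreSplit.Vq M x) := subsingleton_of_forall_eq 0 hall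
    have h := hrk x
    rw [Module.finrank_zero_of_subsingleton] at h
    omega
  choose v hv using hnz
  have main : ∀ j ≤ d + 1, ∃ q : M,
      SerreSplit.Small j {x : MaximalSpectrum R | SerreSplit.imq M x (p + a • q) = 0} := by
    intro j hj
    induction j with
    | zero => exact ⟨0, fun Z _ ↦ by simp⟩
    | succ j ih =>
      obtain ⟨q, hq⟩ := ih (by omega)
      obtain ⟨u, hudef⟩ : ∃ u, u = p + a • q := ⟨_, rfl⟩
      rw [← hudef] at hq
      have hau : ∀ x, SerreSplit.imq M x u = 0 → a ∉ x.asIdeal := fun x hx ha ↦ by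
        rw [hudef, map_add, SerreSplit.imq_smul, Ideal.Quotient.eq_zero_iff_mem.mpr ha, zero_smul,
          add_zero] at hx
        exact (hu x).elim (fun h ↦ h hx) (fun h ↦ h ha)
      let Z₁ : Set (MaximalSpectrum R) := {x | SerreSplit.imq M x u = 0}
      have hZ₁ : IsClosed Z₁ := isClosed_zero u
      obtain ⟨P, hP, hPw⟩ := SerreSplit.exists_witness (F := (∅ : Set (MaximalSpectrum R)))
        isClosed_empty hZ₁ hq
      obtain ⟨t, G, hG, ht, hsub, hsmall⟩ := SerreSplit.exists_section_maximalSpectrum (M := M) d 1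
        ![u] Z₁ hZ₁ (fun x hx ↦ by rw [indep_singleton, not_not] at hx; exact hx)
        (fun x ↦ (by omega : 1 + d = d + 1) ▸ hrk x) P (fun x hx ↦ (hP x hx).1) v
      obtain ⟨Q, hQ, hQw⟩ := SerreSplit.exists_witness hZ₁ hG hsmall
      obtain ⟨c, hc⟩ := SerreSplit.exists_eval (P ∪ Q) (fun x ↦ if x ∈ P then (1 : R) else 0)
      refine ⟨q + c • t, ?_⟩
      have himg : ∀ x, SerreSplit.imq M x (p + a • (q + c • t)) =
          SerreSplit.imq M x u + Ideal.Quotient.mk x.asIdeal (a * c) • SerreSplit.imq M x t := fun x ↦ by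
        rw [hudef, smul_add, ← add_assoc, smul_smul, map_add _ (p + a • q), SerreSplit.imq_smul]
      have hPn : ∀ x ∈ P, SerreSplit.imq M x (p + a • (q + c • t)) ≠ 0 := fun x hx ↦ by
        have hx0 : SerreSplit.imq M x u = 0 := (hP x hx).1
        have h1 : Ideal.Quotient.mk x.asIdeal c = 1 := by
          have h := hc x (Finset.mem_union_left _ hx)
          rw [if_pos hx] at h
          exact (Ideal.Quotient.eq.mpr h).trans (map_one _)
        rw [himg, hx0, zero_add, map_mul, h1, mul_one, ht x hx]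
        exact smul_ne_zero (Ideal.Quotient.eq_zero_iff_mem.not.mpr (hau x hx0)) (hv x)
      have hQn : ∀ x ∈ Q, SerreSplit.imq M x (p + a • (q + c • t)) ≠ 0 := fun x hx ↦ by
        have hxP : x ∉ P := fun h ↦ (hQ x hx).2 (hP x h).1
        have h1 : Ideal.Quotient.mk x.asIdeal c = 0 := by
          have h := hc x (Finset.mem_union_right _ hx)
          rw [if_neg hxP] at h
          exact (Ideal.Quotient.eq.mpr h).trans (map_zero _)
        rw [himg, map_mul, h1, mul_zero, zero_smul, add_zero]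
        exact (hQ x hx).2
      intro Z hZ
      have hsub' : (Z : Set (MaximalSpectrum R)) ⊆ Z₁ ∪ G := fun x hx ↦ by
        by_contra hxo
        have hI : SerreSplit.Indep (fun x ↦ R ⧸ x.asIdeal) (SerreSplit.imq M) x (Fin.snoc ![u] t) :=
          by_contra fun h ↦ hxo (hsub x h)
        have h0 := Fintype.linearIndependent_iff.mp hI ![1, Ideal.Quotient.mk x.asIdeal (a * c)]
          (by
            rw [Fin.sum_univ_two]
            have := hZ hx
            rw [Set.mem_setOf_eq, himg] at this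
            simpa [Fin.snoc] using this) 0
        simp at h0
      obtain ⟨x₀, hx₀⟩ := Z.isIrreducible'.nonempty
      by_cases hZ1 : (Z : Set (MaximalSpectrum R)) ⊆ Z₁
      · exact hPw Z hZ1 (fun h ↦ h hx₀) fun x hx hxZ ↦ hPn x hx (hZ hxZ)
      · have hZG := (SerreSplit.subset_of_subset_union Z.isIrreducible' hZ₁ hG hsub').resolve_left hZ1
        exact le_trans (by exact_mod_cast hj) (hQw Z hZG hZ1 fun x hx hxZ ↦ hQn x hx (hZ hxZ))
  obtain ⟨q, hq⟩ := main (d + 1) le_rfl
  refine ⟨q, fun x hx ↦ ?_⟩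
  let Z : IrreducibleCloseds (MaximalSpectrum R) :=
    ⟨closure {x}, isIrreducible_singleton.closure, isClosed_closure⟩
  have h1 := hq Z (closure_minimal (Set.singleton_subset_iff.mpr hx) (isClosed_zero _))
  have h2 := Nat.cast_le.mp (h1.trans (coheight_le hd Z))
  omega

/-- A nowhere vanishing element is unimodular. -/
theorem exists_dual_eq_one (u : M) (hu : ∀ x : MaximalSpectrum R, SerreSplit.imq M x u ≠ 0) :
    ∃ φ : M →ₗ[R] R, φ u = 1 := by
  have htop : LinearMap.range ((Module.Dual.eval R M) u) = (⊤ : Ideal R) := by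
    by_contra hne
    obtain ⟨m, hm, hle⟩ := Ideal.exists_le_maximal _ hne
    exact hu ⟨m, hm⟩ ((SerreSplit.imq_eq_zero_iff _ u).mpr fun φ ↦ hle ⟨φ, rfl⟩)
  obtain ⟨φ, hφ⟩ : (1 : R) ∈ LinearMap.range ((Module.Dual.eval R M) u) := by
    rw [htop]; trivial
  exact ⟨φ, hφ⟩

/-- The fibres of a projective module of rank at least `n`. -/
theorem le_finrank_Vq [Module.Finite R M] [Module.Projective R M] (n : ℕ) (x : MaximalSpectrum R)
    (hn : n ≤ Module.rankAtStalk (R := R) M x.toPrimeSpectrum) :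
    n ≤ Module.finrank (R ⧸ x.asIdeal) (SerreSplit.Vq M x) := by
  haveI : Module.FinitePresentation R M := Module.finitePresentation_of_projective R M
  let L := Localization.AtPrime x.asIdeal
  haveI : Module.Free L (LocalizedModule x.asIdeal.primeCompl M) := Module.free_of_flat_of_isLocalRing
  let b := Module.finBasis L (LocalizedModule x.asIdeal.primeCompl M)
  have hle : n ≤ Module.finrank L (LocalizedModule x.asIdeal.primeCompl M) := hn
  refine le_trans hle (Groth.Agent.S7113.le_finrank_of_split R M _ x b.equivFun.symm.toLinearMap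
    b.equivFun.toLinearMap ?_)
  exact LinearMap.ext fun v ↦ b.equivFun.apply_symm_apply v

theorem exists_linearEquiv_prod_fixing [Module.Finite R M] [Module.Projective R M] {d : ℕ}
    (hd : ringKrullDim R ≤ d) (hrk : ∀ x : PrimeSpectrum R, d + 1 ≤ Module.rankAtStalk (R := R) M x)
    (w : M × R) (hw : ∃ φ : (M × R) →ₗ[R] R, φ w = 1) :
    ∃ θ : (M × R) ≃ₗ[R] (M × R), θ w = (0, 1) := by
  obtain ⟨p, a⟩ := w
  obtain ⟨φ, hφ⟩ := hw
  have hu : ∀ x : MaximalSpectrum R, SerreSplit.imq M x p ≠ 0 ∨ a ∉ x.asIdeal := by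
    intro x
    by_contra hc
    push_neg at hc
    have h1 := (SerreSplit.imq_eq_zero_iff x p).mp hc.1 (φ ∘ₗ LinearMap.inl R M R)
    refine x.isMaximal.ne_top ((Ideal.eq_top_iff_one _).mpr (hφ ▸ ?_))
    have : ((p, a) : M × R) = (p, 0) + a • ((0, 1) : M × R) := by simp
    rw [this, map_add, map_smul, smul_eq_mul]
    exact x.asIdeal.add_mem h1 (x.asIdeal.mul_mem_right _ hc.2)
  obtain ⟨q, hq⟩ := exists_forall_add_smul_ne_zero hd
    (fun x ↦ le_finrank_Vq (d + 1) x (hrk _)) p a hu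
  obtain ⟨ψ, hψ⟩ := exists_dual_eq_one _ hq
  let u := p + a • q
  let A₁ : (M × R) ≃ₗ[R] (M × R) :=
    LinearEquiv.ofLinear
      (LinearMap.id + LinearMap.inl R M R ∘ₗ (LinearMap.toSpanSingleton R M q) ∘ₗ LinearMap.snd R M R)
      (LinearMap.id - LinearMap.inl R M R ∘ₗ (LinearMap.toSpanSingleton R M q) ∘ₗ LinearMap.snd R M R)
      (by ext <;> simp) (by ext <;> simp)
  let A₂ : (M × R) ≃ₗ[R] (M × R) :=
    LinearEquiv.ofLinear
      (LinearMap.id + LinearMap.inr R M R ∘ₗ ((1 - a) • ψ) ∘ₗ LinearMap.fst R M R)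
      (LinearMap.id - LinearMap.inr R M R ∘ₗ ((1 - a) • ψ) ∘ₗ LinearMap.fst R M R)
      (by ext <;> simp) (by ext <;> simp)
  let A₃ : (M × R) ≃ₗ[R] (M × R) :=
    LinearEquiv.ofLinear
      (LinearMap.id - LinearMap.inl R M R ∘ₗ (LinearMap.toSpanSingleton R M u) ∘ₗ LinearMap.snd R M R)
      (LinearMap.id + LinearMap.inl R M R ∘ₗ (LinearMap.toSpanSingleton R M u) ∘ₗ LinearMap.snd R M R)
      (by ext <;> simp) (by ext <;> simp)
  refine ⟨A₁ ≪≫ₗ A₂ ≪≫ₗ A₃, ?_⟩
  have h1 : A₁ (p, a) = (u, a) := by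
    ext <;> simp [A₁, u]
  have h2 : A₂ (u, a) = (u, 1) := by
    ext <;> simp [A₂, u, hψ]
  have h3 : A₃ (u, 1) = (0, 1) := by
    ext <;> simp [A₃]
  rw [LinearEquiv.trans_apply, LinearEquiv.trans_apply, h1, h2, h3]

variable {M' : Type u} [AddCommGroup M'] [Module R M']

theorem cancel_one [Module.Finite R M] [Module.Projective R M] {d : ℕ}
    (hd : ringKrullDim R ≤ d) (hrk : ∀ x : PrimeSpectrum R, d + 1 ≤ Module.rankAtStalk (R := R) M x)
    (e : (M × R) ≃ₗ[R] (M' × R)) : Nonempty (M ≃ₗ[R] M') := by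
  obtain ⟨θ, hθ⟩ := exists_linearEquiv_prod_fixing hd hrk (e.symm (0, 1))
    ⟨LinearMap.snd R M' R ∘ₗ e.toLinearMap, by simp⟩
  let Θ : (M × R) ≃ₗ[R] (M' × R) := θ.symm ≪≫ₗ e
  have hΘ : Θ (0, 1) = (0, 1) := by
    simp only [Θ, LinearEquiv.trans_apply, ← hθ, LinearEquiv.symm_apply_apply,
      LinearEquiv.apply_symm_apply]
  have hΘ' : Θ.symm (0, 1) = (0, 1) := by rw [LinearEquiv.symm_apply_eq, hΘ]
  refine ⟨LinearEquiv.ofLinear (LinearMap.fst R M' R ∘ₗ Θ.toLinearMap ∘ₗ LinearMap.inl R M R)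
    (LinearMap.fst R M R ∘ₗ Θ.symm.toLinearMap ∘ₗ LinearMap.inl R M' R) ?_ ?_⟩
  · ext y
    show (Θ ((Θ.symm (y, 0)).1, 0)).1 = y
    have h : (((Θ.symm (y, 0)).1, 0) : M × R) = Θ.symm (y, 0) - (Θ.symm (y, 0)).2 • (0, 1) := by
      ext <;> simp
    rw [h, map_sub, map_smul, hΘ, LinearEquiv.apply_symm_apply]
    simp
  · ext z
    show (Θ.symm ((Θ (z, 0)).1, 0)).1 = z
    have h : (((Θ (z, 0)).1, 0) : M' × R) = Θ (z, 0) - (Θ (z, 0)).2 • (0, 1) := by
      ext <;> simp
    rw [h, map_sub, map_smul, hΘ', LinearEquiv.symm_apply_apply]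
    simp

theorem cancel {d : ℕ} (hd : ringKrullDim R ≤ d) [Module.Finite R M] [Module.Projective R M]
    (hrk : ∀ x : PrimeSpectrum R, d + 1 ≤ Module.rankAtStalk (R := R) M x)
    (m : ℕ) (e : (M × (Fin m → R)) ≃ₗ[R] (M' × (Fin m → R))) : Nonempty (M ≃ₗ[R] M') := by
  induction m with
  | zero => exact ⟨LinearEquiv.prodUnique.symm ≪≫ₗ e ≪≫ₗ LinearEquiv.prodUnique⟩
  | succ m ih =>
    let sp : ∀ (N : Type u) [AddCommGroup N] [Module R N],
        (N × (Fin (m + 1) → R)) ≃ₗ[R] ((N × (Fin m → R)) × R) := fun N _ _ ↦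
      LinearEquiv.prodCongr (LinearEquiv.refl R N)
          ((Fin.consLinearEquiv R fun _ : Fin (m + 1) ↦ R).symm ≪≫ₗ LinearEquiv.prodComm R R (Fin m → R))
        ≪≫ₗ (LinearEquiv.prodAssoc R N (Fin m → R) R).symm
    obtain ⟨e'⟩ := cancel_one (M' := M' × (Fin m → R)) hd (fun x ↦ (hrk x).trans (by
      rw [Module.rankAtStalk_prod]
      exact Nat.le_add_right _ _)) ((sp M).symm ≪≫ₗ e ≪≫ₗ sp M')
    exact ih e'

theorem exists_isCompl_free {d : ℕ} (hd : ringKrullDim R ≤ d) [Module.Finite R M] [Module.Projective R M]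
    (k : ℕ) (hrk : ∀ x : PrimeSpectrum R, d + k ≤ Module.rankAtStalk (R := R) M x) :
    ∃ (P₀ Q : Submodule R M), IsCompl P₀ Q ∧ Nonempty (Q ≃ₗ[R] (Fin k → R)) := by
  induction k with
  | zero => exact ⟨⊤, ⊥, isCompl_top_bot, ⟨LinearEquiv.ofSubsingleton _ _⟩⟩
  | succ k ih =>
    obtain ⟨P₀, Q, hc, ⟨eQ⟩⟩ := ih (fun x ↦ le_trans (by omega) (hrk x))
    let e₀ : (P₀ × Q) ≃ₗ[R] M := Submodule.prodEquivOfIsCompl P₀ Q hc
    haveI : Module.Finite R P₀ := Module.Finite.of_surjective (Submodule.projectionOnto P₀ Q hc)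
      fun y ↦ ⟨y, Submodule.projectionOnto_apply_left hc y⟩
    haveI : Module.Projective R P₀ := Module.Projective.of_split P₀.subtype
      (Submodule.projectionOnto P₀ Q hc) (LinearMap.ext fun y ↦ Submodule.projectionOnto_apply_left hc y)
    haveI : Module.Finite R Q := Module.Finite.equiv eQ.symm
    haveI : Module.Free R Q := Module.Free.of_equiv eQ.symm
    have hP₀ : ∀ x : PrimeSpectrum R, d + 1 ≤ Module.rankAtStalk (R := R) P₀ x := fun x ↦ by
      haveI := x.2.ne_top
      haveI : Nontrivial R := ⟨⟨0, 1, fun h ↦ x.2.ne_top ((Ideal.eq_top_iff_one _).mpr (h ▸ x.asIdeal.zero_mem))⟩⟩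
      have h := hrk x
      rw [← Module.rankAtStalk_eq_of_equiv e₀, Module.rankAtStalk_prod, Pi.add_apply,
        Module.rankAtStalk_eq_finrank_of_free (M := Q)] at h
      simp [eQ.finrank_eq] at h
      omega
    obtain ⟨q, hq⟩ := exists_forall_add_smul_ne_zero hd
      (fun x ↦ le_finrank_Vq (d + 1) x (hP₀ _)) (0 : P₀) 1
      (fun x ↦ Or.inr ((Ideal.ne_top_iff_one _).mp x.isMaximal.ne_top))
    rw [zero_add, one_smul] at hq
    obtain ⟨ψ, hψ⟩ := exists_dual_eq_one q hq
    let s : P₀ := q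
    let T : M ≃ₗ[R] (LinearMap.ker ψ × (Q × R)) :=
      e₀.symm ≪≫ₗ LinearEquiv.prodCongr (LinearEquiv.ofLinear
          ((LinearMap.id - (LinearMap.toSpanSingleton R P₀ s) ∘ₗ ψ).codRestrict (LinearMap.ker ψ)
            (fun y ↦ by simp [s, hψ]) |>.prod ψ)
          ((LinearMap.ker ψ).subtype.coprod (LinearMap.toSpanSingleton R P₀ s))
          (by
            ext z <;> simp [s, hψ, LinearMap.mem_ker.mp])
          (by ext y; simp [s]))
        (LinearEquiv.refl R Q) ≪≫ₗ LinearEquiv.prodAssoc R (LinearMap.ker ψ) R Q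
        ≪≫ₗ LinearEquiv.prodCongr (LinearEquiv.refl R _) (LinearEquiv.prodComm R R Q)
    refine ⟨LinearMap.range (T.symm.toLinearMap ∘ₗ LinearMap.inl R _ _),
      LinearMap.range (T.symm.toLinearMap ∘ₗ LinearMap.inr R _ _), ?_, ⟨?_⟩⟩
    · rw [LinearMap.range_comp, LinearMap.range_comp]
      exact (LinearMap.isCompl_range_inl_inr).map (Submodule.orderIsoMapComap T.symm)
    · exact (LinearEquiv.ofInjective (T.symm.toLinearMap ∘ₗ LinearMap.inr R (LinearMap.ker ψ) (Q × R))
        (T.symm.injective.comp LinearMap.inr_injective)).symm ≪≫ₗ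
        LinearEquiv.prodCongr eQ (LinearEquiv.refl R R) ≪≫ₗ LinearEquiv.prodComm R _ R ≪≫ₗ
        Fin.consLinearEquiv R (fun _ : Fin (k + 1) ↦ R)

end Groth.Agent.H3CAlg.BassCancel
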