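import Groth.Agent.H24Formal2.PunctFormal
import Groth.Agent.H4DR.RG.CechCompl

/-!
# Natural comparison of the cohomology of a punctured spectrum with the extended Čech complex
-/

set_option autoImplicit false
set_option linter.style.haveILetI false
set_option linter.unusedSectionVars false

universe u

open CategoryTheory CategoryTheory.Limits AlgebraicGeometry Opposite CategoryTheory.Abelian TopologicalSpace
open Groth.Agent.H4DR.RG (chMap)
open Groth.Agent.H4DR.RHom (cls exists_cls cls_eq_zero_iff homologyMap_cls)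
open Groth.Agent.H4Cech (aug)

namespace Groth.Agent.H3CAlg.PunctCech

attribute [local instance 10000] H10Coh.hasSheafifyAb H10Coh.hasWeakSheafifyAb H10Coh.hasExtAb H10Coh.enoughInjAb

variable {A : Type u} [CommRing A] (fs : List A)
variable {L M N L' M' N' P : Type u} [AddCommGroup L] [Module A L] [AddCommGroup M] [Module A M] [AddCommGroup N] [Module A N]
  [AddCommGroup L'] [Module A L'] [AddCommGroup M'] [Module A M'] [AddCommGroup N'] [Module A N']
  [AddCommGroup P] [Module A P]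

/-! ### Čech side -/

/-- The Čech complex. -/
noncomputable abbrev C (M : Type u) [AddCommGroup M] [Module A M] : DRing.Cx A :=
  DerCA.extCech (ModuleCat.of A M) fs

/-- Its cohomology. -/
noncomputable abbrev Hc (i : ℤ) (M : Type u) [AddCommGroup M] [Module A M] : Type u := (C fs M).homology i

/-- Functoriality. -/
noncomputable abbrev hc (φ : M →ₗ[A] N) (i : ℤ) : Hc fs i M →ₗ[A] Hc fs i N :=
  (HomologicalComplex.homologyMap (chMap (ModuleCat.ofHom φ) fs) i).hom

theorem chMap_comp (φ : M →ₗ[A] N) (ψ : N →ₗ[A] P) :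
    chMap (ModuleCat.ofHom φ) fs ≫ chMap (ModuleCat.ofHom ψ) fs = chMap (ModuleCat.ofHom (ψ ∘ₗ φ)) fs := by
  ext p : 1
  exact ModuleCat.hom_ext (LinearMap.ext fun x =>
    (H4DR.RG.mapX_comp (ModuleCat.ofHom φ) (ModuleCat.ofHom ψ) fs p x).symm)

theorem hc_comp (φ : M →ₗ[A] N) (ψ : N →ₗ[A] P) (i : ℤ) (x : Hc fs i M) :
    hc fs ψ i (hc fs φ i x) = hc fs (ψ ∘ₗ φ) i x := by
  show _ = (HomologicalComplex.homologyMap (chMap (ModuleCat.ofHom (ψ ∘ₗ φ)) fs) i).hom x
  rw [← chMap_comp, HomologicalComplex.homologyMap_comp]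
  rfl

section SES

variable {f : L →ₗ[A] M} {g : M →ₗ[A] N} (hf : Function.Injective f) (hg : Function.Surjective g)
  (hfg : Function.Exact f g)

/-- The short complex of Čech complexes. -/
noncomputable abbrev seqC (hfg : Function.Exact f g) : ShortComplex (DRing.Cx A) :=
  ShortComplex.mk (chMap (ModuleCat.ofHom f) fs) (chMap (ModuleCat.ofHom g) fs) (by
    ext p : 1
    exact ModuleCat.hom_ext (LinearMap.ext fun x =>
      (H4Cech.mapX_exact (ModuleCat.ofHom g) (ModuleCat.ofHom f) hfg fs p).apply_apply_eq_zero x))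

include hf hg in
theorem seqC_shortExact : (seqC fs hfg).ShortExact :=
  HomologicalComplex.shortExact_of_degreewise_shortExact _ fun p =>
    { exact := (ShortComplex.ShortExact.moduleCat_exact_iff_function_exact _).2
        (H4Cech.mapX_exact (ModuleCat.ofHom g) (ModuleCat.ofHom f) hfg fs p)
      mono_f := (ModuleCat.mono_iff_injective _).2 (H4Cech.mapX_injective (ModuleCat.ofHom f) hf fs p)
      epi_g := (ModuleCat.epi_iff_surjective _).2 (H4Cech.mapX_surjective (ModuleCat.ofHom g) hg fs p) }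

/-- The connecting map. -/
noncomputable def δc (i j : ℤ) (h : i + 1 = j) : Hc fs i N →ₗ[A] Hc fs j L :=
  ((seqC_shortExact fs hf hg hfg).δ i j h).hom

theorem exact_g_δc (i j : ℤ) (h : i + 1 = j) : Function.Exact (hc fs g i) (δc fs hf hg hfg i j h) :=
  (ShortComplex.ShortExact.moduleCat_exact_iff_function_exact _).1
    ((seqC_shortExact fs hf hg hfg).homology_exact₃ i j h)

theorem exact_δc_f (i j : ℤ) (h : i + 1 = j) : Function.Exact (δc fs hf hg hfg i j h) (hc fs f j) :=
  (ShortComplex.ShortExact.moduleCat_exact_iff_function_exact _).1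
    ((seqC_shortExact fs hf hg hfg).homology_exact₁ i j h)

include hf hg hfg in
theorem exact_f_g (i : ℤ) : Function.Exact (hc fs f i) (hc fs g i) :=
  (ShortComplex.ShortExact.moduleCat_exact_iff_function_exact _).1
    ((seqC_shortExact fs hf hg hfg).homology_exact₂ i)

variable {f' : L' →ₗ[A] M'} {g' : M' →ₗ[A] N'} (hf' : Function.Injective f') (hg' : Function.Surjective g')
  (hfg' : Function.Exact f' g') {a : L →ₗ[A] L'} {b : M →ₗ[A] M'} {c : N →ₗ[A] N'}

theorem δc_natural (h₁ : f' ∘ₗ a = b ∘ₗ f) (h₂ : g' ∘ₗ b = c ∘ₗ g) (i j : ℤ) (h : i + 1 = j) (x : Hc fs i N) :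
    δc fs hf' hg' hfg' i j h (hc fs c i x) = hc fs a j (δc fs hf hg hfg i j h x) := by
  let φ : seqC fs hfg ⟶ seqC fs hfg' :=
    { τ₁ := chMap (ModuleCat.ofHom a) fs
      τ₂ := chMap (ModuleCat.ofHom b) fs
      τ₃ := chMap (ModuleCat.ofHom c) fs
      comm₁₂ := by rw [chMap_comp, chMap_comp, h₁]
      comm₂₃ := by rw [chMap_comp, chMap_comp, h₂] }
  exact (congr($(HomologicalComplex.HomologySequence.δ_naturality φ (seqC_shortExact fs hf hg hfg)
    (seqC_shortExact fs hf' hg' hfg') i j h).hom x)).symm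

end SES

theorem subsingleton_Hc_injective [IsNoetherianRing A] (M : Type u) [AddCommGroup M] [Module A M]
    [Module.Injective A M] (p : ℤ) (hp : 1 ≤ p) : Subsingleton (Hc fs p M) :=
  ModuleCat.isZero_iff_subsingleton.1
    ((H4Cech.isZero_homology_iff _ p).2 (H4Cech.exactAt_of_injective (ModuleCat.of A M) fs p hp))

/-- The class map in degree zero is bijective. -/
theorem bijective_π0 (M : Type u) [AddCommGroup M] [Module A M] :
    Function.Bijective ((C fs M).homologyπ 0).hom := by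
  refine ⟨(injective_iff_map_eq_zero _).2 fun c hc => ?_, (ModuleCat.epi_iff_surjective _).1 inferInstance⟩
  have hd : ((C fs M).d 0 (0 + 1)).hom (((C fs M).iCycles 0).hom c) = 0 :=
    congr($((C fs M).iCycles_d 0 (0 + 1)).hom c)
  have h0 : cls (C fs M) 0 _ hd = 0 := Eq.trans (congrArg ((C fs M).homologyπ 0).hom
    ((ModuleCat.mono_iff_injective ((C fs M).iCycles 0)).1 inferInstance (H4DR.RHom.iCycles_cls _ 0 _ hd))) hc
  obtain ⟨b, hb⟩ := (cls_eq_zero_iff _ 0 _ hd).1 h0
  refine (ModuleCat.mono_iff_injective ((C fs M).iCycles 0)).1 inferInstance ?_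
  rw [← hb, @Subsingleton.elim _ (H4Cech.subsingleton_X_of_neg (ModuleCat.of A M) fs (0 - 1) (by norm_num)) b 0,
    map_zero, map_zero]

/-- Degree zero cohomology inside the module. -/
noncomputable def τ (M : Type u) [AddCommGroup M] [Module A M] : Hc fs 0 M →ₗ[A] M :=
  aug (ModuleCat.of A M) fs ∘ₗ ((C fs M).iCycles 0).hom ∘ₗ (LinearEquiv.ofBijective _ (bijective_π0 fs M)).symm.toLinearMap

theorem τ_cls (z : (C fs M).X 0) (hz : ((C fs M).d 0 (0 + 1)).hom z = 0) :
    τ fs M (cls (C fs M) 0 z hz) = aug (ModuleCat.of A M) fs z := by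
  show aug _ fs (((C fs M).iCycles 0).hom _) = _
  congr 1
  refine Eq.trans ?_ (H4DR.RHom.iCycles_cls (C fs M) 0 z hz)
  congr 1
  exact (LinearEquiv.ofBijective _ (bijective_π0 fs M)).symm_apply_apply _

theorem τ_natural (φ : M →ₗ[A] N) (x : Hc fs 0 M) : τ fs N (hc fs φ 0 x) = φ (τ fs M x) := by
  obtain ⟨z, hz, rfl⟩ := exists_cls (C fs M) 0 x
  have hz' : ((C fs N).d 0 (0 + 1)).hom (H4Cech.mapX (ModuleCat.ofHom φ) fs 0 z) = 0 :=
    (H4Cech.mapX_d (ModuleCat.ofHom φ) fs 0 (0 + 1) rfl z).symm.trans ((congrArg _ hz).trans (map_zero _))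
  rw [τ_cls, hc, homologyMap_cls (chMap (ModuleCat.ofHom φ) fs) 0 z hz hz']
  exact (τ_cls fs _ hz').trans (H4Cech.mapX_aug (ModuleCat.ofHom φ) fs z)

theorem τ_injective (M : Type u) [AddCommGroup M] [Module A M] : Function.Injective (τ fs M) := by
  refine (injective_iff_map_eq_zero _).2 fun x hx => ?_
  obtain ⟨z, hz, rfl⟩ := exists_cls (C fs M) 0 x
  rw [τ_cls] at hx
  refine (cls_eq_zero_iff _ 0 z hz).2 ⟨0, ?_⟩
  rw [map_zero]
  exact ((H4Cech.aug_bijective (ModuleCat.of A M) fs).1 (hx.trans (map_zero _).symm)).symm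

theorem mem_range_τ (m : M) : (∃ x, τ fs M x = m) ↔ m ∈ DRing.torsionSub (Ideal.ofList fs) M := by
  constructor
  · rintro ⟨x, rfl⟩
    obtain ⟨z, hz, rfl⟩ := exists_cls (C fs M) 0 x
    rw [τ_cls]
    exact (H4Cech.d_zero_iff_mem_torsionSub (ModuleCat.of A M) fs z).1 hz
  · intro hm
    obtain ⟨z, rfl⟩ := (H4Cech.aug_bijective (ModuleCat.of A M) fs).2 m
    exact ⟨cls (C fs M) 0 z ((H4Cech.d_zero_iff_mem_torsionSub (ModuleCat.of A M) fs z).2 hm), τ_cls fs z _⟩

/-! ### Sheaf side -/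

variable (V : (Spec (CommRingCat.of A)).Opens)

/-- `H^i(V, M~)`. -/
noncomputable abbrev Hv (i : ℕ) (M : Type u) [AddCommGroup M] [Module A M] : Type u :=
  H24Formal2.Gen.H (H24Formal2.tsh A) (CohCx.freeSheaf _ V) M i

/-- Functoriality. -/
noncomputable abbrev hv (φ : M →ₗ[A] N) (i : ℕ) : Hv V i M →+ Hv V i N :=
  H24Formal2.Gen.hm (H24Formal2.tsh A) (CohCx.freeSheaf _ V) φ i

theorem hv_comp (φ : M →ₗ[A] N) (ψ : N →ₗ[A] P) (i : ℕ) (x : Hv V i M) :
    hv V ψ i (hv V φ i x) = hv V (ψ ∘ₗ φ) i x :=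
  H24Formal2.Gen.hm_comp _ _ _ _ _ _

section SESv

variable {f : L →ₗ[A] M} {g : M →ₗ[A] N} (hf : Function.Injective f) (hg : Function.Surjective g)
  (hfg : Function.Exact f g)

/-- The short complex of sheaves. -/
noncomputable abbrev seqV (hfg : Function.Exact f g) : ShortComplex (CohTop.Ab (Spec (CommRingCat.of A)).toTopCat) :=
  (ShortComplex.mk (ModuleCat.ofHom f) (ModuleCat.ofHom g)
    (ModuleCat.hom_ext (LinearMap.ext fun m => hfg.apply_apply_eq_zero m))).map (H24Formal2.tsh A)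

include hf hg in
theorem seqV_shortExact : (seqV hfg).ShortExact :=
  ShortComplex.ShortExact.map_of_exact (ShortComplex.ShortExact.mk'
    ((ShortComplex.moduleCat_exact_iff _).2 fun y hy => (hfg y).1 hy)
    ((ModuleCat.mono_iff_injective _).2 hf) ((ModuleCat.epi_iff_surjective _).2 hg)) (H24Formal2.tsh A)

/-- The connecting map. -/
noncomputable def δv (i : ℕ) : Hv V i N →+ Hv V (i + 1) L :=
  (seqV_shortExact hf hg hfg).extClass.postcomp _ (rfl : i + 1 = i + 1)

theorem δv_eq_zero_iff (i : ℕ) (x : Hv V i N) : δv V hf hg hfg i x = 0 ↔ ∃ y, hv V g i y = x := by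
  constructor
  · exact fun h => Ext.covariant_sequence_exact₃ _ (seqV_shortExact hf hg hfg) x rfl h
  · rintro ⟨y, rfl⟩
    exact (Ext.comp_assoc_of_second_deg_zero _ _ _ _).trans
      ((congrArg (fun z => Ext.comp y z (rfl : i + 1 = i + 1)) (seqV_shortExact hf hg hfg).comp_extClass).trans
        (Ext.comp_zero _ _ _ _ _))

theorem exists_δv_eq (i : ℕ) (x : Hv V (i + 1) L) (h : hv V f (i + 1) x = 0) : ∃ y, δv V hf hg hfg i y = x :=
  Ext.covariant_sequence_exact₁ _ (seqV_shortExact hf hg hfg) x h rfl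

include hf hg hfg in
theorem exists_hv_eq (i : ℕ) (x : Hv V i M) (h : hv V g i x = 0) : ∃ y, hv V f i y = x :=
  Ext.covariant_sequence_exact₂ _ (seqV_shortExact hf hg hfg) x h

variable {f' : L' →ₗ[A] M'} {g' : M' →ₗ[A] N'} (hf' : Function.Injective f') (hg' : Function.Surjective g')
  (hfg' : Function.Exact f' g') {a : L →ₗ[A] L'} {b : M →ₗ[A] M'} {c : N →ₗ[A] N'}

theorem δv_natural (h₁ : f' ∘ₗ a = b ∘ₗ f) (h₂ : g' ∘ₗ b = c ∘ₗ g) (i : ℕ) (x : Hv V i N) :
    δv V hf' hg' hfg' i (hv V c i x) = hv V a (i + 1) (δv V hf hg hfg i x) := by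
  let φ : seqV hfg ⟶ seqV hfg' :=
    { τ₁ := (H24Formal2.tsh A).map (ModuleCat.ofHom a)
      τ₂ := (H24Formal2.tsh A).map (ModuleCat.ofHom b)
      τ₃ := (H24Formal2.tsh A).map (ModuleCat.ofHom c)
      comm₁₂ := ((H24Formal2.tsh A).map_comp _ _).symm.trans ((congrArg (H24Formal2.tsh A).map
        (congrArg ModuleCat.ofHom h₁)).trans ((H24Formal2.tsh A).map_comp _ _))
      comm₂₃ := ((H24Formal2.tsh A).map_comp _ _).symm.trans ((congrArg (H24Formal2.tsh A).map
        (congrArg ModuleCat.ofHom h₂)).trans ((H24Formal2.tsh A).map_comp _ _)) }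
  show (x.comp (Ext.mk₀ φ.τ₃) (add_zero i)).comp (seqV_shortExact hf' hg' hfg').extClass rfl =
    (x.comp (seqV_shortExact hf hg hfg).extClass rfl).comp (Ext.mk₀ φ.τ₁) (add_zero (i + 1))
  exact (Ext.comp_assoc_of_second_deg_zero _ _ _ _).trans ((congrArg (fun z => Ext.comp x z (rfl : i + 1 = i + 1))
    (ShortComplex.ShortExact.extClass_naturality (seqV_shortExact hf hg hfg) (seqV_shortExact hf' hg' hfg') φ).symm).trans
      (Ext.comp_assoc_of_third_deg_zero _ _ _ _).symm)

end SESv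

end Groth.Agent.H3CAlg.PunctCech
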