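import Mathlib.Algebra.Category.ModuleCat.Monoidal.Basic
import Mathlib.Algebra.Category.ModuleCat.Limits
import Mathlib.CategoryTheory.Limits.ConcreteCategory.Basic
import Mathlib.LinearAlgebra.TensorProduct.RightExactness
import Mathlib.LinearAlgebra.TensorProduct.Pi
import Mathlib.RingTheory.Artinian.Module
import Mathlib.Algebra.Module.FinitePresentation
import Mathlib.RingTheory.FiniteLength

/-!
Inverse systems of Artinian modules: Mittag-Leffler and commutation of limits with finitely
presented tensor products.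
-/

universe u

open CategoryTheory CategoryTheory.Limits MonoidalCategory TensorProduct Opposite

namespace Groth.Agent.H3CAlg

variable {R : Type u} [CommRing R]

/-- Preimages of a compatible family can be chosen compatibly if the sources are Artinian. -/
theorem exists_compatible_preimage {P Q : ℕ → Type u} [∀ n, AddCommGroup (P n)] [∀ n, Module R (P n)]
    [∀ n, AddCommGroup (Q n)] [∀ n, Module R (Q n)] [∀ n, IsArtinian R (P n)]
    (f : ∀ m n, m ≤ n → (P n →ₗ[R] P m)) (hf₀ : ∀ n x, f n n le_rfl x = x)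
    (hf : ∀ l m n (h₁ : l ≤ m) (h₂ : m ≤ n) x, f l m h₁ (f m n h₂ x) = f l n (h₁.trans h₂) x)
    (q : ∀ m n, m ≤ n → (Q n →ₗ[R] Q m))
    (g : ∀ n, P n →ₗ[R] Q n) (hg : ∀ m n h x, g m (f m n h x) = q m n h (g n x))
    (y : ∀ n, Q n) (hy : ∀ m n h, q m n h (y n) = y m) (hmem : ∀ n, y n ∈ LinearMap.range (g n)) :
    ∃ x : ∀ n, P n, (∀ n, g n (x n) = y n) ∧ ∀ m n h, f m n h (x n) = x m := by
  choose x₀ hx₀ using hmem
  let S : ∀ n k, n ≤ k → Submodule R (P n) := fun n k h => (LinearMap.ker (g k)).map (f n k h)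
  have hkerf : ∀ m n h x, g n x = 0 → g m (f m n h x) = 0 := fun m n h x hx => by rw [hg, hx, map_zero]
  have hcomp : ∀ n k l (h₁ : n ≤ k) (h₂ : k ≤ l), (f n k h₁).comp (f k l h₂) = f n l (h₁.trans h₂) :=
    fun n k l h₁ h₂ => LinearMap.ext fun x => hf _ _ _ _ _ x
  have hanti : ∀ n k l (h₁ : n ≤ k) (h₂ : k ≤ l), S n l (h₁.trans h₂) ≤ S n k h₁ := by
    rintro n k l h₁ h₂ _ ⟨x, hx, rfl⟩
    exact ⟨f k l h₂ x, hkerf _ _ _ _ hx, hf _ _ _ _ _ _⟩
  have hstab : ∀ n, ∃ (K : ℕ) (h : n ≤ K), ∀ k (h' : K ≤ k), S n K h = S n k (h.trans h') := fun n => by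
    obtain ⟨N, hN⟩ := IsArtinian.monotone_stabilizes
      ⟨fun j => OrderDual.toDual (S n (n + j) (Nat.le_add_right n j)),
        fun j l h => hanti n (n + j) (n + l) _ (Nat.add_le_add_left h n)⟩
    refine ⟨n + N, Nat.le_add_right n N, fun k hk => ?_⟩
    obtain ⟨d, rfl⟩ := Nat.exists_eq_add_of_le hk
    have e := OrderDual.toDual.injective (hN (N + d) (Nat.le_add_right N d))
    have e' : ∀ a (ha : n ≤ a), a = n + (N + d) → S n a ha = S n (n + (N + d)) (Nat.le_add_right _ _) := by
      rintro a ha rfl; rfl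
    exact e.trans (e' _ _ (by omega)).symm
  choose K hK hKeq using hstab
  let W : ∀ n, Submodule R (P n) := fun n => S n (K n) (hK n)
  have hW : ∀ n k (h : n ≤ k), K n ≤ k → W n = S n k h := fun n k _ hk => hKeq n k hk
  let z : ∀ n, P n := fun n => f n (K n) (hK n) (x₀ _)
  have hz : ∀ n k (h : n ≤ k), K n ≤ k → z n - f n k h (x₀ k) ∈ W n := by
    intro n k h hk
    refine ⟨x₀ (K n) - f (K n) k hk (x₀ k), ?_, ?_⟩
    · rw [SetLike.mem_coe, LinearMap.mem_ker, map_sub, hg, hx₀, hx₀, hy, sub_self]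
    · rw [map_sub, hf]
  have hmapW : ∀ n, (W (n + 1)).map (f n (n + 1) n.le_succ) = W n := fun n => by
    have hk : n + 1 ≤ max (max (K n) (K (n + 1))) (n + 1) := le_max_right _ _
    rw [hW (n + 1) _ hk (le_trans (le_max_right _ _) (le_max_left _ _)),
      hW n _ (n.le_succ.trans hk) (le_trans (le_max_left _ _) (le_max_left _ _))]
    simp only [S]
    rw [← Submodule.map_comp, hcomp]
  have hdiff : ∀ n, f n (n + 1) n.le_succ (z (n + 1)) - z n ∈ W n := by
    intro n
    have hk : n + 1 ≤ max (max (K n) (K (n + 1))) (n + 1) := le_max_right _ _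
    have h1 := hz n _ (n.le_succ.trans hk) (le_trans (le_max_left _ _) (le_max_left _ _))
    have h2 : f n (n + 1) n.le_succ (z (n + 1) - f (n + 1) _ hk (x₀ _)) ∈ W n := by
      rw [← hmapW]
      exact Submodule.mem_map_of_mem (hz (n + 1) _ hk (le_trans (le_max_right _ _) (le_max_left _ _)))
    rw [map_sub, hf n (n + 1) (max (max (K n) (K (n + 1))) (n + 1)) n.le_succ hk] at h2
    have h3 := sub_mem h2 h1
    rwa [sub_sub_sub_cancel_right] at h3
  -- successive choices
  have hnext : ∀ n (w : P n), w - z n ∈ W n → ∃ v : P (n + 1), v - z (n + 1) ∈ W (n + 1) ∧ f n (n + 1) n.le_succ v = w := by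
    intro n w hw
    obtain ⟨e, he, he'⟩ := (hmapW n).ge (sub_mem (hdiff n) hw)
    refine ⟨z (n + 1) - e, by simpa using he, ?_⟩
    rw [map_sub, he']
    abel
  choose nx hnx₁ hnx₂ using hnext
  let w : ∀ n, {v : P n // v - z n ∈ W n} := fun n =>
    Nat.rec ⟨z 0, by simp⟩ (fun n v => ⟨nx n v.1 v.2, hnx₁ n v.1 v.2⟩) n
  refine ⟨fun n => (w n).1, fun n => ?_, fun m n h => ?_⟩
  · obtain ⟨e, he, he'⟩ := (w n).2
    have : (w n).1 = f n (K n) (hK n) (e + x₀ _) := by rw [map_add, he', sub_add_cancel]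
    show g n (w n).1 = y n
    rw [this, hg, map_add, LinearMap.mem_ker.mp he, zero_add, hx₀, hy]
  · induction h with
    | refl => exact hf₀ _ _
    | @step n h ih =>
      rw [← hf m n (n + 1) h n.le_succ, show f n (n + 1) n.le_succ (w (n + 1)).1 = (w n).1 from hnx₂ n _ _, ih]

/-- Existence of elements of a limit with prescribed projections. -/
theorem exists_limit_elem {J : Type*} [SmallCategory J] (M : J ⥤ ModuleCat.{u} R) [HasLimit M]
    (s : ∀ j, M.obj j) (hs : ∀ i j (φ : i ⟶ j), (M.map φ).hom (s i) = s j) :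
    ∃ x : (limit M : ModuleCat.{u} R), ∀ j, (limit.π M j).hom x = s j := by
  let c : Cone M :=
    { pt := ModuleCat.of R R
      π := { app := fun j => ModuleCat.ofHom (LinearMap.toSpanSingleton R (M.obj j) (s j))
             naturality := fun i j φ => ModuleCat.hom_ext (LinearMap.ext fun r => by
               change r • s j = (M.map φ).hom (r • s i)
               rw [map_smul, hs]) } }
  refine ⟨(limit.lift M c).hom (1 : R), fun j => ?_⟩
  have := congrArg (fun φ : c.pt ⟶ M.obj j => φ.hom (1 : R)) (limit.lift_π c j)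
  exact this.trans (one_smul R (s j))

section Presentation

variable {N : Type u} [AddCommGroup N] [Module R N] {a b : ℕ}
  (r : (Fin a → R) →ₗ[R] (Fin b → R)) (π : (Fin b → R) →ₗ[R] N)

/-- `X^b → X ⊗ N` -/
noncomputable def presPhi (X : Type u) [AddCommGroup X] [Module R X] : (Fin b → X) →ₗ[R] X ⊗[R] N :=
  π.lTensor X ∘ₗ (TensorProduct.piScalarRight R R X (Fin b)).symm.toLinearMap

/-- `X^a → X^b` -/
noncomputable def presPsi (X : Type u) [AddCommGroup X] [Module R X] : (Fin a → X) →ₗ[R] (Fin b → X) :=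
  (TensorProduct.piScalarRight R R X (Fin b)).toLinearMap ∘ₗ r.lTensor X ∘ₗ
    (TensorProduct.piScalarRight R R X (Fin a)).symm.toLinearMap

theorem presPhi_surjective (hπ : Function.Surjective π) (X : Type u) [AddCommGroup X] [Module R X] :
    Function.Surjective (presPhi π X) :=
  (LinearMap.lTensor_surjective X hπ).comp (LinearEquiv.surjective _)

theorem presPhi_eq_zero_iff (hπ : Function.Surjective π) (hr : Function.Exact r π)
    (X : Type u) [AddCommGroup X] [Module R X] (v : Fin b → X) :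
    presPhi π X v = 0 ↔ v ∈ LinearMap.range (presPsi r X) := by
  have hex := lTensor_exact X hr hπ
  constructor
  · intro h
    obtain ⟨z, hz⟩ := (hex _).mp h
    refine ⟨(TensorProduct.piScalarRight R R X (Fin a)) z, ?_⟩
    simp only [presPsi, LinearMap.comp_apply, LinearEquiv.coe_coe, LinearEquiv.symm_apply_apply, hz,
      LinearEquiv.apply_symm_apply]
  · rintro ⟨w, rfl⟩
    simp only [presPhi, presPsi, LinearMap.comp_apply, LinearEquiv.coe_coe, LinearEquiv.symm_apply_apply]
    exact hex.apply_apply_eq_zero _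

theorem piScalarRight_natural {X Y : Type u} [AddCommGroup X] [Module R X] [AddCommGroup Y] [Module R Y]
    (h : X →ₗ[R] Y) (c : ℕ) (z : X ⊗[R] (Fin c → R)) :
    TensorProduct.piScalarRight R R Y (Fin c) (h.rTensor _ z) =
      fun i => h (TensorProduct.piScalarRight R R X (Fin c) z i) := by
  induction z with
  | zero => funext i; simp
  | tmul x v => funext i; simp
  | add x y hx hy => rw [map_add, map_add, map_add, hx, hy]; funext i; simp

theorem presPhi_natural {X Y : Type u} [AddCommGroup X] [Module R X] [AddCommGroup Y] [Module R Y]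
    (h : X →ₗ[R] Y) (v : Fin b → X) :
    presPhi π Y (fun i => h (v i)) = h.rTensor N (presPhi π X v) := by
  obtain ⟨z, rfl⟩ := (TensorProduct.piScalarRight R R X (Fin b)).surjective v
  rw [← piScalarRight_natural]
  simp only [presPhi, LinearMap.comp_apply, LinearEquiv.coe_coe, LinearEquiv.symm_apply_apply]
  rw [← LinearMap.comp_apply, ← LinearMap.comp_apply (h.rTensor N), LinearMap.lTensor_comp_rTensor,
    LinearMap.rTensor_comp_lTensor]

theorem presPsi_natural {X Y : Type u} [AddCommGroup X] [Module R X] [AddCommGroup Y] [Module R Y]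
    (h : X →ₗ[R] Y) (v : Fin a → X) :
    presPsi r Y (fun i => h (v i)) = fun i => h (presPsi r X v i) := by
  obtain ⟨z, rfl⟩ := (TensorProduct.piScalarRight R R X (Fin a)).surjective v
  rw [← piScalarRight_natural]
  simp only [presPsi, LinearMap.comp_apply, LinearEquiv.coe_coe, LinearEquiv.symm_apply_apply]
  rw [← LinearMap.comp_apply, LinearMap.lTensor_comp_rTensor, ← LinearMap.rTensor_comp_lTensor,
    LinearMap.comp_apply, piScalarRight_natural]

end Presentation

/-- A finitely presented module tensored with a limit of modules of finite length. -/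
theorem isIso_limit_post_tensorRight (M : ℕᵒᵖ ⥤ ModuleCat.{u} R) (hM : ∀ n : ℕᵒᵖ, IsFiniteLength R (M.obj n))
    (N : Type u) [AddCommGroup N] [Module R N] [Module.FinitePresentation R N] :
    IsIso (limit.post M (tensorRight (ModuleCat.of R N))) := by
  classical
  obtain ⟨b, K₀, e, hK₀⟩ := Module.FinitePresentation.exists_fin R N
  obtain ⟨a, g₀, hg₀⟩ := Submodule.fg_iff_exists_fin_generating_family.mp hK₀
  let r : (Fin a → R) →ₗ[R] (Fin b → R) := Fintype.linearCombination R g₀
  let π : (Fin b → R) →ₗ[R] N := e.symm.toLinearMap ∘ₗ K₀.mkQ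
  have hπ : Function.Surjective π := e.symm.surjective.comp (Submodule.mkQ_surjective _)
  have hr : Function.Exact r π := by
    intro x
    simp only [π, LinearMap.comp_apply, LinearEquiv.coe_coe, LinearEquiv.map_eq_zero_iff, Submodule.mkQ_apply,
      Submodule.Quotient.mk_eq_zero]
    rw [← hg₀, ← Fintype.range_linearCombination]
    exact LinearMap.mem_range
  haveI hart : ∀ (c n : ℕ), IsArtinian R (Fin c → M.obj (op n)) := fun c n => by
    haveI := ((isFiniteLength_iff_isNoetherian_isArtinian).mp (hM (op n))).2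
    infer_instance
  let tr : ∀ m n, m ≤ n → (M.obj (op n) →ₗ[R] M.obj (op m)) := fun m n h => (M.map (homOfLE h).op).hom
  have trc : ∀ l m n (h₁ : l ≤ m) (h₂ : m ≤ n) x, tr l m h₁ (tr m n h₂ x) = tr l n (h₁.trans h₂) x := by
    intro l m n h₁ h₂ x
    change _ = (M.map (homOfLE (h₁.trans h₂)).op).hom x
    rw [← homOfLE_comp h₁ h₂, op_comp, M.map_comp]
    rfl
  have tr0 : ∀ n x, tr n n le_rfl x = x := by
    intro n x
    change (M.map (𝟙 (op n))).hom x = x
    rw [M.map_id]
    rfl
  let pr : ∀ n, (limit M : ModuleCat.{u} R) →ₗ[R] M.obj (op n) := fun n => (limit.π M (op n)).hom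
  have hpr : ∀ m n h x, tr m n h (pr n x) = pr m x := fun m n h x =>
    congrArg (fun φ : limit M ⟶ M.obj (op m) => φ.hom x) (limit.w M (homOfLE h).op)
  have hmk : ∀ {c : ℕ} (w : ∀ n, Fin c → M.obj (op n)), (∀ m n h, (fun i => tr m n h (w n i)) = w m) →
      ∃ v : Fin c → (limit M : ModuleCat.{u} R), ∀ n, (fun i => pr n (v i)) = w n := by
    intro c w hw
    have hone : ∀ i, ∃ x : (limit M : ModuleCat.{u} R), ∀ n, pr n x = w n i := by
      intro i
      obtain ⟨x, hx⟩ := exists_limit_elem M (fun j => w j.unop i) (fun j k φ => congrFun (hw k.unop j.unop (leOfHom φ.unop)) i)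
      exact ⟨x, fun n => hx (op n)⟩
    choose v hv using hone
    exact ⟨v, fun n => funext fun i => hv i n⟩
  have hext : ∀ x y : (limit M : ModuleCat.{u} R), (∀ n, pr n x = pr n y) → x = y := fun x y h =>
    Concrete.limit_ext M x y fun j => h j.unop
  let F := tensorRight (ModuleCat.of R N)
  have hpost : ∀ (n : ℕ) (z : (limit M : ModuleCat.{u} R) ⊗[R] N),
      (limit.π (M ⋙ F) (op n)).hom ((limit.post M F).hom z) = (pr n).rTensor N z := fun n z =>
    congrArg (fun φ : F.obj (limit M) ⟶ F.obj (M.obj (op n)) => φ.hom z) (limit.post_π M F (op n))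
  have hpiart : ∀ c n, IsArtinian R (Fin c → M.obj (op n)) := hart
  suffices h : Function.Bijective (limit.post M F).hom from
    (LinearEquiv.ofBijective (limit.post M F).hom h).toModuleIso.isIso_hom
  refine ⟨?_, ?_⟩
  · rw [injective_iff_map_eq_zero]
    intro (z : (limit M : ModuleCat.{u} R) ⊗[R] N) hz
    obtain ⟨v, rfl⟩ := presPhi_surjective π hπ _ z
    have h0 : ∀ n, presPhi π (M.obj (op n)) (fun i => pr n (v i)) = 0 := fun n => by
      rw [presPhi_natural, ← hpost n, hz, map_zero]
    obtain ⟨w, hw₁, hw₂⟩ := exists_compatible_preimage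
      (P := fun n => Fin a → M.obj (op n)) (Q := fun n => Fin b → M.obj (op n))
      (fun m n h => (tr m n h).compLeft (Fin a)) (fun n x => funext fun i => tr0 n _)
      (fun l m n h₁ h₂ x => funext fun i => trc l m n h₁ h₂ _)
      (fun m n h => (tr m n h).compLeft (Fin b))
      (fun n => presPsi r (M.obj (op n))) (fun m n h x => presPsi_natural r (tr m n h) x)
      (fun n i => pr n (v i)) (fun m n h => funext fun i => hpr m n h _)
      (fun n => (presPhi_eq_zero_iff r π hπ hr _ _).mp (h0 n))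
    obtain ⟨u, hu⟩ := hmk w hw₂
    refine (presPhi_eq_zero_iff r π hπ hr _ v).mpr ⟨u, funext fun i => hext _ _ fun n => ?_⟩
    rw [← congrFun (presPsi_natural r (pr n) u) i, hu, hw₁]
  · intro y
    let y' : ∀ n, M.obj (op n) ⊗[R] N := fun n => (limit.π (M ⋙ F) (op n)).hom y
    obtain ⟨w, hw₁, hw₂⟩ := exists_compatible_preimage
      (P := fun n => Fin b → M.obj (op n)) (Q := fun n => M.obj (op n) ⊗[R] N)
      (fun m n h => (tr m n h).compLeft (Fin b)) (fun n x => funext fun i => tr0 n _)
      (fun l m n h₁ h₂ x => funext fun i => trc l m n h₁ h₂ _)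
      (fun m n h => (tr m n h).rTensor N)
      (fun n => presPhi π (M.obj (op n))) (fun m n h x => presPhi_natural π (tr m n h) x)
      y' (fun m n h => congrArg (fun φ : limit (M ⋙ F) ⟶ F.obj (M.obj (op m)) => φ.hom y) (limit.w (M ⋙ F) (homOfLE h).op))
      (fun n => presPhi_surjective π hπ _ _)
    obtain ⟨v, hv⟩ := hmk w hw₂
    refine ⟨presPhi π _ v, Concrete.limit_ext (M ⋙ F) _ _ fun j => ?_⟩
    obtain ⟨n⟩ := j
    refine (hpost n _).trans ?_
    rw [← presPhi_natural, hv, hw₁]

end Groth.Agent.H3CAlg
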