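import Groth.Agent.H3CAlg.PunctCech
import Groth.Agent.H3CAlg.LimArtinian
import Groth.Agent.H4LC.Artinian
import Groth.Agent.H4LC.ChangeRings
import Groth.Agent.H4LC.NonvanishingHeight

/-!
# The cohomology of the completed Čech complex as a limit
-/

set_option autoImplicit false
set_option linter.style.haveILetI false
set_option linter.unusedSectionVars false

universe u

open CategoryTheory CategoryTheory.Limits Pretriangulated
open Groth.Agent.H4DR
open Groth.Agent.H4DR.RG (chMap)

attribute [local instance] HasDerivedCategory.standard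

namespace Groth.Agent.H3CAlg.PunctCech

variable {A : Type u} [CommRing A]

/-- `1 - shift` is surjective on a tower of Artinian modules. -/
theorem exists_telescope {K : ℕ → Type u} [∀ n, AddCommGroup (K n)] [∀ n, Module A (K n)]
    [∀ n, IsArtinian A (K n)] (t : ∀ n, K (n + 1) →ₗ[A] K n) (d : ∀ n, K n) :
    ∃ k : ∀ n, K n, ∀ n, k n - t n (k (n + 1)) = d n := by
  let P : ℕ → Type u := fun n => ∀ j : Fin (n + 1), K j
  let Q : ℕ → Type u := fun n => ∀ j : Fin n, K j
  haveI : ∀ n, IsArtinian A (P n) := fun n => inferInstanceAs (IsArtinian A (∀ j : Fin (n + 1), K j))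
  let f : ∀ m n, m ≤ n → (P n →ₗ[A] P m) := fun m n h =>
    LinearMap.pi fun j => LinearMap.proj (R := A) (φ := fun j : Fin (n + 1) => K j) (Fin.castLE (Nat.succ_le_succ h) j)
  let q : ∀ m n, m ≤ n → (Q n →ₗ[A] Q m) := fun m n h =>
    LinearMap.pi fun j => LinearMap.proj (R := A) (φ := fun j : Fin n => K j) (Fin.castLE h j)
  let g : ∀ n, P n →ₗ[A] Q n := fun n =>
    { toFun := fun v j => @id (K j) (v j.castSucc) - t j (v j.succ)
      map_add' := fun v w => funext fun j => by
        show @id (K j) (v j.castSucc + w j.castSucc) - t j (v j.succ + w j.succ) =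
          (@id (K j) (v j.castSucc) - t j (v j.succ)) + (@id (K j) (w j.castSucc) - t j (w j.succ))
        rw [map_add]
        exact add_sub_add_comm _ _ _ _
      map_smul' := fun c v => funext fun j => by
        show @id (K j) (c • v j.castSucc) - t j (c • v j.succ) = c • (@id (K j) (v j.castSucc) - t j (v j.succ))
        rw [map_smul, smul_sub]
        rfl }
  have hfin : ∀ n (u : K n), ∃ v : ∀ j, K j, v n = u ∧ ∀ j, j < n → v j - t j (v (j + 1)) = d j := by
    intro n
    induction n with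
    | zero => exact fun u => ⟨Function.update (fun j => 0) 0 u, Function.update_self .., fun j hj => absurd hj (Nat.not_lt_zero j)⟩
    | succ n ih =>
      intro u
      obtain ⟨v, hv, hv'⟩ := ih (d n + t n u)
      refine ⟨Function.update v (n + 1) u, Function.update_self .., fun j hj => ?_⟩
      rw [Function.update_of_ne (by omega)]
      rcases Nat.lt_succ_iff_lt_or_eq.1 hj with h | h
      · rw [Function.update_of_ne (by omega)]
        exact hv' j h
      · subst h
        rw [Function.update_self, hv, add_sub_cancel_right]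
  obtain ⟨x, hx, hxc⟩ := exists_compatible_preimage f (fun n x => funext fun j => rfl)
    (fun l m n h₁ h₂ x => funext fun j => rfl) q g (fun m n h x => funext fun j => rfl)
    (fun n j => d j) (fun m n h => funext fun j => rfl) (fun n => by
      obtain ⟨v, -, hv⟩ := hfin n 0
      exact ⟨fun j => v j, funext fun j => hv j j.2⟩)
  refine ⟨fun n => @id (K n) (x n (Fin.last n)), fun n => ?_⟩
  have h1 := congrFun (hx (n + 1)) (Fin.last n)
  have h2 : x (n + 1) (Fin.last n).castSucc = x n (Fin.last n) := congrFun (hxc n (n + 1) n.le_succ) (Fin.last n)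
  exact (congrArg (fun z => @id (K n) z - t n (x (n + 1) (Fin.last (n + 1)))) h2.symm).trans h1

variable [IsNoetherianRing A] (fs : List A)

theorem subsingleton_Hc_neg (M : Type u) [AddCommGroup M] [Module A M] (j : ℤ) (hj : j < 0) :
    Subsingleton (Hc fs j M) :=
  ModuleCat.isZero_iff_subsingleton.1 ((H4Cech.isZero_homology_iff _ j).2 fun x _ =>
    ⟨0, @Subsingleton.elim _ (H4Cech.subsingleton_X_of_neg (ModuleCat.of A M) fs j hj) _ _⟩)

theorem nonempty_H_equiv_of_map_eq (R' : Type u) [CommRing R'] [IsNoetherianRing R'] [Algebra A R'] {J₁ J₂ : Ideal A}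
    (h : J₁.map (algebraMap A R') = J₂.map (algebraMap A R')) (N : Type u) [AddCommGroup N] [Module R' N] [Module A N]
    [IsScalarTower A R' N] (i : ℕ) : Nonempty (LocCoh.H J₁ i N ≃ₗ[A] LocCoh.H J₂ i N) := by
  obtain ⟨φ₁, h₁⟩ := H4LC.exists_H_map_equiv R' J₁ N i
  obtain ⟨φ₂, h₂⟩ := H4LC.exists_H_map_equiv R' J₂ N i
  revert φ₁
  rw [h]
  intro φ₁ h₁
  refine ⟨{ φ₁.symm.trans φ₂ with map_smul' := fun r x => ?_ }⟩
  show φ₂ (φ₁.symm (r • x)) = r • φ₂ (φ₁.symm x)
  rw [show φ₁.symm (r • x) = algebraMap A R' r • φ₁.symm x from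
    φ₁.injective (by rw [φ₁.apply_symm_apply, h₁, φ₁.apply_symm_apply]), h₂]

theorem isArtinian_Hc [IsLocalRing A] (I : Ideal A) (hrad : (Ideal.ofList fs ⊔ I).radical = IsLocalRing.maximalIdeal A)
    (n : ℕ) (N : Type u) [AddCommGroup N] [Module A N] [Module.Finite A N] (hN : ∀ r ∈ I ^ (n + 1), ∀ x : N, r • x = 0)
    (j : ℤ) : IsArtinian A (Hc fs j N) := by
  rcases lt_or_ge j 0 with hj | hj
  · haveI := subsingleton_Hc_neg fs N j hj
    infer_instance
  obtain ⟨i, rfl⟩ := Int.eq_ofNat_of_zero_le hj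
  have hT : Module.IsTorsionBySet A N (I ^ (n + 1) : Ideal A) := fun x r => hN r.1 r.2 x
  letI : Module (A ⧸ I ^ (n + 1)) N := hT.module
  haveI : IsScalarTower A (A ⧸ I ^ (n + 1)) N := hT.isScalarTower
  obtain ⟨e⟩ := nonempty_H_equiv_of_map_eq (A ⧸ I ^ (n + 1)) (J₁ := Ideal.ofList fs) (J₂ := Ideal.ofList fs ⊔ I ^ (n + 1))
    (by rw [Ideal.map_sup, Ideal.Quotient.algebraMap_eq, Ideal.map_quotient_self, sup_bot_eq]) N i
  have hr : (Ideal.ofList fs ⊔ I ^ (n + 1)).radical = (IsLocalRing.maximalIdeal A).radical := by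
    rw [Ideal.radical_sup, Ideal.radical_pow I (Nat.succ_ne_zero n), ← Ideal.radical_sup, hrad,
      (IsLocalRing.maximalIdeal.isMaximal A).isPrime.radical]
  obtain ⟨e'⟩ := H4LC.nonempty_H_equiv_of_radical_eq hr N i
  obtain ⟨c⟩ := H4Cech.nonempty_extCechH_iso fs (ModuleCat.of A N) i
  haveI := H4LC.isArtinian_H (R := A) i N
  exact isArtinian_of_linearEquiv (c.toLinearEquiv.trans (e.trans e')).symm

/-- Transport of bijectivity from the derived completion to the Čech model. -/
theorem bijective_homologyMap_ηC (I : Ideal A) [DRing.HasDerivedCompletion I] {J : Ideal A} [DRing.HasRgammaI J]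
    (hfs : Ideal.ofList fs = J) (M : Type u) [AddCommGroup M] [Module A M] [Module.Finite A M] (i : ℤ)
    (h : Function.Bijective (PCoh.hm i (DRing.toDerivedCompletion I ((DRing.RgammaI J).obj (Dual.inD A M))))) :
    Function.Bijective (HomologicalComplex.homologyMap (DComplete.ηC I (C fs M)) i).hom := by
  have hc := (RG.isCompletion_cech I (ModuleCat.of A M) fs).of_iso (RG.cechIso hfs (ModuleCat.of A M)).symm (Iso.refl _)
  obtain ⟨E, hE⟩ := (DComplete.isCompletion_unit (I := I) ((DRing.RgammaI J).obj (Dual.inD A M))).exists_iso hc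
  have hq : DerivedCategory.Q.map (DComplete.ηC I (C fs M)) =
      ((RG.cechIso hfs (ModuleCat.of A M)).inv ≫ DRing.toDerivedCompletion I ((DRing.RgammaI J).obj (Dual.inD A M))) ≫ E.hom := by
    refine Eq.symm (((Category.assoc _ _ _).trans (congrArg ((RG.cechIso hfs (ModuleCat.of A M)).inv ≫ ·) hE)).trans ?_)
    rw [Iso.symm_inv, Iso.inv_hom_id_assoc, Iso.refl_hom, Category.comp_id]
  have hb : Function.Bijective (PCoh.hm i (DerivedCategory.Q.map (DComplete.ηC I (C fs M)))) := by
    rw [hq, PCoh.hm_comp, PCoh.hm_comp]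
    exact (PCoh.bijective_hm_of_isIso i E.hom).comp (h.comp (PCoh.bijective_hm_of_isIso i _))
  refine (ConcreteCategory.isIso_iff_bijective _).1 ?_
  haveI : IsIso ((DerivedCategory.Q ⋙ DerivedCategory.homologyFunctor (ModuleCat.{u} A) i).map (DComplete.ηC I (C fs M))) :=
    (ConcreteCategory.isIso_iff_bijective _).2 hb
  exact (NatIso.isIso_map_iff (DerivedCategory.homologyFunctorFactors (ModuleCat.{u} A) i) (DComplete.ηC I (C fs M))).1 inferInstance

/-- `M / I^{n+1}M → M / I^n M` in the Čech indexing. -/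
theorem cech_lim [IsLocalRing A] (I : Ideal A) (hrad : (Ideal.ofList fs ⊔ I).radical = IsLocalRing.maximalIdeal A)
    (M : Type u) [AddCommGroup M] [Module A M] [Module.Finite A M] (i : ℤ)
    (hη : Function.Bijective (HomologicalComplex.homologyMap (DComplete.ηC I (C fs M)) i).hom) :
    (∀ x : Hc fs i M, (∀ n : ℕ, hc fs (I ^ n • ⊤ : Submodule A M).mkQ i x = 0) → x = 0) ∧
    ∀ y : ∀ n, Hc fs i (M ⧸ (I ^ n • ⊤ : Submodule A M)),
      (∀ n, hc fs (RG.tq I (ModuleCat.of A M) n).hom i (y (n + 1)) = y n) →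
        ∃ x, ∀ n, hc fs (I ^ n • ⊤ : Submodule A M).mkQ i x = y n := by
  let M' : ModuleCat.{u} A := ModuleCat.of A M
  have hS := RG.sesC_shortExact I M' fs
  have hp : ∀ (j : ℤ) (x : (RG.piFam (RG.tow I M' fs)).homology j) (n : ℕ),
      RG.piFamH _ j ((HomologicalComplex.homologyMap (RG.βC I M' fs) j).hom x) n =
        RG.piFamH _ j x n - hc fs (RG.tq I M' n).hom j (RG.piFamH _ j x (n + 1)) := by
    intro j x n
    show (HomologicalComplex.homologyMap (RG.βC I M' fs) j ≫ HomologicalComplex.homologyMap (RG.piπ _ n) j).hom x = _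
    rw [← HomologicalComplex.homologyMap_comp, RG.piL_piπ, HomologicalComplex.homologyMap_sub,
      HomologicalComplex.homologyMap_comp]
    rfl
  have hproj : ∀ (x : Hc fs i M) (n : ℕ),
      RG.piFamH _ i ((HomologicalComplex.homologyMap (RG.αC I M' fs) i).hom
        ((HomologicalComplex.homologyMap (DComplete.ηC I (C fs M)) i).hom x)) n = hc fs (I ^ n • ⊤ : Submodule A M).mkQ i x := by
    intro x n
    show (HomologicalComplex.homologyMap (DComplete.ηC I (C fs M)) i ≫ HomologicalComplex.homologyMap (RG.αC I M' fs) i ≫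
      HomologicalComplex.homologyMap (RG.piπ _ n) i).hom x = _
    rw [← HomologicalComplex.homologyMap_comp, ← HomologicalComplex.homologyMap_comp, RG.piL_piπ, RG.ηC_evC]
  have hβ : Function.Surjective (HomologicalComplex.homologyMap (RG.βC I M' fs) (i - 1)).hom := by
    intro w
    haveI : ∀ n : ℕ, IsArtinian A (Hc fs (i - 1) (M ⧸ (I ^ n • ⊤ : Submodule A M))) := fun n =>
      isArtinian_Hc fs I hrad n _ (fun r hr x => by
        obtain ⟨m, rfl⟩ := Submodule.Quotient.mk_surjective _ x
        exact (Submodule.Quotient.mk_eq_zero _).2 (Submodule.smul_mem_smul (Ideal.pow_le_pow_right n.le_succ hr) Submodule.mem_top)) _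
    obtain ⟨k, hk⟩ := exists_telescope (fun n => hc fs (RG.tq I M' n).hom (i - 1))
      (RG.piFamH (RG.tow I M' fs) (i - 1) w)
    obtain ⟨v, hv⟩ := (RG.bijective_piFamH (RG.tow I M' fs) (i - 1)).2 k
    refine ⟨v, (RG.bijective_piFamH (RG.tow I M' fs) (i - 1)).1 (funext fun n => ?_)⟩
    rw [hp, hv]
    exact hk n
  have hαβ : Function.Exact (HomologicalComplex.homologyMap (RG.αC I M' fs) i).hom
      (HomologicalComplex.homologyMap (RG.βC I M' fs) i).hom :=
    (ShortComplex.ShortExact.moduleCat_exact_iff_function_exact _).1 (hS.homology_exact₂ i)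
  have hα : Function.Injective (HomologicalComplex.homologyMap (RG.αC I M' fs) i).hom := by
    refine (injective_iff_map_eq_zero _).2 fun a ha => ?_
    obtain ⟨w, rfl⟩ := (((ShortComplex.ShortExact.moduleCat_exact_iff_function_exact _).1
      (hS.homology_exact₁ (i - 1) i (by simp))) a).1 ha
    obtain ⟨v, rfl⟩ := hβ w
    exact (((ShortComplex.ShortExact.moduleCat_exact_iff_function_exact _).1
      (hS.homology_exact₃ (i - 1) i (by simp)))).apply_apply_eq_zero v
  refine ⟨fun x hx => hη.1 (hα ((RG.bijective_piFamH (RG.tow I M' fs) i).1 (funext fun n => ?_))), fun y hy => ?_⟩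
  · rw [hproj, hx, map_zero, map_zero, map_zero]
    rfl
  · obtain ⟨w, hw⟩ := (RG.bijective_piFamH (RG.tow I M' fs) i).2 y
    obtain ⟨a, ha⟩ := (hαβ w).1 ((RG.bijective_piFamH (RG.tow I M' fs) i).1 (funext fun n => by
      rw [hp, hw, map_zero]
      exact sub_eq_zero.2 (hy n).symm))
    obtain ⟨x, rfl⟩ := hη.2 a
    exact ⟨x, fun n => by rw [← hproj, ha, hw]⟩

end Groth.Agent.H3CAlg.PunctCech
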