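import Groth.Agent.H3CAlg.PunctCompare
import Groth.Agent.H3CAlg.CechLimit
import Groth.Agent.H3CAlg.AlgebraizeLC

/-!
# Algebraizing formal cohomology on opens of a punctured spectrum
-/

set_option autoImplicit false
set_option linter.style.haveILetI false
set_option linter.unusedSectionVars false

universe u

open CategoryTheory CategoryTheory.Limits AlgebraicGeometry
open Groth.Agent.H4DR

attribute [local instance] HasDerivedCategory.standard

namespace Groth.Agent.H3CAlg.PunctCech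

variable {A : Type u} [CommRing A] [IsNoetherianRing A] (fs : List A) (I : Ideal A)
variable (M : Type u) [AddCommGroup M] [Module A M] [Module.Finite A M]

variable {M} in
/-- The projection. -/
noncomputable abbrev πq (n : ℕ) : M →ₗ[A] Formal2.quotPow A I M n := Formal2.quotPowπ A I M n

/-- Čech cohomology as a limit over the truncations. -/
theorem cech_bijective [IsLocalRing A] (hrad : (Ideal.ofList fs ⊔ I).radical = IsLocalRing.maximalIdeal A) (j : ℤ)
    (hη : Function.Bijective (HomologicalComplex.homologyMap (DComplete.ηC I (C fs M)) j).hom) :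
    (∀ x : Hc fs j M, (∀ n, hc fs (πq I n) j x = 0) → x = 0) ∧
    ∀ y : ∀ n, Hc fs j (Formal2.quotPow A I M n),
      (∀ n, hc fs (Formal2.quotPowTrans A I M n) j (y (n + 1)) = y n) → ∃ x, ∀ n, hc fs (πq I n) j x = y n := by
  obtain ⟨h1, h2⟩ := cech_lim fs I hrad M j hη
  have hq : ∀ n, (RG.tq I (ModuleCat.of A M) n).hom ∘ₗ πq I n = (I ^ n • ⊤ : Submodule A M).mkQ := fun n => rfl
  refine ⟨fun x hx => h1 x fun n => ?_, fun y hy => ?_⟩
  · rw [← hq n, ← hc_comp, hx n, map_zero]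
  · obtain ⟨x, hx⟩ := h2 (fun n => hc fs (RG.tq I (ModuleCat.of A M) n).hom j (y n)) fun n =>
      congrArg _ (hy n)
    exact ⟨x, fun n => (hx (n + 1)).trans (hy n)⟩

theorem formal_pos (i : ℕ) {j : ℤ} (hj : (i : ℤ) + 2 = j)
    (h : (∀ x : Hc fs j M, (∀ n, hc fs (πq I n) j x = 0) → x = 0) ∧
      ∀ y : ∀ n, Hc fs j (Formal2.quotPow A I M n),
        (∀ n, hc fs (Formal2.quotPowTrans A I M n) j (y (n + 1)) = y n) → ∃ x, ∀ n, hc fs (πq I n) j x = y n) :
    Formal2.FormalCohBijective A I M (i + 1) (U₀ fs) := by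
  obtain ⟨e, he⟩ := exists_compare fs i j hj
  let e₀ := e (ModuleCat.of A M)
  let eN := fun n => e (ModuleCat.of A (Formal2.quotPow A I M n))
  have hπ : ∀ n x, eN n (hv (U₀ fs) (πq I n) (i + 1) x) = hc fs (πq I n) j (e₀ x) :=
    fun n x => he (M := ModuleCat.of A M) (N := ModuleCat.of A (Formal2.quotPow A I M n)) _ x
  have key : (∀ x x' : Hv (U₀ fs) (i + 1) M, (∀ n, hv (U₀ fs) (πq I n) (i + 1) x = hv (U₀ fs) (πq I n) (i + 1) x') → x = x') ∧
      ∀ y : ∀ n, Hv (U₀ fs) (i + 1) (Formal2.quotPow A I M n),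
        (∀ n, hv (U₀ fs) (Formal2.quotPowTrans A I M n) (i + 1) (y (n + 1)) = y n) →
          ∃ x, ∀ n, hv (U₀ fs) (πq I n) (i + 1) x = y n := by
    refine ⟨fun x x' hx => sub_eq_zero.1 (e₀.map_eq_zero_iff.1 (h.1 _ fun n => ?_)), fun y hy => ?_⟩
    · rw [← hπ, map_sub (hv (U₀ fs) (πq I n) (i + 1)), hx n, sub_self, map_zero]
    · obtain ⟨z, hz⟩ := h.2 (fun n => eN n (y n)) fun n => by
        rw [← he (M := ModuleCat.of A (Formal2.quotPow A I M (n + 1))) (N := ModuleCat.of A (Formal2.quotPow A I M n))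
          (Formal2.quotPowTrans A I M n) (y (n + 1))]
        exact congrArg (eN n) (hy n)
      exact ⟨e₀.symm z, fun n => (eN n).injective (by rw [hπ, e₀.apply_symm_apply, hz n])⟩
  exact key

theorem formal_zero [IsLocalRing A] [IsAdicComplete I A] (hrad : (Ideal.ofList fs ⊔ I).radical = IsLocalRing.maximalIdeal A)
    (h0 : (∀ x : Hc fs 0 M, (∀ n, hc fs (πq I n) 0 x = 0) → x = 0) ∧
      ∀ y : ∀ n, Hc fs 0 (Formal2.quotPow A I M n),
        (∀ n, hc fs (Formal2.quotPowTrans A I M n) 0 (y (n + 1)) = y n) → ∃ x, ∀ n, hc fs (πq I n) 0 x = y n)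
    (h1 : (∀ x : Hc fs 1 M, (∀ n, hc fs (πq I n) 1 x = 0) → x = 0) ∧
      ∀ y : ∀ n, Hc fs 1 (Formal2.quotPow A I M n),
        (∀ n, hc fs (Formal2.quotPowTrans A I M n) 1 (y (n + 1)) = y n) → ∃ x, ∀ n, hc fs (πq I n) 1 x = y n) :
    Formal2.FormalCohBijective A I M 0 (U₀ fs) := by
  haveI : IsAdicComplete I M := H24Adic.isAdicComplete_of_finite I
  have htπ : ∀ n, Formal2.quotPowTrans A I M n ∘ₗ πq I (n + 1) = πq I n := fun n => rfl
  have hinj : ∀ x : Hv (U₀ fs) 0 M, (∀ n, hv (U₀ fs) (πq I n) 0 x = 0) → x = 0 := by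
    intro x hx
    obtain ⟨m, rfl⟩ := (ψ_eq_zero_iff fs x).1 (h1.1 _ fun n => by rw [← ψ_natural, hx n, map_zero])
    have ht : ∀ n, ∃ t, τ fs _ t = πq I n m := fun n => (η₀_eq_zero fs _).1 (by rw [← hv_η₀]; exact hx n)
    choose t ht using ht
    obtain ⟨s, hs⟩ := h0.2 t fun n => τ_injective fs _ (by
      rw [τ_natural, ht, ht, ← LinearMap.comp_apply, htπ])
    have hm : m = τ fs M s := by
      rw [← sub_eq_zero]
      refine IsHausdorff.haus (I := I) inferInstance _ fun n => ?_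
      rw [SModEq.zero]
      refine Submodule.smul_mono_left (Ideal.pow_le_pow_right n.le_succ) ((Submodule.Quotient.mk_eq_zero _).1 ?_)
      show πq I n (m - τ fs M s) = 0
      rw [map_sub, ← τ_natural, hs, ht, sub_self]
    rw [hm]
    exact (η₀_eq_zero fs _).2 ⟨s, rfl⟩
  have key : (∀ x x' : Hv (U₀ fs) 0 M, (∀ n, hv (U₀ fs) (πq I n) 0 x = hv (U₀ fs) (πq I n) 0 x') → x = x') ∧
      ∀ y : ∀ n, Hv (U₀ fs) 0 (Formal2.quotPow A I M n),
        (∀ n, hv (U₀ fs) (Formal2.quotPowTrans A I M n) 0 (y (n + 1)) = y n) →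
          ∃ x, ∀ n, hv (U₀ fs) (πq I n) 0 x = y n := by
    refine ⟨fun x x' hx => sub_eq_zero.1 (hinj _ fun n => by
      rw [map_sub (hv (U₀ fs) (πq I n) 0), hx n, sub_self]), fun y hy => ?_⟩
    obtain ⟨z, hz⟩ := h1.2 (fun n => ψ fs _ (y n)) fun n => by rw [← ψ_natural, hy n]
    obtain ⟨x₀, rfl⟩ := ψ_surjective fs z
    have hm : ∀ n, ∃ m, η₀ fs _ m = y n - hv (U₀ fs) (πq I n) 0 x₀ := fun n =>
      (ψ_eq_zero_iff fs _).1 (by rw [map_sub, ψ_natural, hz n, sub_self])
    choose m hm using hm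
    have hk : ∀ n, ∃ k, τ fs _ k = Formal2.quotPowTrans A I M n (m (n + 1)) - m n := fun n => (η₀_eq_zero fs _).1 (by
      rw [map_sub, ← hv_η₀, hm, hm, map_sub (hv (U₀ fs) (Formal2.quotPowTrans A I M n) 0), hy, hv_comp, htπ, sub_self])
    choose k hk using hk
    haveI : ∀ n, IsArtinian A (Hc fs 0 (Formal2.quotPow A I M n)) := fun n =>
      isArtinian_Hc fs I hrad n _ (fun r hr x => by
        obtain ⟨v, rfl⟩ := Submodule.Quotient.mk_surjective _ x
        exact (Submodule.Quotient.mk_eq_zero _).2 (Submodule.smul_mem_smul hr Submodule.mem_top)) _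
    obtain ⟨k', hk'⟩ := exists_telescope (fun n => hc fs (Formal2.quotPowTrans A I M n) 0) k
    let m' : ∀ n, Formal2.quotPow A I M n := fun n => m n + τ fs _ (k' n)
    have hm' : ∀ n, Formal2.quotPowTrans A I M n (m' (n + 1)) = m' n := fun n => by
      have e : τ fs _ (k' n) - τ fs _ (hc fs (Formal2.quotPowTrans A I M n) 0 (k' (n + 1))) =
          Formal2.quotPowTrans A I M n (m (n + 1)) - m n := by rw [← map_sub, hk' n, hk n]
      show Formal2.quotPowTrans A I M n (m (n + 1) + τ fs _ (k' (n + 1))) = m n + τ fs _ (k' n)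
      rw [map_add, ← τ_natural, ← sub_eq_zero]
      linear_combination (norm := abel) -e
    choose r hr using fun n => Submodule.mkQ_surjective (I ^ (n + 1) • (⊤ : Submodule A M)) (m' n)
    have hstep : ∀ n, r (n + 1) - r n ∈ (I ^ (n + 1) • ⊤ : Submodule A M) := fun n => by
      refine (Submodule.Quotient.mk_eq_zero _).1 ?_
      show πq I n (r (n + 1) - r n) = 0
      rw [map_sub, ← htπ n, LinearMap.comp_apply, show πq I (n + 1) (r (n + 1)) = m' (n + 1) from hr _, hm',
        ← hr n, sub_eq_zero]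
      rfl
    have hge : ∀ {a b : ℕ}, a ≤ b → r b - r a ∈ (I ^ (a + 1) • ⊤ : Submodule A M) := fun {a b} hab => by
      induction b, hab using Nat.le_induction with
      | base => rw [sub_self]; exact zero_mem _
      | succ b hb ih =>
        rw [← sub_add_sub_cancel (r (b + 1)) (r b) (r a)]
        exact add_mem (Submodule.smul_mono_left (Ideal.pow_le_pow_right (by omega)) (hstep b)) ih
    obtain ⟨L, hL⟩ := IsPrecomplete.prec (I := I) inferInstance (f := r) fun {a b} hab =>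
      (SModEq.sub_mem.2 (Submodule.smul_mono_left (Ideal.pow_le_pow_right a.le_succ) (hge hab))).symm
    refine ⟨x₀ + η₀ fs M L, fun n => ?_⟩
    have hLn : πq I n L = m' n := by
      rw [← hr n]
      refine (Submodule.Quotient.eq _).2 ?_
      rw [← sub_add_sub_cancel L (r (n + 1)) (r n)]
      exact add_mem (SModEq.sub_mem.1 (hL (n + 1)).symm) (hstep n)
    rw [map_add, hv_η₀, hLn, map_add, hm, (η₀_eq_zero fs _).2 ⟨k' n, rfl⟩]
    abel
  exact key

/-- The main statement. -/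
theorem exists_open [IsLocalRing A] [IsAdicComplete I A] (hω : ∃ ω : Dual.D A, Dual.IsDualizing A ω) (d : ℕ)
    (hd : LocCoh.CdLE A I d) (s : ℕ)
    (h₂ : ∀ (p : Ideal A) [p.IsPrime], ¬ I ≤ p →
      (∃ r : Ideal A, r.IsPrime ∧ p ≤ r ∧ I ≤ r ∧ r ≠ IsLocalRing.maximalIdeal A) →
        (s : ℕ∞) ≤ LocCoh.depth (Localization.AtPrime p) (LocalizedModule p.primeCompl M) ∨
          ((d + s : ℕ) : WithBot ℕ∞) <
            ((LocCoh.depth (Localization.AtPrime p) (LocalizedModule p.primeCompl M) : ℕ∞) : WithBot ℕ∞) +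
              ringKrullDim (A ⧸ p)) :
    ∃ V₀ : (Spec (CommRingCat.of A)).Opens,
      Formal2.Admissible A I (LocCoh.puncturedOpen A (IsLocalRing.maximalIdeal A)) V₀ ∧
      ∀ V : (Spec (CommRingCat.of A)).Opens,
        Formal2.Admissible A I (LocCoh.puncturedOpen A (IsLocalRing.maximalIdeal A)) V → V ≤ V₀ →
          ∀ i : ℕ, i < s → Formal2.FormalCohBijective A I M i V := by
  let m := IsLocalRing.maximalIdeal A
  have hI : I ≤ m := IsLocalRing.le_maximalIdeal fun h => by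
    have := IsAdicComplete.le_jacobson_bot I
    rw [h, IsLocalRing.jacobson_eq_maximalIdeal ⊥ bot_ne_top, top_le_iff] at this
    exact (IsLocalRing.maximalIdeal.isMaximal A).ne_top this
  obtain ⟨sI, hsI⟩ := IsNoetherian.noetherian I
  haveI : DRing.HasDerivedCompletion I := hsI ▸ DComplete.hasDerivedCompletion sI
  obtain ⟨ω₀, hω₀⟩ := hω
  obtain ⟨ω, hω, hn⟩ := Groth.Agent.H4DR.LD.exists_normalized' hω₀
  obtain ⟨J₀, hV, hmain⟩ := Groth.Agent.H3CAlg.exists_algebraize hω hn I d hd M s fun p hpI hNT k δ hk hδ => by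
    obtain ⟨r, hr1, hr2, hr3⟩ := hNT
    have h := h₂ p.asIdeal hpI ⟨r.asIdeal, r.2, hr1, hr2, hr3⟩
    rw [hk, hδ] at h
    rcases h with h | h
    · exact Or.inl (by exact_mod_cast h)
    · exact Or.inr (by exact_mod_cast h)
  have hmJ₀ : J₀ ≤ m := ((hV (IsLocalRing.closedPoint A)).2 ⟨rfl, hI⟩).1
  refine ⟨LocCoh.puncturedOpen A J₀, ⟨fun p hp hpm => hp (hmJ₀.trans hpm), fun p hp hpI hpJ =>
    hp (fun x hx => ((hV p).1 ⟨hpJ, hpI⟩).1.ge hx)⟩, fun V hVad hVle i hi => ?_⟩
  let K : Ideal A := PrimeSpectrum.vanishingIdeal (R := A) ((V : Set (Spec (CommRingCat.of A)))ᶜ)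
  have hK : PrimeSpectrum.zeroLocus (R := A) (K : Set A) = (V : Set (Spec (CommRingCat.of A)))ᶜ := by
    rw [PrimeSpectrum.zeroLocus_vanishingIdeal_eq_closure]
    exact V.2.isClosed_compl.closure_eq
  obtain ⟨sJ, hsJ⟩ := IsNoetherian.noetherian (K * J₀)
  let fs : List A := sJ.toList
  have hfs : Ideal.ofList fs = K * J₀ := by
    rw [← hsJ, Ideal.ofList]
    exact congrArg Ideal.span (Set.ext fun x => Finset.mem_toList)
  have hVeq : V = U₀ fs := by
    refine TopologicalSpace.Opens.ext ?_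
    show (V : Set (Spec (CommRingCat.of A))) = (PrimeSpectrum.zeroLocus (R := A) (Ideal.ofList fs : Set A))ᶜ
    refine Set.ext fun p => ⟨fun hp hp' => ?_, fun hp => ?_⟩
    · rw [hfs, PrimeSpectrum.zeroLocus_mul, hK] at hp'
      rcases hp' with h | h
      · exact h hp
      · exact hVle hp h
    · by_contra h
      refine hp ?_
      rw [hfs, PrimeSpectrum.zeroLocus_mul, hK]
      exact Or.inl h
  have hrad : (Ideal.ofList fs ⊔ I).radical = m := by
    have hm : Ideal.ofList fs ⊔ I ≤ m := sup_le (hfs ▸ Ideal.mul_le_right.trans hmJ₀) hI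
    refine le_antisymm (((IsLocalRing.maximalIdeal.isMaximal A).isPrime.radical_le_iff).2 hm) ?_
    rw [Ideal.radical_eq_sInf]
    refine le_sInf fun p ⟨hp, hpp⟩ => ?_
    let P : PrimeSpectrum A := ⟨p, hpp⟩
    have hpI : I ≤ p := le_sup_right.trans hp
    by_contra hpm
    have hPU : P ∈ LocCoh.puncturedOpen A m := hpm
    have hPV : P ∈ V := hVad.2 P hPU hpI
    rw [hVeq] at hPV
    exact hPV (le_sup_left.trans hp)
  haveI : DRing.HasRgammaI (Ideal.ofList fs) := RG.hasRgammaI _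
  have hb : ∀ j : ℤ, j ≤ s → _ := fun j hj => cech_bijective fs I M hrad j (bijective_homologyMap_ηC fs I rfl M j
    (hmain (Ideal.ofList fs) (hfs ▸ Ideal.mul_le_right) hrad j hj))
  subst hVeq
  cases i with
  | zero => exact formal_zero fs I M hrad (hb 0 (by omega)) (hb 1 (by omega))
  | succ i => exact formal_pos fs I M i rfl (hb _ (by omega))

end Groth.Agent.H3CAlg.PunctCech
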