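import Groth.Prelude.Def_DualLC
import Groth.Prelude.Def_Formal2
import Groth.Agent.H24Formal2.DimBetween
import Groth.Agent.H4DR.HT.FaltingsModule
import Groth.Agent.H4DR.HT.Compare
import Groth.Agent.H4LC.SupportChange
import Groth.Agent.H4LC.Depth
import Groth.Agent.H4LC.FiniteH1
import Groth.Agent.H4Depth.LocDepth

/-!
# The ideal `J₀` of the algebraization lemmas for local cohomology
-/

set_option autoImplicit false
set_option linter.style.haveILetI false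
set_option linter.unusedVariables false
set_option linter.unusedSectionVars false

universe u

open CategoryTheory
open Groth.Agent.H4DR
open Groth.Agent.H4DR.Ext (Ex)
open Groth.Agent.H4DR.Dualizing (Loc loc deg)

attribute [local instance] HasDerivedCategory.standard

namespace Groth.Agent.H3CAlg.Bootstrap

variable {A : Type u} [CommRing A] [IsNoetherianRing A] {ω : Dual.D A} (hω : Dual.IsDualizing A ω)
variable (M : Type u) [AddCommGroup M] [Module A M] [Module.Finite A M]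

/-- The depth at a prime. -/
noncomputable abbrev dep (p : PrimeSpectrum A) : ℕ∞ :=
  LocCoh.depth (Localization.AtPrime p.asIdeal) (LocalizedModule p.asIdeal.primeCompl M)

include hω in
/-- An ideal cutting out the specialisations of the bad primes of a set, containing its shallow points. -/
theorem exists_shallow_bound (U : Set (PrimeSpectrum A)) (s : ℕ) :
    ∃ J : Ideal A, (∀ p ∈ U, dep M p ≤ (s : ℕ∞) → J ≤ p.asIdeal) ∧
      ∀ r : PrimeSpectrum A, J ≤ r.asIdeal → ∃ p ≤ r, ∃ q ∈ U, ∃ _ : p ≤ q,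
        dep M p + ((deg hω q - deg hω p).toNat : ℕ∞) ≤ (s : ℕ∞) := by
  classical
  obtain ⟨K', m, m', hb, hf, -, hL⟩ := HT.exists_bounded
    (K := Dual.inD A M) (a := 0) (HT.subsingleton_HD_inD_of_neg M) (HT.finite_HD_inD M) (s : ℤ)
  obtain ⟨j₀, j₁, hfin, hzero⟩ := HT.exists_range hω hb hf
  let N : (j : ℤ) → Submodule A (Ex K' ω j) := fun j =>
    ⨅ q ∈ {q : PrimeSpectrum A | q ∈ U ∧ deg hω q - (s : ℤ) ≤ j},
      LinearMap.ker (LocalizedModule.mkLinearMap q.asIdeal.primeCompl (Ex K' ω j))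
  let 𝔞 : ℤ → Ideal A := fun j => Module.annihilator A (Ex K' ω j ⧸ N j)
  refine ⟨∏ j ∈ Finset.Icc j₀ j₁, 𝔞 j, fun q hqU hq => ?_, fun r hr => ?_⟩
  · have hnot := (not_congr (HT.forall_subsingleton_iff_depth M q 0 s)).2
      (by simpa using hq)
    push Not at hnot
    obtain ⟨i, hi, hns⟩ := hnot
    rw [← not_subsingleton_iff_nontrivial, ← hL q i (by simpa using hi),
      HT.subsingleton_LD_iff hω hb hf q, not_not, Module.mem_support_iff'] at hns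
    obtain ⟨x, hx⟩ := hns
    have hj : deg hω q - i ∈ Finset.Icc j₀ j₁ := by
      by_contra h
      rw [Finset.mem_Icc] at h
      exact hx 1 q.2.one_notMem (@Subsingleton.elim _ (hzero _ (by omega)) _ _)
    refine (Ideal.prod_le_inf.trans (Finset.inf_le (f := 𝔞) hj)).trans fun a ha => ?_
    by_contra haq
    have h1 : a • x ∈ N (deg hω q - i) := (Submodule.Quotient.mk_eq_zero _).1
      ((Submodule.Quotient.mk_smul _ a x).trans (Module.mem_annihilator.1 ha _))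
    have h2 : a • x ∈ LinearMap.ker (LocalizedModule.mkLinearMap q.asIdeal.primeCompl (Ex K' ω (deg hω q - i))) :=
      (Submodule.mem_iInf _).1 ((Submodule.mem_iInf _).1 h1 q) ⟨hqU, by omega⟩
    obtain ⟨t, ht, htx⟩ := LocalizedModule.mem_ker_mkLinearMap_iff.1 h2
    exact hx (t * a) (q.2.mul_notMem ht haq) (by rw [mul_smul]; exact htx)
  · obtain ⟨j, -, hjr⟩ := (Ideal.IsPrime.prod_le r.2).1 hr
    haveI := hfin j
    obtain ⟨P, hP, hPr⟩ := Ideal.exists_minimalPrimes_le hjr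
    have hass := Module.associatedPrimes.minimalPrimes_annihilator_subset_associatedPrimes A _ hP
    obtain ⟨hPp, x, hx⟩ := isAssociatedPrime_iff.1 hass
    obtain ⟨x, rfl⟩ := Submodule.Quotient.mk_surjective _ x
    have hPeq : ∀ t, t ∈ P ↔ t • x ∈ N j := fun t => by
      rw [hx, Submodule.mem_colon_singleton, Submodule.mem_bot, ← Submodule.Quotient.mk_smul,
        Submodule.Quotient.mk_eq_zero]
    have hxN : x ∉ N j := fun h => hPp.one_notMem ((hPeq 1).2 (by rwa [one_smul]))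
    obtain ⟨q, hq, hxq⟩ : ∃ q : PrimeSpectrum A, (q ∈ U ∧ deg hω q - (s : ℤ) ≤ j) ∧
        x ∉ LinearMap.ker (LocalizedModule.mkLinearMap q.asIdeal.primeCompl (Ex K' ω j)) := by
      by_contra hcon
      push Not at hcon
      exact hxN ((Submodule.mem_iInf _).2 fun q => (Submodule.mem_iInf _).2 fun hq => hcon q hq)
    let p : PrimeSpectrum A := ⟨P, hPp⟩
    have hpq : p ≤ q := fun t ht => by
      by_contra htq
      have h2 : t • x ∈ LinearMap.ker (LocalizedModule.mkLinearMap q.asIdeal.primeCompl (Ex K' ω j)) :=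
        (Submodule.mem_iInf _).1 ((Submodule.mem_iInf _).1 ((hPeq t).1 ht) q) hq
      obtain ⟨u, hu, hux⟩ := LocalizedModule.mem_ker_mkLinearMap_iff.1 h2
      exact hxq (LocalizedModule.mem_ker_mkLinearMap_iff.2
        ⟨u * t, mul_mem hu htq, by rw [mul_smul]; exact hux⟩)
    have hsupp : p ∈ Module.support A (Ex K' ω j) := Module.mem_support_iff'.2
      ⟨x, fun t ht htx => ht ((hPeq t).2 (htx ▸ (N j).zero_mem))⟩
    refine ⟨p, hPr, q, hq.1, hpq, le_of_not_gt fun hlt => ?_⟩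
    obtain ⟨d, -, hd, -⟩ := Dualizing.exists_dim hω hpq
    have hq2 := hq.2
    have h := (HT.forall_subsingleton_iff_depth M p (deg hω q - deg hω p).toNat s).2 hlt
      (deg hω p - j) (by omega)
    rw [← hL p (deg hω p - j) (by omega), HT.subsingleton_LD_iff hω hb hf p, sub_sub_cancel] at h
    exact h hsupp

/-- Change of support is bijective across points of large depth. -/
theorem bijective_HmapOfLE_of_depth {J J' : Ideal A} (h : J' ≤ J) (s : ℕ)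
    (hd : ∀ p : PrimeSpectrum A, J' ≤ p.asIdeal → ¬ J ≤ p.asIdeal → (s : ℕ∞) < dep M p) (i : ℕ)
    (hi : i ≤ s) : Function.Bijective ((Dual2.HmapOfLE h i).app (ModuleCat.of A M)).hom := by
  have hpt : ∀ k ≤ s, ∀ p : Ideal A, ∀ [p.IsPrime], J' ≤ p → ¬ J ≤ p → H4LC.PointVanish k p M := by
    intro k hk p _ h1 h2
    haveI : IsNoetherianRing (Localization.AtPrime p) :=
      IsLocalization.isNoetherianRing p.primeCompl _ inferInstance
    exact H4LC.subsingleton_H_of_lt_idealDepth _ _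
      (lt_of_le_of_lt (by exact_mod_cast hk) (hd ⟨p, inferInstance⟩ h1 h2))
  refine ⟨?_, H4LC.HmapOfLE_surjective_of_pointVanish h i M (hpt i hi)⟩
  rcases i with _ | k
  · exact H4LC.HmapOfLE_zero_injective h M
  · exact H4LC.HmapOfLE_injective_of_pointVanish h k M (hpt k (by omega))

variable {M}

/-- The hypothesis (4) together with (3) propagates smallness. -/
theorem small_propagates {I J : Ideal A} {s d : ℕ} {T : Set (PrimeSpectrum A)}
    (hT : ∀ p : PrimeSpectrum A, p ∈ T ↔ ∀ q : PrimeSpectrum A, p ≤ q → I ≤ q.asIdeal → J ≤ q.asIdeal)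
    (h3 : ∀ p : PrimeSpectrum A, ¬ I ≤ p.asIdeal → p ∈ T → ∃ q : PrimeSpectrum A, p ≤ q ∧ J ≤ q.asIdeal ∧
      I ≤ q.asIdeal ∧ Formal2.dimBetween A p.asIdeal q.asIdeal ≤ ((d : ℕ∞) : WithBot ℕ∞))
    (h4 : ∀ p : PrimeSpectrum A, ¬ I ≤ p.asIdeal → p ∉ T → ∀ q : PrimeSpectrum A, p ≤ q → J ≤ q.asIdeal →
      I ≤ q.asIdeal → (s : ℕ∞) ≤ dep M p ∨ (((d + s : ℕ) : ℕ∞) : WithBot ℕ∞) <
        ((dep M p : ℕ∞) : WithBot ℕ∞) + Formal2.dimBetween A p.asIdeal q.asIdeal)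
    {p q : PrimeSpectrum A} (hpq : p ≤ q) (hqI : ¬ I ≤ q.asIdeal) (hqT : q ∈ T)
    (hs : dep M p + ((deg hω q - deg hω p).toNat : ℕ∞) ≤ (s : ℕ∞)) :
    ¬ I ≤ p.asIdeal ∧ p ∈ T ∧ dep M p ≤ (s : ℕ∞) := by
  have hpI : ¬ I ≤ p.asIdeal := fun h => hqI (h.trans hpq)
  refine ⟨hpI, ?_, le_trans le_self_add hs⟩
  by_contra hpT
  obtain ⟨q', hqq', hJ, hI, hdim⟩ := h3 q hqI hqT
  obtain ⟨e, -, he, he0⟩ := Dualizing.exists_dim hω hpq
  obtain ⟨e', -, he', -⟩ := Dualizing.exists_dim hω hqq'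
  have hne : p ≠ q := fun h => hpT (h ▸ hqT)
  rw [H24Formal2.dimBetween_eq hqq', HT.krullDim_Icc hω hqq', WithBot.coe_le_coe, Nat.cast_le] at hdim
  rcases h4 p hpI hpT q' (hpq.trans hqq') hJ hI with h | h
  · have hpos : 1 ≤ (deg hω q - deg hω p).toNat := by
      obtain ⟨t, h1, h2, h3⟩ := HT.exists_series hω hpq
      have : t.length ≠ 0 := fun h0 => hne (by
        rw [← h1, ← h2]
        exact congrArg t.toFun (Fin.ext (by simp [h0])))
      omega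
    have h' : ((s + 1 : ℕ) : ℕ∞) ≤ (s : ℕ∞) := by
      refine le_trans ?_ hs
      push_cast
      exact add_le_add h (by exact_mod_cast hpos)
    exact absurd h' (by rw [Nat.cast_le]; omega)
  · rw [H24Formal2.dimBetween_eq (hpq.trans hqq'), HT.krullDim_Icc hω (hpq.trans hqq'), ← WithBot.coe_add,
      WithBot.coe_lt_coe] at h
    revert hs h
    induction dep M p using ENat.recTopCoe with
    | top => simp
    | coe k =>
      rw [← Nat.cast_add, ← Nat.cast_add, Nat.cast_le, Nat.cast_lt]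
      omega

include hω in
/-- The ideal `J₀` with its basic properties. -/
theorem exists_J₀ {I J : Ideal A} {s d : ℕ} {T : Set (PrimeSpectrum A)}
    (hT : ∀ p : PrimeSpectrum A, p ∈ T ↔ ∀ q : PrimeSpectrum A, p ≤ q → I ≤ q.asIdeal → J ≤ q.asIdeal)
    (h3 : ∀ p : PrimeSpectrum A, ¬ I ≤ p.asIdeal → p ∈ T → ∃ q : PrimeSpectrum A, p ≤ q ∧ J ≤ q.asIdeal ∧
      I ≤ q.asIdeal ∧ Formal2.dimBetween A p.asIdeal q.asIdeal ≤ ((d : ℕ∞) : WithBot ℕ∞))
    (h4 : ∀ p : PrimeSpectrum A, ¬ I ≤ p.asIdeal → p ∉ T → ∀ q : PrimeSpectrum A, p ≤ q → J ≤ q.asIdeal →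
      I ≤ q.asIdeal → (s : ℕ∞) ≤ dep M p ∨ (((d + s : ℕ) : ℕ∞) : WithBot ℕ∞) <
        ((dep M p : ℕ∞) : WithBot ℕ∞) + Formal2.dimBetween A p.asIdeal q.asIdeal) :
    ∃ J₀ : Ideal A, J₀ ≤ J ∧ (∀ q : PrimeSpectrum A, J₀ ≤ q.asIdeal → q ∈ T) ∧
      (∀ p : PrimeSpectrum A, ¬ I ≤ p.asIdeal → p ∈ T → dep M p ≤ (s : ℕ∞) → J₀ ≤ p.asIdeal) ∧
      ((∀ p : PrimeSpectrum A, ¬ I ≤ p.asIdeal → p ∈ T → (s : ℕ∞) < dep M p) → J₀ = J) := by
  have hTJ : ∀ q : PrimeSpectrum A, J ≤ q.asIdeal → q ∈ T := fun q hq =>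
    (hT q).2 fun r hr _ => hq.trans hr
  obtain ⟨J₁, h1, h2⟩ := exists_shallow_bound hω M {p | ¬ I ≤ p.asIdeal ∧ p ∈ T} s
  have h1' : ∀ r : PrimeSpectrum A, J₁ ≤ r.asIdeal →
      ∃ p ≤ r, ¬ I ≤ p.asIdeal ∧ p ∈ T ∧ dep M p ≤ (s : ℕ∞) := by
    intro r hr
    obtain ⟨p, hpr, q, ⟨hqI, hqT⟩, hpq, hs⟩ := h2 r hr
    exact ⟨p, hpr, small_propagates hω hT h3 h4 hpq hqI hqT hs⟩
  refine ⟨J * J₁, Ideal.mul_le_left, fun q hq => ?_, fun p hpI hpT hp => Ideal.mul_le_right.trans (h1 p ⟨hpI, hpT⟩ hp),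
    fun h6 => ?_⟩
  · rcases q.2.mul_le.1 hq with h | h
    · exact hTJ q h
    · obtain ⟨p, hpq, -, hpT, -⟩ := h1' q h
      exact (hT q).2 fun r hr hI => (hT p).1 hpT r (hpq.trans hr) hI
  · have hJ₁ : J₁ = ⊤ := by
      by_contra h
      obtain ⟨m, hm, hle⟩ := Ideal.exists_le_maximal J₁ h
      obtain ⟨p, -, hpI, hpT, hp⟩ := h1' ⟨m, hm.isPrime⟩ hle
      exact absurd hp (not_le.2 (h6 p hpI hpT))
    rw [hJ₁, Ideal.mul_top]

include hω in
/-- Annihilation of local cohomology by an ideal. -/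
theorem exists_kill_H (Y : Ideal A) {T' : Set (PrimeSpectrum A)} (hT' : StableUnderSpecialization T') (s : ℕ)
    (h : ∀ p q : PrimeSpectrum A, p ∉ T' → Y ≤ q.asIdeal → p ≤ q →
      (s : ℕ∞) < dep M p + ((deg hω q - deg hω p).toNat : ℕ∞)) :
    ∃ K : Ideal A, PrimeSpectrum.zeroLocus (K : Set A) ⊆ T' ∧
      ∀ i : ℕ, i ≤ s → ∀ a ∈ K, ∀ x : LocCoh.H Y i M, a • x = 0 := by
  obtain ⟨K, hK, hk⟩ := (HT.exists_kill_module_iff M hω (H4LC.zeroLocus_stable Y) hT' s).2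
    fun p q hp hq hpq => by
      rw [HT.krullDim_Icc hω hpq, ← WithBot.coe_add, ← WithBot.coe_natCast, WithBot.coe_lt_coe]
      exact h p q hp hq hpq
  exact ⟨K, hK, fun i hi a ha x => ((HT.lcEquivT Y M i).trans (HT.htEquiv _ M i)).injective
    (by rw [map_smul, map_zero]; exact hk i hi a ha _)⟩

/-- The main inequality. -/
theorem lt_of_not_mem {I J : Ideal A} {s d : ℕ} {T : Set (PrimeSpectrum A)}
    (hT : ∀ p : PrimeSpectrum A, p ∈ T ↔ ∀ q : PrimeSpectrum A, p ≤ q → I ≤ q.asIdeal → J ≤ q.asIdeal)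
    (h3 : ∀ p : PrimeSpectrum A, ¬ I ≤ p.asIdeal → p ∈ T → ∃ q : PrimeSpectrum A, p ≤ q ∧ J ≤ q.asIdeal ∧
      I ≤ q.asIdeal ∧ Formal2.dimBetween A p.asIdeal q.asIdeal ≤ ((d : ℕ∞) : WithBot ℕ∞))
    (h4 : ∀ p : PrimeSpectrum A, ¬ I ≤ p.asIdeal → p ∉ T → ∀ q : PrimeSpectrum A, p ≤ q → J ≤ q.asIdeal →
      I ≤ q.asIdeal → (s : ℕ∞) ≤ dep M p ∨ (((d + s : ℕ) : ℕ∞) : WithBot ℕ∞) <
        ((dep M p : ℕ∞) : WithBot ℕ∞) + Formal2.dimBetween A p.asIdeal q.asIdeal)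
    {p q : PrimeSpectrum A} (hpq : p ≤ q) (hpI : ¬ I ≤ p.asIdeal) (hqT : q ∈ T)
    (hshallow : p ∈ T → (s : ℕ∞) < dep M p) :
    (s : ℕ∞) < dep M p + ((deg hω q - deg hω p).toNat : ℕ∞) := by
  by_cases hpT : p ∈ T
  · exact lt_of_lt_of_le (hshallow hpT) le_self_add
  by_cases hqI : I ≤ q.asIdeal
  · have hJq : J ≤ q.asIdeal := (hT q).1 hqT q le_rfl hqI
    rcases h4 p hpI hpT q hpq hJq hqI with h | h
    · have hne : p ≠ q := fun h => hpT (h ▸ hqT)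
      obtain ⟨t, h1, h2, h3⟩ := HT.exists_series hω hpq
      have : t.length ≠ 0 := fun h0 => hne (by
        rw [← h1, ← h2]
        exact congrArg t.toFun (Fin.ext (by simp [h0])))
      refine lt_of_lt_of_le ?_ (add_le_add h (Nat.cast_le.2 (show 1 ≤ (deg hω q - deg hω p).toNat by omega)))
      exact_mod_cast Nat.lt_succ_self s
    · rw [H24Formal2.dimBetween_eq hpq, HT.krullDim_Icc hω hpq, ← WithBot.coe_add, WithBot.coe_lt_coe] at h
      exact lt_of_le_of_lt (Nat.cast_le.2 (Nat.le_add_left s d)) h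
  · exact lt_of_not_ge fun hs => hpT (small_propagates hω hT h3 h4 hpq hqI hqT hs).2.1

include hω in
/-- The common part of the algebraization lemmas. -/
theorem exists_J₀_main {I J : Ideal A} {s d : ℕ} {T : Set (PrimeSpectrum A)}
    (hT : ∀ p : PrimeSpectrum A, p ∈ T ↔ ∀ q : PrimeSpectrum A, p ≤ q → I ≤ q.asIdeal → J ≤ q.asIdeal)
    (h3 : ∀ p : PrimeSpectrum A, ¬ I ≤ p.asIdeal → p ∈ T → ∃ q : PrimeSpectrum A, p ≤ q ∧ J ≤ q.asIdeal ∧
      I ≤ q.asIdeal ∧ Formal2.dimBetween A p.asIdeal q.asIdeal ≤ ((d : ℕ∞) : WithBot ℕ∞))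
    (h4 : ∀ p : PrimeSpectrum A, ¬ I ≤ p.asIdeal → p ∉ T → ∀ q : PrimeSpectrum A, p ≤ q → J ≤ q.asIdeal →
      I ≤ q.asIdeal → (s : ℕ∞) ≤ dep M p ∨ (((d + s : ℕ) : ℕ∞) : WithBot ℕ∞) <
        ((dep M p : ℕ∞) : WithBot ℕ∞) + Formal2.dimBetween A p.asIdeal q.asIdeal) :
    ∃ J₀ : Ideal A, (J₀ ≤ J ∧
        PrimeSpectrum.zeroLocus ((J₀ : Ideal A) : Set A) ∩ PrimeSpectrum.zeroLocus ((I : Ideal A) : Set A) =
          PrimeSpectrum.zeroLocus ((J : Ideal A) : Set A) ∩ PrimeSpectrum.zeroLocus ((I : Ideal A) : Set A) ∧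
        (∀ (J' : Ideal A) (hJ' : J' ≤ J₀),
          PrimeSpectrum.zeroLocus ((J' : Ideal A) : Set A) ∩ PrimeSpectrum.zeroLocus ((I : Ideal A) : Set A) =
            PrimeSpectrum.zeroLocus ((J : Ideal A) : Set A) ∩ PrimeSpectrum.zeroLocus ((I : Ideal A) : Set A) →
          ∀ i : ℕ, i ≤ s → Function.Bijective ((Dual2.HmapOfLE hJ' i).app (ModuleCat.of A M)).hom) ∧
        (∃ n : ℕ, ∀ a ∈ (J₀ * I) ^ n, ∀ i : ℕ, i ≤ s → ∀ x : LocCoh.H J₀ i M, a • x = 0)) ∧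
      (∀ q : PrimeSpectrum A, J₀ ≤ q.asIdeal → q ∈ T) ∧
      (∀ p q : PrimeSpectrum A, ¬ I ≤ p.asIdeal → ¬ J₀ ≤ p.asIdeal → J₀ ≤ q.asIdeal → p ≤ q →
        (s : ℕ∞) < dep M p + ((deg hω q - deg hω p).toNat : ℕ∞)) ∧
      ((∀ p : PrimeSpectrum A, ¬ I ≤ p.asIdeal → p ∈ T → (s : ℕ∞) < dep M p) → J₀ = J) := by
  obtain ⟨J₀, hle, hJT, hsh, htriv⟩ := exists_J₀ hω hT h3 h4
  have hineq : ∀ p q : PrimeSpectrum A, ¬ I ≤ p.asIdeal → ¬ J₀ ≤ p.asIdeal → J₀ ≤ q.asIdeal → p ≤ q →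
      (s : ℕ∞) < dep M p + ((deg hω q - deg hω p).toNat : ℕ∞) := fun p q hpI hp hq hpq =>
    lt_of_not_mem hω hT h3 h4 hpq hpI (hJT q hq) fun hpT => lt_of_not_ge fun h => hp (hsh p hpI hpT h)
  obtain ⟨K, hK, hk⟩ := exists_kill_H hω J₀
    (T' := PrimeSpectrum.zeroLocus ((J₀ * I : Ideal A) : Set A)) (H4LC.zeroLocus_stable _) s
    fun p q hp hq hpq =>
      hineq p q (fun h => hp (Ideal.mul_le_right.trans h)) (fun h => hp (Ideal.mul_le_left.trans h)) hq hpq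
  obtain ⟨n, hn⟩ := HT.exists_pow_le (J₀ * I) hK
  refine ⟨J₀, ⟨hle, ?_, fun J' hJ' hV i hi => ?_, n, fun a ha i hi x => hk i hi a (hn ha) x⟩, hJT, hineq, htriv⟩
  · ext q
    refine ⟨fun ⟨h1, h2⟩ => ⟨?_, h2⟩, fun ⟨h1, h2⟩ => ⟨?_, h2⟩⟩
    · exact (hT q).1 (hJT q h1) q le_rfl h2
    · exact (show J₀ ≤ q.asIdeal from hle.trans h1)
  · refine bijective_HmapOfLE_of_depth M hJ' s (fun p hp hp₀ => lt_of_not_ge fun h => hp₀ ?_) i hi
    have hmem : ∀ r : PrimeSpectrum A, J' ≤ r.asIdeal → I ≤ r.asIdeal → J ≤ r.asIdeal := fun r h1 h2 =>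
      ((Set.ext_iff.1 hV r).1 ⟨h1, h2⟩).1
    exact hsh p (fun hI => hp₀ (hle.trans (hmem p hp hI)))
      ((hT p).2 fun r hr hI => hmem r (hp.trans hr) hI) h

end Groth.Agent.H3CAlg.Bootstrap
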