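import Groth.Agent.H3CAlg.BranchDim
import Groth.Agent.H9Hens.BranchFlat
import Groth.Agent.H9Hens.BranchCompletion
import Groth.Agent.H9Hens.PuncturedHens
import Groth.Agent.H13CI.EFT
import Groth.Agent.S9240
import Groth.Agent.S9242
import Groth.Agent.S0507
import Groth.Agent.S0511

/-!
One-dimensional branches of henselizations, strict henselizations and completions.
-/

namespace Groth.Agent.H3CAlg

universe u

open IsLocalRing H9Hens

/-- Some irreducible component has dimension one. -/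
def HasDimOneComponent (R : Type u) [CommRing R] : Prop :=
  ∃ p ∈ minimalPrimes R, ringKrullDim (R ⧸ p) = 1

/-- A minimal prime over an ideal of a quotient ring, and its dimension. -/
theorem hasDimOneComponent_quotient_iff {R : Type u} [CommRing R] (J : Ideal R) :
    HasDimOneComponent (R ⧸ J) ↔ ∃ P ∈ J.minimalPrimes, ringKrullDim (R ⧸ P) = 1 := by
  have hd : ∀ p : Ideal (R ⧸ J), ringKrullDim (R ⧸ p.comap (Ideal.Quotient.mk J)) = ringKrullDim ((R ⧸ J) ⧸ p) :=
    fun p => by
      refine ringKrullDim_eq_of_ringEquiv (RingEquiv.ofBijective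
        (Ideal.quotientMap p (Ideal.Quotient.mk J) le_rfl) ⟨Ideal.quotientMap_injective, fun x => ?_⟩)
      obtain ⟨y, rfl⟩ := Ideal.Quotient.mk_surjective x
      obtain ⟨z, rfl⟩ := Ideal.Quotient.mk_surjective y
      exact ⟨Ideal.Quotient.mk _ z, rfl⟩
  rw [HasDimOneComponent, Ideal.minimalPrimes_eq_comap]
  constructor
  · rintro ⟨p, hp, h⟩
    exact ⟨_, ⟨p, hp, rfl⟩, (hd p).trans h⟩
  · rintro ⟨_, ⟨p, hp, rfl⟩, h⟩
    exact ⟨p, hp, (hd p).symm.trans h⟩

theorem hasDimOneComponent_of_ringEquiv {R R' : Type u} [CommRing R] [CommRing R'] (e : R ≃+* R')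
    (h : HasDimOneComponent R) : HasDimOneComponent R' := by
  obtain ⟨p, hp, hd⟩ := h
  haveI := hp.1.1
  refine ⟨p.map e, ⟨⟨Ideal.map_isPrime_of_equiv e, bot_le⟩, fun q hq hle => ?_⟩, ?_⟩
  · haveI := hq.1
    have h1 : q.comap e ≤ p := fun x hx => by
      obtain ⟨y, hy, hxy⟩ := (Ideal.mem_map_iff_of_surjective _ e.surjective).1 (hle (Ideal.mem_comap.1 hx))
      rwa [← e.injective hxy]
    have h2 := hp.2 ⟨Ideal.IsPrime.comap _, bot_le⟩ h1
    exact Ideal.map_le_iff_le_comap.2 h2
  · rw [← hd]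
    exact (ringKrullDim_eq_of_ringEquiv (Ideal.quotientEquiv p (p.map e) e rfl)).symm

theorem hasDimOneComponent_congr {R R' : Type u} [CommRing R] [CommRing R'] (e : R ≃+* R') :
    HasDimOneComponent R ↔ HasDimOneComponent R' :=
  ⟨hasDimOneComponent_of_ringEquiv e, hasDimOneComponent_of_ringEquiv e.symm⟩

theorem hasDimOneComponent_of_isDomain_iff (R : Type u) [CommRing R] [IsDomain R] :
    HasDimOneComponent R ↔ ringKrullDim R = 1 := by
  rw [HasDimOneComponent, IsDomain.minimalPrimes_eq_singleton_bot]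
  simp [ringKrullDim_eq_of_ringEquiv (RingEquiv.quotientBot R)]

/-- A one-dimensional quotient has a one-dimensional component. -/
theorem exists_minimalPrimes_dim_eq_one {R : Type u} [CommRing R] (I : Ideal R)
    (h : ringKrullDim (R ⧸ I) = 1) : ∃ q ∈ I.minimalPrimes, ringKrullDim (R ⧸ q) = 1 := by
  have h1 : (1 : WithBot ℕ∞) ≤ Order.krullDim (PrimeSpectrum.zeroLocus (R := R) I) := by
    rw [← ringKrullDim_quotient, h]
  obtain ⟨l, hl⟩ := Order.le_krullDim_iff.1 (show ((1 : ℕ) : WithBot ℕ∞) ≤ _ by simpa using h1)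
  obtain ⟨P, hP, P', hP', hlt⟩ : ∃ P : PrimeSpectrum R, I ≤ P.asIdeal ∧ ∃ P' : PrimeSpectrum R,
      I ≤ P'.asIdeal ∧ P < P' :=
    ⟨(l ⟨0, by omega⟩).1, (l ⟨0, by omega⟩).2, (l ⟨1, by omega⟩).1, (l ⟨1, by omega⟩).2,
      l.strictMono (show (⟨0, _⟩ : Fin (l.length + 1)) < ⟨1, _⟩ from Fin.mk_lt_mk.2 zero_lt_one)⟩
  obtain ⟨q, hq, hqP⟩ := Ideal.exists_minimalPrimes_le hP
  haveI := hq.1.1
  refine ⟨q, hq, le_antisymm (h ▸ ringKrullDim_le_of_surjective (Ideal.Quotient.factor hq.1.2)
    (Ideal.Quotient.factor_surjective _)) ?_⟩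
  rw [ringKrullDim_quotient]
  let a : PrimeSpectrum.zeroLocus (R := R) (q : Set R) := ⟨⟨q, inferInstance⟩, fun _ hx => hx⟩
  let b : PrimeSpectrum.zeroLocus (R := R) (q : Set R) := ⟨P', hqP.trans hlt.le⟩
  have hab : a < b := show (⟨q, inferInstance⟩ : PrimeSpectrum R) < P' from
    lt_of_le_of_lt (show (⟨q, inferInstance⟩ : PrimeSpectrum R) ≤ P from hqP) hlt
  exact Order.le_krullDim_iff.2 ⟨(RelSeries.singleton _ b).cons a hab, rfl⟩

section Pt

variable {A : Type u} [CommRing A] [IsNoetherianRing A] [IsLocalRing A]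
  {k : Type u} [CommRing k] [Algebra A k] {H : Type u} [CommRing H] [Algebra A H] [HenselianLocalRing H]
  [IsLocalHom (algebraMap A H)] [Module.FaithfullyFlat A H] {π : H →ₐ[A] k}

theorem hasDimOneComponent_iff_normalization (hH : IsPtColim π) :
    HasDimOneComponent H ↔ ∃ m : MaximalSpectrum (integralClosure A (FractionRing (CAlg2.red A))),
      (m.asIdeal.height : WithBot ℕ∞) = 1 := by
  obtain ⟨hpm, hmp⟩ := branch_dim hH
  constructor
  · rintro ⟨p, hp, h⟩
    obtain ⟨m, hm⟩ := hpm p hp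
    exact ⟨m, hm.symm.trans h⟩
  · rintro ⟨m, hm⟩
    obtain ⟨p, hp, h⟩ := hmp m
    exact ⟨p, hp, h.trans hm⟩

end Pt

/-- Henselization and strict henselization. -/
theorem hasDimOneComponent_strict_iff (A S S' : Type u) [CommRing A] [IsNoetherianRing A] [IsLocalRing A]
    [CommRing S] [IsLocalRing S] [Algebra A S] [IsLocalHom (algebraMap A S)] [Hensel.IsHenselization A S]
    [CommRing S'] [IsLocalRing S'] [Algebra A S'] [IsLocalHom (algebraMap A S')]
    [Hensel.IsStrictHenselization A S'] : HasDimOneComponent S' ↔ HasDimOneComponent S := by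
  obtain ⟨π, hπ⟩ := exists_isPtColim_of_isHenselization (R := A) S
  haveI := hπ.faithfullyFlat (ker_algebraMap_residueField (R := A))
  haveI := Hensel.IsHenselization.henselian (R := A) (S := S)
  obtain ⟨k, _, _, _, _, _, π', hπ'⟩ := exists_isPtColim_of_isStrictHenselization (R := A) S'
  haveI := hπ'.faithfullyFlat (ker_algebraMap_of_tower (R := A) (k := k))
  haveI := Hensel.IsStrictHenselization.henselian (R := A) (S := S')
  rw [hasDimOneComponent_iff_normalization hπ, hasDimOneComponent_iff_normalization hπ']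

/-- Henselization and completion. -/
theorem hasDimOneComponent_completion_iff (A S : Type u) [CommRing A] [IsNoetherianRing A] [IsLocalRing A]
    [CommRing S] [IsLocalRing S] [Algebra A S] [IsLocalHom (algebraMap A S)] [Hensel.IsHenselization A S] :
    HasDimOneComponent (AdicCompletion (maximalIdeal A) A) ↔ HasDimOneComponent S := by
  let B := AdicCompletion (maximalIdeal A) A
  haveI : IsNoetherianRing S := (Groth.Agent.S0511.result A S).1 inferInstance
  haveI : IsNoetherianRing B := H05EGA4.isNoetherianRing_cpl A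
  haveI : HenselianLocalRing B := henselianLocalRing_cpl A
  haveI := Hensel.IsHenselization.henselian (R := A) (S := S)
  haveI hB : IsLocalHom (algebraMap A B) := isLocalHom_cpl A
  obtain ⟨ψ, hψ, -⟩ := Hensel.IsHenselization.universal (R := A) (S := S) B (algebraMap A B) hB
  obtain ⟨π, hπ⟩ := exists_isPtColim_of_isHenselization (R := A) S
  letI : Algebra S B := ψ.toAlgebra
  haveI : IsScalarTower A S B := IsScalarTower.of_algebraMap_eq fun a => (RingHom.congr_fun hψ a).symm
  haveI := hπ.flat_of_restrictScalars B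
  have hmm : (maximalIdeal S).map ψ = maximalIdeal B := by
    rw [← Groth.Agent.S0507.result A S, Ideal.map_map, hψ, AdicCompletion.maximalIdeal_eq_map]
  haveI : IsLocalHom (algebraMap S B) :=
    ((local_hom_TFAE (algebraMap S B)).out (a := IsLocalHom (algebraMap S B)) 0 2).mpr hmm.le
  have hdim : ∀ p : Ideal S, p.IsPrime → ringKrullDim (B ⧸ p.map ψ) = ringKrullDim (S ⧸ p) := by
    intro p hp
    have hle : p.map ψ ≤ maximalIdeal B :=
      (Ideal.map_mono (le_maximalIdeal hp.ne_top)).trans hmm.le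
    haveI : Nontrivial (B ⧸ p.map ψ) := Ideal.Quotient.nontrivial_iff.2
      (ne_top_of_le_ne_top (maximalIdeal.isMaximal B).ne_top hle)
    haveI : IsLocalRing (B ⧸ p.map ψ) := IsLocalRing.of_surjective' _ Ideal.Quotient.mk_surjective
    haveI : IsLocalRing (S ⧸ p) := IsLocalRing.of_surjective' _ Ideal.Quotient.mk_surjective
    letI : Algebra (S ⧸ p) (B ⧸ p.map ψ) := (Ideal.quotientMap (p.map ψ) ψ Ideal.le_comap_map).toAlgebra
    haveI : Module.Flat (S ⧸ p) (B ⧸ p.map ψ) :=
      RingHom.flat_algebraMap_iff.mp (H13CI.flat_quotient_map (B' := B) p)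
    refine ringKrullDim_quotient_map ?_
    rw [← IsLocalRing.map_maximalIdeal_of_surjective _ (Ideal.Quotient.mk_surjective (I := p)),
      ← IsLocalRing.map_maximalIdeal_of_surjective _ (Ideal.Quotient.mk_surjective (I := p.map ψ)),
      Ideal.map_map, ← hmm, Ideal.map_map]
    rfl
  constructor
  · rintro ⟨q, hq, h⟩
    obtain ⟨p, hp, hpq⟩ := Groth.Agent.S9242.result A S ψ hψ q hq h
    refine ⟨p, hp, ?_⟩
    rw [← hdim p hp.1.1, ringKrullDim_quotient, ← PrimeSpectrum.zeroLocus_radical, hpq, ← ringKrullDim_quotient, h]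
  · rintro ⟨p, hp, h⟩
    obtain ⟨q, hq, hd⟩ := exists_minimalPrimes_dim_eq_one (p.map ψ) ((hdim p hp.1.1).trans h)
    exact ⟨q, ((mem_minimalPrimes_map_iff (C := B) hp).1 hq).1, hd⟩

end Groth.Agent.H3CAlg
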