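import Groth.Agent.H9Hens.BranchCount
import Groth.Agent.S5763
import Mathlib.RingTheory.Ideal.KrullsHeightTheorem
import Mathlib.RingTheory.KrullDimension.NonZeroDivisors

/-!
Dimensions of the branches of a henselian colimit of pointed etale algebras versus the local rings
of the integral closure of the base in its total ring of fractions.
-/

namespace Groth.Agent.H3CAlg

universe u

open TensorProduct IsLocalRing H9Hens

/-- Injective integral maps of quotients by primes preserve the dimension. -/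
theorem ringKrullDim_quotient_comap {R S : Type u} [CommRing R] [CommRing S] [Algebra R S]
    [Algebra.IsIntegral R S] (Q : Ideal S) :
    ringKrullDim (S ⧸ Q) = ringKrullDim (R ⧸ Q.comap (algebraMap R S)) := by
  let q := Q.comap (algebraMap R S)
  letI : Algebra (R ⧸ q) (S ⧸ Q) := (Ideal.quotientMap Q (algebraMap R S) le_rfl).toAlgebra
  haveI : IsScalarTower R (R ⧸ q) (S ⧸ Q) := IsScalarTower.of_algebraMap_eq fun _ => rfl
  haveI : Algebra.IsIntegral (R ⧸ q) (S ⧸ Q) := Algebra.IsIntegral.tower_top (R := R)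
  exact (Groth.Agent.S5763.result (R ⧸ q) (S ⧸ Q)).2 Ideal.quotientMap_injective

section PtColim

variable {A : Type u} [CommRing A] [IsNoetherianRing A] [IsLocalRing A] {k : Type u} [CommRing k] [Algebra A k]
  {H : Type u} [CommRing H] [Algebra A H] [HenselianLocalRing H] [IsLocalHom (algebraMap A H)]
  [Module.FaithfullyFlat A H] {π : H →ₐ[A] k} (hH : IsPtColim π)

local notation "Q₀" => FractionRing (CAlg2.red A)
local notation "P₀" => integralClosure A (FractionRing (CAlg2.red A))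

include hH in
/-- Every maximal ideal upstairs lies on exactly one branch, and everything has the same dimension. -/
theorem exists_branch_of_maximal (M : Ideal (H ⊗[A] P₀)) [hM : M.IsMaximal] :
    (M.comap (Algebra.TensorProduct.includeRight : P₀ →ₐ[A] H ⊗[A] P₀).toRingHom).IsMaximal ∧
    ∃ p ∈ minimalPrimes H,
      ringKrullDim (H ⧸ p) =
        (M.comap (Algebra.TensorProduct.includeRight : P₀ →ₐ[A] H ⊗[A] P₀).toRingHom).height ∧
      ∀ Q : Ideal (H ⊗[A] P₀), Q.IsPrime → Q ≤ M → p ≤ Q.comap (algebraMap H (H ⊗[A] P₀)) := by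
  classical
  let j := (Algebra.TensorProduct.includeRight : P₀ →ₐ[A] H ⊗[A] P₀)
  haveI : Algebra.IsIntegral H (H ⊗[A] P₀) := inferInstance
  have hfin : (minimalPrimes A).Finite := minimalPrimes.finite_of_isNoetherianRing A
  haveI := fractionRing_red_isArtinianRing A hfin
  haveI := hH.flat
  have hm : (M.comap j.toRingHom).IsMaximal := by
    refine Ideal.isMaximal_of_isIntegral_of_isMaximal_comap (R := A) _ ?_
    have hlie : M.comap (algebraMap H (H ⊗[A] P₀)) = maximalIdeal H :=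
      (isMaximal_iff H).mp (Ideal.isMaximal_comap_of_isIntegral_of_isMaximal M)
    have hcm : (maximalIdeal H).comap (algebraMap A H) = maximalIdeal A :=
      ((local_hom_TFAE (algebraMap A H)).out (a := IsLocalHom (algebraMap A H)) 0 4).mp ‹_›
    rw [Ideal.comap_comap, AlgHom.toRingHom_eq_coe, AlgHom.comp_algebraMap,
      IsScalarTower.algebraMap_eq A H (H ⊗[A] P₀), ← Ideal.comap_comap, hlie, hcm]
    infer_instance
  refine ⟨hm, ?_⟩
  let ι : H ⊗[A] P₀ →ₐ[H] H ⊗[A] Q₀ := Algebra.TensorProduct.map (AlgHom.id H H) (P₀).val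
  have hι : Function.Injective ι :=
    Module.Flat.lTensor_preserves_injective_linearMap (M := H) (P₀).val.toLinearMap
      Subtype.val_injective
  have huniq : ∀ Q₁ ∈ minimalPrimes (H ⊗[A] P₀), ∀ Q₂ ∈ minimalPrimes (H ⊗[A] P₀),
      Q₁ ≤ M → Q₂ ≤ M → Q₁ = Q₂ := by
    intro Q₁ hQ₁ Q₂ hQ₂ h₁ h₂
    by_contra hne
    obtain ⟨P₁, hP₁, e₁⟩ := Ideal.exists_comap_eq_of_mem_minimalPrimes_of_injective (f := ι.toRingHom) hι Q₁ hQ₁
    obtain ⟨P₂, hP₂, e₂⟩ := Ideal.exists_comap_eq_of_mem_minimalPrimes_of_injective (f := ι.toRingHom) hι Q₂ hQ₂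
    have key : ∀ (P P' : Ideal (H ⊗[A] Q₀)) [P.IsPrime] [P'.IsPrime], P.comap ι.toRingHom ≤ M →
        P'.comap ι.toRingHom ≤ M → P ≤ P' := by
      intro P P' _ _ hP hP' x hx
      by_contra hx'
      obtain ⟨t, ht₁, ht₂⟩ := hH.exists_idem_separating hx hx'
      have h1 : t ∈ M := hP ht₁
      have h2 : 1 - t ∈ M := hP' (by rw [Ideal.mem_comap, map_sub, map_one]; exact ht₂)
      exact hM.ne_top ((Ideal.eq_top_iff_one _).mpr (by simpa using add_mem h1 h2))
    apply hne
    rw [← e₁, ← e₂, le_antisymm (key P₁ P₂ (e₁.trans_le h₁) (e₂.trans_le h₂))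
      (key P₂ P₁ (e₂.trans_le h₂) (e₁.trans_le h₁))]
  obtain ⟨Q, hQ, hQM⟩ := Ideal.exists_minimalPrimes_le (bot_le : (⊥ : Ideal (H ⊗[A] P₀)) ≤ M)
  haveI := hQ.1.1
  have hall : ∀ Q' : Ideal (H ⊗[A] P₀), Q'.IsPrime → Q' ≤ M → Q ≤ Q' := fun Q' hQ' hle => by
    obtain ⟨Q₁, hQ₁, hle₁⟩ := Ideal.exists_minimalPrimes_le (bot_le : (⊥ : Ideal (H ⊗[A] P₀)) ≤ Q')
    rw [huniq Q hQ Q₁ hQ₁ hQM (hle₁.trans hle)]
    exact hle₁
  obtain ⟨P, hP, eP⟩ := Ideal.exists_comap_eq_of_mem_minimalPrimes_of_injective (f := ι.toRingHom) hι Q hQ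
  have hpmin : Q.comap (algebraMap H (H ⊗[A] P₀)) ∈ minimalPrimes H := by
    have h := hH.comap_mem_minimalPrimes (fractionRing_red_comap_mem A hfin) P
    rw [← eP]
    have e : (P.comap ι.toRingHom).comap (algebraMap H (H ⊗[A] P₀)) =
        P.comap (Algebra.TensorProduct.includeLeftRingHom : H →+* H ⊗[A] Q₀) :=
      Ideal.ext fun x => by
        show ι (algebraMap H (H ⊗[A] P₀) x) ∈ P ↔ x ⊗ₜ[A] (1 : Q₀) ∈ P
        rw [ι.commutes]
        rfl
    rw [e]
    exact h
  refine ⟨_, hpmin, ?_, fun Q' hQ' hle => Ideal.comap_mono (hall Q' hQ' hle)⟩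
  rw [← ringKrullDim_quotient_comap, ringKrullDim_quotient]
  have hset : PrimeSpectrum.zeroLocus (R := H ⊗[A] P₀) Q = Set.Iic (⟨M, hM.isPrime⟩ : PrimeSpectrum _) := by
    ext P'
    refine ⟨fun h => ?_, fun h => hall P'.asIdeal P'.2 h⟩
    obtain ⟨M', hM', hle⟩ := Ideal.exists_le_maximal P'.asIdeal P'.2.ne_top
    have : M' = M := maximal_eq_of_prime_le_of_isIntegral (R := H) (P := Q) (le_trans h hle) hQM
    exact this ▸ hle
  rw [hset, ← Order.height_eq_krullDim_Iic]
  haveI := hm.isPrime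
  rw [(⟨M.comap j.toRingHom, inferInstance⟩ : PrimeSpectrum P₀).height_eq_orderHeight]
  norm_cast
  -- incomparability
  have hmono : StrictMono (PrimeSpectrum.comap j.toRingHom) := by
    intro P₁ P₂ hlt
    refine lt_of_le_of_ne (Ideal.comap_mono hlt.le) fun he => hlt.ne ?_
    have he' : P₁.asIdeal.comap j.toRingHom = P₂.asIdeal.comap j.toRingHom :=
      congrArg PrimeSpectrum.asIdeal he
    have hcA : (P₁.asIdeal.comap (algebraMap H (H ⊗[A] P₀))).comap (algebraMap A H) =
        (P₂.asIdeal.comap (algebraMap H (H ⊗[A] P₀))).comap (algebraMap A H) := by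
      rw [Ideal.comap_comap, Ideal.comap_comap, ← IsScalarTower.algebraMap_eq, ← j.comp_algebraMap,
        ← Ideal.comap_comap, ← Ideal.comap_comap, ← AlgHom.toRingHom_eq_coe, he']
    have hcH := hH.eq_of_le_of_comap_eq (Ideal.comap_mono hlt.le) hcA
    by_contra hne
    exact (Ideal.IsIntegral.comap_lt_comap (I := P₁.asIdeal) (J := P₂.asIdeal) hlt).ne hcH
  refine le_antisymm ?_ ?_
  · exact Order.height_le_height_apply_of_strictMono _ hmono _
  · letI : Algebra P₀ (H ⊗[A] P₀) := Algebra.TensorProduct.rightAlgebra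
    haveI : Module.Flat P₀ (H ⊗[A] P₀) :=
      Module.Flat.of_linearEquiv (Algebra.TensorProduct.commRight A P₀ H).symm.toLinearEquiv
    refine Order.height_le fun l hl => ?_
    haveI : M.LiesOver l.last.asIdeal := ⟨by rw [hl]; rfl⟩
    obtain ⟨L, hlen, hlast, -⟩ := Ideal.exists_ltSeries_of_hasGoingDown l M
    rw [← hlen]
    exact Order.length_le_height hlast.le

include hH in
theorem exists_comap_eq (p : Ideal H) (hp : p ∈ minimalPrimes H) :
    ∃ P : Ideal (H ⊗[A] FractionRing (CAlg2.red A)), P.IsPrime ∧ P.comap (algebraMap H _) = p := by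
  haveI := hp.1.1
  haveI := hH.flat
  have hpA : p.comap (algebraMap A H) ∈ minimalPrimes A := by
    refine ⟨⟨inferInstance, bot_le⟩, fun q hq hle => ?_⟩
    haveI := hq.1
    haveI : p.LiesOver (p.comap (algebraMap A H)) := ⟨rfl⟩
    obtain ⟨P', hP'le, hP', hlo⟩ :=
      Ideal.exists_ideal_le_liesOver_of_le (q := p.comap (algebraMap A H)) p hle
    have hPP : p = P' := le_antisymm (hp.2 ⟨hP', bot_le⟩ hP'le) hP'le
    exact le_of_eq ((congrArg (Ideal.comap (algebraMap A H)) hPP).trans hlo.over.symm)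
  let L := FractionRing (H ⧸ p)
  let f : H →ₐ[A] L := (IsScalarTower.toAlgHom A (H ⧸ p) L).comp (Ideal.Quotient.mkₐ A p)
  have hf : RingHom.ker f.toRingHom = p := by
    ext x
    show algebraMap (H ⧸ p) L (Ideal.Quotient.mk p x) = 0 ↔ x ∈ p
    rw [map_eq_zero_iff _ (IsFractionRing.injective (H ⧸ p) L), Ideal.Quotient.eq_zero_iff_mem]
  obtain ⟨g, hg⟩ := fractionRing_red_lift A L (algebraMap A L) (by
    rw [← f.comp_algebraMap, ← RingHom.comap_ker, ← AlgHom.toRingHom_eq_coe, hf]; exact hpA)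
  let g' : FractionRing (CAlg2.red A) →ₐ[A] L := { g with commutes' := fun a => RingHom.congr_fun hg a }
  let F := Algebra.TensorProduct.lift f g' fun _ _ => Commute.all _ _
  refine ⟨RingHom.ker F.toRingHom, RingHom.ker_isPrime _, ?_⟩
  rw [RingHom.comap_ker]
  refine Eq.trans ?_ hf
  congr 1
  ext x
  simp [F]

include hH in
/-- The dimensions of the branches are the dimensions of the local rings of the integral closure. -/
theorem branch_dim :
    (∀ p ∈ minimalPrimes H, ∃ m : MaximalSpectrum P₀, ringKrullDim (H ⧸ p) = m.asIdeal.height) ∧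
    (∀ m : MaximalSpectrum P₀, ∃ p ∈ minimalPrimes H, ringKrullDim (H ⧸ p) = m.asIdeal.height) := by
  haveI : Algebra.IsIntegral H (H ⊗[A] P₀) := inferInstance
  have hfin : (minimalPrimes A).Finite := minimalPrimes.finite_of_isNoetherianRing A
  constructor
  · intro p hp
    haveI := hp.1.1
    have hker : RingHom.ker (algebraMap H (H ⊗[A] P₀)) ≤ p := by
      obtain ⟨P, hP, hPp⟩ : ∃ P : Ideal (H ⊗[A] Q₀), P.IsPrime ∧ P.comap (algebraMap H _) = p :=
        exists_comap_eq hH p hp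
      intro x hx
      rw [← hPp, Ideal.mem_comap]
      have : algebraMap H (H ⊗[A] Q₀) x =
          (Algebra.TensorProduct.map (AlgHom.id H H) (P₀).val) (algebraMap H (H ⊗[A] P₀) x) :=
        ((Algebra.TensorProduct.map (AlgHom.id H H) (P₀).val).commutes x).symm
      rw [this, RingHom.mem_ker.mp hx, map_zero]
      exact P.zero_mem
    obtain ⟨Q, -, hQ, hQp⟩ := Ideal.exists_ideal_over_prime_of_isIntegral p (⊥ : Ideal (H ⊗[A] P₀)) hker
    obtain ⟨M, hM, hQM⟩ := Ideal.exists_le_maximal Q hQ.ne_top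
    obtain ⟨hm, p', hp', hdim, hall⟩ := exists_branch_of_maximal hH M
    have : p' ≤ p := (hall Q hQ hQM).trans hQp.le
    refine ⟨⟨_, hm⟩, ?_⟩
    rw [le_antisymm (hp.2 ⟨hp'.1.1, bot_le⟩ this) this]
    exact hdim
  · intro m
    obtain ⟨P', hP'⟩ := PrimeSpectrum.comap_surjective_of_faithfullyFlat (A := P₀) (B := (P₀ : Type u) ⊗[A] H)
      ⟨m.asIdeal, m.isMaximal.isPrime⟩
    let P : PrimeSpectrum (H ⊗[A] P₀) := PrimeSpectrum.comap (Algebra.TensorProduct.comm A H P₀).toAlgHom.toRingHom P'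
    have hP : P.asIdeal.comap (Algebra.TensorProduct.includeRight : P₀ →ₐ[A] H ⊗[A] P₀).toRingHom = m.asIdeal := by
      rw [← show _ = m.asIdeal from congrArg PrimeSpectrum.asIdeal hP']
      ext x
      show (Algebra.TensorProduct.comm A H P₀) ((1 : H) ⊗ₜ[A] x) ∈ P'.asIdeal ↔ x ⊗ₜ[A] (1 : H) ∈ P'.asIdeal
      rw [Algebra.TensorProduct.comm_tmul]
    obtain ⟨M, hM, hPM⟩ := Ideal.exists_le_maximal P.asIdeal P.2.ne_top
    obtain ⟨hm, p', hp', hdim, -⟩ := exists_branch_of_maximal hH M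
    refine ⟨p', hp', hdim.trans ?_⟩
    have h1 : m.asIdeal ≤ M.comap (Algebra.TensorProduct.includeRight : P₀ →ₐ[A] H ⊗[A] P₀).toRingHom :=
      hP.ge.trans (Ideal.comap_mono hPM)
    rw [← m.isMaximal.eq_of_le hm.ne_top h1]

end PtColim

/-- Flat local maps with maximal ideal extended to the maximal ideal preserve dimension of quotients. -/
theorem ringKrullDim_quotient_map {R T : Type u} [CommRing R] [CommRing T] [IsLocalRing R] [IsLocalRing T]
    [IsNoetherianRing R] [IsNoetherianRing T] [Algebra R T] [Module.Flat R T]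
    (hm : (maximalIdeal R).map (algebraMap R T) = maximalIdeal T) :
    ringKrullDim T = ringKrullDim R := by
  haveI : (maximalIdeal T).LiesOver (maximalIdeal R) :=
    ⟨((maximalIdeal.isMaximal R).eq_of_le (Ideal.comap_ne_top _ (maximalIdeal.isMaximal T).ne_top)
      (Ideal.map_le_iff_le_comap.mp hm.le))⟩
  rw [← maximalIdeal_height_eq_ringKrullDim, ← maximalIdeal_height_eq_ringKrullDim,
    Ideal.height_eq_height_add_of_liesOver_of_hasGoingDown (maximalIdeal R) (maximalIdeal T)]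
  haveI : ((maximalIdeal R).map (algebraMap R T)).IsMaximal := hm ▸ maximalIdeal.isMaximal T
  have : (maximalIdeal T).map (Ideal.Quotient.mk ((maximalIdeal R).map (algebraMap R T))) = ⊥ :=
    (Ideal.map_eq_bot_iff_le_ker _).mpr (by rw [Ideal.mk_ker, hm])
  rw [this, Ideal.height_bot, add_zero]

end Groth.Agent.H3CAlg
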