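import Groth.Agent.H05EGA4.CompleteNormalization
import Groth.Agent.H05EGA4.Completion
import Groth.Agent.H22Alg.DimOneLoc
import Groth.Agent.H24Adic.CompletionMap
import Mathlib

/-!
# Branches of a one-dimensional analytically nice local ring: minimal primes of the completion
-/

universe u

namespace Groth.Agent.H3CAlg.Branches

open IsLocalRing TensorProduct nonZeroDivisors

/-- Minimal primes correspond under an extension with a regular conductor element. -/
theorem minimalPrimes_ncard_eq {R S : Type u} [CommRing R] [CommRing S] [Algebra R S]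
    [Algebra.IsIntegral R S] (hinj : Function.Injective (algebraMap R S)) (c : R) (hc : c ∈ R⁰)
    (hcS : ∀ x : S, ∃ r, algebraMap R S r = algebraMap R S c * x) (hcS0 : algebraMap R S c ∈ S⁰) :
    (minimalPrimes R).ncard = (minimalPrimes S).ncard := by
  have hR : ∀ p ∈ minimalPrimes R, c ∉ p := fun p hp h =>
    Set.disjoint_left.mp (Ideal.disjoint_nonZeroDivisors_of_mem_minimalPrimes hp) h hc
  have hS : ∀ P ∈ minimalPrimes S, algebraMap R S c ∉ P := fun P hP h =>
    Set.disjoint_left.mp (Ideal.disjoint_nonZeroDivisors_of_mem_minimalPrimes hP) h hcS0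
  have key : ∀ P Q : Ideal S, P.IsPrime → Q.IsPrime → algebraMap R S c ∉ P →
      Q.comap (algebraMap R S) ≤ P.comap (algebraMap R S) → Q ≤ P := by
    intro P Q hP hQ hcP hle x hx
    obtain ⟨r, hr⟩ := hcS x
    have : r ∈ Q.comap (algebraMap R S) := by
      rw [Ideal.mem_comap, hr]
      exact Q.mul_mem_left _ hx
    have h2 := hle this
    rw [Ideal.mem_comap, hr] at h2
    exact (hP.mem_or_mem h2).resolve_left hcP
  symm
  refine Set.ncard_congr (fun P _ => P.comap (algebraMap R S)) (fun P hP => ?_) (fun P Q hP hQ h => ?_)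
    fun p hp => ?_
  · haveI := hP.isPrime
    refine ⟨⟨inferInstance, bot_le⟩, fun p hp hle => ?_⟩
    haveI := hp.1
    obtain ⟨Q, -, hQ, hQp⟩ := Ideal.exists_ideal_over_prime_of_isIntegral p (⊥ : Ideal S)
      (by simp [Ideal.comap_bot_of_injective _ hinj])
    have hQP : Q ≤ P := key P Q ‹_› hQ (hS P hP) (hQp.trans_le hle)
    rw [← hQp]
    exact Ideal.comap_mono (hP.2 ⟨hQ, bot_le⟩ hQP)
  · exact le_antisymm (key Q P hQ.isPrime hP.isPrime (hS Q hQ) h.le)
      (key P Q hP.isPrime hQ.isPrime (hS P hP) h.ge)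
  · have hp0 : p ∈ ((⊥ : Ideal S).comap (algebraMap R S)).minimalPrimes := by
      rw [Ideal.comap_bot_of_injective _ hinj]
      exact hp
    obtain ⟨P, hP, e⟩ := Ideal.exists_minimalPrimes_comap_eq (algebraMap R S) p hp0
    exact ⟨P, hP, e⟩

/-- A Noetherian local ring whose maximal ideal is generated by a regular element is a domain. -/
theorem isDomain_of_maximalIdeal_eq_span (L : Type u) [CommRing L] [IsLocalRing L] [IsNoetherianRing L]
    (a : L) (ha : a ∈ L⁰) (hm : maximalIdeal L = Ideal.span {a}) : IsDomain L := by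
  have key : ∀ x : L, x ≠ 0 → ∃ n : ℕ, ∃ w : L, IsUnit w ∧ x = a ^ n * w := by
    intro x hx
    by_contra hne
    push Not at hne
    refine hx ?_
    have h : ∀ n : ℕ, ∃ w, x = a ^ n * w := by
      intro n
      induction n with
      | zero => exact ⟨x, by simp⟩
      | succ n ih =>
        obtain ⟨w, rfl⟩ := ih
        have hw : w ∈ maximalIdeal L := fun hu => hne n w hu rfl
        rw [hm, Ideal.mem_span_singleton'] at hw
        obtain ⟨v, rfl⟩ := hw
        exact ⟨v, by ring⟩
    have hI : x ∈ (⨅ i : ℕ, maximalIdeal L ^ i) := by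
      simp only [Ideal.mem_iInf, hm, Ideal.span_singleton_pow, Ideal.mem_span_singleton]
      exact fun i => h i
    rwa [Ideal.iInf_pow_eq_bot_of_isLocalRing _ (maximalIdeal.isMaximal L).ne_top, Ideal.mem_bot] at hI
  haveI : NoZeroDivisors L := ⟨fun {x y} hxy => by
    by_contra h
    push Not at h
    obtain ⟨m, v, hv, rfl⟩ := key x h.1
    obtain ⟨n, w, hw, rfl⟩ := key y h.2
    have : a ^ (m + n) * (v * w) = 0 := by rw [← hxy]; ring
    exact not_isUnit_zero ((mem_nonZeroDivisors_iff_right.mp (pow_mem ha (m + n))) _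
      (by rw [mul_comm]; exact this) ▸ hv.mul hw)⟩
  exact NoZeroDivisors.to_isDomain L

/-- At most one minimal prime below a maximal ideal with principal regular localisation. -/
theorem minimalPrime_unique {S : Type u} [CommRing S] [IsNoetherianRing S] (N : Ideal S) [N.IsMaximal]
    (a u : S) (ha : a ∈ N) (hu : u ∉ N) (hspan : ∀ x ∈ N, ∃ s ∉ N, s * x ∈ Ideal.span {a})
    (t : S) (ht : t ∈ S⁰) (hta : ∃ w, u * t = a * w) {P Q : Ideal S} (hP : P ∈ minimalPrimes S)
    (hQ : Q ∈ minimalPrimes S) (hPN : P ≤ N) (hQN : Q ≤ N) : P = Q := by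
  let L := Localization.AtPrime N
  haveI : IsNoetherianRing L := IsLocalization.isNoetherianRing N.primeCompl L inferInstance
  have hu' : IsUnit (algebraMap S L u) := IsLocalization.map_units L (⟨u, hu⟩ : N.primeCompl)
  have hm : maximalIdeal L = Ideal.span {algebraMap S L a} := by
    rw [← IsLocalization.AtPrime.map_eq_maximalIdeal N L]
    refine le_antisymm (Ideal.map_le_iff_le_comap.mpr fun x hx => ?_)
      ((Ideal.span_singleton_le_iff_mem _).mpr (Ideal.mem_map_of_mem _ ha))
    obtain ⟨s, hs, hsx⟩ := hspan x hx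
    obtain ⟨r, hr⟩ := Ideal.mem_span_singleton'.mp hsx
    rw [Ideal.mem_comap, Ideal.mem_span_singleton]
    refine ((IsLocalization.map_units L (⟨s, hs⟩ : N.primeCompl)).dvd_mul_left).mp ?_
    exact ⟨algebraMap S L r, by rw [← map_mul, ← map_mul, ← hr, mul_comm]⟩
  have htL : algebraMap S L t ∈ L⁰ := IsLocalization.map_nonZeroDivisors_le N.primeCompl L
    (Submonoid.mem_map_of_mem (algebraMap S L) ht)
  have haL : algebraMap S L a ∈ L⁰ := by
    obtain ⟨w, hw⟩ := hta
    have : algebraMap S L u * algebraMap S L t ∈ L⁰ :=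
      Submonoid.mul_mem _ (hu'.mem_nonZeroDivisors) htL
    rw [← map_mul, hw, map_mul] at this
    exact (mul_mem_nonZeroDivisors.mp this).1
  haveI := isDomain_of_maximalIdeal_eq_span L _ haL hm
  have h0 : ∀ P : Ideal S, P ∈ minimalPrimes S → P ≤ N → P = RingHom.ker (algebraMap S L) := by
    intro P hP hPN
    haveI := hP.isPrime
    have hle : RingHom.ker (algebraMap S L) ≤ P := by
      intro x hx
      obtain ⟨⟨s, hs⟩, h⟩ := (IsLocalization.map_eq_zero_iff N.primeCompl L x).mp hx
      exact (hP.isPrime.mem_or_mem (h ▸ P.zero_mem)).resolve_left fun h' => hs (hPN h')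
    exact le_antisymm (hP.2 ⟨RingHom.ker_isPrime _, bot_le⟩ hle) hle
  rw [h0 P hP hPN, h0 Q hQ hQN]

/-- In a one-dimensional normal ring, maximal ideals are locally principal. -/
theorem exists_uniformizer {A K : Type u} [CommRing A] [CommRing K] [Algebra A K] [IsLocalRing A]
    [IsNoetherianRing A] (hfin : Module.Finite A (integralClosure A K)) (t : A)
    (ht : IsUnit (algebraMap A K t)) (htm : t ∈ maximalIdeal A)
    (hdim : ∀ p : Ideal A, p.IsPrime → t ∈ p → p = maximalIdeal A)
    (M : Ideal (integralClosure A K)) [M.IsMaximal] :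
    ∃ a u : integralClosure A K, a ∈ M ∧ u ∉ M ∧ (∀ x ∈ M, u * x ∈ Ideal.span {a}) ∧
      algebraMap A (integralClosure A K) t ∈ M := by
  classical
  let S := integralClosure A K
  haveI : IsNoetherianRing S := IsNoetherianRing.of_finite A S
  set τ := algebraMap A S t with hτ
  have hMm : M.comap (algebraMap A S) = maximalIdeal A :=
    eq_maximalIdeal (Ideal.isMaximal_comap_of_isIntegral_of_isMaximal M)
  have hτM : τ ∈ M := (hMm.ge htm : t ∈ M.comap (algebraMap A S))
  have hmin : M ∈ (Ideal.span {τ}).minimalPrimes := by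
    refine ⟨⟨inferInstance, (Ideal.span_singleton_le_iff_mem _).mpr hτM⟩, fun P hP hle => ?_⟩
    haveI := hP.1
    have hPm : P.IsMaximal := Ideal.isMaximal_of_isIntegral_of_isMaximal_comap (R := A) P (by
      rw [hdim (P.comap (algebraMap A S)) inferInstance ((Ideal.span_singleton_le_iff_mem _).mp hP.2 : τ ∈ P)]
      exact maximalIdeal.isMaximal A)
    exact (hPm.eq_of_le (Ideal.IsPrime.ne_top inferInstance) hle).ge
  have hass : M ∈ associatedPrimes S (S ⧸ Ideal.span {τ}) := by
    apply Module.associatedPrimes.minimalPrimes_annihilator_subset_associatedPrimes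
    rwa [Ideal.annihilator_quotient]
  obtain ⟨-, y, hy⟩ := isAssociatedPrime_iff.mp hass
  obtain ⟨y, rfl⟩ := Ideal.Quotient.mk_surjective y
  have hyM : ∀ x, x ∈ M ↔ x * y ∈ Ideal.span {τ} := by
    intro x
    conv_lhs => rw [hy]
    rw [Submodule.mem_colon_singleton, Submodule.mem_bot]
    change Ideal.Quotient.mk (Ideal.span {τ}) (x * y) = 0 ↔ _
    exact Ideal.Quotient.eq_zero_iff_mem
  have hy' : y ∉ Ideal.span {τ} := fun h => Ideal.IsPrime.ne_top inferInstance
    ((Ideal.eq_top_iff_one M).mpr ((hyM 1).mpr (by rwa [one_mul])))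
  let z : K := (↑ht.unit⁻¹ : K) * (y : K)
  have hzM : ∀ x ∈ M, ∃ w : S, (w : K) = z * (x : K) ∧ x * y = w * τ := by
    intro x hx
    obtain ⟨w, hw⟩ := Ideal.mem_span_singleton'.mp ((hyM x).mp hx)
    refine ⟨w, ?_, hw.symm⟩
    have h := congrArg Subtype.val hw
    simp only [MulMemClass.coe_mul] at h
    have : (τ : K) = algebraMap A K t := rfl
    rw [this, ← ht.unit_spec] at h
    change (w : K) = ↑ht.unit⁻¹ * (y : K) * (x : K)
    rw [mul_assoc, mul_comm (y : K), ← h, mul_comm (w : K), ← mul_assoc, Units.inv_mul, one_mul]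
  by_cases hex : ∃ x ∈ M, ∀ w : S, (w : K) = z * (x : K) → w ∉ M
  · obtain ⟨a, ha, hu⟩ := hex
    obtain ⟨u, hu1, hu2⟩ := hzM a ha
    refine ⟨a, u, ha, hu u hu1, fun x hx => ?_, hτM⟩
    obtain ⟨w, hw, -⟩ := hzM x hx
    refine Ideal.mem_span_singleton'.mpr ⟨w, Subtype.ext ?_⟩
    simp only [MulMemClass.coe_mul, hu1, hw]
    ring
  · exfalso
    push Not at hex
    let Mk : Submodule A K := (M.restrictScalars A).map (integralClosure A K).val.toLinearMap
    have hz : IsIntegral A z := by
      haveI : Module.Finite A Mk := Module.Finite.iff_fg.mpr (Submodule.FG.map _ (IsNoetherian.noetherian _))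
      have hmem : ∀ k ∈ Mk, Algebra.lmul A K z k ∈ Mk := by
        rintro _ ⟨x, hx, rfl⟩
        obtain ⟨w, hw, hwM⟩ := hex x hx
        exact ⟨w, hwM, hw⟩
      obtain ⟨p, hp, hpz⟩ := LinearMap.exists_monic_and_aeval_eq_zero A ((Algebra.lmul A K z).restrict hmem)
      have key : ∀ (p : Polynomial A) (k : Mk),
          ((Polynomial.aeval ((Algebra.lmul A K z).restrict hmem) p k : Mk) : K) = Polynomial.aeval z p * k := by
        intro p k
        induction p using Polynomial.induction_on' with
        | add p q hp hq =>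
          rw [map_add, map_add, LinearMap.add_apply, Submodule.coe_add, add_mul, hp, hq]
        | monomial n a =>
          induction n generalizing k with
          | zero =>
            simp only [Polynomial.monomial_zero_left, Polynomial.aeval_C, Module.algebraMap_end_apply,
              SetLike.val_smul, Algebra.smul_def]
          | succ n ih =>
            rw [← Polynomial.monomial_mul_X, map_mul (Polynomial.aeval ((Algebra.lmul A K z).restrict hmem)),
              map_mul (Polynomial.aeval z), Module.End.mul_apply, ih]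
            simp only [Polynomial.aeval_X, mul_assoc]
            rfl
      refine ⟨p, hp, ?_⟩
      have h := key p ⟨(τ : K), ⟨τ, hτM, rfl⟩⟩
      rw [hpz, LinearMap.zero_apply, ZeroMemClass.coe_zero] at h
      exact ht.mul_left_eq_zero.mp h.symm
    refine hy' (Ideal.mem_span_singleton'.mpr ⟨⟨z, hz⟩, Subtype.ext ?_⟩)
    change z * algebraMap A K t = (y : K)
    conv_lhs => rw [← ht.unit_spec]
    rw [mul_right_comm, Units.inv_mul, one_mul]

/-- Maximal ideals of a finite algebra with locally principal maximal ideals correspond to minimal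
primes of its completion. -/
theorem ncard_maximal_eq (A S Ah T : Type u) [CommRing A] [CommRing S] [CommRing Ah] [CommRing T]
    [IsLocalRing A] [IsLocalRing Ah] [IsNoetherianRing Ah] [IsNoetherianRing S]
    [IsAdicComplete (maximalIdeal Ah) Ah] [Algebra A S] [Algebra A Ah] [Algebra Ah T] [Algebra S T]
    [Algebra A T] [IsScalarTower A Ah T] [IsScalarTower A S T] [IsLocalHom (algebraMap A Ah)]
    [Module.Finite A S] [Module.Finite Ah T] [Module.FaithfullyFlat S T]
    (hres : ∀ α : Ah, ∃ a : A, α - algebraMap A Ah a ∈ (maximalIdeal A).map (algebraMap A Ah))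
    (hspan : Submodule.span Ah (Set.range (algebraMap S T)) = ⊤) (t : S) (ht : t ∈ S⁰)
    (hunif : ∀ M : Ideal S, M.IsMaximal → ∃ a u : S, a ∈ M ∧ u ∉ M ∧
      (∀ x ∈ M, u * x ∈ Ideal.span {a}) ∧ t ∈ M) :
    {P : Ideal S | P.IsMaximal}.ncard = (minimalPrimes T).ncard := by
  haveI : IsNoetherianRing T := IsNoetherianRing.of_finite Ah T
  have htT : algebraMap S T t ∈ T⁰ := by
    rw [mem_nonZeroDivisors_iff_right]
    intro y hy
    have : IsSMulRegular T (algebraMap S T t) :=
      IsSMulRegular.of_flat ((isRegular_iff_mem_nonZeroDivisors.mpr ht).left)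
    exact this (by simp only [smul_eq_mul, mul_zero]; rw [mul_comm]; exact hy)
  have hsur : ∀ (M : Ideal S), M.IsMaximal → (M.map (algebraMap S T)).IsMaximal := by
    intro M hM
    have hne : M.map (algebraMap S T) ≠ ⊤ := by
      intro h
      have := Ideal.comap_map_eq_self_of_faithfullyFlat (B := T) M
      rw [h, Ideal.comap_top] at this
      exact hM.ne_top this.symm
    have hMm : (maximalIdeal A).map (algebraMap A S) ≤ M := by
      rw [Ideal.map_le_iff_le_comap,
        eq_maximalIdeal (Ideal.isMaximal_comap_of_isIntegral_of_isMaximal (R := A) M)]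
    have hs : Function.Surjective ((Ideal.Quotient.mk (M.map (algebraMap S T))).comp (algebraMap S T)) := by
      intro z
      obtain ⟨z, rfl⟩ := Ideal.Quotient.mk_surjective z
      have hz : z ∈ Submodule.span Ah (Set.range (algebraMap S T)) := hspan ▸ Submodule.mem_top
      induction hz using Submodule.span_induction with
      | mem x hx =>
        obtain ⟨s, rfl⟩ := hx
        exact ⟨s, rfl⟩
      | zero => exact ⟨0, by simp⟩
      | add x y _ _ hx hy =>
        obtain ⟨r, hr⟩ := hx
        obtain ⟨r', hr'⟩ := hy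
        exact ⟨r + r', by rw [map_add, hr, hr', map_add]⟩
      | smul α x _ hx =>
        obtain ⟨r, hr⟩ := hx
        obtain ⟨a, ha⟩ := hres α
        refine ⟨algebraMap A S a * r, ?_⟩
        rw [map_mul, hr, Algebra.smul_def, map_mul (Ideal.Quotient.mk _), RingHom.comp_apply,
          ← IsScalarTower.algebraMap_apply A S T, IsScalarTower.algebraMap_apply A Ah T]
        congr 1
        rw [Ideal.Quotient.eq, ← map_sub, ← neg_sub, map_neg]
        refine neg_mem ((Ideal.map_le_iff_le_comap.mpr ?_ :
          _ ≤ Ideal.comap (algebraMap Ah T) (M.map (algebraMap S T))) ha)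
        intro x hx
        rw [Ideal.mem_comap, Ideal.mem_comap, ← IsScalarTower.algebraMap_apply A Ah T,
          IsScalarTower.algebraMap_apply A S T]
        exact Ideal.mem_map_of_mem _ (hMm (Ideal.mem_map_of_mem _ hx))
    haveI : Nontrivial (T ⧸ M.map (algebraMap S T)) := Ideal.Quotient.nontrivial_iff.mpr hne
    have hker : RingHom.ker ((Ideal.Quotient.mk (M.map (algebraMap S T))).comp (algebraMap S T)) = M :=
      (hM.eq_of_le (RingHom.ker_ne_top _) fun x hx => by
        rw [RingHom.mem_ker, RingHom.comp_apply, Ideal.Quotient.eq_zero_iff_mem]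
        exact Ideal.mem_map_of_mem _ hx).symm
    refine (Ideal.Quotient.maximal_ideal_iff_isField_quotient _).mpr ?_
    exact MulEquiv.isField ((Ideal.Quotient.maximal_ideal_iff_isField_quotient M).mp hM)
      ((Ideal.quotEquivOfEq hker.symm).trans (RingHom.quotientKerEquivOfSurjective hs)).symm.toMulEquiv
  have hmaxcomap : ∀ N : Ideal T, N.IsMaximal → (N.comap (algebraMap S T)).IsMaximal := by
    intro N hN
    refine Ideal.isMaximal_of_isIntegral_of_isMaximal_comap (R := A) _ ?_
    rw [Ideal.comap_comap, ← IsScalarTower.algebraMap_eq A S T, IsScalarTower.algebraMap_eq A Ah T,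
      ← Ideal.comap_comap,
      eq_maximalIdeal (Ideal.isMaximal_comap_of_isIntegral_of_isMaximal (R := Ah) N),
      IsLocalRing.maximalIdeal_comap (algebraMap A Ah)]
    exact maximalIdeal.isMaximal A
  have hloc : ∀ P ∈ minimalPrimes T, ∀ N N' : Ideal T, N.IsMaximal → N'.IsMaximal → P ≤ N → P ≤ N' → N = N' := by
    intro P hP N N' hN hN' hPN hPN'
    haveI := hP.isPrime
    obtain ⟨_, -⟩ := H05EGA4.isAdicComplete_of_finite_domain (A := Ah) (A' := T ⧸ P)
    have h : ∀ N : Ideal T, N.IsMaximal → P ≤ N → N = (maximalIdeal (T ⧸ P)).comap (Ideal.Quotient.mk P) := by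
      intro N hN hle
      haveI := hN
      have hm : (N.map (Ideal.Quotient.mk P)).IsMaximal :=
        Ideal.IsMaximal.map_of_surjective_of_ker_le Ideal.Quotient.mk_surjective (by rwa [Ideal.mk_ker])
      rw [← eq_maximalIdeal hm, Ideal.comap_map_quotientMk, sup_eq_right.mpr hle]
    rw [h N hN hPN, h N' hN' hPN']
  have hex : ∀ M : Ideal S, M.IsMaximal → ∃! P, P ∈ minimalPrimes T ∧ P ≤ M.map (algebraMap S T) := by
    intro M hM
    haveI := hsur M hM
    obtain ⟨P, hP, hPle⟩ := Ideal.exists_minimalPrimes_le (I := (⊥ : Ideal T)) (J := M.map (algebraMap S T)) bot_le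
    refine ⟨P, ⟨hP, hPle⟩, fun Q hQ => ?_⟩
    obtain ⟨a, u, ha, hu, hsp, hτ⟩ := hunif M hM
    have hu' : algebraMap S T u ∉ M.map (algebraMap S T) := by
      intro h
      exact hu ((Ideal.comap_map_eq_self_of_faithfullyFlat (B := T) M).le h)
    obtain ⟨w, hw⟩ := Ideal.mem_span_singleton'.mp (hsp _ hτ)
    refine minimalPrime_unique (M.map (algebraMap S T)) (algebraMap S T a) (algebraMap S T u)
      (Ideal.mem_map_of_mem _ ha) hu' ?_ (algebraMap S T t) htT
      ⟨algebraMap S T w, by rw [← map_mul, ← map_mul, mul_comm a, hw]⟩ hQ.1 hP hQ.2 hPle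
    intro x hx
    refine ⟨algebraMap S T u, hu', ?_⟩
    have h1 : (M.map (algebraMap S T)) * Ideal.span {algebraMap S T u} ≤ Ideal.span {algebraMap S T a} := by
      rw [← Set.image_singleton, ← Ideal.map_span, ← Ideal.map_mul, ← Set.image_singleton,
        ← Ideal.map_span]
      refine Ideal.map_mono (Ideal.mul_le.mpr fun m hm v hv => ?_)
      obtain ⟨r, rfl⟩ := Ideal.mem_span_singleton'.mp hv
      rw [mul_comm m, mul_assoc]
      exact Ideal.mul_mem_left _ _ (hsp m hm)
    rw [mul_comm]
    exact h1 (Ideal.mul_mem_mul hx (Ideal.mem_span_singleton_self _))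
  have hmax : ∀ P ∈ minimalPrimes T, ∃ N : Ideal T, N.IsMaximal ∧ P ≤ N := fun P hP =>
    Ideal.exists_le_maximal P hP.isPrime.ne_top
  choose Nf hNf hNle using hmax
  symm
  refine Set.ncard_congr (fun P hP => (Nf P hP).comap (algebraMap S T))
    (fun P hP => hmaxcomap _ (hNf P hP)) (fun P Q hP hQ h => ?_) fun M hM => ?_
  · have e : ∀ P hP, ((Nf P hP).comap (algebraMap S T)).map (algebraMap S T) = Nf P hP := fun P hP =>
      (hsur _ (hmaxcomap _ (hNf P hP))).eq_of_le (hNf P hP).ne_top Ideal.map_comap_le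
    have hN : Nf P hP = Nf Q hQ := by rw [← e P hP, ← e Q hQ, h]
    exact (hex _ (hmaxcomap _ (hNf P hP))).unique ⟨hP, (hNle P hP).trans (e P hP).ge⟩
      ⟨hQ, (hNle Q hQ).trans ((e P hP).trans hN).ge⟩
  · obtain ⟨P, ⟨hP, hle⟩, -⟩ := hex M hM
    refine ⟨P, hP, ?_⟩
    rw [hloc P hP _ _ (hNf P hP) (hsur M hM) (hNle P hP) hle]
    exact Ideal.comap_map_eq_self_of_faithfullyFlat M

/-- **S12529**. -/
theorem ncard_maximal_eq_ncard_minimalPrimes_completion (A : Type u) [CommRing A] [IsNoetherianRing A]
    [IsLocalRing A] [IsReduced A] (hdim : ringKrullDim A = 1)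
    (hfin : Module.Finite A (integralClosure A (FractionRing A))) :
    {P : Ideal (integralClosure A (FractionRing A)) | P.IsMaximal}.ncard =
      (minimalPrimes (AdicCompletion (maximalIdeal A) A)).ncard := by
  classical
  haveI := H05EGA4.isNoetherianRing_adicCompletion A (maximalIdeal A)
  haveI : IsNoetherianRing (integralClosure A (FractionRing A)) :=
    IsNoetherianRing.of_finite A (integralClosure A (FractionRing A))
  haveI hcA : IsAdicComplete (maximalIdeal (AdicCompletion (maximalIdeal A) A))
      (AdicCompletion (maximalIdeal A) A) := by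
    rw [AdicCompletion.maximalIdeal_eq_map]
    exact AdicCompletion.isAdicComplete_self _ (IsNoetherian.noetherian _)
  obtain ⟨t, htm, ht0⟩ := H22Alg.DimOneLoc.exists_avoiding (A := A) hdim
  have ht : t ∈ A⁰ := H22Alg.DimOneLoc.mem_nonZeroDivisors_of_depth_or_reduced hdim (Or.inr ‹_›) ht0
  have hdim' : ∀ p : Ideal A, p.IsPrime → t ∈ p → p = maximalIdeal A := fun p hp htp =>
    (H22Alg.DimOneLoc.maximal_or_minimal hdim hp).resolve_right fun hmin => ht0 p hmin htp
  have hinjS : Function.Injective (algebraMap A (integralClosure A (FractionRing A))) := fun x y h =>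
    IsFractionRing.injective A (FractionRing A) (congrArg Subtype.val h)
  have hreg : ∀ c : A⁰, algebraMap A (integralClosure A (FractionRing A)) c ∈
      (integralClosure A (FractionRing A))⁰ := by
    intro c
    rw [mem_nonZeroDivisors_iff_right]
    intro y hy
    exact Subtype.ext ((IsLocalization.map_units (FractionRing A) c).mul_left_eq_zero.mp
      (congrArg Subtype.val hy))
  obtain ⟨G, hG⟩ := Module.Finite.fg_top (R := A) (M := integralClosure A (FractionRing A))
  obtain ⟨c, hc⟩ := IsLocalization.exist_integer_multiples A⁰ G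
    (fun s : integralClosure A (FractionRing A) => (s : FractionRing A))
  have hcond : ∀ s : integralClosure A (FractionRing A),
      ∃ r : A, algebraMap A _ r = algebraMap A _ (c : A) * s := by
    intro s
    have hs : s ∈ Submodule.span A (G : Set _) := hG ▸ Submodule.mem_top
    induction hs using Submodule.span_induction with
    | mem x hx =>
      obtain ⟨r, hr⟩ := hc x hx
      exact ⟨r, Subtype.ext (hr.trans (Algebra.smul_def _ _))⟩
    | zero => exact ⟨0, by simp⟩
    | add x y _ _ hx hy =>
      obtain ⟨r, hr⟩ := hx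
      obtain ⟨r', hr'⟩ := hy
      exact ⟨r + r', by rw [map_add, hr, hr', mul_add]⟩
    | smul a x _ hx =>
      obtain ⟨r, hr⟩ := hx
      exact ⟨a * r, by rw [map_mul, hr, Algebra.smul_def]; ring⟩
  exact (aux A (integralClosure A (FractionRing A)) (AdicCompletion (maximalIdeal A) A) hinjS c hreg hcond
    (fun α => by
      obtain ⟨a, ha⟩ := H24Adic.exists_sub_of_mem (IsNoetherian.noetherian (maximalIdeal A)) 1 α
      exact ⟨a, by rwa [pow_one] at ha⟩)
    t ht (fun M hM => exists_uniformizer hfin t (IsLocalization.map_units (FractionRing A) (⟨t, ht⟩ : A⁰))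
      htm hdim' M))
where
  aux (A S Ah : Type u) [CommRing A] [CommRing S] [CommRing Ah] [IsLocalRing A] [IsLocalRing Ah]
      [IsNoetherianRing A] [IsNoetherianRing Ah] [IsNoetherianRing S] [IsAdicComplete (maximalIdeal Ah) Ah]
      [Algebra A S] [Algebra A Ah] [IsLocalHom (algebraMap A Ah)] [Module.Finite A S] [Module.Flat A Ah]
      (hSinj : Function.Injective (algebraMap A S)) (c : A⁰) (hreg : ∀ c : A⁰, algebraMap A S c ∈ S⁰)
      (hcond : ∀ s : S, ∃ r : A, algebraMap A S r = algebraMap A S c * s)
      (hres : ∀ α : Ah, ∃ a : A, α - algebraMap A Ah a ∈ (maximalIdeal A).map (algebraMap A Ah))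
      (t : A) (ht : t ∈ A⁰)
      (hunif : ∀ M : Ideal S, M.IsMaximal → ∃ a u : S, a ∈ M ∧ u ∉ M ∧
        (∀ x ∈ M, u * x ∈ Ideal.span {a}) ∧ algebraMap A S t ∈ M) :
      {P : Ideal S | P.IsMaximal}.ncard = (minimalPrimes Ah).ncard := by
    letI : Algebra S (Ah ⊗[A] S) := Algebra.TensorProduct.rightAlgebra
    haveI : Module.FaithfullyFlat A Ah := Module.FaithfullyFlat.of_flat_of_isLocalHom
    haveI : Module.FaithfullyFlat S (Ah ⊗[A] S) :=
      Module.FaithfullyFlat.of_linearEquiv S (S ⊗[A] Ah) (Algebra.TensorProduct.commRight A S Ah).symm.toLinearEquiv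
    have hspan : Submodule.span Ah (Set.range (algebraMap S (Ah ⊗[A] S))) = ⊤ := by
      rw [eq_top_iff]
      intro x _
      induction x using TensorProduct.induction_on with
      | zero => exact zero_mem _
      | tmul α s =>
        rw [show α ⊗ₜ[A] s = α • ((1 : Ah) ⊗ₜ[A] s) by rw [TensorProduct.smul_tmul', smul_eq_mul, mul_one]]
        exact Submodule.smul_mem _ _ (Submodule.subset_span ⟨s, rfl⟩)
      | add x y hx hy => exact add_mem (hx trivial) (hy trivial)
    have hAT : ∀ a : A, algebraMap Ah (Ah ⊗[A] S) (algebraMap A Ah a) =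
        algebraMap S (Ah ⊗[A] S) (algebraMap A S a) := fun a => by
      rw [← IsScalarTower.algebraMap_apply, ← IsScalarTower.algebraMap_apply]
    rw [ncard_maximal_eq A S Ah (Ah ⊗[A] S) hres hspan _ (hreg ⟨t, ht⟩) hunif]
    haveI : IsNoetherianRing (Ah ⊗[A] S) := IsNoetherianRing.of_finite Ah _
    refine (minimalPrimes_ncard_eq (Algebra.TensorProduct.includeLeft_injective (S := A) hSinj)
      (algebraMap A Ah c) ?_ ?_ ?_).symm
    · rw [mem_nonZeroDivisors_iff_right]
      intro y hy
      have : IsSMulRegular Ah (algebraMap A Ah c) :=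
        IsSMulRegular.of_flat ((isRegular_iff_mem_nonZeroDivisors.mpr c.2).left)
      exact this (by simp only [smul_eq_mul, mul_zero]; rw [mul_comm]; exact hy)
    · intro x
      have hx : x ∈ Submodule.span Ah (Set.range (algebraMap S (Ah ⊗[A] S))) := hspan ▸ Submodule.mem_top
      induction hx using Submodule.span_induction with
      | mem x hx =>
        obtain ⟨s, rfl⟩ := hx
        obtain ⟨r, hr⟩ := hcond s
        exact ⟨algebraMap A Ah r, by rw [hAT, hr, map_mul, hAT]⟩
      | zero => exact ⟨0, by simp⟩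
      | add x y _ _ hx hy =>
        obtain ⟨r, hr⟩ := hx
        obtain ⟨r', hr'⟩ := hy
        exact ⟨r + r', by rw [map_add, hr, hr', mul_add]⟩
      | smul α x _ hx =>
        obtain ⟨r, hr⟩ := hx
        exact ⟨α * r, by rw [map_mul, hr, Algebra.smul_def]; ring⟩
    · rw [hAT, mem_nonZeroDivisors_iff_right]
      intro y hy
      have : IsSMulRegular (Ah ⊗[A] S) (algebraMap S (Ah ⊗[A] S) (algebraMap A S c)) :=
        IsSMulRegular.of_flat ((isRegular_iff_mem_nonZeroDivisors.mpr (hreg c)).left)
      exact this (by simp only [smul_eq_mul, mul_zero]; rw [mul_comm]; exact hy)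

end Groth.Agent.H3CAlg.Branches
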