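import Mathlib
import Groth.Agent.H17.DimIneq
import Groth.Agent.H05EGA4.Ratliff
import Groth.Agent.H22Alg.DimFormula
import Groth.Agent.H3CAlg.CatenaryLimit

/-! The dimension formula from catenarity of the local rings of polynomial subalgebras. -/

set_option autoImplicit false
set_option maxHeartbeats 1000000
set_option synthInstance.maxHeartbeats 200000
set_option linter.style.haveILetI false

universe u

open Polynomial Cardinal

namespace Groth.Agent.H3CAlg.CatFormula

/-- Catenarity passes to smaller primes. -/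
theorem isCatenary_atPrime_of_le {A : Type u} [CommRing A] (M M' : Ideal A) [M.IsPrime] [M'.IsPrime] (h : M ≤ M')
    (hcat : CAlg.IsCatenary (Localization.AtPrime M')) : CAlg.IsCatenary (Localization.AtPrime M) := by
  have hd : Disjoint (M'.primeCompl : Set A) M := Set.disjoint_left.2 fun z hz hz' => hz (h hz')
  have hP := IsLocalization.isPrime_of_isPrime_disjoint M'.primeCompl (Localization.AtPrime M') M ‹_› hd
  have h1 := H8Props.CatenaryBridge.isCatenary_atPrime hcat (M.map (algebraMap A (Localization.AtPrime M')))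
    (Localization.AtPrime (M.map (algebraMap A (Localization.AtPrime M'))))
  have hc := IsLocalization.comap_map_of_isPrime_disjoint M'.primeCompl (Localization.AtPrime M') ‹M.IsPrime› hd
  haveI : IsLocalization.AtPrime (Localization.AtPrime (M.map (algebraMap A (Localization.AtPrime M')))) M := by
    have := IsLocalization.isLocalization_isLocalization_atPrime_isLocalization M'.primeCompl
      (Localization.AtPrime (M.map (algebraMap A (Localization.AtPrime M')))) (M.map (algebraMap A (Localization.AtPrime M')))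
    simpa only [hc] using! this
  exact CatenaryLimit.isCatenary_of_ringEquiv
    (IsLocalization.algEquiv M.primeCompl (Localization.AtPrime (M.map (algebraMap A (Localization.AtPrime M'))))
      (Localization.AtPrime M)).toRingEquiv h1

theorem height_eq_height_add_one (T A : Type u) [CommRing T] [IsNoetherianRing T] [IsDomain T] [CommRing A]
    [IsDomain A] [Algebra T A] [FaithfulSMul T A] (x : A) (hx : Function.Surjective (Polynomial.aeval (R := T) x))
    (hker : RingHom.ker (Polynomial.aeval (R := T) x).toRingHom ≠ ⊥)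
    (q : Ideal A) [q.IsPrime]
    (hcat : CAlg.IsCatenary (Localization.AtPrime (q.comap (Polynomial.aeval (R := T) x).toRingHom))) : (q.comap (Polynomial.aeval (R := T) x)).height = q.height + 1 := by
  let π : T[X] →+* A := (Polynomial.aeval (R := T) x).toRingHom
  have hπ : Function.Surjective π := hx
  have hC : π.comp Polynomial.C = algebraMap T A := RingHom.ext fun a => Polynomial.aeval_C x a
  let P := RingHom.ker π
  have : P.IsPrime := RingHom.ker_isPrime π
  have hPc : P.comap Polynomial.C = ⊥ := by
    show Ideal.comap Polynomial.C (RingHom.ker π) = ⊥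
    rw [RingHom.comap_ker, hC]
    exact (RingHom.injective_iff_ker_eq_bot _).mp (FaithfulSMul.algebraMap_injective T A)
  show (q.comap π).height = _
  let M := q.comap π
  have hPM : P ≤ M := Ideal.ker_le_comap π
  let L := Localization.AtPrime M
  have : IsDomain L := IsLocalization.isDomain_localization (Ideal.primeCompl_le_nonZeroDivisors M)
  have hcatL : CAlg.IsCatenary L := hcat
  have hdisj : Disjoint (M.primeCompl : Set T[X]) P := Set.disjoint_left.2 fun z hz hz' => hz (hPM hz')
  have hPT := IsLocalization.isPrime_of_isPrime_disjoint M.primeCompl L P ‹_› hdisj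
  have e1 := H05EGA4.height_add_dim_eq_of_isEquidim hcatL (H05EGA4.isEquidim_of_isDomain L) (P.map (algebraMap _ L))
  rw [IsLocalization.height_map_of_disjoint M.primeCompl P hdisj, H05EGA4.height_eq_one_of_comap_eq_bot P hker hPc,
    H05EGA4.ringKrullDim_localization_quotient hPM, IsLocalization.AtPrime.ringKrullDim_eq_height M L,
    H05EGA4.height_map_mk_of_ker π hπ rfl M, Ideal.map_comap_of_surjective π hπ, ← WithBot.coe_add,
    WithBot.coe_inj, add_comm] at e1
  exact e1.symm

/-- One generator. -/
theorem eq_single (T A : Type u) [CommRing T] [IsNoetherianRing T] [IsDomain T] [CommRing A] [IsDomain A]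
    [Algebra T A] [FaithfulSMul T A] (x : A) (hx : Algebra.adjoin T {x} = ⊤)
    (p : Ideal T) [p.IsPrime] (q : Ideal A) [q.IsPrime] [q.LiesOver p]
    (hcat : CAlg.IsCatenary (Localization.AtPrime (q.comap (Polynomial.aeval (R := T) x).toRingHom))) :
    (q.height : Cardinal.{u}) + Algebra.trdeg (T ⧸ p) (A ⧸ q) =
      (p.height : Cardinal.{u}) + Algebra.trdeg T A := by
  let φ : T[X] →ₐ[T] A := Polynomial.aeval x
  have hφ : Function.Surjective φ := by
    rw [← AlgHom.range_eq_top, ← Algebra.adjoin_singleton_eq_range_aeval, hx]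
  let Q : Ideal T[X] := q.comap φ
  haveI : Q.LiesOver p := ⟨by
    rw [Ideal.LiesOver.over (p := p) (P := q)]
    ext t
    simp [Q, φ, Ideal.under, Polynomial.aeval_C]⟩
  have h30 := Groth.Agent.S4730.result T p Q
  let e : (T[X] ⧸ Q) ≃ₐ[T ⧸ p] (A ⧸ q) := AlgEquiv.ofRingEquiv
    (f := RingEquiv.ofBijective (Ideal.quotientMap q φ.toRingHom le_rfl)
      ⟨Ideal.quotientMap_injective, fun b => by
        obtain ⟨a, rfl⟩ := Ideal.Quotient.mk_surjective b
        obtain ⟨c, rfl⟩ := hφ a
        exact ⟨Ideal.Quotient.mk Q c, rfl⟩⟩)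
    (fun c => by
      obtain ⟨t, rfl⟩ := Ideal.Quotient.mk_surjective c
      show Ideal.Quotient.mk q (φ (Polynomial.C t)) = Ideal.Quotient.mk q (algebraMap T A t)
      rw [Polynomial.aeval_C])
  rw [← e.trdeg_eq]
  by_cases hker : RingHom.ker φ.toRingHom = ⊥
  · have hinj : Function.Injective φ := (RingHom.injective_iff_ker_eq_bot _).2 hker
    let ψ : T[X] ≃ₐ[T] A := AlgEquiv.ofBijective φ ⟨hinj, hφ⟩
    rw [← ψ.trdeg_eq, Polynomial.trdeg_of_isDomain, h30]
    have hQ : q.height = Q.height := by
      have := RingEquiv.height_comap ψ.toRingEquiv q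
      exact this.symm
    rw [hQ]
  · have halg : Algebra.IsAlgebraic T A := by
      obtain ⟨f, hf, hf0⟩ : ∃ f : T[X], f ∈ RingHom.ker φ.toRingHom ∧ f ≠ 0 := by
        by_contra h
        push_neg at h
        exact hker (le_bot_iff.1 fun f hf => h f hf)
      have hxalg : IsAlgebraic T x := ⟨f, hf0, hf⟩
      refine ⟨fun a => ?_⟩
      have hle : Algebra.adjoin T {x} ≤ Subalgebra.algebraicClosure T A :=
        Algebra.adjoin_le (Set.singleton_subset_iff.2 hxalg)
      exact hle (hx ▸ Algebra.mem_top)
    rw [trdeg_eq_zero (R := T) (A := A), add_zero]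
    have h1 : Q.height = q.height + 1 := height_eq_height_add_one T A x hφ hker q hcat
    have h2 : (q.height : Cardinal.{u}) + 1 + Algebra.trdeg (T ⧸ p) (T[X] ⧸ Q) = (p.height : Cardinal.{u}) + 1 := by
      rw [h1, Cardinal.ofENat_add, Cardinal.ofENat_one] at h30; exact h30.symm
    refine Cardinal.eq_of_add_eq_add_right ?_ one_lt_aleph0
    rw [← h2, add_right_comm]

/-- The dimension formula. -/
theorem eq_of_catenary (R : Type u) [CommRing R] [IsDomain R] [IsNoetherianRing R]
    (S : Type u) [CommRing S] [IsDomain S] [Algebra R S]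
    [FaithfulSMul R S] [Algebra.FiniteType R S] (p : Ideal R) [hpmax : p.IsMaximal] (q : Ideal S) [q.IsPrime]
    [q.LiesOver p]
    (hcat : ∀ A' : Subalgebra R (Polynomial S), A'.FG → ∀ (m' : Ideal A') [m'.IsMaximal], m'.LiesOver p →
      CAlg.IsCatenary (Localization.AtPrime m')) :
    (q.height : Cardinal.{u}) + Algebra.trdeg (R ⧸ p) (S ⧸ q) =
      (p.height : Cardinal.{u}) + Algebra.trdeg R S := by
  classical
  obtain ⟨gens, hgens⟩ := ‹Algebra.FiniteType R S›.out
  suffices key : ∀ (s : Finset S) (A : Subalgebra R S), A = Algebra.adjoin R (s : Set S) →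
      ∀ (q : Ideal A) [q.IsPrime] [q.LiesOver p],
        (q.height : Cardinal.{u}) + Algebra.trdeg (R ⧸ p) (A ⧸ q) =
          (p.height : Cardinal.{u}) + Algebra.trdeg R A by
    let e : (⊤ : Subalgebra R S) ≃ₐ[R] S := Subalgebra.topEquiv
    haveI : (q.comap e.toRingEquiv.toRingHom).LiesOver p := ⟨by
      rw [Ideal.LiesOver.over (p := p) (P := q)]; rfl⟩
    have h := key gens ⊤ hgens.symm (q.comap e.toRingEquiv.toRingHom)
    rw [show (q.comap e.toRingEquiv.toRingHom).height = q.height from RingEquiv.height_comap e.toRingEquiv q,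
      e.trdeg_eq] at h
    let e' : ((⊤ : Subalgebra R S) ⧸ q.comap e.toRingEquiv.toRingHom) ≃ₐ[R ⧸ p] (S ⧸ q) :=
      AlgEquiv.ofRingEquiv (f := RingEquiv.ofBijective (Ideal.quotientMap q e.toRingEquiv.toRingHom le_rfl)
        ⟨Ideal.quotientMap_injective, fun b => by
          obtain ⟨a, rfl⟩ := Ideal.Quotient.mk_surjective b
          obtain ⟨c, rfl⟩ := e.surjective a
          exact ⟨Ideal.Quotient.mk _ c, rfl⟩⟩) (fun c => by
          obtain ⟨t, rfl⟩ := Ideal.Quotient.mk_surjective c
          rfl)
    rwa [e'.trdeg_eq] at h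
  intro s
  induction s using Finset.induction with
  | empty =>
    intro A hA q _ _
    rw [Finset.coe_empty, Algebra.adjoin_empty] at hA
    subst hA
    have hb : Function.Bijective (algebraMap R (⊥ : Subalgebra R S)) :=
      ⟨fun a b h => FaithfulSMul.algebraMap_injective R S (congrArg Subtype.val h),
        fun ⟨y, hy⟩ => by obtain ⟨a, ha⟩ := Algebra.mem_bot.1 hy; exact ⟨a, Subtype.ext ha⟩⟩
    haveI : Algebra.IsAlgebraic R (⊥ : Subalgebra R S) :=
      ⟨fun a => by obtain ⟨r, rfl⟩ := hb.2 a; exact isAlgebraic_algebraMap r⟩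
    haveI : Algebra.IsAlgebraic (R ⧸ p) ((⊥ : Subalgebra R S) ⧸ q) := ⟨fun a => by
      obtain ⟨a, rfl⟩ := Ideal.Quotient.mk_surjective a
      obtain ⟨r, rfl⟩ := hb.2 a
      exact isAlgebraic_algebraMap (Ideal.Quotient.mk p r)⟩
    rw [trdeg_eq_zero, trdeg_eq_zero, add_zero, add_zero]
    have : q.height = p.height := by
      rw [Ideal.LiesOver.over (p := p) (P := q)]
      exact (RingEquiv.height_comap (RingEquiv.ofBijective _ hb) q).symm
    rw [this]
  | insert x s _ ih =>
    intro A hA q _ _
    set T := Algebra.adjoin R (s : Set S) with hT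
    have hTA : T ≤ A := hA ▸ Algebra.adjoin_mono (by simp)
    haveI : Algebra.FiniteType R T := (Subalgebra.fg_iff_finiteType T).1 (Subalgebra.fg_adjoin_finset s)
    haveI : IsNoetherianRing T := Algebra.FiniteType.isNoetherianRing R T
    letI : Algebra T A := (Subalgebra.inclusion hTA).toRingHom.toAlgebra
    haveI : IsScalarTower R T A := IsScalarTower.of_algebraMap_eq fun _ => rfl
    haveI : FaithfulSMul T A :=
      (faithfulSMul_iff_algebraMap_injective T A).2 (Subalgebra.inclusion_injective hTA)
    haveI : FaithfulSMul R T := (faithfulSMul_iff_algebraMap_injective R T).2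
      (fun a b h => FaithfulSMul.algebraMap_injective R S (congrArg Subtype.val h))
    have hxA : x ∈ A := hA ▸ Algebra.subset_adjoin (by simp)
    have hgen : Algebra.adjoin T {(⟨x, hxA⟩ : A)} = ⊤ := by
      rw [eq_top_iff]
      rintro ⟨a, ha⟩ -
      have ha' : a ∈ Algebra.adjoin R ((insert x s : Finset S) : Set S) := hA ▸ ha
      have h2 : Algebra.adjoin R ((insert x s : Finset S) : Set S) ≤
          ((Algebra.adjoin T {(⟨x, hxA⟩ : A)}).restrictScalars R).map A.val := by
        refine Algebra.adjoin_le fun z hz => ?_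
        rcases Finset.mem_insert.1 hz with rfl | hz
        · exact ⟨⟨z, hxA⟩, Algebra.self_mem_adjoin_singleton _ _, rfl⟩
        · exact ⟨algebraMap T A ⟨z, Algebra.subset_adjoin hz⟩,
            (show _ ∈ Algebra.adjoin T {(⟨x, hxA⟩ : A)} from Subalgebra.algebraMap_mem _ _), rfl⟩
      obtain ⟨b, hb, hba⟩ := h2 ha'
      have : b = (⟨a, ha⟩ : A) := Subtype.ext hba
      exact this ▸ hb
    let qT : Ideal T := q.under T
    haveI : q.LiesOver qT := ⟨rfl⟩
    haveI : qT.LiesOver p := ⟨by
      rw [Ideal.LiesOver.over (p := p) (P := q)]; rfl⟩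
    let M : Ideal T[X] := q.comap (Polynomial.aeval (R := T) (⟨x, hxA⟩ : A)).toRingHom
    haveI : M.IsPrime := Ideal.IsPrime.comap _
    have hcatT : CAlg.IsCatenary (Localization.AtPrime M) := by
      obtain ⟨M', hM', hle⟩ := Ideal.exists_le_maximal M (Ideal.IsPrime.ne_top inferInstance)
      haveI := hM'
      refine isCatenary_atPrime_of_le M M' hle ?_
      let ν : T[X] →ₐ[R] Polynomial S := Polynomial.mapAlgHom T.val
      have hν : Function.Injective ν := Polynomial.map_injective _ Subtype.val_injective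
      let E : T[X] ≃ₐ[R] ν.range := AlgEquiv.ofInjective ν hν
      let m' : Ideal ν.range := M'.comap E.symm.toRingEquiv.toRingHom
      haveI : m'.IsMaximal := Ideal.comap_isMaximal_of_surjective _ E.symm.surjective
      haveI : Algebra.FiniteType R T[X] := Algebra.FiniteType.trans (S := T) (A := T[X]) inferInstance inferInstance
      have hfg : ν.range.FG := by
        rw [← Algebra.map_top]; exact Subalgebra.FG.map ν Algebra.FiniteType.out
      have hlies : m'.LiesOver p := by
        refine ⟨hpmax.eq_of_le (Ideal.IsPrime.ne_top (Ideal.IsPrime.comap _)) fun a ha => ?_⟩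
        show E.symm (algebraMap R ν.range a) ∈ M'
        rw [AlgEquiv.commutes]
        refine hle ?_
        show Polynomial.aeval (R := T) (⟨x, hxA⟩ : A) (algebraMap R T[X] a) ∈ q
        rw [IsScalarTower.algebraMap_apply R T T[X], AlgHom.commutes, ← IsScalarTower.algebraMap_apply]
        exact ((Ideal.LiesOver.over (p := p) (P := q)).le) ha
      refine CatenaryLimit.isCatenary_of_ringEquiv ?_ (hcat ν.range hfg m' hlies)
      exact IsLocalization.ringEquivOfRingEquiv (M := m'.primeCompl) (T := M'.primeCompl)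
        (Localization.AtPrime m') (Localization.AtPrime M') E.symm.toRingEquiv (by
          ext z
          refine ⟨fun ⟨w, hw, hwz⟩ => hwz ▸ hw, fun hz => ⟨E z, fun h => hz ?_, E.symm_apply_apply z⟩⟩
          simpa [m'] using h)
    have h1 := eq_single T A ⟨x, hxA⟩ hgen qT q hcatT
    have h2 := ih T rfl qT
    haveI : IsScalarTower (R ⧸ p) (T ⧸ qT) (A ⧸ q) := IsScalarTower.of_algebraMap_eq fun c => by
      obtain ⟨t, rfl⟩ := Ideal.Quotient.mk_surjective c; rfl
    haveI : FaithfulSMul (R ⧸ p) (T ⧸ qT) := (faithfulSMul_iff_algebraMap_injective _ _).2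
      ((injective_iff_map_eq_zero _).2 fun c hc => by
        obtain ⟨r, rfl⟩ := Ideal.Quotient.mk_surjective c
        rw [Ideal.Quotient.eq_zero_iff_mem, Ideal.LiesOver.over (p := p) (P := qT)]
        exact (Ideal.Quotient.eq_zero_iff_mem (I := qT)).1 hc)
    haveI : FaithfulSMul (T ⧸ qT) (A ⧸ q) := (faithfulSMul_iff_algebraMap_injective _ _).2
      ((injective_iff_map_eq_zero _).2 fun c hc => by
        obtain ⟨r, rfl⟩ := Ideal.Quotient.mk_surjective c
        rw [Ideal.Quotient.eq_zero_iff_mem, Ideal.LiesOver.over (p := qT) (P := q)]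
        exact (Ideal.Quotient.eq_zero_iff_mem (I := q)).1 hc)
    rw [← trdeg_add_eq (R ⧸ p) (T ⧸ qT) (A := A ⧸ q), ← trdeg_add_eq R T (A := A)]
    calc (q.height : Cardinal.{u}) + (Algebra.trdeg (R ⧸ p) (T ⧸ qT) + Algebra.trdeg (T ⧸ qT) (A ⧸ q))
        = Algebra.trdeg (R ⧸ p) (T ⧸ qT) + ((q.height : Cardinal.{u}) + Algebra.trdeg (T ⧸ qT) (A ⧸ q)) := by
          ring
      _ = Algebra.trdeg (R ⧸ p) (T ⧸ qT) + ((qT.height : Cardinal.{u}) + Algebra.trdeg T A) := by rw [h1]
      _ = ((qT.height : Cardinal.{u}) + Algebra.trdeg (R ⧸ p) (T ⧸ qT)) + Algebra.trdeg T A := by ring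
      _ = ((p.height : Cardinal.{u}) + Algebra.trdeg R T) + Algebra.trdeg T A := by rw [h2]
      _ = _ := by ring

end Groth.Agent.H3CAlg.CatFormula
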