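import Groth.Agent.H3CAlg.TorBasic
import Groth.Agent.H3CAlg.TorLES
import Groth.Agent.H3CAlg.TorComm
import Groth.Agent.H22Alg.FiniteLength
import Groth.Agent.H1Koszul.Chi
import Groth.Prelude.Def_IntMult
import Mathlib

/-!
# Finiteness of `Tor` lengths and additivity of the Tor Euler characteristic
-/

set_option autoImplicit false
set_option linter.style.haveILetI false
universe u

open CategoryTheory CategoryTheory.Limits TensorProduct

namespace Groth.Agent.H3CAlg.ChiAdd

variable {A : Type u} [CommRing A] (N : Type u) [AddCommGroup N] [Module A N]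

/-- The map induced on `Tor` in the second variable. -/
noncomputable def torMap {M M' : Type u} [AddCommGroup M] [Module A M] [AddCommGroup M'] [Module A M']
    (g : M →ₗ[A] M') (i : ℕ) : DRing.Tor A i N M →ₗ[A] DRing.Tor A i N M' :=
  (((Tor (ModuleCat.{u} A) i).obj (ModuleCat.of A N)).map (ModuleCat.ofHom g)).hom

theorem exists_les {M₁ M₂ M₃ : Type u} [AddCommGroup M₁] [Module A M₁] [AddCommGroup M₂] [Module A M₂]
    [AddCommGroup M₃] [Module A M₃] {f : M₁ →ₗ[A] M₂} {g : M₂ →ₗ[A] M₃}
    (hf : Function.Injective f) (hg : Function.Surjective g) (hfg : Function.Exact f g) (i : ℕ) :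
    Function.Exact (torMap N f i) (torMap N g i) ∧ Function.Surjective (torMap N g 0) ∧
      ∃ δ : DRing.Tor A (i + 1) N M₃ →ₗ[A] DRing.Tor A i N M₁,
        Function.Exact (torMap N g (i + 1)) δ ∧ Function.Exact δ (torMap N f i) := by
  let S : ShortComplex (ModuleCat.{u} A) := ShortComplex.mk (ModuleCat.ofHom f) (ModuleCat.ofHom g)
    (ModuleCat.hom_ext hfg.linearMap_comp_eq_zero)
  have hS : S.ShortExact := ModuleCat.shortComplex_shortExact S hfg hf hg
  obtain ⟨⟨w₀, h₀⟩, he, δ, w₁, w₂, h₁, h₂⟩ := Tor.les₂ (ModuleCat.of A N) S hS i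
  exact ⟨(ShortComplex.ShortExact.moduleCat_exact_iff_function_exact _).mp h₀,
    (ModuleCat.epi_iff_surjective _).mp he, δ.hom,
    (ShortComplex.ShortExact.moduleCat_exact_iff_function_exact _).mp h₁,
    (ShortComplex.ShortExact.moduleCat_exact_iff_function_exact _).mp h₂⟩

theorem subsingleton_tor_projective (M : Type u) [AddCommGroup M] [Module A M] [Module.Projective A M] (i : ℕ) :
    Subsingleton (DRing.Tor A (i + 1) N M) := by
  haveI : Projective (ModuleCat.of A M) := ModuleCat.projective_of_categoryTheory_projective (ModuleCat.of A M)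
  exact ModuleCat.subsingleton_of_isZero
    (isZero_Tor_succ_of_projective (ModuleCat.{u} A) (ModuleCat.of A N) (ModuleCat.of A M) i)

variable [IsNoetherianRing A]

theorem finite_and_killed [Module.Finite A N] : ∀ (i : ℕ) (M : Type u) [AddCommGroup M] [Module A M] [Module.Finite A M],
    Module.Finite A (DRing.Tor A i N M) ∧
      ∀ a ∈ Module.annihilator A N, ∀ x : DRing.Tor A i N M, a • x = 0 := by
  intro i
  induction i with
  | zero =>
    intro M _ _ _
    let e : DRing.Tor A 0 N M ≃ₗ[A] N ⊗[A] M :=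
      ((Tor.zeroIso (ModuleCat.of A N)).app (ModuleCat.of A M)).toLinearEquiv
    refine ⟨Module.Finite.equiv e.symm, fun a ha x => e.injective ?_⟩
    rw [map_smul, map_zero]
    induction e x using TensorProduct.induction_on with
    | zero => rw [smul_zero]
    | tmul n m => rw [TensorProduct.smul_tmul', Module.mem_annihilator.mp ha n, TensorProduct.zero_tmul]
    | add p q hp hq => rw [smul_add, hp, hq, add_zero]
  | succ i ih =>
    intro M _ _ _
    obtain ⟨m, p, hp⟩ := Module.Finite.exists_fin' A M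
    obtain ⟨-, -, δ, h₁, -⟩ := exists_les N (LinearMap.ker p).injective_subtype hp (LinearMap.exact_subtype_ker_map p) i
    have hδ : Function.Injective δ := by
      rw [← LinearMap.ker_eq_bot, h₁.linearMap_ker_eq, LinearMap.range_eq_bot]
      haveI := subsingleton_tor_projective (A := A) N (Fin m → A) i
      exact LinearMap.ext fun z => by rw [Subsingleton.elim z 0, map_zero, map_zero]
    obtain ⟨hfin, hk⟩ := ih (LinearMap.ker p)
    refine ⟨Module.Finite.of_injective δ hδ, fun a ha x => hδ ?_⟩
    rw [map_smul, map_zero]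
    exact hk a ha _

variable [IsLocalRing A] [Module.Finite A N]

/-- The supports of the two modules meet at most in the closed point. -/
def Meet (A : Type u) [CommRing A] [IsLocalRing A] (M N : Type u) [AddCommGroup M] [Module A M]
    [AddCommGroup N] [Module A N] : Prop :=
  ∀ p : PrimeSpectrum A, Module.annihilator A M ≤ p.asIdeal → Module.annihilator A N ≤ p.asIdeal →
    p.asIdeal = IsLocalRing.maximalIdeal A

theorem length_tor_ne_top (M : Type u) [AddCommGroup M] [Module A M] [Module.Finite A M]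
    (h : Meet A M N) (i : ℕ) : Module.length A (DRing.Tor A i N M) ≠ ⊤ := by
  haveI := (finite_and_killed (A := A) N i M).1
  refine H22Alg.length_ne_top_of_support_maximal fun p hp => ?_
  rw [Module.support_eq_zeroLocus, PrimeSpectrum.mem_zeroLocus] at hp
  rw [h p ?_ ?_]
  · exact IsLocalRing.maximalIdeal.isMaximal A
  · refine le_trans (fun a ha => Module.mem_annihilator.mpr fun x => ?_) hp
    obtain ⟨e⟩ := TorComm.nonempty_iso i (ModuleCat.of A N) (ModuleCat.of A M)
    refine e.toLinearEquiv.injective ?_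
    rw [map_smul, map_zero]
    exact (finite_and_killed (A := A) M i N).2 a ha _
  · exact le_trans (fun a ha => Module.mem_annihilator.mpr fun x =>
      (finite_and_killed (A := A) N i M).2 a ha x) hp

theorem meet_mono {M M' : Type u} [AddCommGroup M] [Module A M] [AddCommGroup M'] [Module A M']
    (hle : Module.annihilator A M ≤ Module.annihilator A M') (h : Meet A M N) : Meet A M' N :=
  fun p h1 h2 => h p (hle.trans h1) h2

theorem chi_eq_sum (M : Type u) [AddCommGroup M] [Module A M] (D : ℕ)
    (hD : ∀ i, D < i → Subsingleton (DRing.Tor A i N M)) :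
    IntMult.chi A N M = ∑ i ∈ Finset.range (D + 1), (-1 : ℤ) ^ i * ((Module.length A (DRing.Tor A i N M)).toNat : ℤ) := by
  refine finsum_eq_sum_of_support_subset _ fun i hi => ?_
  rw [Finset.coe_range, Set.mem_Iio]
  by_contra hne
  refine hi ?_
  haveI := hD i (by omega)
  show _ * _ = (0 : ℤ)
  rw [Module.length_eq_zero, ENat.toNat_zero, Nat.cast_zero, mul_zero]

/-- Additivity in the second variable. -/
theorem chi_add {M₁ M₂ M₃ : Type u} [AddCommGroup M₁] [Module A M₁] [AddCommGroup M₂] [Module A M₂]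
    [AddCommGroup M₃] [Module A M₃] [Module.Finite A M₁] [Module.Finite A M₂] [Module.Finite A M₃]
    {f : M₁ →ₗ[A] M₂} {g : M₂ →ₗ[A] M₃}
    (hf : Function.Injective f) (hg : Function.Surjective g) (hfg : Function.Exact f g) (h : Meet A M₂ N)
    (D : ℕ) (hD : ∀ (M : Type u) [AddCommGroup M] [Module A M], ∀ i, D < i → Subsingleton (DRing.Tor A i N M)) :
    IntMult.chi A N M₂ = IntMult.chi A N M₁ + IntMult.chi A N M₃ := by
  have hne₁ := length_tor_ne_top (A := A) N M₁ (meet_mono N (f.annihilator_le_of_injective hf) h)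
  have hne₂ := length_tor_ne_top (A := A) N M₂ h
  have hne₃ := length_tor_ne_top (A := A) N M₃ (meet_mono N (g.annihilator_le_of_surjective hg) h)
  let L₁ : ℕ → ℤ := fun i => ((Module.length A (DRing.Tor A i N M₁)).toNat : ℤ)
  let L₂ : ℕ → ℤ := fun i => ((Module.length A (DRing.Tor A i N M₂)).toNat : ℤ)
  let L₃ : ℕ → ℤ := fun i => ((Module.length A (DRing.Tor A i N M₃)).toNat : ℤ)
  have split : ∀ {X Y Z : Type u} [AddCommGroup X] [Module A X] [AddCommGroup Y] [Module A Y]
      [AddCommGroup Z] [Module A Z] (a : X →ₗ[A] Y) (b : Y →ₗ[A] Z), Function.Exact a b →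
      Module.length A Y ≠ ⊤ → (Module.length A Y).toNat =
        (Module.length A (LinearMap.range a)).toNat + (Module.length A (LinearMap.range b)).toNat := by
    intro X Y Z _ _ _ _ _ _ a b hab hY
    have hsum := Module.length_eq_add_of_exact (LinearMap.range a).subtype b.rangeRestrict
      (LinearMap.range a).injective_subtype b.surjective_rangeRestrict
      (by rw [LinearMap.exact_iff, LinearMap.ker_rangeRestrict, Submodule.range_subtype, hab.linearMap_ker_eq])
    rw [hsum] at hY ⊢
    exact ENat.toNat_add (fun h => hY (by rw [h, top_add])) (fun h => hY (by rw [h, add_top]))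
  -- `K i` is the length of the kernel in degree `i - 1`
  let K : ℕ → ℤ := fun i => match i with
    | 0 => 0
    | j + 1 => ((Module.length A (LinearMap.ker (torMap N f j))).toNat : ℤ)
  let R₁ : ℕ → ℤ := fun i => ((Module.length A (LinearMap.range (torMap N f i))).toNat : ℤ)
  let R₂ : ℕ → ℤ := fun i => ((Module.length A (LinearMap.range (torMap N g i))).toNat : ℤ)
  have e₁ : ∀ i, L₁ i = K (i + 1) + R₁ i := fun i => by
    have := split (LinearMap.ker (torMap N f i)).subtype (torMap N f i) (LinearMap.exact_subtype_ker_map _) (hne₁ i)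
    rw [Submodule.range_subtype] at this
    show ((_ : ℕ) : ℤ) = _
    rw [this, Nat.cast_add]
  have e₂ : ∀ i, L₂ i = R₁ i + R₂ i := fun i => by
    show ((_ : ℕ) : ℤ) = _
    rw [split _ _ (exists_les N hf hg hfg i).1 (hne₂ i), Nat.cast_add]
  have e₃ : ∀ i, L₃ i = R₂ i + K i := fun i => by
    cases i with
    | zero =>
      show ((_ : ℕ) : ℤ) = ((_ : ℕ) : ℤ) + 0
      rw [LinearMap.range_eq_top.mpr (exists_les N hf hg hfg 0).2.1, add_zero,
        (LinearEquiv.ofTop ⊤ rfl).length_eq]
    | succ j =>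
      obtain ⟨-, -, δ, h₁, h₂⟩ := exists_les N hf hg hfg j
      show ((_ : ℕ) : ℤ) = ((_ : ℕ) : ℤ) + ((_ : ℕ) : ℤ)
      rw [split _ _ h₁ (hne₃ (j + 1)), ← h₂.linearMap_ker_eq, Nat.cast_add]
  have hK : K (D + 1) = 0 := by
    obtain ⟨-, -, δ, h₁, h₂⟩ := exists_les N hf hg hfg D
    haveI := hD M₃ (D + 1) (by omega)
    show ((_ : ℕ) : ℤ) = 0
    rw [h₂.linearMap_ker_eq, show LinearMap.range δ = ⊥ from LinearMap.range_eq_bot.mpr
      (LinearMap.ext fun z => by rw [Subsingleton.elim z 0, map_zero, map_zero]), Module.length_eq_zero]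
    rfl
  rw [chi_eq_sum N M₂ D (hD M₂), chi_eq_sum N M₁ D (hD M₁), chi_eq_sum N M₃ D (hD M₃)]
  have key : ∑ i ∈ Finset.range (D + 1), (-1 : ℤ) ^ i * (K (i + 1) + K i) = 0 := by
    rw [H1Koszul.sum_telescope, hK]
    show (0 : ℤ) - _ = 0
    simp
  calc ∑ i ∈ Finset.range (D + 1), (-1 : ℤ) ^ i * L₂ i
      = ∑ i ∈ Finset.range (D + 1), ((-1 : ℤ) ^ i * L₁ i + (-1 : ℤ) ^ i * L₃ i - (-1 : ℤ) ^ i * (K (i + 1) + K i)) :=
        Finset.sum_congr rfl fun i _ => by rw [e₁, e₂, e₃]; ring
    _ = _ := by rw [Finset.sum_sub_distrib, key, sub_zero, Finset.sum_add_distrib]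

end Groth.Agent.H3CAlg.ChiAdd
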