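import Groth.Agent.H3CAlg.DiagRed
import Groth.Agent.H3CAlg.ChiBC
import Mathlib

/-!
# `Tor` over `A` is Koszul homology on a flat thickening, as modules
-/

set_option autoImplicit false
set_option linter.style.haveILetI false
set_option linter.unusedSectionVars false
universe u

open CategoryTheory TensorProduct Groth.Agent.H1Koszul Groth.Agent.H3CAlg.DiagRed

namespace Groth.Agent.H3CAlg.DiagIso

variable {A E : Type u} [CommRing A] [CommRing E] [Algebra A E] [IsNoetherianRing A] {l : List E}
  {X N : Type u} [AddCommGroup X] [Module E X] [Module A X] [IsScalarTower A E X]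
  [AddCommGroup N] [Module E N] [Module A N] [IsScalarTower A E N] (π : X →ₗ[E] N)

/-- `Tor` over `A` is Koszul homology, compatibly with the action of `A`. -/
theorem tor_equiv [Module.Flat A X] (hs : Function.Surjective π)
    (hk : LinearMap.ker π = Ideal.ofList l • ⊤) (hX : ∀ i : ℕ, Subsingleton (H X l ((i + 1 : ℕ) : ℤ))) :
    ∀ (i : ℕ) (M : Type u) [AddCommGroup M] [Module A M] [Module.Finite A M],
      ∃ e : DRing.Tor A i N M ≃+ H (X ⊗[A] M) l (i : ℤ),
        ∀ (a : A) (z : DRing.Tor A i N M), e (a • z) = algebraMap A E a • e z := by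
  have hsurj : ∀ (M : Type u) [AddCommGroup M] [Module A M],
      Function.Surjective (TensorProduct.AlgebraTensorModule.map π (LinearMap.id : M →ₗ[A] M)) := by
    intro M _ _ z
    exact LinearMap.rTensor_surjective M (g := π.restrictScalars A) hs z
  intro i
  induction i with
  | zero =>
    intro M _ _ _
    let z₁ : DRing.Tor A 0 N M ≃ₗ[A] N ⊗[A] M := ((Tor.zeroIso (ModuleCat.of A N)).app (ModuleCat.of A M)).toLinearEquiv
    let c : (N ⊗[A] M) ≃ₗ[E] H (X ⊗[A] M) l 0 :=
      ((TensorProduct.AlgebraTensorModule.map π (LinearMap.id : M →ₗ[A] M)).quotKerEquivOfSurjective (hsurj M)).symm.trans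
        ((Submodule.quotEquivOfEq _ _ (by rw [ker_rTensor π hs hk M]; ext x; rw [LinearMap.mem_ker, q0_eq_zero_iff])).trans
          ((q0 l).quotKerEquivOfSurjective (q0_surjective l)))
    refine ⟨z₁.toAddEquiv.trans c.toAddEquiv, fun a z => ?_⟩
    show c (z₁ (a • z)) = algebraMap A E a • c (z₁ z)
    exact ((congrArg c (z₁.map_smul a z)).trans (congrArg c (algebraMap_smul E a (z₁ z)).symm)).trans (c.map_smul _ _)
  | succ i ih =>
    intro M _ _ _
    obtain ⟨m, p, hp⟩ := Module.Finite.exists_fin' A M
    let f : LinearMap.ker p →ₗ[A] (Fin m → A) := (LinearMap.ker p).subtype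
    have hfi : Function.Injective f := (LinearMap.ker p).injective_subtype
    have hfp : Function.Exact f p := LinearMap.exact_subtype_ker_map p
    let F := TensorProduct.AlgebraTensorModule.map (LinearMap.id : X →ₗ[E] X) f
    let G := TensorProduct.AlgebraTensorModule.map (LinearMap.id : X →ₗ[E] X) p
    have hf : Function.Injective F := Module.Flat.lTensor_preserves_injective_linearMap (M := X) f hfi
    have hg : Function.Surjective G := LinearMap.lTensor_surjective X hp
    have hfg : Function.Exact F G := lTensor_exact X hfp hp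
    haveI hFree : ∀ j : ℕ, Subsingleton (H (X ⊗[A] (Fin m → A)) l ((j + 1 : ℕ) : ℤ)) := fun j =>
      subsingleton_H_congr l (TensorProduct.piScalarRight A E X (Fin m)).symm _ (subsingleton_H_pi l _ (hX j) m)
    obtain ⟨k₀⟩ := nonempty_coker_equiv_ker hf hg hfg l ((i + 1 : ℕ) : ℤ)
    rw [show ((i + 1 : ℕ) : ℤ) - 1 = (i : ℤ) by push_cast; ring] at k₀
    have hbot : LinearMap.range (mapH G l ((i + 1 : ℕ) : ℤ)) = ⊥ := by
      rw [eq_bot_iff]
      rintro _ ⟨z, rfl⟩
      rw [Subsingleton.elim z 0, map_zero]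
      exact zero_mem _
    let k : H (X ⊗[A] M) l ((i + 1 : ℕ) : ℤ) ≃ₗ[E] LinearMap.ker (mapH F l (i : ℤ)) :=
      ((Submodule.quotEquivOfEqBot _ hbot).symm).trans k₀
    cases i with
    | zero =>
      obtain ⟨e⟩ := ChiBC.tor_one_equiv N f p hfi hp hfp
      let F' := TensorProduct.AlgebraTensorModule.map (LinearMap.id : N →ₗ[E] N) f
      obtain ⟨e'⟩ := nonempty_ker_mapH_zero l F F'
        (TensorProduct.AlgebraTensorModule.map π (LinearMap.id : LinearMap.ker p →ₗ[A] LinearMap.ker p))
        (TensorProduct.AlgebraTensorModule.map π (LinearMap.id : (Fin m → A) →ₗ[A] (Fin m → A)))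
        (hsurj _) (hsurj (Fin m → A)) (ker_rTensor π hs hk _) (ker_rTensor π hs hk (Fin m → A))
        (by ext x j; simp [F, F'])
      let d : LinearMap.ker (f.lTensor N) ≃+ LinearMap.ker F' :=
        { toFun := fun v => ⟨v.1, v.2⟩
          invFun := fun v => ⟨v.1, v.2⟩
          left_inv := fun v => rfl
          right_inv := fun v => rfl
          map_add' := fun v w => rfl }
      refine ⟨((e.toAddEquiv.trans d).trans e'.toAddEquiv).trans k.symm.toAddEquiv, fun a z => ?_⟩
      have hd' : ∀ v, d (a • v) = algebraMap A E a • d v := fun v => Subtype.ext (algebraMap_smul E a v.1).symm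
      exact (congrArg (fun v => k.symm (e' (d v))) (e.map_smul a z)).trans
        ((congrArg (fun v => k.symm (e' v)) (hd' (e z))).trans
          ((congrArg k.symm (e'.map_smul (algebraMap A E a) (d (e z)))).trans (k.symm.map_smul _ _)))
    | succ i =>
      obtain ⟨e⟩ := ChiBC.tor_step_equiv N f p hfi hp hfp i
      obtain ⟨d, hd⟩ := ih (LinearMap.ker p)
      have k2 : LinearMap.ker (mapH F l ((i + 1 : ℕ) : ℤ)) = ⊤ := by
        haveI := hFree i
        exact Submodule.eq_top_iff'.mpr fun v => Subsingleton.elim _ _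
      let k' : H (X ⊗[A] M) l ((i + 1 + 1 : ℕ) : ℤ) ≃ₗ[E] H (X ⊗[A] LinearMap.ker p) l ((i + 1 : ℕ) : ℤ) :=
        k.trans (LinearEquiv.ofTop _ k2)
      refine ⟨(e.toAddEquiv.trans d).trans k'.symm.toAddEquiv, fun a z => ?_⟩
      exact (congrArg (fun v => k'.symm (d v)) (e.map_smul a z)).trans
        ((congrArg k'.symm (hd a (e z))).trans (k'.symm.map_smul _ _))

end Groth.Agent.H3CAlg.DiagIso
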