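import Groth.Agent.H3CAlg.ChiBC
import Mathlib

/-!
# Flat change of rings for `Tor` in one variable
-/

set_option autoImplicit false
set_option linter.style.haveILetI false
set_option linter.unusedSectionVars false
universe u

open CategoryTheory TensorProduct

namespace Groth.Agent.H3CAlg.TorRestrict

variable {A : Type u} [CommRing A] (X : Type u) [CommRing X] [Algebra A X]
  (T : Type u) [AddCommGroup T] [Module X T] [Module A T] [IsScalarTower A X T]

theorem cancel_natural {K G : Type u} [AddCommGroup K] [Module A K] [AddCommGroup G] [Module A G]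
    (f : K →ₗ[A] G) (v : T ⊗[X] (X ⊗[A] K)) :
    AlgebraTensorModule.cancelBaseChange A X X T G ((f.baseChange X).lTensor T v) =
      f.lTensor T (AlgebraTensorModule.cancelBaseChange A X X T K v) := by
  induction v using TensorProduct.induction_on with
  | zero => simp
  | tmul t y =>
    induction y using TensorProduct.induction_on with
    | zero => simp
    | tmul c k => simp
    | add p q hp hq => simp only [TensorProduct.tmul_add, map_add, hp, hq]
  | add p q hp hq => simp only [map_add, hp, hq]

theorem tor_restrict [Module.Flat A X] : ∀ (i : ℕ) (U : Type u) [AddCommGroup U] [Module A U],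
    ∃ e : DRing.Tor X i T (X ⊗[A] U) ≃+ DRing.Tor A i T U,
      ∀ (a : A) (z : DRing.Tor X i T (X ⊗[A] U)), e (algebraMap A X a • z) = a • e z := by
  intro i
  induction i with
  | zero =>
    intro U _ _
    let z₁ := ((Tor.zeroIso (ModuleCat.of X T)).app (ModuleCat.of X (X ⊗[A] U))).toLinearEquiv
    let c := AlgebraTensorModule.cancelBaseChange A X X T U
    let z₂ := ((Tor.zeroIso (ModuleCat.of A T)).app (ModuleCat.of A U)).toLinearEquiv
    refine ⟨(z₁.toAddEquiv.trans c.toAddEquiv).trans z₂.symm.toAddEquiv, fun a z => ?_⟩
    show z₂.symm (c (z₁ (algebraMap A X a • z))) = a • z₂.symm (c (z₁ z))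
    erw [z₁.map_smul, c.map_smul]
    rw [algebraMap_smul]
    exact z₂.symm.map_smul a (c (z₁ z))
  | succ i ih =>
    intro U _ _
    obtain ⟨G, iG, iG', iG'', g, hg⟩ := TorFlatBC.exists_free_cover A U
    let f : LinearMap.ker g →ₗ[A] G := (LinearMap.ker g).subtype
    have hfg : Function.Exact f g := LinearMap.exact_subtype_ker_map g
    have hfB : Function.Injective (f.baseChange X) :=
      Module.Flat.lTensor_preserves_injective_linearMap (M := X) f (LinearMap.ker g).injective_subtype
    have hgB : Function.Surjective (g.baseChange X) := LinearMap.lTensor_surjective X hg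
    have h0 : Function.Exact (f.lTensor X) (g.lTensor X) := Module.Flat.lTensor_exact X (f := f) (g := g) hfg
    have hfgB : Function.Exact (f.baseChange X) (g.baseChange X) := fun z => h0 z
    cases i with
    | zero =>
      obtain ⟨e⟩ := ChiBC.tor_one_equiv T f g (LinearMap.ker g).injective_subtype hg hfg
      obtain ⟨e'⟩ := ChiBC.tor_one_equiv T (f.baseChange X) (g.baseChange X) hfB hgB hfgB
      let c := AlgebraTensorModule.cancelBaseChange A X X T (LinearMap.ker g)
      have hker : ∀ v : T ⊗[X] (X ⊗[A] LinearMap.ker g),
          v ∈ LinearMap.ker ((f.baseChange X).lTensor T) ↔ c v ∈ LinearMap.ker (f.lTensor T) := by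
        intro v
        rw [LinearMap.mem_ker, LinearMap.mem_ker, ← cancel_natural X T f v, LinearEquiv.map_eq_zero_iff]
      let d : LinearMap.ker ((f.baseChange X).lTensor T) ≃+ LinearMap.ker (f.lTensor T) :=
        { toFun := fun v => ⟨c v.1, (hker v.1).mp v.2⟩
          invFun := fun w => ⟨c.symm w.1, (hker _).mpr (by rw [LinearEquiv.apply_symm_apply]; exact w.2)⟩
          left_inv := fun v => Subtype.ext (c.symm_apply_apply _)
          right_inv := fun w => Subtype.ext (c.apply_symm_apply _)
          map_add' := fun v w => Subtype.ext (map_add c v.1 w.1) }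
      refine ⟨(e'.toAddEquiv.trans d).trans e.symm.toAddEquiv, fun a z => ?_⟩
      show e.symm (d (e' (algebraMap A X a • z))) = a • e.symm (d (e' z))
      erw [e'.map_smul]
      rw [show d (algebraMap A X a • e' z) = a • d (e' z) from Subtype.ext (by
        show c (algebraMap A X a • (e' z).1) = a • c (e' z).1
        rw [map_smul, algebraMap_smul])]
      exact e.symm.map_smul a (d (e' z))
    | succ i =>
      obtain ⟨e⟩ := ChiBC.tor_step_equiv T f g (LinearMap.ker g).injective_subtype hg hfg i
      obtain ⟨e'⟩ := ChiBC.tor_step_equiv T (f.baseChange X) (g.baseChange X) hfB hgB hfgB i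
      obtain ⟨d, hd⟩ := ih (LinearMap.ker g)
      refine ⟨(e'.toAddEquiv.trans d).trans e.symm.toAddEquiv, fun a z => ?_⟩
      show e.symm (d (e' (algebraMap A X a • z))) = a • e.symm (d (e' z))
      erw [e'.map_smul]
      erw [hd a]
      exact e.symm.map_smul a (d (e' z))

/-- The length along a semilinear bijection. -/
theorem length_eq_of_semilinear {P Q : Type u} [AddCommGroup P] [Module X P] [AddCommGroup Q] [Module A Q]
    (e : P ≃+ Q) (h : ∀ (a : A) (z : P), e (algebraMap A X a • z) = a • e z)
    (hP : ∀ x : X, ∃ a : A, ∀ z : P, x • z = algebraMap A X a • z) : Module.length X P = Module.length A Q := by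
  let φ : Submodule X P ≃o Submodule A Q :=
    { toFun := fun S =>
        { carrier := {q | e.symm q ∈ S}
          add_mem' := fun {p q} hp hq => by
            show e.symm (p + q) ∈ S
            rw [map_add]; exact S.add_mem hp hq
          zero_mem' := by
            show e.symm 0 ∈ S
            rw [map_zero]; exact S.zero_mem
          smul_mem' := fun a q hq => by
            show e.symm (a • q) ∈ S
            rw [show e.symm (a • q) = algebraMap A X a • e.symm q from e.injective (by
              rw [AddEquiv.apply_symm_apply, h, AddEquiv.apply_symm_apply])]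
            exact S.smul_mem _ hq }
      invFun := fun S =>
        { carrier := {z | e z ∈ S}
          add_mem' := fun {p q} hp hq => by
            show e (p + q) ∈ S
            rw [map_add]; exact S.add_mem hp hq
          zero_mem' := by
            show e 0 ∈ S
            rw [map_zero]; exact S.zero_mem
          smul_mem' := fun x z hz => by
            obtain ⟨a, ha⟩ := hP x
            show e (x • z) ∈ S
            rw [ha, h]
            exact S.smul_mem _ hz }
      left_inv := fun S => by ext z; simp
      right_inv := fun S => by ext q; simp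
      map_rel_iff' := fun {S S'} => ⟨fun hS z hz => by simpa using hS (show e z ∈ {q | e.symm q ∈ S} by simpa using hz),
        fun hS q hq => hS hq⟩ }
  apply WithBot.coe_injective
  rw [Module.coe_length, Module.coe_length, Order.krullDim_eq_of_orderIso φ]

variable [Module.Flat A X]

theorem subsingleton_tor (U : Type u) [AddCommGroup U] [Module A U] (i : ℕ)
    (h : ∀ (S : Type u) [AddCommGroup S] [Module A S], Subsingleton (DRing.Tor A i U S))
    (M : Type u) [AddCommGroup M] [Module X M] : Subsingleton (DRing.Tor X i (X ⊗[A] U) M) := by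
  letI : Module A M := Module.compHom M (algebraMap A X)
  haveI : IsScalarTower A X M := IsScalarTower.of_algebraMap_smul fun _ _ => rfl
  haveI := h M
  obtain ⟨c⟩ := TorComm.nonempty_iso i (ModuleCat.of A M) (ModuleCat.of A U)
  haveI : Subsingleton (DRing.Tor A i M U) := c.toLinearEquiv.toEquiv.subsingleton
  obtain ⟨e, -⟩ := tor_restrict (A := A) X M i U
  haveI : Subsingleton (DRing.Tor X i M (X ⊗[A] U)) := e.toEquiv.subsingleton
  obtain ⟨c'⟩ := TorComm.nonempty_iso i (ModuleCat.of X (X ⊗[A] U)) (ModuleCat.of X M)
  exact c'.toLinearEquiv.toEquiv.subsingleton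

theorem chi_restrict [IsNoetherianRing X] [Module.Finite X T] (U : Type u) [AddCommGroup U] [Module A U]
    [Module.Finite A U] (hT : ∀ x : X, ∃ a : A, ∀ t : T, x • t = a • t) :
    IntMult.chi X (X ⊗[A] U) T = IntMult.chi A U T := by
  rw [TorComm.chi_comm X, TorComm.chi_comm A]
  refine finsum_congr fun i => ?_
  obtain ⟨e, he⟩ := tor_restrict (A := A) X T i U
  have hP : ∀ x : X, ∃ a : A, ∀ z : DRing.Tor X i T (X ⊗[A] U), x • z = algebraMap A X a • z := by
    intro x
    obtain ⟨a, ha⟩ := hT x
    refine ⟨a, fun z => sub_eq_zero.mp ?_⟩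
    rw [← sub_smul]
    exact (ChiAdd.finite_and_killed (A := X) T i (X ⊗[A] U)).2 _
      (Module.mem_annihilator.mpr fun t => by rw [sub_smul, ha, algebraMap_smul, sub_self]) z
  rw [length_eq_of_semilinear X e he hP]

end Groth.Agent.H3CAlg.TorRestrict
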