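import Groth.Agent.H3CAlg.ChiBC
import Mathlib

/-!
# Flat change of rings for `Tor`, twisted by a flat module
-/

set_option autoImplicit false
set_option linter.style.haveILetI false
set_option linter.unusedSectionVars false
universe u

open CategoryTheory TensorProduct

namespace Groth.Agent.H3CAlg.TorTwist

variable {A : Type u} [CommRing A] (B : Type u) [CommRing B] [Algebra A B]
  (P : Type u) [AddCommGroup P] [Module B P] [Module A P] [IsScalarTower A B P]
  (W : Type u) [AddCommGroup W] [Module A W]

/-- `(P ⊗ W) ⊗ (B ⊗ K)` over `B` is `P ⊗ (W ⊗ K)`. -/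
noncomputable def reassoc (K : Type u) [AddCommGroup K] [Module A K] :
    (P ⊗[A] W) ⊗[B] (B ⊗[A] K) ≃ₗ[B] P ⊗[A] (W ⊗[A] K) :=
  (AlgebraTensorModule.cancelBaseChange A B B (P ⊗[A] W) K).trans (AlgebraTensorModule.assoc A A B P W K)

theorem reassoc_natural {K G : Type u} [AddCommGroup K] [Module A K] [AddCommGroup G] [Module A G]
    (f : K →ₗ[A] G) (v : (P ⊗[A] W) ⊗[B] (B ⊗[A] K)) :
    reassoc B P W G ((f.baseChange B).lTensor (P ⊗[A] W) v) =
      AlgebraTensorModule.lTensor B P (f.lTensor W) (reassoc B P W K v) := by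
  induction v using TensorProduct.induction_on with
  | zero => simp
  | tmul t y =>
    induction y using TensorProduct.induction_on with
    | zero => simp
    | tmul c k =>
      induction t using TensorProduct.induction_on with
      | zero => simp
      | tmul q w => simp [reassoc, TensorProduct.smul_tmul']
      | add p q hp hq => simp only [TensorProduct.add_tmul, map_add, hp, hq]
    | add p q hp hq => simp only [TensorProduct.tmul_add, map_add, hp, hq]
  | add p q hp hq => simp only [map_add, hp, hq]

variable [Module.Flat A B] [Module.Flat A P]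

theorem tor_twist : ∀ (i : ℕ) (U : Type u) [AddCommGroup U] [Module A U],
    Nonempty (DRing.Tor B i (P ⊗[A] W) (B ⊗[A] U) ≃ₗ[B] P ⊗[A] DRing.Tor A i W U) := by
  intro i
  induction i with
  | zero =>
    intro U _ _
    exact ⟨((Tor.zeroIso (ModuleCat.of B (P ⊗[A] W))).app (ModuleCat.of B (B ⊗[A] U))).toLinearEquiv.trans
      ((reassoc B P W U).trans (AlgebraTensorModule.congr (LinearEquiv.refl B P)
          ((Tor.zeroIso (ModuleCat.of A W)).app (ModuleCat.of A U)).toLinearEquiv).symm)⟩
  | succ i ih =>
    intro U _ _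
    obtain ⟨G, iG, iG', iG'', g, hg⟩ := TorFlatBC.exists_free_cover A U
    let f : LinearMap.ker g →ₗ[A] G := (LinearMap.ker g).subtype
    have hfg : Function.Exact f g := LinearMap.exact_subtype_ker_map g
    have hfB : Function.Injective (f.baseChange B) :=
      Module.Flat.lTensor_preserves_injective_linearMap (M := B) f (LinearMap.ker g).injective_subtype
    have hgB : Function.Surjective (g.baseChange B) := LinearMap.lTensor_surjective B hg
    have h0 : Function.Exact (f.lTensor B) (g.lTensor B) := Module.Flat.lTensor_exact B (f := f) (g := g) hfg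
    have hfgB : Function.Exact (f.baseChange B) (g.baseChange B) := fun z => h0 z
    cases i with
    | zero =>
      obtain ⟨e⟩ := ChiBC.tor_one_equiv W f g (LinearMap.ker g).injective_subtype hg hfg
      obtain ⟨e'⟩ := ChiBC.tor_one_equiv (P ⊗[A] W) (f.baseChange B) (g.baseChange B) hfB hgB hfgB
      let k : P ⊗[A] LinearMap.ker (f.lTensor W) ≃ₗ[B]
          LinearMap.ker (AlgebraTensorModule.lTensor B P (f.lTensor W)) := LinearMap.tensorKerEquiv B P (f.lTensor W)
      suffices h : Nonempty (LinearMap.ker ((f.baseChange B).lTensor (P ⊗[A] W)) ≃ₗ[B]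
          LinearMap.ker (AlgebraTensorModule.lTensor B P (f.lTensor W))) by
        obtain ⟨d⟩ := h
        exact ⟨(e'.trans d).trans (k.symm.trans (AlgebraTensorModule.congr (LinearEquiv.refl B P) e).symm)⟩
      refine ⟨(reassoc B P W (LinearMap.ker g)).ofSubmodules _ _ ?_⟩
      refine le_antisymm ?_ fun v hv => ?_
      · rintro _ ⟨v, hv, rfl⟩
        show AlgebraTensorModule.lTensor B P (f.lTensor W) _ = 0
        erw [← reassoc_natural B P W f v]
        rw [show (f.baseChange B).lTensor (P ⊗[A] W) v = 0 from hv, map_zero]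
      · refine ⟨(reassoc B P W (LinearMap.ker g)).symm v, ?_, LinearEquiv.apply_symm_apply _ v⟩
        show (f.baseChange B).lTensor (P ⊗[A] W) _ = 0
        apply (reassoc B P W G).injective
        rw [reassoc_natural, LinearEquiv.apply_symm_apply, map_zero]
        exact hv
    | succ i =>
      obtain ⟨e⟩ := ChiBC.tor_step_equiv W f g (LinearMap.ker g).injective_subtype hg hfg i
      obtain ⟨e'⟩ := ChiBC.tor_step_equiv (P ⊗[A] W) (f.baseChange B) (g.baseChange B) hfB hgB hfgB i
      obtain ⟨d⟩ := ih (LinearMap.ker g)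
      exact ⟨e'.trans (d.trans (AlgebraTensorModule.congr (LinearEquiv.refl B P) e).symm)⟩

end Groth.Agent.H3CAlg.TorTwist
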