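import Groth.Agent.H3CAlg.TripleChi
import Groth.Agent.H3CAlg.TorRestrict
import Groth.Agent.H3CAlg.TorTwist
import Groth.Agent.H3CAlg.DiagIso
import Groth.Agent.H3CAlg.ChiMain
import Mathlib

/-!
# Associativity of the Tor Euler characteristic over a diagonal thickening
-/

set_option autoImplicit false
set_option linter.style.haveILetI false
set_option linter.unusedSectionVars false
universe u

open CategoryTheory TensorProduct Groth.Agent.H1Koszul

namespace Groth.Agent.H3CAlg.TripleAssoc

theorem koszul_chi_congr {E : Type u} [CommRing E] [IsNoetherianRing E] {M N : Type u} [AddCommGroup M] [Module E M] [AddCommGroup N]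
    [Module E N] (e : M ≃ₗ[E] N) (l : List E) : H1Koszul.chi l M = H1Koszul.chi l N := by
  simp only [H1Koszul.chi, H1Koszul.len_congr e l]

theorem koszul_chi_subsingleton {E : Type u} [CommRing E] (M : Type u) [AddCommGroup M] [Module E M]
    [Subsingleton M] (l : List E) : H1Koszul.chi l M = 0 := by
  refine Finset.sum_eq_zero fun i _ => ?_
  haveI := DiagRed.subsingleton_H_of_subsingleton (M := M) l (i : ℤ)
  rw [H1Koszul.len, Module.length_eq_zero, ENat.toNat_zero, Nat.cast_zero, mul_zero]

variable {A E : Type u} [CommRing A] [IsNoetherianRing A] [IsLocalRing A] [CommRing E] [IsNoetherianRing E]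
  [IsLocalRing E] [Algebra A E] [Module.Flat A E] (Δ : E →ₐ[A] A) {l : List E}
  (hl : Ideal.ofList l = RingHom.ker Δ)
  {X N : Type u} [AddCommGroup X] [Module E X] [Module A X] [IsScalarTower A E X] [Module.Flat A X]
  [Module.Finite E X]
  [AddCommGroup N] [Module E N] [Module A N] [IsScalarTower A E N] [Module.Finite A N]
  (π : X →ₗ[E] N) (hs : Function.Surjective π) (hk : LinearMap.ker π = Ideal.ofList l • ⊤)
  (hX : ∀ i : ℕ, Subsingleton (H X l ((i + 1 : ℕ) : ℤ)))
  (U W : Type u) [AddCommGroup U] [Module A U] [Module.Finite A U] [AddCommGroup W] [Module A W]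
  [Module.Finite A W]

include hl hs hk in
theorem tri (htri : ∀ S : Ideal A, S.IsPrime → Module.annihilator A N ≤ S → Module.annihilator A U ≤ S →
      Module.annihilator A W ≤ S → S = IsLocalRing.maximalIdeal A) :
    TripleChi.Tri E (E ⊗[A] U) l (X ⊗[A] W) := by
  intro p hpM hpU hpl
  have hΔs : Function.Surjective Δ := fun x => ⟨algebraMap A E x, Δ.commutes x⟩
  have hker : RingHom.ker Δ.toRingHom ≤ p.asIdeal := by
    refine hl.ge.trans ?_
    exact Ideal.span_le.mpr hpl
  have hpX : Module.annihilator E X ≤ p.asIdeal := le_trans (fun e he => Module.mem_annihilator.mpr fun z => by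
    induction z using TensorProduct.induction_on with
    | zero => exact smul_zero _
    | tmul x w => rw [TensorProduct.smul_tmul', Module.mem_annihilator.mp he, TensorProduct.zero_tmul]
    | add a b ha hb => rw [smul_add, ha, hb, add_zero]) hpM
  have hpN : Module.annihilator E N ≤ p.asIdeal := by
    have hsupp : p ∈ Module.support E (X ⧸ Ideal.ofList l • (⊤ : Submodule E X)) := by
      rw [Module.support_quotient]
      exact ⟨Module.mem_support_iff_of_finite.mpr hpX, (PrimeSpectrum.mem_zeroLocus _ _).mpr
        (Ideal.span_le.mpr hpl)⟩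
    haveI : Module.Finite E N := Module.Finite.of_surjective π hs
    refine Module.mem_support_iff_of_finite.mp ?_
    rwa [← ((Submodule.quotEquivOfEq _ _ hk.symm).trans (π.quotKerEquivOfSurjective hs)).support_eq]
  have hS := htri (p.asIdeal.comap (algebraMap A E)) (p.isPrime.comap _) (fun a ha => hpN (Module.mem_annihilator.mpr
      fun z => by rw [algebraMap_smul]; exact Module.mem_annihilator.mp ha z))
    (fun a ha => hpU (Module.mem_annihilator.mpr fun z => by
      rw [algebraMap_smul]
      induction z using TensorProduct.induction_on with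
      | zero => exact smul_zero _
      | tmul x w => rw [← TensorProduct.tmul_smul, Module.mem_annihilator.mp ha, TensorProduct.tmul_zero]
      | add a b ha hb => rw [smul_add, ha, hb, add_zero]))
    (fun a ha => hpM (Module.mem_annihilator.mpr fun z => by
      rw [algebraMap_smul]
      induction z using TensorProduct.induction_on with
      | zero => exact smul_zero _
      | tmul x w => rw [← TensorProduct.tmul_smul, Module.mem_annihilator.mp ha, TensorProduct.tmul_zero]
      | add a b ha hb => rw [smul_add, ha, hb, add_zero]))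
  have heq : p.asIdeal = (IsLocalRing.maximalIdeal A).comap Δ.toRingHom := by
    rw [← hS]
    ext e
    have h1 : e - algebraMap A E (Δ e) ∈ p.asIdeal := hker (DiagRed.sub_algebraMap_mem Δ e)
    rw [Ideal.mem_comap, Ideal.mem_comap]
    show e ∈ p.asIdeal ↔ algebraMap A E (Δ e) ∈ p.asIdeal
    exact ⟨fun he => by simpa using p.asIdeal.sub_mem he h1, fun he => by simpa using p.asIdeal.add_mem h1 he⟩
  rw [heq]
  exact IsLocalRing.eq_maximalIdeal (Ideal.comap_isMaximal_of_surjective _ hΔs)

theorem finite_tensor : Module.Finite E (X ⊗[A] W) := by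
  obtain ⟨m, p, hp⟩ := Module.Finite.exists_fin' A W
  haveI : Module.Finite E (X ⊗[A] (Fin m → A)) :=
    Module.Finite.equiv (TensorProduct.piScalarRight A E X (Fin m)).symm
  exact Module.Finite.of_surjective (TensorProduct.AlgebraTensorModule.map (LinearMap.id : X →ₗ[E] X) p)
    (LinearMap.lTensor_surjective X hp)

include hl hs hk hX in
theorem assoc (htri : ∀ S : Ideal A, S.IsPrime → Module.annihilator A N ≤ S → Module.annihilator A U ≤ S →
      Module.annihilator A W ≤ S → S = IsLocalRing.maximalIdeal A) (D : ℕ)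
    (hD : ∀ (M : Type u) [AddCommGroup M] [Module E M], ∀ i, D < i → Subsingleton (DRing.Tor E i (E ⊗[A] U) M)) :
    ∑ᶠ i : ℕ, (-1 : ℤ) ^ i * IntMult.chi A N (DRing.Tor A i W U) =
      ∑ᶠ j : ℕ, (-1 : ℤ) ^ j * IntMult.chi A U (DRing.Tor A j N W) := by
  haveI : Module.Finite E (X ⊗[A] W) := finite_tensor W
  have hmain := TripleChi.triple (A := E) (E ⊗[A] U) D hD l (X ⊗[A] W) (tri Δ hl π hs hk U W htri)
  have hL : ∀ i, IntMult.chi A N (DRing.Tor A i W U) =
      H1Koszul.chi l (DRing.Tor E i (E ⊗[A] U) (X ⊗[A] W)) := by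
    intro i
    haveI := (ChiAdd.finite_and_killed (A := A) W i U).1
    obtain ⟨c⟩ := TorComm.nonempty_iso i (ModuleCat.of E (E ⊗[A] U)) (ModuleCat.of E (X ⊗[A] W))
    obtain ⟨t⟩ := TorTwist.tor_twist (A := A) E X W i U
    rw [DiagRed.chi_eq Δ hl π hs hk hX (DRing.Tor A i W U)]
    exact (koszul_chi_congr (c.toLinearEquiv.trans t) l).symm
  have hR : ∀ j : ℕ, IntMult.chi A U (DRing.Tor A j N W) =
      IntMult.chi E (E ⊗[A] U) (H (X ⊗[A] W) l (j : ℤ)) := by
    intro j
    obtain ⟨e, he⟩ := DiagIso.tor_equiv (A := A) π hs hk hX j W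
    letI : Module A (H (X ⊗[A] W) l (j : ℤ)) := Module.compHom _ (algebraMap A E)
    haveI : IsScalarTower A E (H (X ⊗[A] W) l (j : ℤ)) := IsScalarTower.of_algebraMap_smul fun _ _ => rfl
    rw [TorRestrict.chi_restrict (A := A) E (H (X ⊗[A] W) l (j : ℤ)) U fun x => ⟨Δ x, fun t => ?_⟩]
    · exact ChiDev.chi_congr U
        { e with map_smul' := fun a z => (he a z).trans (algebraMap_smul E a (e z)) }
    · have h := smul_eq_zero_of_mem (M := X ⊗[A] W) (i := (j : ℤ))
        (Ideal.mem_sup_left (hl.ge (DiagRed.sub_algebraMap_mem Δ x))) t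
      rw [sub_smul, sub_eq_zero, algebraMap_smul] at h
      exact h
  rw [finsum_eq_sum_of_support_subset _ (s := Finset.range (D + 1)),
    finsum_eq_sum_of_support_subset _ (s := Finset.range (l.length + 1))]
  · simp only [hL, hR]
    exact hmain
  · intro j hj
    rw [Finset.coe_range, Set.mem_Iio]
    by_contra hne
    refine hj ?_
    show _ * _ = (0 : ℤ)
    haveI := H1Koszul.subsingleton_H (M := X ⊗[A] W) l (i := (j : ℤ)) (Or.inr (by omega))
    rw [hR, TorComm.chi_comm, ChiMain.chi_eq_zero_of_subsingleton, mul_zero]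
  · intro i hi
    rw [Finset.coe_range, Set.mem_Iio]
    by_contra hne
    refine hi ?_
    show _ * _ = (0 : ℤ)
    haveI := hD (X ⊗[A] W) i (by omega)
    rw [hL, koszul_chi_subsingleton, mul_zero]

end Groth.Agent.H3CAlg.TripleAssoc
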