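import Groth.Agent.H3CAlg.ChiVanish
import Groth.Agent.H3CAlg.TripleAssoc
import Groth.Agent.H3CAlg.ChiMain
import Mathlib

/-!
# Associativity of the Tor Euler characteristic, smooth over a field
-/

set_option autoImplicit false
set_option linter.style.haveILetI false
universe u

open TensorProduct RingTheory.Sequence CategoryTheory AlgebraicGeometry Groth.Agent.H8Props.FieldDim
  Groth.Agent.H1Koszul Groth.Agent.H22Alg.IntersectDim

namespace Groth.Agent.H3CAlg.ChiAssoc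

variable (k : Type u) [Field k]

set_option maxHeartbeats 1600000 in
/-- Associativity over a chart. -/
theorem chart {R : Type u} [CommRing R] [IsDomain R] [Algebra k R] {m : ℕ}
    (g : MvPolynomial (Fin m) k →ₐ[k] R) (hg : g.toRingHom.Etale) (Q₀ : Ideal R) [Q₀.IsPrime]
    (A : Type u) [CommRing A] [Algebra R A] [IsLocalization.AtPrime A Q₀] [IsLocalRing A]
    (Q : Ideal A) {c dA : ℕ} (hc : ringKrullDim (R ⧸ Q₀) = c) (hdA : ringKrullDim A = dA)
    (U W : Type u) [AddCommGroup U] [Module A U] [Module.Finite A U] [AddCommGroup W] [Module A W]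
    [Module.Finite A W]
    (htri : ∀ S : Ideal A, S.IsPrime → Q ≤ S → Module.annihilator A U ≤ S → Module.annihilator A W ≤ S →
      S = IsLocalRing.maximalIdeal A) :
    ∑ᶠ i : ℕ, (-1 : ℤ) ^ i * IntMult.chi A (A ⧸ Q) (DRing.Tor A i W U) =
      ∑ᶠ j : ℕ, (-1 : ℤ) ^ j * IntMult.chi A U (DRing.Tor A j (A ⧸ Q) W) := by
  haveI := DiagScheme.smooth_of_etale g hg
  haveI : Algebra.FiniteType k R := inferInstance
  haveI : IsNoetherianRing R := Algebra.FiniteType.isNoetherianRing k R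
  haveI : IsNoetherianRing A := IsLocalization.isNoetherianRing Q₀.primeCompl A inferInstance
  obtain ⟨q, hqdef⟩ : ∃ q, q = Q.comap (algebraMap R A) := ⟨_, rfl⟩
  have hQmap : q.map (algebraMap R A) = Q := hqdef ▸ IsLocalization.map_comap Q₀.primeCompl A Q
  have hN : ringKrullDim R = ((dA + c : ℕ) : WithBot ℕ∞) := by
    rw [← height_add_dim_quotient k R Q₀, hc, ← IsLocalization.AtPrime.ringKrullDim_eq_height Q₀ A, hdA,
      Nat.cast_add]
  have hmN : m ≤ dA + c := DiagScheme.le_dim_of_etale g hg hN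
  have hinjA : Function.Injective (algebraMap R A) :=
    IsLocalization.injective A (M := Q₀.primeCompl)
      (le_nonZeroDivisors_of_noZeroDivisors fun h => h Q₀.zero_mem)
  haveI := DiagLocal.isRegularLocalRing k Q₀
  letI algAE : Algebra A (DiagLocal.E k Q₀) := (DiagLocal.left k Q₀ A).toAlgebra
  let Δ : DiagLocal.E k Q₀ →ₐ[A] A :=
    { DiagLocal.diag k Q₀ A with commutes' := DiagLocal.diag_left k Q₀ A }
  have hΔs : Function.Surjective Δ := DiagLocal.diag_surjective k Q₀ A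
  obtain ⟨l, hldef⟩ : ∃ l, l = DiagLocal.gens k Q₀ g := ⟨_, rfl⟩
  have hlen : l.length = m := by rw [hldef, DiagLocal.gens, List.length_ofFn]
  have hl : Ideal.ofList l = RingHom.ker Δ := hldef ▸ DiagLocal.span_gens k Q₀ A g hg.formallyUnramified hinjA
  have hlm : ∀ r ∈ l, r ∈ IsLocalRing.maximalIdeal (DiagLocal.E k Q₀) := fun r hr =>
    IsLocalRing.le_maximalIdeal (RingHom.ker_ne_top Δ) (hl.le (Ideal.subset_span hr))
  have hE2 : ((dA + c + (dA + c) - c : ℕ) : WithBot ℕ∞) ≤ ringKrullDim (DiagLocal.E k Q₀) := by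
    have hb0 : ringKrullDim (R ⧸ (⊥ : Ideal R)) = ((dA + c : ℕ) : WithBot ℕ∞) :=
      (ringKrullDim_eq_of_ringEquiv (RingEquiv.quotientBot R)).trans hN
    haveI : (⊥ : Ideal R).IsPrime := Ideal.isPrime_bot
    exact (DiagLocal.le_ringKrullDim_quotient k Q₀ ⊥ ⊥ bot_le bot_le hb0 hb0 hc).trans
      (ringKrullDim_quotient_le _)
  have hdl : ringKrullDim (DiagLocal.E k Q₀ ⧸ Ideal.ofList l) = dA := by
    rw [ringKrullDim_eq_of_ringEquiv ((Ideal.quotEquivOfEq hl).trans (RingHom.quotientKerEquivOfSurjective hΔs)), hdA]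
  have hwr : IsWeaklyRegular (DiagLocal.E k Q₀) l := by
    refine H8Props.MiracleFlat.isWeaklyRegular_of_supportDim l _ hlm
      (H4Depth.isCohenMacaulayLocalRing_of_regular _).supportDim_eq_depth ?_
    rw [Module.supportDim_eq_of_equiv (Submodule.quotEquivOfEq _ (Ideal.ofList l) (by rw [smul_eq_mul, Ideal.mul_top])),
      Module.supportDim_quotient_eq_ringKrullDim, Module.supportDim_self_eq_ringKrullDim, hdl, hlen]
    refine le_trans ?_ hE2
    exact_mod_cast (show dA + m ≤ dA + c + (dA + c) - c by omega)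
  have hNm : dA + c ≤ m := by
    have h := ringKrullDim_le_ringKrullDim_quotient_add_encard {x | x ∈ l}
      (fun x hx => by rw [IsLocalRing.ringJacobson_eq_maximalIdeal]; exact hlm x hx)
    rw [show Ideal.span {x | x ∈ l} = Ideal.ofList l from rfl, hdl] at h
    have h2 := le_trans hE2 h
    have hcard : {x | x ∈ l}.encard ≤ (m : ℕ∞) := by
      classical
      rw [show {x | x ∈ l} = (l.toFinset : Set (DiagLocal.E k Q₀)) by ext; simp, Set.encard_coe_eq_coe_finsetCard,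
        ← hlen]
      exact_mod_cast l.toFinset_card_le
    have h3 : ((dA + c + (dA + c) - c : ℕ) : WithBot ℕ∞) ≤ ((dA + m : ℕ) : WithBot ℕ∞) := by
      refine le_trans h2 ?_
      rw [Nat.cast_add]
      exact add_le_add le_rfl (WithBot.coe_le_coe.mpr hcard)
    have : dA + c + (dA + c) - c ≤ dA + m := by exact_mod_cast h3
    omega
  have hE : ∀ i : ℕ, Subsingleton (H (DiagLocal.E k Q₀) l ((i + 1 : ℕ) : ℤ)) := fun i =>
    DiagLocal.subsingleton_H_of_regular l _ hwr _ (by positivity)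
  obtain ⟨K, hKdef⟩ : ∃ K, K = (q.map (algebraMap R A)).map (DiagLocal.right k Q₀ A) := ⟨_, rfl⟩
  have hKΔ : K.map Δ.toRingHom = q.map (algebraMap R A) := by
    rw [hKdef, Ideal.map_map, show Δ.toRingHom.comp (DiagLocal.right k Q₀ A) = RingHom.id A from
      RingHom.ext (DiagLocal.diag_right k Q₀ A), Ideal.map_id]
  haveI hXflat : Module.Flat A (DiagLocal.E k Q₀ ⧸ K) := by
    have h := DiagLocal.flat_left k Q₀ A q (DiagLocal.E k Q₀ ⧸ K) (Ideal.Quotient.mk K)
      Ideal.Quotient.mk_surjective (Ideal.mk_ker.trans hKdef)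
    exact RingHom.flat_algebraMap_iff.mp h
  have hX : ∀ i : ℕ, Subsingleton (H (DiagLocal.E k Q₀ ⧸ K) l ((i + 1 : ℕ) : ℤ)) := fun i => by
    rw [hKdef]
    exact DiagMain.vanish_right Q₀ A l hl hE (q.map (algebraMap R A)) i
  haveI : Module.Flat A (DiagLocal.E k Q₀) := by
    have h := DiagLocal.flat_left k Q₀ A (⊥ : Ideal R) (DiagLocal.E k Q₀) (RingHom.id _)
      Function.surjective_id (by rw [Ideal.map_bot, Ideal.map_bot]; ext; simp)
    exact RingHom.flat_algebraMap_iff.mp h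
  have hcomap : Q.comap Δ.toRingHom = K ⊔ RingHom.ker Δ := by
    rw [← hQmap, ← hKΔ, Ideal.comap_map_of_surjective' Δ.toRingHom hΔs]
    rfl
  have hle : K ≤ Q.comap Δ.toRingHom := hcomap ▸ le_sup_left
  let π : (DiagLocal.E k Q₀ ⧸ K) →ₗ[DiagLocal.E k Q₀] (DiagLocal.E k Q₀ ⧸ Q.comap Δ.toRingHom) :=
    Submodule.mapQ K (Q.comap Δ.toRingHom) LinearMap.id (by rwa [Submodule.comap_id])
  have hπ : Function.Surjective π := fun z => by
    obtain ⟨z, rfl⟩ := Submodule.Quotient.mk_surjective _ z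
    exact ⟨Submodule.Quotient.mk z, rfl⟩
  have hk : LinearMap.ker π = Ideal.ofList l • (⊤ : Submodule (DiagLocal.E k Q₀) (DiagLocal.E k Q₀ ⧸ K)) := by
    rw [Submodule.ker_mapQ, Submodule.comap_id, hcomap, hl, Submodule.map_sup, Submodule.mkQ_map_self,
      bot_sup_eq,
      show Submodule.map (Submodule.mkQ K) (RingHom.ker Δ : Submodule (DiagLocal.E k Q₀) (DiagLocal.E k Q₀)) =
        Submodule.map (Submodule.mkQ K) (RingHom.ker Δ • (⊤ : Submodule (DiagLocal.E k Q₀) (DiagLocal.E k Q₀))) by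
          rw [smul_eq_mul, Ideal.mul_top],
      Submodule.map_smul'', Submodule.map_top, Submodule.range_mkQ]
  let e₀ : (DiagLocal.E k Q₀ ⧸ Q.comap Δ.toRingHom) ≃ₐ[A] A ⧸ Q :=
    (Ideal.quotientEquivAlgOfEq A (show Q.comap Δ.toRingHom = RingHom.ker ((Ideal.Quotient.mkₐ A Q).comp Δ) by
      ext z
      rw [Ideal.mem_comap, RingHom.mem_ker, AlgHom.comp_apply, Ideal.Quotient.mkₐ_eq_mk,
        Ideal.Quotient.eq_zero_iff_mem]
      rfl)).trans
      (Ideal.quotientKerAlgEquivOfSurjective ((Ideal.Quotient.mkₐ_surjective A Q).comp hΔs))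
  haveI : Module.Finite A (DiagLocal.E k Q₀ ⧸ Q.comap Δ.toRingHom) := Module.Finite.equiv e₀.toLinearEquiv.symm
  obtain ⟨D, hD⟩ := ChiMain.exists_bound (DiagLocal.E k Q₀) (DiagLocal.E k Q₀ ⊗[A] U)
  have main := TripleAssoc.assoc Δ hl π hπ hk hX U W (fun S hS hN => htri S hS fun a ha => hN
    (Module.mem_annihilator.mpr fun z => by
      obtain ⟨w, rfl⟩ := Submodule.Quotient.mk_surjective _ z
      rw [← Submodule.Quotient.mk_smul, Submodule.Quotient.mk_eq_zero]
      show Δ (a • w) ∈ Q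
      rw [map_smul, smul_eq_mul]
      exact Q.mul_mem_right _ ha)) D hD
  have h1 : ∀ i, IntMult.chi A (DiagLocal.E k Q₀ ⧸ Q.comap Δ.toRingHom) (DRing.Tor A i W U) =
      IntMult.chi A (A ⧸ Q) (DRing.Tor A i W U) := fun i => DiagMain.chi_congr e₀.toLinearEquiv
  have h2 : ∀ j, IntMult.chi A U (DRing.Tor A j (DiagLocal.E k Q₀ ⧸ Q.comap Δ.toRingHom) W) =
      IntMult.chi A U (DRing.Tor A j (A ⧸ Q) W) := fun j => ChiDev.chi_congr U
    ((((CategoryTheory.Tor (ModuleCat.{u} A) j).mapIso e₀.toLinearEquiv.toModuleIso).app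
      (ModuleCat.of A W)).toLinearEquiv)
  simp only [h1, h2] at main
  exact main

variable {K : Type u} [Field K] {X : Scheme.{u}} (f : X ⟶ Spec (CommRingCat.of K))

/-- Associativity on a smooth variety. -/
theorem chi_assoc [Smooth f] [IsIntegral X] (ξ : X) (Q : Ideal (X.presheaf.stalk ξ))
    {dA : ℕ} (hdA : ringKrullDim (X.presheaf.stalk ξ) = dA)
    (U W : Type u) [AddCommGroup U] [Module (X.presheaf.stalk ξ) U] [Module.Finite (X.presheaf.stalk ξ) U]
    [AddCommGroup W] [Module (X.presheaf.stalk ξ) W] [Module.Finite (X.presheaf.stalk ξ) W]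
    (htri : ∀ S : Ideal (X.presheaf.stalk ξ), S.IsPrime → Q ≤ S → Module.annihilator (X.presheaf.stalk ξ) U ≤ S →
      Module.annihilator (X.presheaf.stalk ξ) W ≤ S → S = IsLocalRing.maximalIdeal (X.presheaf.stalk ξ)) :
    ∑ᶠ i : ℕ, (-1 : ℤ) ^ i * IntMult.chi (X.presheaf.stalk ξ) (X.presheaf.stalk ξ ⧸ Q)
        (DRing.Tor (X.presheaf.stalk ξ) i W U) =
      ∑ᶠ j : ℕ, (-1 : ℤ) ^ j * IntMult.chi (X.presheaf.stalk ξ) U
        (DRing.Tor (X.presheaf.stalk ξ) j (X.presheaf.stalk ξ ⧸ Q) W) := by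
  obtain ⟨U₀, hU, V, hV, hxV, e, hstd⟩ := Smooth.exists_isStandardSmooth f ξ
  obtain ⟨m, g, hgC, hg⟩ := hstd.exists_etale_mvPolynomial
  have hUtop : U₀ = ⊤ := by
    refine eq_top_iff.mpr fun z _ => ?_
    rw [Subsingleton.elim (α := PrimeSpectrum K) z (f ξ)]
    exact e hxV
  subst hUtop
  have hfield : IsField Γ(Spec (CommRingCat.of K), ⊤) :=
    MulEquiv.isField (Field.toIsField K)
      (Scheme.ΓSpecIso (CommRingCat.of K)).commRingCatIsoToRingEquiv.toMulEquiv
  letI := hfield.toField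
  letI : Algebra Γ(Spec (CommRingCat.of K), ⊤) Γ(X, V) := (f.appLE ⊤ V e).hom.toAlgebra
  let g' : MvPolynomial (Fin m) Γ(Spec (CommRingCat.of K), ⊤) →ₐ[Γ(Spec (CommRingCat.of K), ⊤)] Γ(X, V) :=
    { g with commutes' := fun c => RingHom.congr_fun hgC c }
  haveI : Nonempty V := ⟨⟨ξ, hxV⟩⟩
  haveI : IsDomain Γ(X, V) := inferInstance
  letI : Algebra Γ(X, V) (X.presheaf.stalk ξ) := (X.presheaf.germ V ξ hxV).hom.toAlgebra
  haveI : IsLocalization.AtPrime (X.presheaf.stalk ξ) (hV.primeIdealOf ⟨ξ, hxV⟩).asIdeal :=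
    hV.isLocalization_stalk ⟨ξ, hxV⟩
  obtain ⟨c, hc⟩ := exists_nat_cdim f ξ
  have hc' : ringKrullDim (Γ(X, V) ⧸ (hV.primeIdealOf ⟨ξ, hxV⟩).asIdeal) = c := by
    have h := cdim_eq_chart f (A := Γ(X, V)) hV.fromSpec (hV.primeIdealOf ⟨ξ, hxV⟩)
    erw [hV.fromSpec_primeIdealOf] at h
    rw [← h]
    exact hc
  exact chart _ g' hg (hV.primeIdealOf ⟨ξ, hxV⟩).asIdeal (X.presheaf.stalk ξ) Q hc' hdA U W htri

end Groth.Agent.H3CAlg.ChiAssoc
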