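import Groth.Agent.H3CAlg.ChiAdd
import Groth.Agent.H22Alg.SamuelSum
import Mathlib

/-!
# Dévissage of the Tor Euler characteristic into multiplicities
-/

set_option autoImplicit false
set_option linter.style.haveILetI false
universe u

open TensorProduct

namespace Groth.Agent.H3CAlg.ChiDev

variable {A : Type u} [CommRing A]

/-- The length of `M_p` as an integer. -/
noncomputable def lenAt (M : Type u) [AddCommGroup M] [Module A M] (p : PrimeSpectrum A) : ℤ :=
  ((Module.length (Localization.AtPrime p.asIdeal) (LocalizedModule p.asIdeal.primeCompl M)).toNat : ℤ)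

theorem cast_lenAt (M : Type u) [AddCommGroup M] [Module A M] (p : PrimeSpectrum A) :
    ((lenAt M p : ℤ) : ℝ) = H22Alg.locLenAt M p := by
  simp [lenAt, H22Alg.locLenAt]

theorem lenAt_eq_zero {M : Type u} [AddCommGroup M] [Module A M] {p : PrimeSpectrum A}
    (hp : p ∉ Module.support A M) : lenAt M p = 0 := by
  have := cast_lenAt M p
  rw [H22Alg.locLenAt_eq_zero hp] at this
  exact_mod_cast this

theorem mem_support_of_lenAt_ne {M : Type u} [AddCommGroup M] [Module A M] {p : PrimeSpectrum A}
    (h : lenAt M p ≠ 0) : p ∈ Module.support A M := by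
  by_contra hp
  exact h (lenAt_eq_zero hp)

theorem lenAt_quotient_self (p : PrimeSpectrum A) : lenAt (A ⧸ p.asIdeal) p = 1 := by
  have := cast_lenAt (A ⧸ p.asIdeal) p
  rw [H22Alg.locLenAt_quotient_self] at this
  exact_mod_cast this

theorem lenAt_congr {M M' : Type u} [AddCommGroup M] [Module A M] [AddCommGroup M'] [Module A M']
    (e : M ≃ₗ[A] M') (p : PrimeSpectrum A) : lenAt M p = lenAt M' p := by
  have h : Module.length (Localization.AtPrime p.asIdeal) (LocalizedModule p.asIdeal.primeCompl M) =
      Module.length (Localization.AtPrime p.asIdeal) (LocalizedModule p.asIdeal.primeCompl M') :=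
    LinearEquiv.length_eq
      (LinearEquiv.ofBijective (LocalizedModule.map p.asIdeal.primeCompl e.toLinearMap)
        ⟨LocalizedModule.map_injective _ _ e.injective, LocalizedModule.map_surjective _ _ e.surjective⟩)
  simp only [lenAt, h]

theorem supportDim_quot (q : PrimeSpectrum A) :
    Module.supportDim A (A ⧸ q.asIdeal) = ringKrullDim (A ⧸ q.asIdeal) :=
  Module.supportDim_quotient_eq_ringKrullDim _

variable [IsNoetherianRing A]

theorem finite_index (M : Type u) [AddCommGroup M] [Module A M] [Module.Finite A M] {d : ℕ}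
    (hd : Module.supportDim A M ≤ d) :
    {p : PrimeSpectrum A | ringKrullDim (A ⧸ p.asIdeal) = d ∧ lenAt M p ≠ 0}.Finite :=
  (H22Alg.finite_top_support hd).subset fun _ hp => ⟨mem_support_of_lenAt_ne hp.2, hp.1⟩

variable [IsLocalRing A] (N : Type u) [AddCommGroup N] [Module A N] [Module.Finite A N]

theorem chi_congr {M M' : Type u} [AddCommGroup M] [Module A M] [AddCommGroup M'] [Module A M']
    (e : M ≃ₗ[A] M') : IntMult.chi A N M = IntMult.chi A N M' := by
  refine finsum_congr fun i => ?_
  have h : Module.length A (DRing.Tor A i N M) = Module.length A (DRing.Tor A i N M') :=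
    (((CategoryTheory.Tor (ModuleCat.{u} A) i).obj (ModuleCat.of A N)).mapIso e.toModuleIso).toLinearEquiv.length_eq
  exact congrArg (fun z : ℕ∞ => (-1 : ℤ) ^ i * (z.toNat : ℤ)) h

/-- The Euler characteristic is the sum over the top-dimensional primes. -/
theorem chi_dev (d : ℕ) (D : ℕ)
    (hD : ∀ (M : Type u) [AddCommGroup M] [Module A M], ∀ i, D < i → Subsingleton (DRing.Tor A i N M))
    (hvan : ∀ q : PrimeSpectrum A, ChiAdd.Meet A (A ⧸ q.asIdeal) N → ringKrullDim (A ⧸ q.asIdeal) < d →
      IntMult.chi A N (A ⧸ q.asIdeal) = 0)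
    (M : Type u) [AddCommGroup M] [Module A M] (hM : Module.Finite A M) (hmeet : ChiAdd.Meet A M N)
    (hd : Module.supportDim A M ≤ d) :
    IntMult.chi A N M = ∑ᶠ p ∈ {p : PrimeSpectrum A | ringKrullDim (A ⧸ p.asIdeal) = d},
      lenAt M p * IntMult.chi A N (A ⧸ p.asIdeal) := by
  revert hmeet hd
  refine IsNoetherianRing.induction_on_isQuotientEquivQuotientPrime A hM
    (motive := fun M _ _ _ => ChiAdd.Meet A M N → Module.supportDim A M ≤ d →
      IntMult.chi A N M = ∑ᶠ p ∈ {p : PrimeSpectrum A | ringKrullDim (A ⧸ p.asIdeal) = d},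
        lenAt M p * IntMult.chi A N (A ⧸ p.asIdeal)) ?_ ?_ ?_
  · intro M _ _ _ _ _ _
    rw [finsum_mem_eq_zero_of_forall_eq_zero fun p _ => ?_]
    · refine finsum_eq_zero_of_forall_eq_zero fun i => ?_
      haveI := (ChiAdd.finite_and_killed (A := A) N i M).1
      haveI : Subsingleton (DRing.Tor A i N M) := by
        rw [← Module.length_eq_zero_iff (R := A)]
        have hz : Module.length A (DRing.Tor A i M N) = 0 := by
          haveI : Subsingleton (DRing.Tor A i M N) := subsingleton_of_forall_eq 0 fun x => by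
            have := (ChiAdd.finite_and_killed (A := A) M i N).2 1
              (Module.mem_annihilator.mpr fun m => Subsingleton.elim _ _) x
            rwa [one_smul] at this
          exact Module.length_eq_zero
        obtain ⟨e⟩ := TorComm.nonempty_iso i (ModuleCat.of A N) (ModuleCat.of A M)
        exact e.toLinearEquiv.length_eq.trans hz
      rw [Module.length_eq_zero, ENat.toNat_zero, Nat.cast_zero, mul_zero]
    · rw [lenAt_eq_zero (by simp [Module.support_eq_empty]), zero_mul]
  · intro M _ _ _ q e hmeet hd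
    have hsupp : Module.support A M = Module.support A (A ⧸ q.asIdeal) := e.support_eq
    have hmeet' : ChiAdd.Meet A (A ⧸ q.asIdeal) N := ChiAdd.meet_mono N e.annihilator_eq.le hmeet
    have hd' : ringKrullDim (A ⧸ q.asIdeal) ≤ d := by
      rwa [Module.supportDim_eq_of_equiv e, supportDim_quot] at hd
    rw [chi_congr N e, finsum_mem_congr rfl fun p _ => by rw [lenAt_congr e]]
    have hzero : ∀ p : PrimeSpectrum A, ringKrullDim (A ⧸ p.asIdeal) = d → p ≠ q → lenAt (A ⧸ q.asIdeal) p = 0 := by
      intro p hp hne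
      refine lenAt_eq_zero fun hps => hne ?_
      have hqp : q ≤ p := by
        have h := Module.mem_support_iff_of_finite.mp hps
        rwa [Ideal.annihilator_quotient] at h
      exact (H22Alg.eq_of_le_of_dim_eq (M := A ⧸ q.asIdeal) (by rwa [supportDim_quot]) (by
        rw [Module.mem_support_iff_of_finite, Ideal.annihilator_quotient]) hqp hp).symm
    by_cases hq : ringKrullDim (A ⧸ q.asIdeal) = d
    · rw [finsum_mem_inter_support_eq (fun p => lenAt (A ⧸ q.asIdeal) p * IntMult.chi A N (A ⧸ p.asIdeal)) _ {q} ?_,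
        finsum_mem_singleton, lenAt_quotient_self, one_mul]
      ext p
      simp only [Set.mem_inter_iff, Set.mem_setOf_eq, Set.mem_singleton_iff, Function.mem_support]
      constructor
      · rintro ⟨hp, hne⟩
        refine ⟨?_, hne⟩
        by_contra h
        exact hne (by rw [hzero p hp h, zero_mul])
      · rintro ⟨rfl, hne⟩
        exact ⟨hq, hne⟩
    · rw [finsum_mem_eq_zero_of_forall_eq_zero fun p hp => by
        rw [hzero p hp (fun h => hq (h ▸ hp)), zero_mul]]
      exact hvan q hmeet' (lt_of_le_of_ne hd' hq)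
  · intro M₁ _ _ _ M₂ _ _ _ M₃ _ _ _ f g hf hg hfg i₁ i₃ hmeet hd
    have hd₁ := (Module.supportDim_le_of_injective f hf).trans hd
    have hd₃ := (Module.supportDim_le_of_surjective g hg).trans hd
    rw [ChiAdd.chi_add N hf hg hfg hmeet D hD,
      i₁ (ChiAdd.meet_mono N (f.annihilator_le_of_injective hf) hmeet) hd₁,
      i₃ (ChiAdd.meet_mono N (g.annihilator_le_of_surjective hg) hmeet) hd₃]
    rw [← finsum_mem_add_distrib']
    · refine finsum_mem_congr rfl fun p hp => ?_
      rw [← add_mul]
      congr 1
      have h := H22Alg.locLenAt_add f g hf hg hfg p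
        (fun r hr hrp => H22Alg.eq_of_le_of_dim_eq hd hr hrp hp)
      rw [← cast_lenAt, ← cast_lenAt, ← cast_lenAt] at h
      exact_mod_cast h.symm
    · exact (finite_index M₁ hd₁).subset fun p hp => ⟨hp.1, fun h => hp.2 (by show lenAt _ p * _ = 0; rw [h, zero_mul])⟩
    · exact (finite_index M₃ hd₃).subset fun p hp => ⟨hp.1, fun h => hp.2 (by show lenAt _ p * _ = 0; rw [h, zero_mul])⟩

end Groth.Agent.H3CAlg.ChiDev
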