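import Groth.Agent.H3CAlg.ChiAssoc
import Groth.Agent.H3CAlg.PrimeMod
import Mathlib

/-!
# Iterated intersection products of prime cycles
-/

set_option autoImplicit false
set_option linter.style.haveILetI false
universe u

open TensorProduct CategoryTheory AlgebraicGeometry

namespace Groth.Agent.H3CAlg.ChiTriple

theorem length_localized {A : Type u} [CommRing A] (P : PrimeSpectrum A) (C : Type u) [CommRing C] [Algebra A C]
    [IsLocalization.AtPrime C P.asIdeal] (T : Type u) [AddCommGroup T] [Module A T] :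
    Module.length (Localization.AtPrime P.asIdeal) (LocalizedModule P.asIdeal.primeCompl T) =
      Module.length C (C ⊗[A] T) := by
  haveI : IsLocalizedModule P.asIdeal.primeCompl (TensorProduct.mk A C T 1) :=
    (isLocalizedModule_iff_isBaseChange P.asIdeal.primeCompl C _).mpr (TensorProduct.isBaseChange A T C)
  let e : LocalizedModule P.asIdeal.primeCompl T ≃ₗ[A] C ⊗[A] T :=
    IsLocalizedModule.linearEquiv P.asIdeal.primeCompl (LocalizedModule.mkLinearMap _ _) (TensorProduct.mk A C T 1)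
  let φ : C ≃ₐ[A] Localization.AtPrime P.asIdeal :=
    IsLocalization.algEquiv P.asIdeal.primeCompl C (Localization.AtPrime P.asIdeal)
  letI : Algebra C (Localization.AtPrime P.asIdeal) := φ.toRingHom.toAlgebra
  letI : Module C (LocalizedModule P.asIdeal.primeCompl T) := Module.compHom _ φ.toRingHom
  haveI : IsScalarTower C (Localization.AtPrime P.asIdeal) (LocalizedModule P.asIdeal.primeCompl T) :=
    IsScalarTower.of_algebraMap_smul fun _ _ => rfl
  haveI : IsScalarTower A C (LocalizedModule P.asIdeal.primeCompl T) :=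
    IsScalarTower.of_algebraMap_smul fun r x => by
      show φ (algebraMap A C r) • x = r • x
      rw [φ.commutes, algebraMap_smul]
  rw [← (LinearEquiv.extendScalarsOfIsLocalization P.asIdeal.primeCompl C e).length_eq,
    Module.length_eq_of_surjective (S := C) (R := Localization.AtPrime P.asIdeal) φ.surjective]

theorem chi_localize {A : Type u} [CommRing A] (P : PrimeSpectrum A) (C : Type u) [CommRing C] [Algebra A C]
    [IsLocalization.AtPrime C P.asIdeal] (I J : Ideal A) :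
    ∑ᶠ j : ℕ, (-1 : ℤ) ^ j * ChiDev.lenAt (DRing.Tor A j (A ⧸ I) (A ⧸ J)) P =
      IntMult.chi C (C ⧸ I.map (algebraMap A C)) (C ⧸ J.map (algebraMap A C)) := by
  haveI : Module.Flat A C := IsLocalization.flat C P.asIdeal.primeCompl
  rw [DiagMain.chi_congr (Algebra.TensorProduct.quotIdealMapEquivTensorQuot C I).toLinearEquiv,
    TorComm.chi_comm C (C ⊗[A] (A ⧸ I)), DiagMain.chi_congr (Algebra.TensorProduct.quotIdealMapEquivTensorQuot C J).toLinearEquiv, TorComm.chi_comm C (C ⊗[A] (A ⧸ J)),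
    IntMult.chi]
  refine finsum_congr fun j => ?_
  obtain ⟨e⟩ := ChiBC.tor_baseChange (A := A) C (A ⧸ I) j (A ⧸ J)
  rw [ChiDev.lenAt, e.length_eq, length_localized P C]

variable {X : Scheme.{u}}

theorem stalkIdeal_le {v η x : X} (h : v ⤳ η) (hx : η ⤳ x) :
    IntMult.stalkIdeal (IntMult.ptIdeal v) x ≤ IntMult.stalkIdeal (IntMult.ptIdeal η) x := by
  refine IntPt.stalkIdeal_le_of_mem_support _ hx ?_
  show η ∈ ((IntMult.ptIdeal v).support : Set X)
  rw [← Scheme.IdealSheafData.range_subschemeι, PairPt.range_ptIdeal]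
  exact specializes_iff_mem_closure.mp h

theorem specializes_of_le [IsNoetherian X] {v η x : X} (hv : v ⤳ x) (hη : η ⤳ x)
    (hle : IntMult.stalkIdeal (IntMult.ptIdeal v) x ≤ IntMult.stalkIdeal (IntMult.ptIdeal η) x) : v ⤳ η := by
  let P : PrimeSpectrum (X.presheaf.stalk x) := ⟨_, IntPt.stalkIdeal_ptIdeal_prime hη⟩
  obtain ⟨e⟩ := PrimeMod.stalk_primeMod hv
  refine PrimeMod.specializes_of_nontrivial v η
    (ChiStalk.mem_support_stalk _ (PrimeMod.isCoh_primeMod v) hη P rfl ?_)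
  rw [e.support_eq, Module.mem_support_iff_of_finite, Ideal.annihilator_quotient]
  exact hle

theorem mult_localized {η x : X} (h : η ⤳ x) (v w : X) (hv : v ⤳ η) (hw : w ⤳ η)
    (P : PrimeSpectrum (X.presheaf.stalk x)) (hP : IntMult.stalkIdeal (IntMult.ptIdeal η) x = P.asIdeal) :
    IntMult.mult (IntMult.ptIdeal v) (IntMult.ptIdeal w) η =
      ∑ᶠ j : ℕ, (-1 : ℤ) ^ j * ChiDev.lenAt (DRing.Tor (X.presheaf.stalk x) j
        (X.presheaf.stalk x ⧸ IntMult.stalkIdeal (IntMult.ptIdeal w) x)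
        (X.presheaf.stalk x ⧸ IntMult.stalkIdeal (IntMult.ptIdeal v) x)) P := by
  obtain ⟨U, hU, hxU, -⟩ := exists_isAffineOpen_mem_and_subset (X := X) (x := x) (U := ⊤) trivial
  have hηU := h.mem_open U.2 hxU
  letI algx : Algebra Γ(X, U) (X.presheaf.stalk x) := (X.presheaf.germ U x hxU).hom.toAlgebra
  letI algη : Algebra Γ(X, U) (X.presheaf.stalk η) := (X.presheaf.germ U η hηU).hom.toAlgebra
  haveI : IsLocalization.AtPrime (X.presheaf.stalk x) (hU.primeIdealOf ⟨x, hxU⟩).asIdeal :=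
    hU.isLocalization_stalk ⟨x, hxU⟩
  haveI : IsLocalization.AtPrime (X.presheaf.stalk η) (hU.primeIdealOf ⟨η, hηU⟩).asIdeal :=
    hU.isLocalization_stalk ⟨η, hηU⟩
  have hcomap : P.asIdeal.comap (algebraMap Γ(X, U) (X.presheaf.stalk x)) = (hU.primeIdealOf ⟨η, hηU⟩).asIdeal := by
    rw [← hP, H29Ref.stalkIdeal_eq _ x ⟨U, hU⟩ hxU, IntPt.ideal_ptIdeal η ⟨U, hU⟩ hηU]
    exact IsLocalization.comap_map_of_isPrime_disjoint (hU.primeIdealOf ⟨x, hxU⟩).asIdeal.primeCompl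
      (X.presheaf.stalk x) (hU.primeIdealOf ⟨η, hηU⟩).2
      (Set.disjoint_left.mpr fun a ha ha' => ha (IntPt.primeIdealOf_le hU h hηU hxU ha'))
  have h2 := IsLocalization.isLocalization_isLocalization_atPrime_isLocalization
    (T := Localization.AtPrime P.asIdeal) (hU.primeIdealOf ⟨x, hxU⟩).asIdeal.primeCompl P.asIdeal
  haveI : IsLocalization.AtPrime (Localization.AtPrime P.asIdeal) (hU.primeIdealOf ⟨η, hηU⟩).asIdeal := by
    convert h2 using 3
    exact hcomap.symm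
  let φ : Localization.AtPrime P.asIdeal ≃ₐ[Γ(X, U)] X.presheaf.stalk η :=
    IsLocalization.algEquiv (hU.primeIdealOf ⟨η, hηU⟩).asIdeal.primeCompl _ _
  letI : Algebra (X.presheaf.stalk x) (X.presheaf.stalk η) :=
    (φ.toRingHom.comp (algebraMap (X.presheaf.stalk x) (Localization.AtPrime P.asIdeal))).toAlgebra
  let ψ : Localization.AtPrime P.asIdeal ≃ₐ[X.presheaf.stalk x] X.presheaf.stalk η :=
    { φ with commutes' := fun _ => rfl }
  haveI : IsLocalization.AtPrime (X.presheaf.stalk η) P.asIdeal :=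
    IsLocalization.isLocalization_of_algEquiv P.asIdeal.primeCompl ψ
  have hmap : ∀ u : X, IntMult.stalkIdeal (IntMult.ptIdeal u) η =
      (IntMult.stalkIdeal (IntMult.ptIdeal u) x).map (algebraMap (X.presheaf.stalk x) (X.presheaf.stalk η)) := by
    intro u
    rw [H29Ref.stalkIdeal_eq _ η ⟨U, hU⟩ hηU, H29Ref.stalkIdeal_eq _ x ⟨U, hU⟩ hxU, Ideal.map_map]
    congr 1
    refine RingHom.ext fun r => ?_
    show algebraMap Γ(X, U) (X.presheaf.stalk η) r =
      φ (algebraMap (X.presheaf.stalk x) (Localization.AtPrime P.asIdeal) (algebraMap Γ(X, U) (X.presheaf.stalk x) r))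
    rw [← IsScalarTower.algebraMap_apply, φ.commutes]
  rw [IntMult.mult, hmap, hmap, chi_localize P (X.presheaf.stalk η)]

theorem interProd_comm (δ : X → ℤ) (n : ℤ) (α β : X → ℤ) :
    IntMult.interProd δ n α β = IntMult.interProd δ n β α := by
  funext ζ
  rw [IntMult.interProd, IntMult.interProd]
  let e : {p : X × X // p.1 ⤳ ζ ∧ p.2 ⤳ ζ ∧ δ p.1 + δ p.2 - n = δ ζ} ≃
      {p : X × X // p.1 ⤳ ζ ∧ p.2 ⤳ ζ ∧ δ p.1 + δ p.2 - n = δ ζ} :=
    { toFun := fun p => ⟨(p.1.2, p.1.1), p.2.2.1, p.2.1, by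
        have := p.2.2.2
        show δ p.1.2 + δ p.1.1 - n = δ ζ
        omega⟩
      invFun := fun p => ⟨(p.1.2, p.1.1), p.2.2.1, p.2.1, by
        have := p.2.2.2
        show δ p.1.2 + δ p.1.1 - n = δ ζ
        omega⟩
      left_inv := fun p => rfl
      right_inv := fun p => rfl }
  rw [← finsum_comp_equiv e]
  refine finsum_congr fun p => ?_
  show α p.1.2 * β p.1.1 * IntMult.mult (IntMult.ptIdeal p.1.2) (IntMult.ptIdeal p.1.1) ζ =
    β p.1.1 * α p.1.2 * IntMult.mult (IntMult.ptIdeal p.1.1) (IntMult.ptIdeal p.1.2) ζ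
  rw [mul_comm (α _) (β _), IntMult.mult, IntMult.mult, TorComm.chi_comm]

theorem interProd_single_left (δ : X → ℤ) (n : ℤ) (ξ : X) (β : X → ℤ) (ζ : X) (hξ : ξ ⤳ ζ) :
    IntMult.interProd δ n (Set.indicator {ξ} 1) β ζ =
      ∑ᶠ η ∈ {η : X | η ⤳ ζ ∧ δ ξ + δ η - n = δ ζ},
        β η * IntMult.mult (IntMult.ptIdeal ξ) (IntMult.ptIdeal η) ζ := by
  rw [IntMult.interProd, ← finsum_set_coe_eq_finsum_mem {η : X | η ⤳ ζ ∧ δ ξ + δ η - n = δ ζ}]
  let g : {η : X // η ⤳ ζ ∧ δ ξ + δ η - n = δ ζ} →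
      {p : X × X // p.1 ⤳ ζ ∧ p.2 ⤳ ζ ∧ δ p.1 + δ p.2 - n = δ ζ} := fun η =>
    ⟨(ξ, η.1), hξ, η.2.1, η.2.2⟩
  have hg : Function.Injective g := fun a b hab => Subtype.ext (congrArg (fun p => p.1.2) hab)
  rw [← finsum_mem_univ, finsum_mem_inter_support_eq
    (fun p : {p : X × X // p.1 ⤳ ζ ∧ p.2 ⤳ ζ ∧ δ p.1 + δ p.2 - n = δ ζ} =>
      Set.indicator ({ξ} : Set X) (1 : X → ℤ) p.1.1 * β p.1.2 *
        IntMult.mult (IntMult.ptIdeal p.1.1) (IntMult.ptIdeal p.1.2) ζ) _ (Set.range g) ?_, finsum_mem_range hg]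
  · refine finsum_congr fun η => ?_
    show Set.indicator ({ξ} : Set X) (1 : X → ℤ) ξ * β η.1 * IntMult.mult _ _ ζ = _
    rw [Set.indicator_of_mem (Set.mem_singleton ξ), Pi.one_apply, one_mul]
  · ext p
    refine ⟨fun hp => ⟨?_, hp.2⟩, fun hp => ⟨trivial, hp.2⟩⟩
    have h1 : p.1.1 = ξ := by
      by_contra hne
      refine hp.2 ?_
      show Set.indicator ({ξ} : Set X) (1 : X → ℤ) p.1.1 * _ * _ = 0
      rw [Set.indicator_of_notMem (by exact hne), zero_mul, zero_mul]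
    exact ⟨⟨p.1.2, p.2.2.1, by have := p.2.2.2; rw [h1] at this; exact this⟩, Subtype.ext (Prod.ext h1.symm rfl)⟩

theorem interProd_single_left_eq_zero (δ : X → ℤ) (n : ℤ) (ξ : X) (β : X → ℤ) (ζ : X)
    (h : ∀ η, ξ ⤳ ζ → η ⤳ ζ → δ ξ + δ η - n = δ ζ → β η = 0) :
    IntMult.interProd δ n (Set.indicator {ξ} 1) β ζ = 0 := by
  by_cases hξ : ξ ⤳ ζ
  · rw [interProd_single_left δ n ξ β ζ hξ]
    exact finsum_mem_eq_zero_of_forall_eq_zero fun η hη => by rw [h η hξ hη.1 hη.2, zero_mul]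
  · rw [IntMult.interProd]
    refine finsum_eq_zero_of_forall_eq_zero fun p => ?_
    rw [Set.indicator_of_notMem (fun hm => hξ (by rw [← Set.mem_singleton_iff.mp hm]; exact p.2.1)), zero_mul, zero_mul]

theorem interProd_single_single_ne_zero (δ : X → ℤ) (n : ℤ) (v w η : X)
    (h : IntMult.interProd δ n (Set.indicator {v} 1) (Set.indicator {w} 1) η ≠ 0) :
    v ⤳ η ∧ w ⤳ η ∧ δ v + δ w - n = δ η := by
  by_contra hc
  refine h (interProd_single_left_eq_zero δ n v _ η fun b hv hb he => ?_)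
  refine Set.indicator_of_notMem (fun hm => hc ?_) _
  rw [Set.mem_singleton_iff.mp hm] at hb he
  exact ⟨hv, hb, he⟩

theorem interProd_single_single (δ : X → ℤ) (n : ℤ) (v w η : X) (hv : v ⤳ η) (hw : w ⤳ η)
    (he : δ v + δ w - n = δ η) :
    IntMult.interProd δ n (Set.indicator {v} 1) (Set.indicator {w} 1) η =
      IntMult.mult (IntMult.ptIdeal v) (IntMult.ptIdeal w) η := by
  rw [interProd_single_left δ n v _ η hv, finsum_mem_inter_support_eq _ _ ({w} : Set X) ?_, finsum_mem_singleton,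
    Set.indicator_of_mem (Set.mem_singleton w), Pi.one_apply, one_mul]
  ext b
  refine ⟨fun hb => ⟨?_, hb.2⟩, fun hb => ⟨?_, hb.2⟩⟩
  · by_contra hne
    refine hb.2 ?_
    show Set.indicator ({w} : Set X) (1 : X → ℤ) b * _ = 0
    rw [Set.indicator_of_notMem hne, zero_mul]
  · rw [Set.mem_singleton_iff.mp hb.1]
    exact ⟨hw, he⟩

variable {K : Type u} [Field K] (f : X ⟶ Spec (CommRingCat.of K)) [Smooth f] [IsIntegral X] [IsNoetherian X]

set_option maxHeartbeats 1600000 in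
/-- An iterated intersection product is a sum of Euler characteristics at one local ring. -/
theorem interProd_interProd' (δ : X → ℤ) (hδ : Cyc.DeltaCompat f δ (fun _ => 0)) (n : ℤ) (hn : δ (genericPoint X) = n)
    (u v w ζ : X) (hu : u ⤳ ζ) (hv : v ⤳ ζ) (hw : w ⤳ ζ) (hζ : δ ζ = δ u + δ v + δ w - 2 * n)
    (hvw : ∀ η, η ⤳ ζ → v ⤳ η → w ⤳ η → δ η ≤ δ v + δ w - n)
    (huvw : ∀ η, u ⤳ η → v ⤳ η → w ⤳ η → δ η ≤ δ ζ) :
    IntMult.interProd δ n (Set.indicator {u} 1)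
        (IntMult.interProd δ n (Set.indicator {v} 1) (Set.indicator {w} 1)) ζ =
      ∑ᶠ j : ℕ, (-1 : ℤ) ^ j * IntMult.chi (X.presheaf.stalk ζ)
        (X.presheaf.stalk ζ ⧸ IntMult.stalkIdeal (IntMult.ptIdeal u) ζ)
        (DRing.Tor (X.presheaf.stalk ζ) j (X.presheaf.stalk ζ ⧸ IntMult.stalkIdeal (IntMult.ptIdeal w) ζ)
          (X.presheaf.stalk ζ ⧸ IntMult.stalkIdeal (IntMult.ptIdeal v) ζ)) := by
  classical
  haveI : IsRegularLocalRing (X.presheaf.stalk ζ) := H19Grp.isRegularLocalRing_stalk_of_smooth f ζ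
  obtain ⟨cn, hcn, hcn'⟩ := IntPt.delta_eq_cdim f δ hδ (genericPoint X)
  obtain ⟨cz, hcz, hcz'⟩ := IntPt.delta_eq_cdim f δ hδ ζ
  obtain ⟨dA, hdA, hdAz⟩ := IntLocal.ringKrullDim_stalk f (ChiMain.topologicalKrullDim_eq cn hcn) ζ hcz
  obtain ⟨A, hA⟩ : ∃ A : Type u, A = X.presheaf.stalk ζ := ⟨_, rfl⟩
  choose π hπ hπI using fun P : PrimeSpectrum (X.presheaf.stalk ζ) => ChiStalk.exists_generization P
  have hdimv : ∀ P, ∃ d : ℕ, ringKrullDim (X.presheaf.stalk ζ ⧸ P.asIdeal) = d ∧ (d : ℤ) + cz = δ (π P) := by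
    intro P
    obtain ⟨a, ha, ha'⟩ := IntPt.delta_eq_cdim f δ hδ (π P)
    obtain ⟨d, hd, hda⟩ := IntPt.ringKrullDim_quotient_ptIdeal f (hπ P) ha hcz
    rw [hπI] at hd
    exact ⟨d, hd, by omega⟩
  obtain ⟨cu, hcu, hcu'⟩ := IntPt.delta_eq_cdim f δ hδ u
  obtain ⟨du, hdu, hduz⟩ := IntPt.ringKrullDim_quotient_ptIdeal f hu hcu hcz
  have hun : δ u ≤ n := by
    rw [← hn]
    exact (ChiMain.eq_of_specializes f δ hδ (genericPoint_specializes u)).1
  obtain ⟨d, hd⟩ : ∃ d : ℕ, (d : ℤ) = n - δ u := ⟨(n - δ u).toNat, by omega⟩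
  haveI := IntPt.stalkIdeal_ptIdeal_prime hu
  obtain ⟨Iv, hIv⟩ : ∃ I, I = IntMult.stalkIdeal (IntMult.ptIdeal v) ζ := ⟨_, rfl⟩
  obtain ⟨Iw, hIw⟩ : ∃ I, I = IntMult.stalkIdeal (IntMult.ptIdeal w) ζ := ⟨_, rfl⟩
  rw [← hIv, ← hIw]
  -- points of the primes over both
  have hgen : ∀ P : PrimeSpectrum (X.presheaf.stalk ζ), Iv ≤ P.asIdeal → Iw ≤ P.asIdeal → v ⤳ π P ∧ w ⤳ π P := by
    intro P h1 h2
    exact ⟨specializes_of_le hv (hπ P) (by rw [hπI, ← hIv]; exact h1),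
      specializes_of_le hw (hπ P) (by rw [hπI, ← hIw]; exact h2)⟩
  have hbound : ∀ P : PrimeSpectrum (X.presheaf.stalk ζ), Iv ≤ P.asIdeal → Iw ≤ P.asIdeal →
      ringKrullDim (X.presheaf.stalk ζ ⧸ P.asIdeal) ≤ d := by
    intro P h1 h2
    obtain ⟨e, he, he'⟩ := hdimv P
    have := hvw _ (hπ P) (hgen P h1 h2).1 (hgen P h1 h2).2
    rw [he]
    exact_mod_cast (show e ≤ d by omega)
  have hfin : ∀ j : ℕ, Module.Finite (X.presheaf.stalk ζ) (DRing.Tor (X.presheaf.stalk ζ) j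
      (X.presheaf.stalk ζ ⧸ Iw) (X.presheaf.stalk ζ ⧸ Iv)) := fun j => (ChiAdd.finite_and_killed _ j _).1
  have hann : ∀ (j : ℕ) (P : PrimeSpectrum (X.presheaf.stalk ζ)), Module.annihilator (X.presheaf.stalk ζ)
      (DRing.Tor (X.presheaf.stalk ζ) j (X.presheaf.stalk ζ ⧸ Iw) (X.presheaf.stalk ζ ⧸ Iv)) ≤ P.asIdeal →
      Iv ≤ P.asIdeal ∧ Iw ≤ P.asIdeal := by
    intro j P hP
    have h := TripleChi.annihilator_le_tor (A := X.presheaf.stalk ζ) (X.presheaf.stalk ζ ⧸ Iw)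
      (X.presheaf.stalk ζ ⧸ Iv) j
    rw [Ideal.annihilator_quotient, Ideal.annihilator_quotient] at h
    exact ⟨h.1.trans hP, h.2.trans hP⟩
  obtain ⟨D, hD⟩ := ChiMain.exists_bound (X.presheaf.stalk ζ) (X.presheaf.stalk ζ ⧸ Iw)
  obtain ⟨D', hD'⟩ := ChiMain.exists_bound (X.presheaf.stalk ζ)
    (X.presheaf.stalk ζ ⧸ IntMult.stalkIdeal (IntMult.ptIdeal u) ζ)
  have hdev : ∀ j : ℕ, IntMult.chi (X.presheaf.stalk ζ) (X.presheaf.stalk ζ ⧸ IntMult.stalkIdeal (IntMult.ptIdeal u) ζ)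
      (DRing.Tor (X.presheaf.stalk ζ) j (X.presheaf.stalk ζ ⧸ Iw) (X.presheaf.stalk ζ ⧸ Iv)) =
      ∑ᶠ P ∈ {P : PrimeSpectrum (X.presheaf.stalk ζ) | ringKrullDim (X.presheaf.stalk ζ ⧸ P.asIdeal) = d},
        ChiDev.lenAt (DRing.Tor (X.presheaf.stalk ζ) j (X.presheaf.stalk ζ ⧸ Iw) (X.presheaf.stalk ζ ⧸ Iv)) P *
          IntMult.chi (X.presheaf.stalk ζ) (X.presheaf.stalk ζ ⧸ IntMult.stalkIdeal (IntMult.ptIdeal u) ζ)
            (X.presheaf.stalk ζ ⧸ P.asIdeal) := by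
    intro j
    haveI := hfin j
    refine ChiDev.chi_dev _ d D' hD' (fun q hq hqd => ?_) _ (hfin j) (fun P h1 h2 => ?_)
      (ChiStalk.supportDim_le_of_forall fun P hP => ?_)
    · obtain ⟨e, he, -⟩ := hdimv q
      refine ChiVanish.chi_eq_zero f ζ q.asIdeal (IntMult.stalkIdeal (IntMult.ptIdeal u) ζ)
        (fun S hS h1 h2 => hq ⟨S, hS⟩ ?_ ?_) hdA he hdu ?_
      · rwa [Ideal.annihilator_quotient]
      · rwa [Ideal.annihilator_quotient]
      · rw [he] at hqd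
        have : e < d := by exact_mod_cast hqd
        omega
    · obtain ⟨hv1, hw1⟩ := hgen P (hann j P h1).1 (hann j P h1).2
      rw [Ideal.annihilator_quotient] at h2
      have hle := huvw _ (specializes_of_le hu (hπ P) (by rw [hπI]; exact h2)) hv1 hw1
      have heq := (ChiMain.eq_of_specializes f δ hδ (hπ P)).2 hle
      rw [← hπI P, heq]
      exact IntPt.stalkIdeal_ptIdeal_self ζ
    · have h := hann j P (Module.mem_support_iff_of_finite.mp hP)
      exact hbound P h.1 h.2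
  -- the finite index set
  obtain ⟨S, hS⟩ : ∃ S : Set (PrimeSpectrum (X.presheaf.stalk ζ)), S =
      {P | P ∈ Module.support (X.presheaf.stalk ζ) (X.presheaf.stalk ζ ⧸ (Iv ⊔ Iw)) ∧
        ringKrullDim (X.presheaf.stalk ζ ⧸ P.asIdeal) = d} := ⟨_, rfl⟩
  have hmemS : ∀ P, P ∈ S ↔ (Iv ≤ P.asIdeal ∧ Iw ≤ P.asIdeal) ∧
      ringKrullDim (X.presheaf.stalk ζ ⧸ P.asIdeal) = d := by
    intro P
    rw [hS, Set.mem_ofPred_eq, Module.mem_support_iff_of_finite, Ideal.annihilator_quotient, sup_le_iff]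
  have hSfin : S.Finite := by
    rw [hS]
    refine H22Alg.finite_top_support (ChiStalk.supportDim_le_of_forall fun P hP => ?_)
    rw [Module.mem_support_iff_of_finite, Ideal.annihilator_quotient, sup_le_iff] at hP
    exact hbound P hP.1 hP.2
  have hL : IntMult.interProd δ n (Set.indicator {u} 1)
      (IntMult.interProd δ n (Set.indicator {v} 1) (Set.indicator {w} 1)) ζ =
      ∑ P ∈ hSfin.toFinset, (∑ j ∈ Finset.range (D + 1), (-1 : ℤ) ^ j *
          ChiDev.lenAt (DRing.Tor (X.presheaf.stalk ζ) j (X.presheaf.stalk ζ ⧸ Iw) (X.presheaf.stalk ζ ⧸ Iv)) P) *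
        IntMult.chi (X.presheaf.stalk ζ) (X.presheaf.stalk ζ ⧸ IntMult.stalkIdeal (IntMult.ptIdeal u) ζ)
            (X.presheaf.stalk ζ ⧸ P.asIdeal) := by
    rw [interProd_single_left δ n u _ ζ hu]
    have hinj : Set.InjOn π S := fun P _ Q _ h => by
      apply PrimeSpectrum.ext
      rw [← hπI P, ← hπI Q, h]
    rw [finsum_mem_inter_support_eq _ _ (π '' S) ?_, finsum_mem_image hinj,
      finsum_mem_eq_finite_toFinset_sum _ hSfin]
    · refine Finset.sum_congr rfl fun P hP => ?_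
      rw [Set.Finite.mem_toFinset, hmemS] at hP
      obtain ⟨hv1, hw1⟩ := hgen P hP.1.1 hP.1.2
      have hdP : δ (π P) = d + cz := by
        obtain ⟨e, he, he'⟩ := hdimv P
        have : e = d := by exact_mod_cast (he.symm.trans hP.2)
        omega
      rw [interProd_single_single δ n v w (π P) hv1 hw1 (by omega),
        mult_localized (hπ P) v w hv1 hw1 P (hπI P), ← hIv, ← hIw]
      congr 1
      · refine finsum_eq_sum_of_support_subset _ fun j hj => ?_
        rw [Finset.coe_range, Set.mem_Iio]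
        by_contra hne
        refine hj ?_
        show _ * _ = (0 : ℤ)
        haveI := hD (X.presheaf.stalk ζ ⧸ Iv) j (by omega)
        rw [ChiDev.lenAt_eq_zero (by simp [Module.support_eq_empty]), mul_zero]
      · rw [IntMult.mult, hπI, TorComm.chi_comm]
    · ext η
      refine ⟨fun hη => ⟨?_, hη.2⟩, fun hη => ⟨?_, hη.2⟩⟩
      · obtain ⟨⟨hηζ, hηd⟩, hne⟩ := hη
        obtain ⟨hv1, hw1, he⟩ := interProd_single_single_ne_zero δ n v w η (left_ne_zero_of_mul hne)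
        let P : PrimeSpectrum (X.presheaf.stalk ζ) := ⟨_, IntPt.stalkIdeal_ptIdeal_prime hηζ⟩
        have hPη : π P = η := IntPt.stalkIdeal_ptIdeal_injective (hπ P) hηζ (hπI P)
        obtain ⟨e, he, he'⟩ := hdimv P
        rw [hPη] at he'
        refine ⟨P, (hmemS P).mpr ⟨⟨hIv ▸ stalkIdeal_le hv1 hηζ, hIw ▸ stalkIdeal_le hw1 hηζ⟩, ?_⟩, hPη⟩
        rw [he]
        exact_mod_cast (show e = d by omega)
      · obtain ⟨P, hP, rfl⟩ := hη.1
        obtain ⟨e, he, he'⟩ := hdimv P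
        have : e = d := by exact_mod_cast (he.symm.trans ((hmemS P).mp hP).2)
        exact ⟨hπ P, by omega⟩
  rw [hL, finsum_eq_sum_of_support_subset _ (s := Finset.range (D + 1)) ?_]
  · simp only [Finset.sum_mul]
    rw [Finset.sum_comm]
    refine Finset.sum_congr rfl fun j _ => ?_
    rw [hdev j, finsum_mem_inter_support_eq' _ _ S ?_, finsum_mem_eq_finite_toFinset_sum _ hSfin, Finset.mul_sum]
    · exact Finset.sum_congr rfl fun P _ => mul_assoc _ _ _
    · intro P hP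
      haveI := hfin j
      have h := hann j P (Module.mem_support_iff_of_finite.mp
        (ChiDev.mem_support_of_lenAt_ne (left_ne_zero_of_mul hP)))
      rw [hmemS]
      exact ⟨fun hd' => ⟨h, hd'⟩, fun hS => hS.2⟩
  · intro j hj
    rw [Finset.coe_range, Set.mem_Iio]
    by_contra hne
    refine hj ?_
    show _ * _ = (0 : ℤ)
    haveI := hD (X.presheaf.stalk ζ ⧸ Iv) j (by omega)
    haveI := hfin j
    rw [TorComm.chi_comm, ChiMain.chi_eq_zero_of_subsingleton, mul_zero]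

/-- The version with the bound on all common specializations. -/
theorem interProd_interProd (δ : X → ℤ) (hδ : Cyc.DeltaCompat f δ (fun _ => 0)) (n : ℤ) (hn : δ (genericPoint X) = n)
    (u v w ζ : X) (hu : u ⤳ ζ) (hv : v ⤳ ζ) (hw : w ⤳ ζ) (hζ : δ ζ = δ u + δ v + δ w - 2 * n)
    (hvw : ∀ η, v ⤳ η → w ⤳ η → δ η ≤ δ v + δ w - n)
    (huvw : ∀ η, u ⤳ η → v ⤳ η → w ⤳ η → δ η ≤ δ ζ) :
    IntMult.interProd δ n (Set.indicator {u} 1)
        (IntMult.interProd δ n (Set.indicator {v} 1) (Set.indicator {w} 1)) ζ =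
      ∑ᶠ j : ℕ, (-1 : ℤ) ^ j * IntMult.chi (X.presheaf.stalk ζ)
        (X.presheaf.stalk ζ ⧸ IntMult.stalkIdeal (IntMult.ptIdeal u) ζ)
        (DRing.Tor (X.presheaf.stalk ζ) j (X.presheaf.stalk ζ ⧸ IntMult.stalkIdeal (IntMult.ptIdeal w) ζ)
          (X.presheaf.stalk ζ ⧸ IntMult.stalkIdeal (IntMult.ptIdeal v) ζ)) :=
  interProd_interProd' f δ hδ n hn u v w ζ hu hv hw hζ (fun η _ => hvw η) huvw

end Groth.Agent.H3CAlg.ChiTriple
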