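import Groth.Agent.H02CA.PowerSeries
import Mathlib

/-!
Complete discrete valuation rings with a coefficient field are power series rings.
-/

open IsLocalRing

namespace Groth.Agent.H3CAlg.CoeffField

universe u v

theorem exists_algHom_bijective (K : Type u) (A : Type v) [Field K] [CommRing A] [IsDomain A]
    [IsDiscreteValuationRing A] [Algebra K A] [IsAdicComplete (maximalIdeal A) A]
    (hK : Function.Surjective ((residue A).comp (algebraMap K A)))
    (x : A) (hx : maximalIdeal A = Ideal.span {x}) :
    ∃ φ : PowerSeries K →ₐ[K] A, φ PowerSeries.X = x ∧ Function.Bijective φ ∧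
      ∀ (f : PowerSeries K) (n : ℕ),
        φ f - (Finset.range n).sum (fun i => algebraMap K A (PowerSeries.coeff i f) * x ^ i) ∈
          maximalIdeal A ^ n := by
  have hxm : x ∈ maximalIdeal A := hx ▸ Ideal.mem_span_singleton_self x
  obtain ⟨φ, hφ⟩ := Groth.Agent.H02CA.PS.exists_algHom (σ := Unit) (R := K) (maximalIdeal A) (fun _ => x) (fun _ => hxm)
  have hφX : φ PowerSeries.X = x := hφ ()
  refine ⟨φ, hφX, ⟨?_, ?_⟩, ?_⟩
  · rw [injective_iff_map_eq_zero]
    intro f hf
    by_contra hne
    obtain ⟨n, u, rfl⟩ := IsDiscreteValuationRing.eq_unit_mul_pow_irreducible hne PowerSeries.X_irreducible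
    rw [map_mul, map_pow, hφX, mul_eq_zero] at hf
    rcases hf with h | h
    · exact (u.isUnit.map φ).ne_zero h
    · have hx0 : x = 0 := eq_zero_of_pow_eq_zero h
      rw [hx0, Ideal.span_singleton_eq_bot.mpr rfl] at hx
      exact IsDiscreteValuationRing.not_a_field A hx
  · refine Groth.Agent.H02CA.PS.surjective_of_approx φ.toRingHom (Ideal.span {PowerSeries.X}) (maximalIdeal A) ?_ ?_ ?_
    · intro y hy
      obtain ⟨c, rfl⟩ := Ideal.mem_span_singleton.mp hy
      show φ (PowerSeries.X * c) ∈ _
      rw [map_mul, hφX]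
      exact Ideal.mul_mem_right _ _ hxm
    · intro s
      obtain ⟨c, hc⟩ := hK (residue A s)
      refine ⟨algebraMap K (PowerSeries K) c, ?_⟩
      show φ (algebraMap K (PowerSeries K) c) - s ∈ _
      rw [AlgHom.commutes, ← residue_eq_zero_iff, map_sub]
      exact sub_eq_zero.mpr hc
    · intro s hs
      rw [hx] at hs
      obtain ⟨t, rfl⟩ := Ideal.mem_span_singleton.mp hs
      obtain ⟨c, hc⟩ := hK (residue A t)
      refine ⟨PowerSeries.X * algebraMap K (PowerSeries K) c,
        Ideal.mem_span_singleton.mpr (dvd_mul_right _ _), ?_⟩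
      show φ (PowerSeries.X * algebraMap K (PowerSeries K) c) - x * t ∈ _
      rw [map_mul, hφX, AlgHom.commutes, ← mul_sub, pow_two]
      refine Ideal.mul_mem_mul hxm ?_
      rw [← residue_eq_zero_iff, map_sub]
      exact sub_eq_zero.mpr hc
  · intro f n
    have hd : PowerSeries.X ^ n ∣
        f - ∑ i ∈ Finset.range n, PowerSeries.C (PowerSeries.coeff i f) * PowerSeries.X ^ i := by
      rw [PowerSeries.X_pow_dvd_iff]
      intro m hm
      simp [map_sum, PowerSeries.coeff_X_pow, hm]
    obtain ⟨c, hc⟩ := hd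
    have h1 := congrArg φ hc
    simp only [map_sub, map_sum, map_mul, map_pow, hφX, ← PowerSeries.algebraMap_eq, AlgHom.commutes] at h1
    rw [h1]
    exact Ideal.mul_mem_right _ _ (Ideal.pow_mem_pow hxm n)

end Groth.Agent.H3CAlg.CoeffField
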