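import Groth.Agent.H3CAlg.PruferCoherent
import Mathlib

/-!
# Finitely presented modules over coherent rings; finite type flat algebras over Prüfer domains
-/

set_option autoImplicit false
set_option linter.style.haveILetI false
universe u

namespace Groth.Agent.H3CAlg.CohRing

variable {B : Type u} [CommRing B] (hB : ∀ I : Ideal B, I.FG → Module.FinitePresentation B I)

include hB

theorem fg_ker_free : ∀ (m : ℕ) {F : Type u} [AddCommGroup F] [Module B F] [Module.Finite B F]
    (f : F →ₗ[B] (Fin m → B)), (LinearMap.ker f).FG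
  | 0, F, _, _, _, f => by
    rw [show LinearMap.ker f = ⊤ from eq_top_iff.2 fun x _ => Subsingleton.elim _ _]
    exact Module.Finite.fg_top
  | m + 1, F, _, _, _, f => by
    let g : F →ₗ[B] B := (LinearMap.proj (Fin.last m)).comp f
    haveI := hB (LinearMap.range g) (Submodule.fg_range g)
    have hg : (LinearMap.ker g).FG := by
      rw [← LinearMap.ker_rangeRestrict]
      exact Module.FinitePresentation.fg_ker _ g.surjective_rangeRestrict
    haveI : Module.Finite B (LinearMap.ker g) := Module.Finite.iff_fg.2 hg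
    obtain ⟨l, p, hp⟩ := Module.Finite.exists_fin' B (LinearMap.ker g)
    let h : (Fin l → B) →ₗ[B] F := (LinearMap.ker g).subtype.comp p
    have := fg_ker_free m ((LinearMap.funLeft B B Fin.castSucc).comp (f.comp h))
    convert this.map h
    refine le_antisymm (fun x hx => ?_) ?_
    · obtain ⟨c, hc⟩ := hp ⟨x, by show f x (Fin.last m) = 0; rw [LinearMap.mem_ker.1 hx]; rfl⟩
      refine ⟨c, ?_, by show ((p c : LinearMap.ker g) : F) = x; rw [hc]⟩
      show (fun j => f (p c).1 (Fin.castSucc j)) = 0
      funext j
      rw [hc, LinearMap.mem_ker.1 hx]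
      rfl
    · rintro _ ⟨c, hc, rfl⟩
      rw [LinearMap.mem_ker]
      funext j
      induction j using Fin.lastCases with
      | last => exact (p c).2
      | cast j => exact congrFun (LinearMap.mem_ker.1 hc) j

theorem fg_ker {M N : Type u} [AddCommGroup M] [Module B M] [Module.Finite B M] [AddCommGroup N] [Module B N]
    [Module.FinitePresentation B N] (φ : M →ₗ[B] N) : (LinearMap.ker φ).FG := by
  obtain ⟨n, q, hq⟩ := Module.Finite.exists_fin' B N
  haveI : Module.Finite B (LinearMap.ker q) := Module.Finite.iff_fg.2 (Module.FinitePresentation.fg_ker q hq)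
  obtain ⟨a, r, hr⟩ := Module.Finite.exists_fin' B (LinearMap.ker q)
  obtain ⟨k, s, hs⟩ := Module.Finite.exists_fin' B M
  obtain ⟨t, ht⟩ := Module.projective_lifting_property q (φ.comp s) hq
  have h := fg_ker_free hB n (t.coprod ((LinearMap.ker q).subtype.comp r))
  convert h.map (s.comp (LinearMap.fst B (Fin k → B) (Fin a → B)))
  refine le_antisymm (fun x hx => ?_) ?_
  · obtain ⟨c, rfl⟩ := hs x
    obtain ⟨v, hv⟩ := hr ⟨-t c, by
      rw [LinearMap.mem_ker, map_neg, ← LinearMap.comp_apply q t, ht, LinearMap.comp_apply,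
        LinearMap.mem_ker.1 hx, neg_zero]⟩
    refine ⟨(c, v), ?_, rfl⟩
    rw [SetLike.mem_coe, LinearMap.mem_ker, LinearMap.coprod_apply, LinearMap.comp_apply, hv]
    exact add_neg_cancel _
  · rintro _ ⟨⟨c, v⟩, hcv, rfl⟩
    rw [SetLike.mem_coe, LinearMap.mem_ker, LinearMap.coprod_apply] at hcv
    rw [LinearMap.mem_ker]
    show φ (s c) = 0
    have := congrArg q hcv
    rw [map_add, map_zero, ← LinearMap.comp_apply q t, ht] at this
    have h2 : q (((LinearMap.ker q).subtype.comp r) v) = 0 := (r v).2
    rw [h2, add_zero] at this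
    exact this

theorem finitePresentation_ker {M N : Type u} [AddCommGroup M] [Module B M] [Module.FinitePresentation B M]
    [AddCommGroup N] [Module B N] [Module.FinitePresentation B N] (φ : M →ₗ[B] N) :
    Module.FinitePresentation B (LinearMap.ker φ) := by
  haveI : Module.Finite B (LinearMap.ker φ) := Module.Finite.iff_fg.2 (fg_ker hB φ)
  obtain ⟨j, p, hp⟩ := Module.Finite.exists_fin' B (LinearMap.ker φ)
  refine Module.finitePresentation_of_surjective p hp ?_
  have h := fg_ker hB ((LinearMap.ker φ).subtype.comp p)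
  rwa [LinearMap.ker_comp_of_ker_eq_bot _ (Submodule.ker_subtype _)] at h

omit hB

open MvPolynomial in
/-- Flat algebras of finite type over a Prüfer domain are of finite presentation. -/
theorem algebra_fp_of_flat {R : Type u} [CommRing R] [IsDomain R]
    (hR : ∀ (p : Ideal R) [p.IsPrime], ValuationRing (Localization.AtPrime p))
    (S : Type u) [CommRing S] [Algebra R S] [Algebra.FiniteType R S] [Module.Flat R S] :
    Algebra.FinitePresentation R S := by
  classical
  obtain ⟨n, φ, hφ⟩ := Algebra.FiniteType.iff_quotient_mvPolynomial''.mp ‹Algebra.FiniteType R S›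
  let P := MvPolynomial (Fin n) R
  letI : Algebra P S := φ.toRingHom.toAlgebra
  haveI : IsScalarTower R P S := IsScalarTower.of_algebraMap_eq fun r => (φ.commutes r).symm
  let π : (Fin 1 → P) →ₗ[P] S := (Algebra.linearMap P S).comp (LinearMap.proj 0)
  have hπ : Function.Surjective π := fun x => by
    obtain ⟨y, hy⟩ := hφ x
    exact ⟨fun _ => y, hy⟩
  let s : Finset (PrimeSpectrum R) := {⟨⊥, Ideal.isPrime_bot⟩}
  have hs : Function.Injective fun r : R => fun p : s => algebraMap R (Localization.AtPrime p.1.asIdeal) r := by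
    intro a b h
    exact IsLocalization.injective (Localization.AtPrime (⊥ : Ideal R)) ((⊥ : Ideal R).primeCompl_le_nonZeroDivisors)
      (congrFun h ⟨⟨⊥, Ideal.isPrime_bot⟩, Finset.mem_singleton_self _⟩)
  haveI : Module.IsTorsionFree R S := inferInstance
  have hker : (LinearMap.ker π).FG := by
    refine H1CAlg.FlatFiniteType.ker_fg π hπ s hs fun p _ => ?_
    refine PruferCoherent.exists_local_fg hR _ (fun c v hc hv => ?_) p
    rw [LinearMap.mem_ker] at hv ⊢
    rw [LinearMap.map_smul_of_tower] at hv
    exact (smul_eq_zero.mp hv).resolve_left hc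
  refine Algebra.FinitePresentation.of_surjective (f := φ) hφ ?_
  have h := hker.map (LinearMap.proj 0 : (Fin 1 → P) →ₗ[P] P)
  have heq : (LinearMap.ker π).map (LinearMap.proj 0 : (Fin 1 → P) →ₗ[P] P) = RingHom.ker φ.toRingHom := by
    ext x
    constructor
    · rintro ⟨v, hv, rfl⟩
      exact hv
    · intro hx
      exact ⟨fun _ => x, hx, rfl⟩
  exact heq ▸ h

end Groth.Agent.H3CAlg.CohRing
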