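import Groth.Agent.H3CAlg.CohRing
import Groth.Agent.H17.FPExt.Closure
import Groth.Agent.H10Coh.FinType2
import Groth.Agent.H10Coh.AffinePush
import Mathlib

/-!
# Finitely presented modules on schemes locally of finite presentation over Prüfer domains
-/

set_option autoImplicit false
set_option linter.style.haveILetI false
universe u

open CategoryTheory CategoryTheory.Limits AlgebraicGeometry Opposite TopologicalSpace

namespace Groth.Agent.H3CAlg.CohScheme

open H17.FPExt

variable {X : Scheme.{u}}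

/-- All rings of sections over affine opens are coherent. -/
def IsCohSp (X : Scheme.{u}) : Prop :=
  ∀ V : X.Opens, IsAffineOpen V → ∀ I : Ideal Γ(X, V), I.FG → Module.FinitePresentation Γ(X, V) I

variable {R : Type u} [CommRing R] [IsDomain R] (q : X ⟶ Spec (CommRingCat.of R))

theorem finitePresentation_appLE [LocallyOfFinitePresentation q] {V : X.Opens} (hV : IsAffineOpen V) :
    ((q.appLE ⊤ V le_top).hom.comp (Scheme.ΓSpecIso (CommRingCat.of R)).inv.hom).FinitePresentation :=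
  (q.finitePresentation_appLE (isAffineOpen_top _) hV le_top).comp
    (RingHom.FinitePresentation.of_bijective
      (ConcreteCategory.bijective_of_isIso (Scheme.ΓSpecIso (CommRingCat.of R)).inv))

theorem isCohSp (hR : ∀ (p : Ideal R) [p.IsPrime], ValuationRing (Localization.AtPrime p))
    [LocallyOfFinitePresentation q] : IsCohSp X := by
  intro V hV I hI
  letI : Algebra R Γ(X, V) := ((q.appLE ⊤ V le_top).hom.comp (Scheme.ΓSpecIso (CommRingCat.of R)).inv.hom).toAlgebra
  haveI : Algebra.FinitePresentation R Γ(X, V) := finitePresentation_appLE q hV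
  exact PruferCoherent.finitePresentation_ideal hR Γ(X, V) I hI

theorem isFP_kernel (hX : IsCohSp X) {P Q : X.Modules} (φ : P ⟶ Q) (hP : CohB1.IsFP P) (hQ : CohB1.IsFP Q) :
    CohB1.IsFP (kernel φ) := by
  haveI : P.IsQuasicoherent := H29Fitt.isQCoh_of_isFP P hP
  haveI : Q.IsQuasicoherent := H29Fitt.isQCoh_of_isFP Q hQ
  haveI := H10Coh.isQuasicoherent_kernel φ
  refine isFP_of_fpAt _ (inferInstanceAs (kernel φ).IsQuasicoherent) fun V hV => ?_
  haveI : Module.FinitePresentation Γ(X, V) Γ(P, V) := fpAt_of_isFP hP hV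
  haveI : Module.FinitePresentation Γ(X, V) Γ(Q, V) := fpAt_of_isFP hQ hV
  haveI := CohRing.finitePresentation_ker (hX V hV) (appLin' φ V)
  let g : Γ(kernel φ, V) →ₗ[Γ(X, V)] LinearMap.ker (appLin' φ V) :=
    (appLin' (kernel.ι φ) V).codRestrict _ fun s => congr($(congr(Scheme.Modules.Hom.app $(kernel.condition φ) V)) s)
  have hinj : Function.Injective g := fun a b h =>
    H10Coh.injective_app_of_mono' (kernel.ι φ) V (congrArg Subtype.val h)
  have hsurj : Function.Surjective g := fun t => by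
    obtain ⟨s, hs⟩ := exists_kernel_preimage φ V t.1 t.2
    exact ⟨s, Subtype.ext hs⟩
  exact Module.finitePresentation_of_surjective (LinearEquiv.ofBijective g ⟨hinj, hsurj⟩).symm.toLinearMap
    (LinearEquiv.ofBijective g ⟨hinj, hsurj⟩).symm.surjective (by rw [LinearEquiv.ker]; exact Submodule.fg_bot)

theorem isFP_sigma {r : ℕ} (M : Fin r → X.Modules) (hM : ∀ i, CohB1.IsFP (M i)) : CohB1.IsFP (∐ M) := by
  have hq : (∐ fun i : ULift.{u} (Fin r) => M i.down).IsQuasicoherent :=
    H10Coh.isQuasicoherent_coproduct (fun i : ULift.{u} (Fin r) => M i.down) fun i =>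
      H29Fitt.isQCoh_of_isFP _ (hM i.down)
  let e : (∐ fun i : ULift.{u} (Fin r) => M i.down) ≅ ∐ M :=
    Sigma.whiskerEquiv Equiv.ulift fun i => Iso.refl _
  have hq' : (∐ M).IsQuasicoherent :=
    ((SheafOfModules.isQuasicoherent X.ringCatSheaf).prop_of_iso e hq :)
  refine isFP_of_fpAt _ hq' fun U hU => ?_
  haveI : ∀ i, Module.FinitePresentation Γ(X, U) Γ(M i, U) := fun i => fpAt_of_isFP (hM i) hU
  let p : Γ(∐ M, U) →ₗ[Γ(X, U)] ∀ i, Γ(M i, U) :=
    LinearMap.pi fun i => appLin' ((biproduct.isoCoproduct M).inv ≫ biproduct.π M i) U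
  let s : (∀ i, Γ(M i, U)) →ₗ[Γ(X, U)] Γ(∐ M, U) := ∑ i, (appLin' (Sigma.ι M i) U).comp (LinearMap.proj i)
  have hid : ∀ x, s (p x) = x := fun x => by
    rw [LinearMap.sum_apply]
    have h : ∑ i, (biproduct.isoCoproduct M).inv ≫ biproduct.π M i ≫ Sigma.ι M i = 𝟙 (∐ M) := by
      have hι : ∀ i, Sigma.ι M i = biproduct.ι M i ≫ (biproduct.isoCoproduct M).hom := fun i => by
        rw [biproduct.isoCoproduct_hom, biproduct.ι_desc]
      simp only [hι, ← Category.assoc (biproduct.π M _)]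
      rw [← Preadditive.comp_sum, ← Preadditive.sum_comp, biproduct.total, Category.id_comp, Iso.inv_hom_id]
    exact (H10Coh.app_sum_apply (fun i => (biproduct.isoCoproduct M).inv ≫ biproduct.π M i ≫ Sigma.ι M i) U x).symm.trans
      (congrArg (fun k : (∐ M) ⟶ (∐ M) => k.app U x) h)
  refine Module.finitePresentation_of_surjective s (fun x => ⟨p x, hid x⟩) ?_
  rw [show LinearMap.ker s = LinearMap.range (LinearMap.id - p.comp s) from le_antisymm
    (fun z hz => ⟨z, by rw [LinearMap.sub_apply, LinearMap.id_apply, LinearMap.comp_apply, LinearMap.mem_ker.1 hz, map_zero, sub_zero]⟩)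
    (by rintro _ ⟨z, rfl⟩; rw [LinearMap.mem_ker, LinearMap.sub_apply, LinearMap.id_apply, LinearMap.comp_apply, map_sub, hid, sub_self])]
  exact Submodule.fg_range _

/-- Direct images of finitely presented modules under closed immersions flat over a Prüfer domain. -/
theorem isFP_push (hR : ∀ (p : Ideal R) [p.IsPrime], ValuationRing (Localization.AtPrime p))
    [LocallyOfFinitePresentation q] {Z : Scheme.{u}} (ι : Z ⟶ X) [IsClosedImmersion ι] [Flat (ι ≫ q)]
    (F : Z.Modules) (hF : CohB1.IsFP F) : CohB1.IsFP ((Coh.push ι).obj F) := by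
  haveI : F.IsQuasicoherent := H29Fitt.isQCoh_of_isFP F hF
  have hq : Coh.IsQCoh ((Coh.push ι).obj F) := H10Coh.isQuasicoherent_pushforward_of_isAffineHom ι F
  refine isFP_of_fpAt _ hq fun V hV => ?_
  have hW : IsAffineOpen (ι ⁻¹ᵁ V) := hV.preimage ι
  let a : R →+* Γ(X, V) := (q.appLE ⊤ V le_top).hom.comp (Scheme.ΓSpecIso (CommRingCat.of R)).inv.hom
  let b : Γ(X, V) →+* Γ(Z, ι ⁻¹ᵁ V) := (ι.app V).hom
  have ha : a.FinitePresentation := finitePresentation_appLE q hV
  have hb : Function.Surjective b := ι.app_surjective V hV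
  have hc : b.comp a = ((ι ≫ q).appLE ⊤ (ι ⁻¹ᵁ V) le_top).hom.comp
      (Scheme.ΓSpecIso (CommRingCat.of R)).inv.hom := by
    rw [← RingHom.comp_assoc]
    congr 1
    have : q.appLE ⊤ V le_top ≫ ι.app V = (ι ≫ q).appLE ⊤ (ι ⁻¹ᵁ V) le_top := by
      rw [Scheme.Hom.app_eq_appLE]
      exact Scheme.Hom.appLE_comp_appLE ι q _ _ _ _ _
    exact congrArg CommRingCat.Hom.hom this
  have hflat : (b.comp a).Flat := by
    rw [hc]
    exact (RingHom.Flat.of_bijective
      (ConcreteCategory.bijective_of_isIso (Scheme.ΓSpecIso (CommRingCat.of R)).inv)).comp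
      ((ι ≫ q).flat_appLE (isAffineOpen_top _) hW le_top)
  have hft : (b.comp a).FiniteType := (RingHom.FiniteType.of_surjective b hb).comp (RingHom.FiniteType.of_finitePresentation ha)
  have hfp : (b.comp a).FinitePresentation := by
    letI : Algebra R Γ(Z, ι ⁻¹ᵁ V) := (b.comp a).toAlgebra
    haveI : Algebra.FiniteType R Γ(Z, ι ⁻¹ᵁ V) := hft
    haveI : Module.Flat R Γ(Z, ι ⁻¹ᵁ V) := hflat
    exact CohRing.algebra_fp_of_flat hR Γ(Z, ι ⁻¹ᵁ V)
  have hbfp : b.FinitePresentation := RingHom.FinitePresentation.of_comp_finiteType a hfp (RingHom.FiniteType.of_finitePresentation ha)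
  letI : Algebra Γ(X, V) Γ(Z, ι ⁻¹ᵁ V) := b.toAlgebra
  haveI : Module.Finite Γ(X, V) Γ(Z, ι ⁻¹ᵁ V) := RingHom.Finite.of_surjective b hb
  haveI : Algebra.FinitePresentation Γ(X, V) Γ(Z, ι ⁻¹ᵁ V) := hbfp
  haveI : Module.FinitePresentation Γ(X, V) Γ(Z, ι ⁻¹ᵁ V) :=
    Module.FinitePresentation.of_finite_of_finitePresentation _ _
  haveI : Module.FinitePresentation Γ(Z, ι ⁻¹ᵁ V) Γ(F, ι ⁻¹ᵁ V) := fpAt_of_isFP hF hW
  letI : Module Γ(X, V) Γ(F, ι ⁻¹ᵁ V) := Module.compHom _ b
  haveI : IsScalarTower Γ(X, V) Γ(Z, ι ⁻¹ᵁ V) Γ(F, ι ⁻¹ᵁ V) := IsScalarTower.of_algebraMap_smul fun _ _ => rfl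
  exact Module.FinitePresentation.trans Γ(X, V) Γ(F, ι ⁻¹ᵁ V) Γ(Z, ι ⁻¹ᵁ V)

end Groth.Agent.H3CAlg.CohScheme
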