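import Groth.Agent.H3CAlg.FittExtCI
import Mathlib

/-!
# Completed differentials of a complete algebra topologically of finite type
-/

set_option autoImplicit false
universe u

open TensorProduct MvPolynomial

namespace Groth.Agent.H3CAlg.CompletedKaehler

theorem mem_pow_smul_iff {B : Type u} [CommRing B] {M : Type u} [AddCommGroup M] [Module B M] (t : B)
    (n : ℕ) (x : M) :
    x ∈ (Ideal.span {t} ^ n • ⊤ : Submodule B M) ↔ ∃ y : M, t ^ n • y = x := by
  rw [Ideal.span_singleton_pow, Submodule.ideal_span_singleton_smul]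
  simp [Submodule.mem_smul_pointwise_iff_exists]

/-- A presentation of `B` modulo all powers of `t` by polynomials, with relations `a n`. -/
structure Data (V : Type u) [CommRing V] (τ : V) (B : Type u) [CommRing B] [Algebra V B] (r c : ℕ) where
  ρ : MvPolynomial (Fin r) V →ₐ[V] B
  a : ℕ → Fin c → MvPolynomial (Fin r) V
  surj : ∀ (n : ℕ) (b : B), ∃ p, algebraMap V B τ ^ n ∣ ρ p - b
  rel : ∀ n i, algebraMap V B τ ^ n ∣ ρ (a n i)
  step : ∀ n i, C τ ^ n ∣ a (n + 1) i - a n i
  ker : ∀ n p, algebraMap V B τ ^ n ∣ ρ p →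
    p ∈ Ideal.span (Set.range (a n)) ⊔ Ideal.span {C τ ^ n}

namespace Data

variable {V : Type u} [CommRing V] {τ : V} {B : Type u} [CommRing B] [Algebra V B] {r c : ℕ}
  (D : Data V τ B r c)

/-- The gradient of a polynomial, evaluated in `B`. -/
noncomputable def grad (p : MvPolynomial (Fin r) V) : Fin r → B := fun j => D.ρ (pderiv j p)

/-- The map `eⱼ ↦ d xⱼ`. -/
noncomputable def dx : (Fin r → B) →ₗ[B] Ω[B⁄V] :=
  Fintype.linearCombination B fun j => KaehlerDifferential.D V B (D.ρ (X j))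

theorem dx_grad (p : MvPolynomial (Fin r) V) : D.dx (D.grad p) = KaehlerDifferential.D V B (D.ρ p) := by
  induction p using MvPolynomial.induction_on with
  | C v =>
    have h : D.grad (C v) = 0 := funext fun j => by simp [grad]
    rw [h, map_zero, ← MvPolynomial.algebraMap_eq, AlgHom.commutes, Derivation.map_algebraMap]
  | add p q hp hq =>
    have h : D.grad (p + q) = D.grad p + D.grad q := funext fun j => by simp [grad]
    rw [h, map_add, hp, hq, map_add, map_add]
  | mul_X p l hp =>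
    have h : D.grad (p * X l) = D.ρ (X l) • D.grad p + D.ρ p • (Pi.single l 1 : Fin r → B) := by
      funext j
      simp only [grad, pderiv_mul, pderiv_X, map_add, map_mul, Pi.add_apply, Pi.smul_apply, smul_eq_mul,
        Pi.single_apply]
      rcases eq_or_ne j l with h' | h'
      · subst h'; simp [mul_comm]
      · simp [h', Ne.symm h', mul_comm]
    rw [h, map_add, map_smul, map_smul, hp, map_mul, Derivation.leibniz, dx,
      Fintype.linearCombination_apply_single, one_smul, add_comm]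

theorem dvd_grad {n : ℕ} {p : MvPolynomial (Fin r) V} (h : C τ ^ n ∣ p) (j : Fin r) :
    algebraMap V B τ ^ n ∣ D.grad p j := by
  obtain ⟨q, rfl⟩ := h
  refine ⟨D.ρ (pderiv j q), ?_⟩
  rw [grad, ← map_pow, pderiv_C_mul, map_mul, ← MvPolynomial.algebraMap_eq, AlgHom.commutes, map_pow]

theorem exists_lim [IsAdicComplete (Ideal.span {algebraMap V B τ}) B] (i : Fin c) (j : Fin r) :
    ∃ L : B, ∀ n, algebraMap V B τ ^ n ∣ D.grad (D.a n i) j - L := by
  have hstep : ∀ n, algebraMap V B τ ^ n ∣ D.grad (D.a (n + 1) i) j - D.grad (D.a n i) j := fun n => by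
    have := D.dvd_grad (D.step n i) j
    simpa [grad] using this
  have hle : ∀ m n, m ≤ n → algebraMap V B τ ^ m ∣ D.grad (D.a m i) j - D.grad (D.a n i) j := by
    intro m n h
    induction n, h using Nat.le_induction with
    | base => simp
    | succ n hmn ih =>
      have h2 := (pow_dvd_pow _ hmn).trans (hstep n)
      have := dvd_sub ih h2
      rwa [sub_sub, add_sub_cancel] at this
  obtain ⟨L, hL⟩ := IsPrecomplete.prec (I := Ideal.span {algebraMap V B τ}) (M := B) inferInstance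
    (f := fun n => D.grad (D.a n i) j) (fun {m n} h => by
      rw [SModEq.sub_mem, mem_pow_smul_iff]
      obtain ⟨y, hy⟩ := hle m n h
      exact ⟨y, hy.symm⟩)
  refine ⟨L, fun n => ?_⟩
  obtain ⟨y, hy⟩ := (mem_pow_smul_iff _ n _).mp (SModEq.sub_mem.mp (hL n))
  exact ⟨y, hy.symm⟩

/-- The Jacobian matrix. -/
noncomputable def J [IsAdicComplete (Ideal.span {algebraMap V B τ}) B] : Fin c → Fin r → B :=
  fun i j => (D.exists_lim i j).choose

variable [IsAdicComplete (Ideal.span {algebraMap V B τ}) B]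

theorem dvd_J (n : ℕ) (i : Fin c) (j : Fin r) : algebraMap V B τ ^ n ∣ D.grad (D.a n i) j - D.J i j :=
  (D.exists_lim i j).choose_spec n

theorem mem_smul_of_dvd {n : ℕ} (w : Fin r → B) (h : ∀ j, algebraMap V B τ ^ n ∣ w j) :
    w ∈ (Ideal.span {algebraMap V B τ} ^ n • ⊤ : Submodule B (Fin r → B)) := by
  choose y hy using h
  exact (mem_pow_smul_iff _ n w).mpr ⟨y, funext fun j => (hy j).symm⟩

theorem dx_mem_smul {n : ℕ} {w : Fin r → B} (hw : w ∈ (Ideal.span {algebraMap V B τ} ^ n • ⊤ : Submodule B (Fin r → B))) :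
    D.dx w ∈ (Ideal.span {algebraMap V B τ} ^ n • ⊤ : Submodule B Ω[B⁄V]) := by
  obtain ⟨y, rfl⟩ := (mem_pow_smul_iff _ n w).mp hw
  exact (mem_pow_smul_iff _ n _).mpr ⟨D.dx y, (map_smul _ _ _).symm⟩

theorem D_mem_smul {n : ℕ} {b : B} (hb : algebraMap V B τ ^ n ∣ b) :
    KaehlerDifferential.D V B b ∈ (Ideal.span {algebraMap V B τ} ^ n • ⊤ : Submodule B Ω[B⁄V]) := by
  obtain ⟨y, rfl⟩ := hb
  refine (mem_pow_smul_iff _ n _).mpr ⟨KaehlerDifferential.D V B y, ?_⟩
  rw [← map_pow, ← Algebra.smul_def, Derivation.map_smul, algebraMap_smul]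

theorem dx_J_mem (n : ℕ) (i : Fin c) :
    D.dx (D.J i) ∈ (Ideal.span {algebraMap V B τ} ^ n • ⊤ : Submodule B Ω[B⁄V]) := by
  have h1 := D.dx_mem_smul (mem_smul_of_dvd (D.grad (D.a n i) - D.J i) (D.dvd_J n i))
  have h2 := D_mem_smul (D.rel n i)
  rw [map_sub, D.dx_grad] at h1
  simpa using Submodule.sub_mem _ h2 h1

theorem exists_dx_sub_mem (n : ℕ) (ω : Ω[B⁄V]) :
    ∃ w, D.dx w - ω ∈ (Ideal.span {algebraMap V B τ} ^ n • ⊤ : Submodule B Ω[B⁄V]) := by
  have hω : ω ∈ Submodule.span B (Set.range (KaehlerDifferential.D V B)) := by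
    rw [KaehlerDifferential.span_range_derivation]; trivial
  induction hω using Submodule.span_induction with
  | mem x hx =>
    obtain ⟨b, rfl⟩ := hx
    obtain ⟨p, hp⟩ := D.surj n b
    refine ⟨D.grad p, ?_⟩
    rw [D.dx_grad, ← map_sub]
    exact D_mem_smul hp
  | zero => exact ⟨0, by simp⟩
  | add x y _ _ hx hy =>
    obtain ⟨v, hv⟩ := hx
    obtain ⟨w, hw⟩ := hy
    refine ⟨v + w, ?_⟩
    rw [map_add, add_sub_add_comm]
    exact Submodule.add_mem _ hv hw
  | smul b x _ hx =>
    obtain ⟨v, hv⟩ := hx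
    refine ⟨b • v, ?_⟩
    rw [map_smul, ← smul_sub]
    exact Submodule.smul_mem _ _ hv

section Level

variable (n : ℕ)

/-- `eⱼ ↦ d xⱼ` over `B/tⁿ`. -/
noncomputable def dxₙ : (Fin r → B ⧸ Ideal.span {algebraMap V B τ ^ n}) →ₗ[B ⧸ Ideal.span {algebraMap V B τ ^ n}]
    Ω[(B ⧸ Ideal.span {algebraMap V B τ ^ n})⁄V] :=
  Fintype.linearCombination _ fun j => KaehlerDifferential.D V _ (Ideal.Quotient.mk _ (D.ρ (X j)))

/-- The Jacobian over `B/tⁿ`. -/
noncomputable def Jₙ : Fin c → Fin r → B ⧸ Ideal.span {algebraMap V B τ ^ n} :=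
  fun i j => Ideal.Quotient.mk _ (D.J i j)

theorem map_dx (w : Fin r → B) :
    KaehlerDifferential.map V V B (B ⧸ Ideal.span {algebraMap V B τ ^ n}) (D.dx w) =
      D.dxₙ n (fun j => Ideal.Quotient.mk _ (w j)) := by
  simp only [dx, dxₙ, Fintype.linearCombination_apply, map_sum, map_smul, KaehlerDifferential.map_D]
  refine Finset.sum_congr rfl fun j _ => ?_
  exact (algebra_compatible_smul (B ⧸ Ideal.span {algebraMap V B τ ^ n}) (w j) _)

theorem map_smul_eq_zero {ω : Ω[B⁄V]}
    (hω : ω ∈ (Ideal.span {algebraMap V B τ} ^ n • ⊤ : Submodule B Ω[B⁄V])) :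
    KaehlerDifferential.map V V B (B ⧸ Ideal.span {algebraMap V B τ ^ n}) ω = 0 := by
  obtain ⟨y, rfl⟩ := (mem_pow_smul_iff _ n ω).mp hω
  rw [map_smul, algebra_compatible_smul (B ⧸ Ideal.span {algebraMap V B τ ^ n}) (algebraMap V B τ ^ n)]
  rw [show algebraMap B (B ⧸ Ideal.span {algebraMap V B τ ^ n}) (algebraMap V B τ ^ n) = 0 from
    Ideal.Quotient.eq_zero_iff_mem.mpr (Ideal.mem_span_singleton_self _), zero_smul]

theorem dxₙ_surjective : Function.Surjective (D.dxₙ n) := by
  intro ω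
  have hsurj : Function.Surjective (KaehlerDifferential.map V V B (B ⧸ Ideal.span {algebraMap V B τ ^ n})) :=
    KaehlerDifferential.map_surjective_of_surjective _ _ _ _ Ideal.Quotient.mk_surjective
  obtain ⟨ω, rfl⟩ := hsurj ω
  obtain ⟨w, hw⟩ := D.exists_dx_sub_mem n ω
  refine ⟨fun j => Ideal.Quotient.mk _ (w j), ?_⟩
  rw [← D.map_dx]
  exact sub_eq_zero.mp (by rw [← map_sub]; exact map_smul_eq_zero n hw)

theorem ker_dxₙ : LinearMap.ker (D.dxₙ n) = Submodule.span _ (Set.range (D.Jₙ n)) := by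
  classical
  let Bn := B ⧸ Ideal.span {algebraMap V B τ ^ n}
  let P := MvPolynomial (Fin r) V
  letI : Algebra P Bn := ((Ideal.Quotient.mkₐ V _).comp D.ρ).toRingHom.toAlgebra
  haveI : IsScalarTower V P Bn := IsScalarTower.of_algebraMap_eq fun v =>
    (((Ideal.Quotient.mkₐ V _).comp D.ρ).commutes v).symm
  have halg : ∀ p, algebraMap P Bn p = Ideal.Quotient.mk _ (D.ρ p) := fun _ => rfl
  have hsurj : Function.Surjective (algebraMap P Bn) := by
    intro b
    obtain ⟨b, rfl⟩ := Ideal.Quotient.mk_surjective b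
    obtain ⟨p, hp⟩ := D.surj n b
    exact ⟨p, (Ideal.Quotient.eq).mpr (Ideal.mem_span_singleton.mpr hp)⟩
  let bB : Module.Basis (Fin r) Bn (Bn ⊗[P] Ω[P⁄V]) :=
    (KaehlerDifferential.mvPolynomialBasis V (Fin r)).baseChange Bn
  have hrepr : ∀ p, bB.equivFun (1 ⊗ₜ KaehlerDifferential.D V P p) = fun j => Ideal.Quotient.mk _ (D.grad p j) := by
    intro p
    funext j
    simp only [bB, Module.Basis.equivFun_apply]
    erw [Module.Basis.baseChange_repr_tmul, KaehlerDifferential.mvPolynomialBasis_repr_apply]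
    rw [Algebra.smul_def, mul_one, halg]
    rfl
  have hcomp : ∀ v, D.dxₙ n (bB.equivFun v) = KaehlerDifferential.mapBaseChange V P Bn v := by
    intro v
    suffices h : D.dxₙ n ∘ₗ bB.equivFun.toLinearMap = KaehlerDifferential.mapBaseChange V P Bn from
      LinearMap.congr_fun h v
    refine bB.ext fun j => ?_
    rw [LinearMap.comp_apply, LinearEquiv.coe_coe, show bB.equivFun (bB j) = Pi.single j 1 from
      funext fun l => by simp [Module.Basis.equivFun_apply, Finsupp.single_apply, Pi.single_apply, eq_comm]]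
    simp only [bB, Module.Basis.baseChange_apply, KaehlerDifferential.mvPolynomialBasis_apply,
      KaehlerDifferential.mapBaseChange_tmul, KaehlerDifferential.map_D, one_smul, dxₙ,
      Fintype.linearCombination_apply_single]
    erw [KaehlerDifferential.mapBaseChange_tmul, KaehlerDifferential.map_D, one_smul]
    rw [halg]
  have hJ : ∀ i, D.Jₙ n i = fun j => Ideal.Quotient.mk _ (D.grad (D.a n i) j) := fun i => funext fun j =>
    (Ideal.Quotient.eq.mpr (Ideal.mem_span_singleton.mpr (by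
      have := D.dvd_J n i j
      rwa [dvd_sub_comm] at this)))
  refine le_antisymm (fun v hv => ?_) (Submodule.span_le.mpr ?_)
  · obtain ⟨v, rfl⟩ := bB.equivFun.surjective v
    rw [LinearMap.mem_ker, hcomp] at hv
    obtain ⟨z, rfl⟩ := (KaehlerDifferential.exact_kerCotangentToTensor_mapBaseChange V P Bn hsurj v).mp hv
    obtain ⟨⟨x, hx⟩, rfl⟩ := Ideal.toCotangent_surjective _ z
    rw [KaehlerDifferential.kerCotangentToTensor_toCotangent, hrepr]
    obtain ⟨y, hy, z, hz, rfl⟩ := Submodule.mem_sup.mp (D.ker n x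
      (Ideal.mem_span_singleton.mp (Ideal.Quotient.eq_zero_iff_mem.mp (hx : algebraMap P Bn x = 0))))
    obtain ⟨s, rfl⟩ := (Submodule.mem_span_range_iff_exists_fun P).mp hy
    have hz' : ∀ j, Ideal.Quotient.mk (Ideal.span {algebraMap V B τ ^ n}) (D.grad z j) = 0 := fun j =>
      Ideal.Quotient.eq_zero_iff_mem.mpr (Ideal.mem_span_singleton.mpr
        (D.dvd_grad (Ideal.mem_span_singleton.mp hz) j))
    have : (fun j => Ideal.Quotient.mk (Ideal.span {algebraMap V B τ ^ n})
        (D.grad ((∑ i, s i • D.a n i) + z) j)) = ∑ i, Ideal.Quotient.mk (Ideal.span {algebraMap V B τ ^ n}) (D.ρ (s i)) • D.Jₙ n i := by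
      funext j
      simp only [grad, map_add] at hz' ⊢
      rw [hz', add_zero, map_sum, map_sum, map_sum, Finset.sum_apply]
      refine Finset.sum_congr rfl fun i _ => ?_
      rw [Pi.smul_apply, hJ, smul_eq_mul, smul_eq_mul, pderiv_mul, map_add, map_add, map_mul, map_mul,
        map_mul, map_mul, Ideal.Quotient.eq_zero_iff_mem.mpr (Ideal.mem_span_singleton.mpr (D.rel n i))]
      simp [grad]
    rw [this]
    exact Submodule.sum_mem _ fun i _ => Submodule.smul_mem _ _ (Submodule.subset_span ⟨i, rfl⟩)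
  · rintro _ ⟨i, rfl⟩
    rw [SetLike.mem_coe, LinearMap.mem_ker, hJ, ← hrepr, hcomp, KaehlerDifferential.mapBaseChange_tmul,
      KaehlerDifferential.map_D, halg,
      Ideal.Quotient.eq_zero_iff_mem.mpr (Ideal.mem_span_singleton.mpr (D.rel n i)), map_zero, smul_zero]

end Level

theorem mem_sup_of_dx_mem {n : ℕ} {w : Fin r → B}
    (hw : D.dx w ∈ (Ideal.span {algebraMap V B τ} ^ n • ⊤ : Submodule B Ω[B⁄V])) :
    w ∈ Submodule.span B (Set.range D.J) ⊔ (Ideal.span {algebraMap V B τ} ^ n • ⊤ : Submodule B (Fin r → B)) := by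
  have h : (fun j => Ideal.Quotient.mk (Ideal.span {algebraMap V B τ ^ n}) (w j)) ∈
      Submodule.span (B ⧸ Ideal.span {algebraMap V B τ ^ n}) (Set.range (D.Jₙ n)) := by
    rw [← D.ker_dxₙ, LinearMap.mem_ker, ← D.map_dx]
    exact map_smul_eq_zero n hw
  obtain ⟨s, hs⟩ := (Submodule.mem_span_range_iff_exists_fun _).mp h
  choose s' hs' using fun i => Ideal.Quotient.mk_surjective (s i)
  refine Submodule.mem_sup.mpr ⟨∑ i, s' i • D.J i, Submodule.sum_mem _ fun i _ =>
    Submodule.smul_mem _ _ (Submodule.subset_span ⟨i, rfl⟩), w - ∑ i, s' i • D.J i, ?_, add_sub_cancel _ _⟩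
  refine mem_smul_of_dvd _ fun j => Ideal.mem_span_singleton.mp (Ideal.Quotient.eq_zero_iff_mem.mp ?_)
  have := congrFun hs j
  simp only [Finset.sum_apply, Pi.smul_apply, smul_eq_mul, Jₙ, ← hs', ← map_mul, ← map_sum] at this
  simp only [Pi.sub_apply, Finset.sum_apply, Pi.smul_apply, smul_eq_mul, map_sub, this, sub_self]

/-- `eⱼ ↦ d xⱼ` into the completed differentials. -/
noncomputable def π : (Fin r → B) →ₗ[B] AdicCompletion (Ideal.span {algebraMap V B τ}) Ω[B⁄V] :=
  AdicCompletion.of _ _ ∘ₗ D.dx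

theorem ker_π [IsNoetherianRing B] : LinearMap.ker D.π = Submodule.span B (Set.range D.J) := by
  refine le_antisymm (fun w hw => ?_) (Submodule.span_le.mpr ?_)
  · haveI : IsHausdorff (Ideal.span {algebraMap V B τ}) ((Fin r → B) ⧸ Submodule.span B (Set.range D.J)) :=
      IsHausdorff.of_le_jacobson _ _ (IsAdicComplete.le_jacobson_bot _)
    rw [← Submodule.Quotient.mk_eq_zero]
    refine IsHausdorff.haus' (I := Ideal.span {algebraMap V B τ}) _ fun n => ?_
    rw [SModEq.zero]
    have hn := congrArg (AdicCompletion.eval _ _ n) (LinearMap.mem_ker.mp hw)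
    simp only [π, LinearMap.comp_apply, AdicCompletion.eval_of, map_zero, Submodule.mkQ_apply,
      Submodule.Quotient.mk_eq_zero] at hn
    obtain ⟨y, hy, z, hz, rfl⟩ := Submodule.mem_sup.mp (D.mem_sup_of_dx_mem hn)
    rw [Submodule.Quotient.mk_add, (Submodule.Quotient.mk_eq_zero _).mpr hy, zero_add]
    obtain ⟨v, rfl⟩ := (mem_pow_smul_iff _ n z).mp hz
    exact (mem_pow_smul_iff _ n _).mpr ⟨Submodule.Quotient.mk v, (Submodule.Quotient.mk_smul _ _ _).symm⟩
  · rintro _ ⟨i, rfl⟩
    refine LinearMap.mem_ker.mpr (AdicCompletion.ext fun n => ?_)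
    rw [π, LinearMap.comp_apply, AdicCompletion.val_zero_apply, AdicCompletion.of_apply,
      Submodule.mkQ_apply, Submodule.Quotient.mk_eq_zero]
    exact D.dx_J_mem n i

theorem dx_span_mem (n : ℕ) {v : Fin r → B} (hv : v ∈ Submodule.span B (Set.range D.J)) :
    D.dx v ∈ (Ideal.span {algebraMap V B τ} ^ n • ⊤ : Submodule B Ω[B⁄V]) := by
  have := Submodule.mem_map_of_mem (f := D.dx) hv
  rw [Submodule.map_span] at this
  refine Submodule.span_le.mpr ?_ this
  rintro _ ⟨_, ⟨i, rfl⟩, rfl⟩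
  exact D.dx_J_mem n i

theorem π_surjective : Function.Surjective D.π := by
  intro x
  have hex : ∀ n, ∃ w, Submodule.Quotient.mk (D.dx w) = x.val n := fun n => by
    obtain ⟨ω, hω⟩ := Submodule.Quotient.mk_surjective _ (x.val n)
    obtain ⟨w, hw⟩ := D.exists_dx_sub_mem n ω
    exact ⟨w, by rw [← hω]; exact (Submodule.Quotient.eq _).mpr hw⟩
  have key : ∀ n W, Submodule.Quotient.mk (D.dx W) = x.val n →
      ∃ W', Submodule.Quotient.mk (D.dx W') = x.val (n + 1) ∧
        W' - W ∈ (Ideal.span {algebraMap V B τ} ^ n • ⊤ : Submodule B (Fin r → B)) := by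
    intro n W hW
    obtain ⟨w, hw⟩ := hex (n + 1)
    have hn : Submodule.Quotient.mk (D.dx w) = x.val n := by
      rw [← x.2 (Nat.le_add_right n 1), ← hw]
      rfl
    rw [← hn, Submodule.Quotient.eq, ← map_sub] at hW
    obtain ⟨y, hy, z, hz, hyz⟩ := Submodule.mem_sup.mp (D.mem_sup_of_dx_mem hW)
    refine ⟨w + y, ?_, ?_⟩
    · rw [← hw, Submodule.Quotient.eq, map_add, add_sub_cancel_left]
      exact D.dx_span_mem _ hy
    · have : w + y - W = -z := by linear_combination (norm := module) hyz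
      rw [this]
      exact Submodule.neg_mem _ hz
  choose nxt hnxt1 hnxt2 using key
  let W : ∀ n, {w : Fin r → B // Submodule.Quotient.mk (D.dx w) = x.val n} := fun n => Nat.rec
    ⟨(hex 0).choose, (hex 0).choose_spec⟩ (fun m p => ⟨nxt m p.1 p.2, hnxt1 m p.1 p.2⟩) n
  have hstep : ∀ n, (W (n + 1)).1 - (W n).1 ∈
      (Ideal.span {algebraMap V B τ} ^ n • ⊤ : Submodule B (Fin r → B)) := fun n =>
    hnxt2 n (W n).1 (W n).2
  have hle : ∀ m n, m ≤ n → (W m).1 - (W n).1 ∈
      (Ideal.span {algebraMap V B τ} ^ m • ⊤ : Submodule B (Fin r → B)) := by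
    intro m n h
    induction n, h using Nat.le_induction with
    | base => simp
    | succ n hmn ih =>
      have h2 := Submodule.smul_mono (Ideal.pow_le_pow_right hmn) (le_refl ⊤) (hstep n)
      have := Submodule.sub_mem _ ih h2
      rwa [sub_sub, add_sub_cancel] at this
  have hcoord : ∀ j, ∃ L : B, ∀ n, algebraMap V B τ ^ n ∣ (W n).1 j - L := fun j => by
    obtain ⟨L, hL⟩ := IsPrecomplete.prec (I := Ideal.span {algebraMap V B τ}) (M := B) inferInstance
      (f := fun n => (W n).1 j) (fun {m n} h => by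
        rw [SModEq.sub_mem, mem_pow_smul_iff]
        obtain ⟨y, hy⟩ := (mem_pow_smul_iff _ m _).mp (hle m n h)
        exact ⟨y j, congrFun hy j⟩)
    refine ⟨L, fun n => ?_⟩
    obtain ⟨y, hy⟩ := (mem_pow_smul_iff _ n _).mp (SModEq.sub_mem.mp (hL n))
    exact ⟨y, hy.symm⟩
  choose L hL using hcoord
  refine ⟨L, AdicCompletion.ext fun n => ?_⟩
  have h1 := (W n).2
  rw [π, LinearMap.comp_apply, AdicCompletion.of_apply, Submodule.mkQ_apply]
  rw [← h1]
  have h2 := D.dx_mem_smul (mem_smul_of_dvd ((W n).1 - L) fun j => hL j n)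
  rw [map_sub] at h2
  have h3 := Submodule.neg_mem _ h2
  rw [neg_sub] at h3
  exact (Submodule.Quotient.eq _).mpr h3

end Data

end Groth.Agent.H3CAlg.CompletedKaehler
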