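import Groth.Prelude.Def_Wider
import Groth.Agent.H4DR.RG.GM
import Groth.Agent.H4DR.RG.HomColim
import Groth.Agent.H4DR.LD.Applications
import Groth.Agent.H4DR.Hom.Basic
import Groth.Agent.H4DR.DComplete.Hom
import Groth.Agent.H4DR.DComplete.Adic.Orth
import Groth.Agent.H4DR.Dualizing.Criterion
import Groth.Agent.H4DR.Ext.Finite

/-!
# The amplitude of derived completion is bounded by the cohomological dimension
-/

set_option autoImplicit false
set_option linter.style.haveILetI false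

universe u

open CategoryTheory CategoryTheory.Limits Pretriangulated
open Groth.Agent.H4DR

attribute [local instance] HasDerivedCategory.standard

namespace Groth.Agent.H3CAlg

variable {A : Type u} [CommRing A] [IsNoetherianRing A] (I : Ideal A)

theorem subsingleton_HD_rgamma_self [DRing.HasRgammaI I] {d : ℕ} (hcd : LocCoh.CdLE A I d) (j : ℤ)
    (hj : (d : ℤ) < j) : Subsingleton (Dual.HD A ((DRing.RgammaI I).obj (Dual.inD A A)) j) := by
  obtain ⟨e⟩ := RG.nonempty_equiv_HDI I (Dual.inD A A) j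
  obtain ⟨n, rfl⟩ := Int.eq_ofNat_of_zero_le (show 0 ≤ j by omega)
  haveI := hcd A n (by omega)
  exact (e.trans (LD.lcEquiv I A n).symm).injective.subsingleton

theorem subsingleton_HD_completion_of_cdLE [DRing.HasRgammaI I] [DRing.HasDerivedCompletion I] {d : ℕ}
    (hcd : LocCoh.CdLE A I d) {K X : Dual.D A} {η : K ⟶ X} (hη : DComplete.IsCompletion I η) {a : ℤ}
    (hK : ∀ j, j < a → Subsingleton (Dual.HD A K j)) (i : ℤ) (hi : i < a - d) :
    Subsingleton (Dual.HD A X i) := by
  obtain ⟨C, p, q, hT⟩ := distinguished_cocone_triangle η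
  have hC : RG.Orth I C := fun E hE y => by
    have h0 : p ≫ y = 0 := (hη.bij E hE).1 (by
      show η ≫ p ≫ y = η ≫ 0
      rw [comp_zero, ← Category.assoc]
      exact (congrArg (· ≫ y) (comp_distTriang_mor_zero₁₂ _ hT)).trans zero_comp)
    obtain ⟨z, hz⟩ := Triangle.yoneda_exact₃ _ hT y h0
    obtain ⟨z', rfl⟩ := (hη.bij_shift hE).2 z
    refine hz.trans ?_
    show q ≫ η⟦(1 : ℤ)⟧' ≫ z' = 0
    rw [← Category.assoc]
    exact (congrArg (· ≫ z') (comp_distTriang_mor_zero₃₁ _ hT)).trans zero_comp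
  let T := (DRing.RgammaI I).obj (Dual.inD A A)
  let Δ := (Triangle.shiftFunctor (Dual.D A) i).obj (Triangle.mk η p q)
  have hΔ : Δ ∈ distTriang (Dual.D A) := Triangle.shift_distinguished _ hT i
  have hzero : ∀ x : T ⟶ X⟦i⟧, x = 0 := by
    intro x
    obtain ⟨y, hy⟩ := Triangle.coyoneda_exact₂ Δ hΔ x
      (RG.hom_eq_zero_of_orth I (RG.isTors_rgamma _) (hC.shift i) _)
    have hy0 : y = 0 := Hom.eq_zero_of_lt (d : ℤ) (a - i) (by omega)
      (subsingleton_HD_rgamma_self I hcd) (fun l hl => by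
        haveI := hK (i + l) (by omega)
        exact (PCoh.hShift K i l (i + l) rfl).injective.subsingleton) y
    rw [hy, hy0, zero_comp]; rfl
  have hsub : Subsingleton (Dual.inD A A ⟶ X⟦i⟧) :=
    ⟨fun a b => (RG.bijective_precomp_ε I (Dual.inD A A)
      (DComplete.isDerivedComplete_shift hη.complete i)).1
        ((hzero ((DRing.RgammaIε I).app _ ≫ a)).trans (hzero ((DRing.RgammaIε I).app _ ≫ b)).symm)⟩
  have hsub' : Subsingleton (ModuleCat.of A A ⟶ ModuleCat.of A (Dual.HD A (X⟦i⟧) 0)) :=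
    (DComplete.bijective_homH (ModuleCat.of A A) (X⟦i⟧)).2.subsingleton
  refine @Function.Injective.subsingleton _ _ _ (PCoh.hShift X i 0 i (add_zero i)).symm.injective
    (⟨fun u v => ?_⟩)
  have := congrArg (fun f => f.hom (1 : A)) (hsub'.elim
    (ModuleCat.ofHom (LinearMap.toSpanSingleton A _ u)) (ModuleCat.ofHom (LinearMap.toSpanSingleton A _ v)))
  simpa using this

/-- `H^i` of a completion is detected by maps out of `RΓ_I(A)`. -/
theorem smul_HD_completion_eq_zero [DRing.HasRgammaI I] [DRing.HasDerivedCompletion I]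
    {K X : Dual.D A} {η : K ⟶ X} (hη : DComplete.IsCompletion I η) (c : A) (i : ℤ)
    (hK : ∀ y : (DRing.RgammaI I).obj (Dual.inD A A) ⟶ K⟦i⟧, c • y = 0) (u : Dual.HD A X i) :
    c • u = 0 := by
  obtain ⟨C, p, q, hT⟩ := distinguished_cocone_triangle η
  have hC : RG.Orth I C := fun E hE y => by
    have h0 : p ≫ y = 0 := (hη.bij E hE).1 (by
      show η ≫ p ≫ y = η ≫ 0
      rw [comp_zero, ← Category.assoc]
      exact (congrArg (· ≫ y) (comp_distTriang_mor_zero₁₂ _ hT)).trans zero_comp)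
    obtain ⟨z, hz⟩ := Triangle.yoneda_exact₃ _ hT y h0
    obtain ⟨z', rfl⟩ := (hη.bij_shift hE).2 z
    refine hz.trans ?_
    show q ≫ η⟦(1 : ℤ)⟧' ≫ z' = 0
    rw [← Category.assoc]
    exact (congrArg (· ≫ z') (comp_distTriang_mor_zero₃₁ _ hT)).trans zero_comp
  let T := (DRing.RgammaI I).obj (Dual.inD A A)
  let Δ := (Triangle.shiftFunctor (Dual.D A) i).obj (Triangle.mk η p q)
  have hΔ : Δ ∈ distTriang (Dual.D A) := Triangle.shift_distinguished _ hT i
  have hzero : ∀ x : T ⟶ X⟦i⟧, c • x = 0 := by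
    intro x
    obtain ⟨y, hy⟩ := Triangle.coyoneda_exact₂ Δ hΔ x
      (RG.hom_eq_zero_of_orth I (RG.isTors_rgamma _) (hC.shift i) _)
    rw [hy]
    exact (Linear.smul_comp _ _ _ _ _ _).symm.trans ((congrArg (· ≫ Δ.mor₁) (hK y)).trans zero_comp)
  obtain ⟨v, rfl⟩ := (PCoh.hShift X i 0 i (add_zero i)).surjective u
  rw [← map_smul, show c • v = 0 from ?_, map_zero]
  obtain ⟨x, hx⟩ := (DComplete.bijective_homH (ModuleCat.of A A) (X⟦i⟧)).2
    (ModuleCat.ofHom (LinearMap.toSpanSingleton A _ v))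
  have hx0 : c • x = 0 := (RG.bijective_precomp_ε I (Dual.inD A A)
    (DComplete.isDerivedComplete_shift hη.complete i)).1 (by
      show (DRing.RgammaIε I).app _ ≫ (c • x) = (DRing.RgammaIε I).app _ ≫ 0
      refine (Linear.comp_smul _ _ _ _ _ _).trans ?_
      exact (hzero _).trans comp_zero.symm)
  have hv : (DComplete.homH (ModuleCat.of A A) x).hom (1 : A) = v := by
    rw [hx]; simp
  rw [← hv]
  have key : DComplete.homH (ModuleCat.of A A) (c • x) = c • DComplete.homH (ModuleCat.of A A) x := by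
    show _ ≫ (DerivedCategory.homologyFunctor (ModuleCat.{u} A) 0).map (c • x) =
      c • (_ ≫ (DerivedCategory.homologyFunctor (ModuleCat.{u} A) 0).map x)
    rw [Hom.H_map_smul, Linear.comp_smul]
  have h2 := congrArg (fun t => t.hom (1 : A)) key
  rw [hx0] at h2
  refine h2.symm.trans ?_
  have h00 : DComplete.homH (ModuleCat.of A A) (0 : Dual.inD A (ModuleCat.of A A) ⟶ X⟦i⟧) = 0 := by
    show _ ≫ (DerivedCategory.homologyFunctor (ModuleCat.{u} A) 0).map _ = 0
    rw [CategoryTheory.Functor.map_zero, comp_zero]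
  exact congrArg (fun t => t.hom (1 : A)) h00

theorem smul_id_eq_zero_of_single {X : Dual.D A} (d : ℤ)
    (hX : ∀ j, j ≠ d → Subsingleton (Dual.HD A X j)) (f : A) (hf : ∀ x : Dual.HD A X d, f • x = 0) :
    f • 𝟙 X = 0 := by
  obtain ⟨e⟩ := Groth.Agent.H4DR.Dualizing.nonempty_iso_single d hX (LinearEquiv.refl A (Dual.HD A X d))
  have h0 : f • 𝟙 ((DerivedCategory.singleFunctor (ModuleCat.{u} A) 0).obj
      (ModuleCat.of A (Dual.HD A X d))) = 0 := by
    rw [← CategoryTheory.Functor.map_id, ← Functor.map_smul, show f • 𝟙 (ModuleCat.of A (Dual.HD A X d)) = 0 from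
      ModuleCat.hom_ext (LinearMap.ext hf), Functor.map_zero]
  have h1 : f • 𝟙 ((Dual.inD A (Dual.HD A X d))⟦-d⟧) = 0 := by
    rw [← CategoryTheory.Functor.map_id, ← Functor.map_smul]
    exact (congrArg (fun t => (shiftFunctor (Dual.D A) (-d)).map t) h0).trans (Functor.map_zero _ _ _)
  calc f • 𝟙 X = e.hom ≫ (f • 𝟙 _) ≫ e.inv := by
        rw [Linear.smul_comp, Category.id_comp, Linear.comp_smul, e.hom_inv_id]
    _ = 0 := by rw [h1, zero_comp, comp_zero]

/-- An element killing the low cohomology kills the low cohomology of the completion, up to a power. -/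
theorem pow_smul_hom_eq_zero [DRing.HasRgammaI I] {d : ℕ} (hcd : LocCoh.CdLE A I d) (f : A) :
    ∀ (n : ℕ) (W : Dual.D A) (a i : ℤ), i + d < a + n →
      (∀ j, j < a → Subsingleton (Dual.HD A W j)) →
      (∀ j, j < a + n → ∀ x : Dual.HD A W j, f • x = 0) →
      ∀ y : (DRing.RgammaI I).obj (Dual.inD A A) ⟶ W⟦i⟧, f ^ n • y = 0 := by
  intro n
  induction n with
  | zero =>
    intro W a i hi hW _ y
    rw [pow_zero, one_smul]
    refine Hom.eq_zero_of_lt (d : ℤ) (a - i) (by omega) (subsingleton_HD_rgamma_self I hcd)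
      (fun l hl => ?_) y
    haveI := hW (i + l) (by omega)
    exact (PCoh.hShift W i l (i + l) rfl).injective.subsingleton
  | succ n ih =>
    intro W a i hi hW hf y
    obtain ⟨Δ, hΔ, rfl, h1, h3, hb1, hb2⟩ := Ext.exists_trunc W (a + 1)
    have h3' : ∀ j, j < a + 1 + n → ∀ x : Dual.HD A Δ.obj₃ j, f • x = 0 := fun j hj x => by
      by_cases hja : j < a + 1
      · haveI := h3 j hja
        exact Subsingleton.elim _ _
      · obtain ⟨w, rfl⟩ := (hb2 j (by omega)).2 x
        rw [← map_smul, hf j (by omega) w, map_zero]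
    have h1f : f • 𝟙 Δ.obj₁ = 0 := smul_id_eq_zero_of_single a (fun j hj => by
        rcases lt_or_gt_of_ne hj with h | h
        · haveI := hW j h
          exact (hb1 j (by omega)).1.subsingleton
        · exact h1 j (by omega)) f fun x => (hb1 a (by omega)).1 (by
          rw [map_smul, map_zero]; exact hf a (by omega) _)
    let Δ' := (Triangle.shiftFunctor (Dual.D A) i).obj Δ
    have hΔ' : Δ' ∈ distTriang (Dual.D A) := Triangle.shift_distinguished _ hΔ i
    have hy := ih Δ.obj₃ (a + 1) i (by omega) h3 h3' (y ≫ Δ'.mor₂)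
    obtain ⟨z, hz⟩ : ∃ z : (DRing.RgammaI I).obj (Dual.inD A A) ⟶ Δ.obj₁⟦i⟧,
        f ^ n • y = z ≫ (Δ'.mor₁ : Δ.obj₁⟦i⟧ ⟶ Δ.obj₂⟦i⟧) :=
      Triangle.coyoneda_exact₂ Δ' hΔ' (f ^ n • y) ((Linear.smul_comp _ _ _ _ _ _).trans hy)
    have hz0 : f • z = 0 := by
      have h1' : f • 𝟙 (Δ.obj₁⟦i⟧) = 0 := by
        rw [← CategoryTheory.Functor.map_id, ← Functor.map_smul, h1f, Functor.map_zero]
      calc f • z = z ≫ (f • 𝟙 (Δ.obj₁⟦i⟧)) := by
            rw [Linear.comp_smul]
            exact congrArg (f • ·) (Category.comp_id z).symm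
        _ = 0 := by rw [h1']; exact comp_zero
    rw [pow_succ', mul_smul, hz]
    exact (Linear.smul_comp _ _ _ f z _).symm.trans ((congrArg (· ≫ _) hz0).trans zero_comp)

/-- The bound used in the kill lemmas. -/
theorem pow_smul_HD_completion_eq_zero [DRing.HasRgammaI I] [DRing.HasDerivedCompletion I] {d : ℕ}
    (hcd : LocCoh.CdLE A I d) (f : A) {W : Dual.D A} (a : ℤ) (n : ℕ)
    (hW : ∀ j, j < a → Subsingleton (Dual.HD A W j))
    (hf : ∀ j, j < a + n → ∀ x : Dual.HD A W j, f • x = 0) (i : ℤ) (hi : i + d < a + n)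
    (x : Dual.HD A ((DRing.derivedCompletion I).obj W).obj i) : f ^ n • x = 0 :=
  smul_HD_completion_eq_zero I (DComplete.isCompletion_unit W) (f ^ n) i
    (pow_smul_hom_eq_zero I hcd f n W a i hi hW hf) x

end Groth.Agent.H3CAlg
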