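import Groth.Agent.H24Adic.CompletionNoetherian
import Mathlib.RingTheory.AdicCompletion.Completeness
import Mathlib.RingTheory.Localization.AtPrime.Basic

/-!
# Completing a localization of the completion
-/

set_option autoImplicit false
set_option linter.style.haveILetI false

universe u v

namespace Groth.Agent.H3CAlg

open AdicCompletion

theorem factorPow_evalₐ {R : Type u} [CommRing R] (J : Ideal R) {m n : ℕ} (h : m ≤ n)
    (x : AdicCompletion J R) : Ideal.Quotient.factorPow J h (evalₐ J n x) = evalₐ J m x := by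
  induction x using AdicCompletion.induction_on with
  | _ a =>
    rw [evalₐ_mk, evalₐ_mk]
    have h1 : a.1 m - a.1 n ∈ J ^ m := by
      have := a.2 h
      rwa [SModEq.sub_mem, smul_eq_mul, Ideal.mul_top] at this
    exact ((Ideal.Quotient.factor_mk _ _).trans (Ideal.Quotient.eq.2 h1).symm)

/-- Completions agree when all the truncations do. -/
theorem exists_ringEquiv_completion {R : Type u} {S : Type v} [CommRing R] [CommRing S] (φ : R →+* S)
    (J : Ideal R) (K : Ideal S) (hle : ∀ n, J ^ n ≤ (K ^ n).comap φ)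
    (hb : ∀ n, Function.Bijective (Ideal.quotientMap (K ^ n) φ (hle n))) :
    ∃ E : AdicCompletion J R ≃+* AdicCompletion K S,
      ∀ x : R, E (algebraMap R _ x) = algebraMap S _ (φ x) := by
  let e : ∀ n, R ⧸ J ^ n ≃+* S ⧸ K ^ n := fun n => RingEquiv.ofBijective _ (hb n)
  have he : ∀ {m n : ℕ} (h : m ≤ n) (z : R ⧸ J ^ n),
      Ideal.Quotient.factorPow K h (e n z) = e m (Ideal.Quotient.factorPow J h z) := by
    intro m n h z
    obtain ⟨z, rfl⟩ := Ideal.Quotient.mk_surjective z
    rfl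
  let F : ∀ n, AdicCompletion J R →+* S ⧸ K ^ n := fun n => (e n).toRingHom.comp (evalₐ J n).toRingHom
  let G : ∀ n, AdicCompletion K S →+* R ⧸ J ^ n := fun n => (e n).symm.toRingHom.comp (evalₐ K n).toRingHom
  have hF : ∀ {m n : ℕ} (h : m ≤ n), (Ideal.Quotient.factorPow K h).comp (F n) = F m := fun {m n} h =>
    RingHom.ext fun x => (he h _).trans (congrArg (e m) (factorPow_evalₐ J h x))
  have hG : ∀ {m n : ℕ} (h : m ≤ n), (Ideal.Quotient.factorPow J h).comp (G n) = G m := fun {m n} h =>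
    RingHom.ext fun x => (e m).injective (by
      show e m (Ideal.Quotient.factorPow J h ((e n).symm (evalₐ K n x))) = e m ((e m).symm (evalₐ K m x))
      rw [← he h, RingEquiv.apply_symm_apply, RingEquiv.apply_symm_apply, factorPow_evalₐ])
  let Φ := liftRingHom K F hF
  let Γ := liftRingHom J G hG
  refine ⟨RingEquiv.ofRingHom Φ Γ (RingHom.ext fun x => ext_evalₐ fun n => ?_)
    (RingHom.ext fun x => ext_evalₐ fun n => ?_), fun x => ext_evalₐ fun n => ?_⟩
  · rw [RingHom.comp_apply, RingHom.id_apply, evalₐ_liftRingHom]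
    show e n (evalₐ J n (Γ x)) = _
    rw [evalₐ_liftRingHom]
    exact (e n).apply_symm_apply _
  · rw [RingHom.comp_apply, RingHom.id_apply, evalₐ_liftRingHom]
    show (e n).symm (evalₐ K n (Φ x)) = _
    rw [evalₐ_liftRingHom]
    exact (e n).symm_apply_apply _
  · show evalₐ K n (Φ (algebraMap R _ x)) = _
    rw [evalₐ_liftRingHom]
    show e n (evalₐ J n (of J R x)) = evalₐ K n (of K S (φ x))
    rw [evalₐ_of, evalₐ_of]
    rfl

theorem comap_map_pow_completion {A : Type u} [CommRing A] [IsNoetherianRing A] (I : Ideal A) (n : ℕ) (a : A)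
    (h : algebraMap A (AdicCompletion I A) a ∈ (I ^ n).map (algebraMap A (AdicCompletion I A))) : a ∈ I ^ n := by
  have hle : (I ^ n).map (algebraMap A (AdicCompletion I A)) ≤ RingHom.ker (evalₐ I n).toRingHom := by
    rw [Ideal.map_le_iff_le_comap]
    intro b hb
    show evalₐ I n (of I A b) = 0
    rw [evalₐ_of]
    exact Ideal.Quotient.eq_zero_iff_mem.2 hb
  have h0 : evalₐ I n (of I A a) = 0 := hle h
  rw [evalₐ_of] at h0
  exact Ideal.Quotient.eq_zero_iff_mem.1 h0

/-- `(A^)_q` and `A_{q₀}` have the same completion. -/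
theorem exists_ringEquiv_completion_localization {A : Type u} [CommRing A] [IsNoetherianRing A] (I : Ideal A)
    (q₀ : Ideal A) [q₀.IsPrime] (q : Ideal (AdicCompletion I A)) [q.IsPrime]
    (hq₀ : q₀ = q.comap (algebraMap A (AdicCompletion I A)))
    (hIq : I.map (algebraMap A (AdicCompletion I A)) ≤ q) :
    ∃ E : AdicCompletion (I.map (algebraMap A (Localization.AtPrime q₀))) (Localization.AtPrime q₀) ≃+*
        AdicCompletion ((I.map (algebraMap A (AdicCompletion I A))).map
          (algebraMap (AdicCompletion I A) (Localization.AtPrime q))) (Localization.AtPrime q),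
      ∀ a : A, E (algebraMap A _ a) = algebraMap (AdicCompletion I A) _ (algebraMap A (AdicCompletion I A) a) := by
  let Ah := AdicCompletion I A
  let R₁ := Localization.AtPrime q₀
  let R₂ := Localization.AtPrime q
  let J := I.map (algebraMap A R₁)
  let K := (I.map (algebraMap A Ah)).map (algebraMap Ah R₂)
  let φ : R₁ →+* R₂ := Localization.localRingHom q₀ q (algebraMap A Ah) hq₀
  have hφ : ∀ a : A, φ (algebraMap A R₁ a) = algebraMap Ah R₂ (algebraMap A Ah a) := fun a =>
    Localization.localRingHom_to_map q₀ q (algebraMap A Ah) hq₀ a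
  have hK : ∀ n, K ^ n = ((I ^ n).map (algebraMap A Ah)).map (algebraMap Ah R₂) := fun n => by
    rw [Ideal.map_pow, Ideal.map_pow]
  have hJ : ∀ n, J ^ n = (I ^ n).map (algebraMap A R₁) := fun n => (Ideal.map_pow _ _ _).symm
  have hle : ∀ n, J ^ n ≤ (K ^ n).comap φ := fun n => by
    rw [hJ, hK, Ideal.map_le_iff_le_comap, Ideal.comap_comap]
    intro a ha
    rw [Ideal.mem_comap, RingHom.comp_apply, hφ]
    exact Ideal.mem_map_of_mem _ (Ideal.mem_map_of_mem _ ha)
  have hfg : I.FG := IsNoetherian.noetherian I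
  have happ : ∀ (n : ℕ) (b : Ah), ∃ a : A, b - algebraMap A Ah a ∈ (I ^ n).map (algebraMap A Ah) :=
    fun n b => H24Adic.exists_sub_of_mem hfg n b
  have hunit : ∀ (n : ℕ) (t : Ah) (t₀ : A), t ∉ q → t - algebraMap A Ah t₀ ∈ (I ^ n).map (algebraMap A Ah) →
      n ≠ 0 → t₀ ∉ q₀ := fun n t t₀ ht h hn h0 => ht (by
    have h1 : algebraMap A Ah t₀ ∈ q := by rw [hq₀] at h0; exact h0
    have h2 : t - algebraMap A Ah t₀ ∈ q :=
      hIq (Ideal.map_mono (Ideal.pow_le_self hn) h)
    simpa using add_mem h2 h1)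
  have hb : ∀ n, Function.Bijective (Ideal.quotientMap (K ^ n) φ (hle n)) := by
    intro n
    rcases eq_or_ne n 0 with rfl | hn
    · haveI : Subsingleton (R₂ ⧸ K ^ 0) := Ideal.Quotient.subsingleton_iff.2 (by simp)
      haveI : Subsingleton (R₁ ⧸ J ^ 0) := Ideal.Quotient.subsingleton_iff.2 (by simp)
      exact ⟨fun a b _ => Subsingleton.elim a b, fun b => ⟨0, Subsingleton.elim _ _⟩⟩
    refine ⟨(injective_iff_map_eq_zero _).2 fun z hz => ?_, fun z => ?_⟩
    · obtain ⟨z, rfl⟩ := Ideal.Quotient.mk_surjective z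
      rw [Ideal.quotientMap_mk, Ideal.Quotient.eq_zero_iff_mem, hK] at hz
      rw [Ideal.Quotient.eq_zero_iff_mem, hJ]
      obtain ⟨⟨a, s⟩, rfl⟩ := IsLocalization.mk'_surjective q₀.primeCompl z
      have h1 : φ (IsLocalization.mk' R₁ a s) * φ (algebraMap A R₁ (s : A)) = φ (algebraMap A R₁ a) := by
        rw [← map_mul, IsLocalization.mk'_spec]
      have h2 := Ideal.mul_mem_right (φ (algebraMap A R₁ (s : A))) _ hz
      rw [h1, hφ, IsLocalization.algebraMap_mem_map_algebraMap_iff q.primeCompl] at h2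
      obtain ⟨t, ht, hta⟩ := h2
      obtain ⟨t₀, ht₀⟩ := happ n t
      have h3 : algebraMap A Ah (t₀ * a) ∈ (I ^ n).map (algebraMap A Ah) := by
        have := sub_mem hta (Ideal.mul_mem_right (algebraMap A Ah a) _ ht₀)
        rwa [← sub_mul, sub_sub_cancel, ← map_mul] at this
      rw [IsLocalization.mk'_mem_map_algebraMap_iff q₀.primeCompl]
      exact ⟨t₀, hunit n t t₀ ht ht₀ hn, comap_map_pow_completion I n _ h3⟩
    · obtain ⟨z, rfl⟩ := Ideal.Quotient.mk_surjective z
      obtain ⟨⟨b, t⟩, rfl⟩ := IsLocalization.mk'_surjective q.primeCompl z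
      obtain ⟨b₀, hb₀⟩ := happ n b
      obtain ⟨t₀, ht₀⟩ := happ n (t : Ah)
      refine ⟨Ideal.Quotient.mk _ (IsLocalization.mk' R₁ b₀ (⟨t₀, hunit n t t₀ t.2 ht₀ hn⟩ : q₀.primeCompl)), ?_⟩
      rw [Ideal.quotientMap_mk, Ideal.Quotient.eq, hK]
      refine (Ideal.unit_mul_mem_iff_mem _ ((IsLocalization.map_units R₂ t).mul
        ((IsLocalization.map_units R₁ (⟨t₀, hunit n t t₀ t.2 ht₀ hn⟩ : q₀.primeCompl)).map φ))).1 ?_
      have hx : φ (IsLocalization.mk' R₁ b₀ (⟨t₀, hunit n t t₀ t.2 ht₀ hn⟩ : q₀.primeCompl)) * φ (algebraMap A R₁ t₀) =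
          algebraMap Ah R₂ (algebraMap A Ah b₀) := by
        rw [← map_mul]
        exact (congrArg φ (IsLocalization.mk'_spec R₁ b₀ (⟨t₀, hunit n t t₀ t.2 ht₀ hn⟩ : q₀.primeCompl))).trans (hφ b₀)
      have hy : IsLocalization.mk' R₂ b t * algebraMap Ah R₂ (t : Ah) = algebraMap Ah R₂ b :=
        IsLocalization.mk'_spec R₂ b t
      show algebraMap Ah R₂ (t : Ah) * φ (algebraMap A R₁ t₀) *
        (φ (IsLocalization.mk' R₁ b₀ (⟨t₀, hunit n t t₀ t.2 ht₀ hn⟩ : q₀.primeCompl)) - IsLocalization.mk' R₂ b t) ∈ _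
      have key : algebraMap Ah R₂ (t : Ah) * φ (algebraMap A R₁ t₀) *
          (φ (IsLocalization.mk' R₁ b₀ (⟨t₀, hunit n t t₀ t.2 ht₀ hn⟩ : q₀.primeCompl)) - IsLocalization.mk' R₂ b t) =
          algebraMap Ah R₂ ((t : Ah) * algebraMap A Ah b₀ - algebraMap A Ah t₀ * b) := by
        rw [map_sub, map_mul, map_mul, ← hx, ← hy, hφ]
        ring
      rw [key]
      refine Ideal.mem_map_of_mem _ ?_
      have := sub_mem (Ideal.mul_mem_right (algebraMap A Ah b₀) _ ht₀) (Ideal.mul_mem_left _ (algebraMap A Ah t₀) hb₀)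
      convert this using 1
      ring
  obtain ⟨E, hE⟩ := exists_ringEquiv_completion φ J K hle hb
  refine ⟨E, fun a => ?_⟩
  rw [IsScalarTower.algebraMap_apply A R₁ (AdicCompletion J R₁), hE, hφ,
    ← IsScalarTower.algebraMap_apply]

end Groth.Agent.H3CAlg
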