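import Groth.Agent.H3CAlg.SemiVal.Main
import Mathlib.RingTheory.Smooth.Fiber
import Mathlib.RingTheory.RingHom.Etale
import Mathlib.RingTheory.Smooth.Flat
import Mathlib.RingTheory.Unramified.LocalRing
import Mathlib.RingTheory.Kaehler.Basic
import Mathlib.LinearAlgebra.TensorProduct.Quotient
import Mathlib.RingTheory.Valuation.ValuationRing

/-! Etale extensions of composed valuation rings. -/

set_option autoImplicit false
set_option maxHeartbeats 1000000
universe u

open IsLocalRing TensorProduct

namespace Groth.Agent.H3CAlg.ComposedEtale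

variable {A B : Type u} [CommRing A] [IsDomain A] [ValuationRing A] [CommRing B] [IsDomain B]
  [ValuationRing B] [Algebra A B]

theorem exists_dvd [FaithfulSMul A B] [Algebra.IsAlgebraic A B] (P : Ideal B) [P.IsPrime] {u : B} (hu : u ∉ P) :
    ∃ s : A, s ∉ P.comap (algebraMap A B) ∧ u ∣ algebraMap A B s := by
  classical
  obtain ⟨q, hq0, hq⟩ := Algebra.IsAlgebraic.isAlgebraic (R := A) u
  have hne : q.support.Nonempty := Polynomial.support_nonempty.2 hq0
  -- a coefficient dividing all the others
  have hdiv : ∀ t : Finset ℕ, t.Nonempty → ∃ k ∈ t, ∀ i ∈ t, q.coeff k ∣ q.coeff i := fun t ht => by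
    induction ht using Finset.Nonempty.cons_induction with
    | singleton a => exact ⟨a, by simp, by simp⟩
    | cons a t _ _ ih =>
      obtain ⟨k, hk, hall⟩ := ih
      rcases ValuationRing.dvd_total (q.coeff a) (q.coeff k) with h | h
      · exact ⟨a, by simp, fun i hi => by
          rcases Finset.mem_cons.1 hi with rfl | hi
          exacts [dvd_rfl, h.trans (hall i hi)]⟩
      · exact ⟨k, by simp [hk], fun i hi => by
          rcases Finset.mem_cons.1 hi with rfl | hi
          exacts [h, hall i hi]⟩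
  obtain ⟨k, hk, hall⟩ := hdiv _ hne
  have hc : ∀ i, ∃ c, q.coeff i = q.coeff k * c := fun i => by
    by_cases hi : i ∈ q.support
    · exact hall i hi
    · exact ⟨0, by rw [Polynomial.notMem_support_iff.1 hi, mul_zero]⟩
  choose c hc using hc
  let g : Polynomial A := ∑ i ∈ q.support, Polynomial.monomial i (c i)
  have hqg : q = Polynomial.C (q.coeff k) * g := by
    conv_lhs => rw [q.as_sum_support]
    simp [g, Finset.mul_sum, Polynomial.C_mul_monomial, ← hc]
  have hk0 : q.coeff k ≠ 0 := Polynomial.mem_support_iff.1 hk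
  have hg1 : g.coeff k = 1 := by
    have : q.coeff k = q.coeff k * g.coeff k := by
      conv_lhs => rw [hqg, Polynomial.coeff_C_mul]
    exact (mul_eq_left₀ hk0).1 this.symm
  by_cases hzero : algebraMap A B (q.coeff k) = 0
  · -- `A → B` is injective, as `B` is a domain algebraic over `A`
    exact absurd ((map_eq_zero_iff _ (FaithfulSMul.algebraMap_injective A B)).1 hzero) hk0
  have hgu : Polynomial.aeval u g = 0 := by
    rw [hqg, map_mul, Polynomial.aeval_C] at hq
    exact (mul_eq_zero.1 hq).resolve_left hzero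
  -- first coefficient outside the prime
  have hex : ∃ i, g.coeff i ∉ P.comap (algebraMap A B) :=
    ⟨k, by rw [hg1]; exact fun h => (inferInstance : (P.comap (algebraMap A B)).IsPrime).ne_top ((Ideal.eq_top_iff_one _).2 h)⟩
  set i₀ := Nat.find hex with hi₀
  have hin : i₀ ∈ Finset.range (g.natDegree + 1) := by
    rw [Finset.mem_range, Nat.lt_succ_iff]
    by_contra hh
    exact Nat.find_spec hex (by rw [Polynomial.coeff_eq_zero_of_natDegree_lt (not_le.1 hh)]; exact Ideal.zero_mem _)
  refine ⟨g.coeff i₀, Nat.find_spec hex, ?_⟩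
  rw [Polynomial.aeval_eq_sum_range, ← Finset.add_sum_erase _ _ hin] at hgu
  have hrest : u ^ (i₀ + 1) ∣ ∑ i ∈ (Finset.range (g.natDegree + 1)).erase i₀, g.coeff i • u ^ i := by
    refine Finset.dvd_sum fun i hi => ?_
    rcases Nat.lt_or_gt_of_ne (Finset.ne_of_mem_erase hi) with h | h
    · have hmem : algebraMap A B (g.coeff i) ∈ P := by
        have := Nat.find_min hex h
        rwa [not_not] at this
      rw [Algebra.smul_def]
      refine Dvd.dvd.mul_right ?_ _
      rcases ValuationRing.dvd_total (u ^ (i₀ + 1)) (algebraMap A B (g.coeff i)) with h' | h'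
      · exact h'
      · exact absurd ((inferInstance : P.IsPrime).mem_of_pow_mem _ (P.mem_of_dvd h' hmem)) hu
    · rw [Algebra.smul_def]
      exact (pow_dvd_pow u (Nat.succ_le_of_lt h)).mul_left _
  have h1 : u ^ (i₀ + 1) ∣ g.coeff i₀ • u ^ i₀ := by
    rw [eq_neg_of_add_eq_zero_left hgu, dvd_neg]; exact hrest
  rw [Algebra.smul_def, pow_succ, mul_comm (u ^ i₀), mul_dvd_mul_iff_right (pow_ne_zero _ fun e => hu (by rw [e]; exact P.zero_mem))] at h1
  exact h1

theorem result [FaithfulSMul A B] [Algebra.IsAlgebraic A B] (P : Ideal B) [P.IsPrime]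
    (hA : (Localization.localRingHom (P.comap (algebraMap A B)) P (algebraMap A B) rfl).Etale)
    (hB : (Ideal.quotientMap P (algebraMap A B) (le_refl (P.comap (algebraMap A B)))).Etale) :
    Algebra.Etale A B := by
  classical
  let p := P.comap (algebraMap A B)
  let A' := Localization.AtPrime p
  let B' := Localization.AtPrime P
  letI : Algebra A' B' := (Localization.localRingHom p P (algebraMap A B) rfl).toAlgebra
  haveI : IsScalarTower A A' B' := IsScalarTower.of_algebraMap_eq fun a => by
    rw [RingHom.algebraMap_toAlgebra, Localization.localRingHom_to_map, ← IsScalarTower.algebraMap_apply]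
  haveI : IsLocalHom (algebraMap A' B') := Localization.isLocalHom_localRingHom p P (algebraMap A B) rfl
  haveI : Algebra.Etale A' B' := hA
  haveI : IsDomain B' := IsLocalization.isDomain_of_le_nonZeroDivisors _ P.primeCompl_le_nonZeroDivisors
  haveI : IsDomain A' := IsLocalization.isDomain_of_le_nonZeroDivisors _ p.primeCompl_le_nonZeroDivisors
  have hinjA : Function.Injective (algebraMap A A') := IsLocalization.injective A' p.primeCompl_le_nonZeroDivisors
  have hinjB : Function.Injective (algebraMap B B') := IsLocalization.injective B' P.primeCompl_le_nonZeroDivisors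
  haveI : ValuationRing (A ⧸ p) := Function.Surjective.valuationRing (Ideal.Quotient.mk p) Ideal.Quotient.mk_surjective
  have hsv : SemiVal.IsSemiVal A A' (A ⧸ p) (Ideal.Quotient.mk p) := by
    refine ⟨hinjA, fun μ hμ => ?_, fun a => ?_, Ideal.Quotient.mk_surjective, fun o => ?_⟩
    · obtain ⟨⟨a, s⟩, rfl⟩ := IsLocalization.mk'_surjective p.primeCompl μ
      have ha : a ∈ p := (IsLocalization.AtPrime.mk'_mem_maximal_iff A' p a s).1 hμ
      rcases ValuationRing.dvd_total (s : A) a with ⟨c, rfl⟩ | h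
      · exact ⟨c, by rw [IsLocalization.eq_mk'_iff_mul_eq, ← map_mul, mul_comm]⟩
      · obtain ⟨c, hc⟩ := h
        exact absurd (show (s : A) ∈ p by rw [hc]; exact p.mul_mem_right _ ha) s.2
    · obtain ⟨⟨o, s⟩, rfl⟩ := IsLocalization.mk'_surjective p.primeCompl a
      exact ⟨s, o, IsLocalization.map_units A' s, IsLocalization.mk'_spec' A' o s⟩
    · rw [Ideal.Quotient.eq_zero_iff_mem, IsLocalization.AtPrime.to_map_mem_maximal_iff A' p o]
  let j : B →ₐ[A] B' := IsScalarTower.toAlgHom A B B'
  have hden : ∀ t : B', ∃ s : A, IsUnit (algebraMap A A' s) ∧ ∃ c, algebraMap A B' s * t = j c := by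
    intro t
    obtain ⟨⟨b, u⟩, rfl⟩ := IsLocalization.mk'_surjective P.primeCompl t
    obtain ⟨s, hs, w, hw⟩ := exists_dvd (A := A) P u.2
    refine ⟨s, IsLocalization.map_units A' (⟨s, hs⟩ : p.primeCompl), b * w, ?_⟩
    show algebraMap A B' s * _ = algebraMap B B' (b * w)
    rw [IsScalarTower.algebraMap_apply A B B', hw, map_mul, map_mul, mul_right_comm,
      IsLocalization.mk'_spec']
  haveI : Module.Flat A B := SemiVal.flat hsv j hinjB hden
  -- maximal ideal of `B'` comes from `p`
  have hmax : ∀ π ∈ P, j π ∈ maximalIdeal A' • (⊤ : Submodule A' B') := fun π hπ => by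
    rw [Ideal.smul_top_eq_map, Algebra.FormallyUnramified.map_maximalIdeal]
    exact (IsLocalization.AtPrime.to_map_mem_maximal_iff B' P π).2 hπ
  letI : Algebra (A ⧸ p) (B ⧸ P) := (Ideal.quotientMap P (algebraMap A B) (le_refl p)).toAlgebra
  haveI : IsScalarTower A (A ⧸ p) (B ⧸ P) := IsScalarTower.of_algebraMap_eq fun a => rfl
  haveI : Algebra.Etale (A ⧸ p) (B ⧸ P) := hB
  haveI : Algebra.FiniteType A B := by
    obtain ⟨Gz, hGz⟩ := (inferInstance : Algebra.FiniteType A' B').out
    obtain ⟨Gy, hGy⟩ := (inferInstance : Algebra.FiniteType (A ⧸ p) (B ⧸ P)).out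
    choose sz hsz cz hcz using hden
    choose ly hly using fun y : B ⧸ P => Ideal.Quotient.mk_surjective y
    let C0 := Algebra.adjoin A ((Gz.image cz ∪ Gy.image ly : Finset B) : Set B)
    refine ⟨⟨Gz.image cz ∪ Gy.image ly, eq_top_iff.2 fun b _ => ?_⟩⟩
    let U : Subalgebra A' B' :=
      { carrier := {t | ∃ s : A, IsUnit (algebraMap A A' s) ∧ ∃ c ∈ C0, algebraMap A B' s * t = j c}
        mul_mem' := by
          rintro x y ⟨s, hs, c, hc, hx⟩ ⟨s', hs', c', hc', hy⟩
          exact ⟨s * s', by rw [map_mul]; exact hs.mul hs', c * c', mul_mem hc hc', by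
            rw [map_mul, map_mul, ← hx, ← hy]; ring⟩
        one_mem' := ⟨1, by simp, 1, one_mem _, by simp⟩
        add_mem' := by
          rintro x y ⟨s, hs, c, hc, hx⟩ ⟨s', hs', c', hc', hy⟩
          refine ⟨s * s', by rw [map_mul]; exact hs.mul hs', s' • c + s • c',
            add_mem (C0.smul_mem hc _) (C0.smul_mem hc' _), ?_⟩
          rw [map_mul, map_add, map_smul, map_smul, ← hx, ← hy, Algebra.smul_def, Algebra.smul_def]; ring
        zero_mem' := ⟨1, by simp, 0, zero_mem _, by simp⟩
        algebraMap_mem' := fun a => by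
          obtain ⟨⟨o, s⟩, rfl⟩ := IsLocalization.mk'_surjective p.primeCompl a
          refine ⟨s, IsLocalization.map_units A' s, algebraMap A B o, C0.algebraMap_mem o, ?_⟩
          rw [AlgHom.commutes, IsScalarTower.algebraMap_apply A A' B', ← map_mul, IsLocalization.mk'_spec',
            ← IsScalarTower.algebraMap_apply] }
    have hU : ∀ t : B', t ∈ U := fun t => by
      have hle : Algebra.adjoin A' (Gz : Set B') ≤ U := Algebra.adjoin_le fun z hz =>
        ⟨sz z, hsz z, cz z, Algebra.subset_adjoin (by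
          simp only [Finset.coe_union, Finset.coe_image, Set.mem_union, Set.mem_image]
          exact Or.inl ⟨z, hz, rfl⟩), hcz z⟩
      exact hle (hGz ▸ Algebra.mem_top)
    have hP0 : ∀ π ∈ P, π ∈ C0 := fun π hπ => by
      suffices ∀ t ∈ maximalIdeal A' • (⊤ : Submodule A' B'), ∃ c ∈ C0, j c = t by
        obtain ⟨c, hc, e⟩ := this _ (hmax π hπ)
        rwa [← hinjB e]
      intro t ht
      refine Submodule.smul_induction_on ht (fun μ hμ t _ => ?_) ?_
      · obtain ⟨s, hs, c, hc, e⟩ := hU t
        obtain ⟨o, ho⟩ := hsv.max_mem (μ * ↑hs.unit⁻¹) (Ideal.mul_mem_right _ _ hμ)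
        refine ⟨o • c, C0.smul_mem hc _, ?_⟩
        rw [map_smul, ← algebraMap_smul A' o, ho, ← e, IsScalarTower.algebraMap_apply A A' B',
          ← Algebra.smul_def, smul_smul, mul_assoc, IsUnit.val_inv_mul, mul_one]
      · rintro x y ⟨c, hc, rfl⟩ ⟨c', hc', rfl⟩
        exact ⟨c + c', add_mem hc hc', map_add _ _ _⟩
    have hres : ∀ y : B ⧸ P, ∃ c ∈ C0, Ideal.Quotient.mk P c = y := fun y => by
      have hy : y ∈ Algebra.adjoin (A ⧸ p) (Gy : Set (B ⧸ P)) := hGy ▸ Algebra.mem_top
      induction hy using Algebra.adjoin_induction with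
      | mem y hy => exact ⟨ly y, Algebra.subset_adjoin (by
          simp only [Finset.coe_union, Finset.coe_image, Set.mem_union, Set.mem_image]
          exact Or.inr ⟨y, hy, rfl⟩), hly y⟩
      | algebraMap a =>
        obtain ⟨a, rfl⟩ := Ideal.Quotient.mk_surjective a
        exact ⟨algebraMap A B a, C0.algebraMap_mem a, rfl⟩
      | add x y _ _ hx hy =>
        obtain ⟨c, hc, rfl⟩ := hx; obtain ⟨c', hc', rfl⟩ := hy
        exact ⟨c + c', add_mem hc hc', map_add _ _ _⟩
      | mul x y _ _ hx hy =>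
        obtain ⟨c, hc, rfl⟩ := hx; obtain ⟨c', hc', rfl⟩ := hy
        exact ⟨c * c', mul_mem hc hc', map_mul _ _ _⟩
    obtain ⟨c, hc, hcb⟩ := hres (Ideal.Quotient.mk P b)
    have := add_mem hc (hP0 (b - c) (Ideal.Quotient.eq.1 hcb.symm))
    rwa [add_sub_cancel] at this
  haveI : Algebra.FinitePresentation A B := SemiVal.finitePresentation hsv j hinjB hden
  haveI : Algebra.FormallyUnramified A (B ⧸ P) := by
    haveI : Algebra.FormallyUnramified A (A ⧸ p) :=
      Algebra.FormallyUnramified.of_surjective (Algebra.ofId A (A ⧸ p)) Ideal.Quotient.mk_surjective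
    exact Algebra.FormallyUnramified.comp A (A ⧸ p) (B ⧸ P)
  -- the differentials vanish
  have hD : ∀ π ∈ P, KaehlerDifferential.D A B π ∈ P • (⊤ : Submodule B (Ω[B⁄A])) := fun π hπ => by
    suffices ∀ t ∈ maximalIdeal A' • (⊤ : Submodule A' B'),
        ∃ c, j c = t ∧ KaehlerDifferential.D A B c ∈ P • (⊤ : Submodule B (Ω[B⁄A])) by
      obtain ⟨c, e, hc⟩ := this _ (hmax π hπ)
      rwa [← hinjB e]
    intro t ht
    refine Submodule.smul_induction_on ht (fun μ hμ t _ => ?_) ?_
    · obtain ⟨s, hs, c, e⟩ := hden t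
      obtain ⟨o, ho⟩ := hsv.max_mem (μ * ↑hs.unit⁻¹) (Ideal.mul_mem_right _ _ hμ)
      refine ⟨o • c, ?_, ?_⟩
      · rw [map_smul, ← algebraMap_smul A' o, ho, ← e, IsScalarTower.algebraMap_apply A A' B',
          ← Algebra.smul_def, smul_smul, mul_assoc, IsUnit.val_inv_mul, mul_one]
      · rw [(KaehlerDifferential.D A B).map_smul, ← algebraMap_smul B o]
        refine Submodule.smul_mem_smul ?_ Submodule.mem_top
        show o ∈ p
        rw [← IsLocalization.AtPrime.to_map_mem_maximal_iff A' p o, ho]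
        exact Ideal.mul_mem_right _ _ hμ
    · rintro x y ⟨c, rfl, hc⟩ ⟨c', rfl, hc'⟩
      exact ⟨c + c', map_add _ _ _, by rw [map_add]; exact add_mem hc hc'⟩
  have hsub : Subsingleton (Ω[B⁄A]) := by
    have h0 : ∀ z : (B ⧸ P) ⊗[B] Ω[B⁄A], z = 0 := fun z => by
      obtain ⟨w, rfl⟩ := (KaehlerDifferential.exact_kerCotangentToTensor_mapBaseChange A B (B ⧸ P)
        Ideal.Quotient.mk_surjective z).1 (Subsingleton.elim _ _)
      obtain ⟨⟨π, hπ⟩, rfl⟩ := Ideal.toCotangent_surjective _ w
      rw [KaehlerDifferential.kerCotangentToTensor_toCotangent]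
      refine (TensorProduct.quotTensorEquivQuotSMul (Ω[B⁄A]) P).injective ?_
      rw [map_zero, show (1 : B ⧸ P) = Ideal.Quotient.mk P 1 from rfl,
        TensorProduct.quotTensorEquivQuotSMul_mk_tmul, one_smul]
      exact (Submodule.Quotient.mk_eq_zero _).2 (hD π (Ideal.Quotient.eq_zero_iff_mem.1 hπ))
    have htop : (⊤ : Submodule B (Ω[B⁄A])) ≤ P • (⊤ : Submodule B (Ω[B⁄A])) := fun w _ => by
      have h := congr_arg (TensorProduct.quotTensorEquivQuotSMul (Ω[B⁄A]) P) (h0 (1 ⊗ₜ w))
      rw [map_zero, show (1 : B ⧸ P) = Ideal.Quotient.mk P 1 from rfl,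
        TensorProduct.quotTensorEquivQuotSMul_mk_tmul, one_smul] at h
      exact (Submodule.Quotient.mk_eq_zero _).1 h
    have hbot := Submodule.eq_bot_of_le_smul_of_le_jacobson_bot P (⊤ : Submodule B (Ω[B⁄A]))
      (Module.Finite.fg_top) htop ((IsLocalRing.le_maximalIdeal (Ideal.IsPrime.ne_top ‹_›)).trans
        (IsLocalRing.maximalIdeal_le_jacobson _))
    exact (Submodule.subsingleton_iff B).1 (subsingleton_of_bot_eq_top hbot.symm)
  haveI : Algebra.FormallyUnramified A B := ⟨hsub⟩
  exact Algebra.Etale.of_formallyUnramified_of_flat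

end Groth.Agent.H3CAlg.ComposedEtale
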