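import Groth.Agent.H3CAlg.GradedCompl
import Groth.Agent.H4Conn.Completion
import Groth.Agent.H26Grass.Graded
import Groth.Agent.H05EGA4.Equidim
import Groth.Agent.H05EGA4.FormalCatenary
import Groth.Agent.S9126

/-!
# Connectedness dimension of affine cones
-/

set_option autoImplicit false
set_option linter.style.haveILetI false
set_option synthInstance.maxHeartbeats 80000
set_option maxHeartbeats 800000

universe u

open IsLocalRing PrimeSpectrum
open Groth.Agent.H4Conn

namespace Groth.Agent.H3CAlg.ConeConn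

section Topology

theorem connDim_congr {T T' : Type u} [TopologicalSpace T] [TopologicalSpace T'] (e : T ≃ₜ T') :
    LocCoh.connDim T ≤ LocCoh.connDim T' := by
  obtain ⟨Z, hZ, hconn, he⟩ := exists_connDim T'
  rw [he]
  refine (connDim_le (hZ.preimage e.continuous) fun h => hconn ?_).trans_eq ?_
  · have := h.image e e.continuous.continuousOn
    rwa [← Set.preimage_compl, Set.image_preimage_eq _ e.surjective] at this
  · exact IsHomeomorph.topologicalKrullDim_eq _ (((e.image _).trans (Homeomorph.setCongr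
      (Set.image_preimage_eq _ e.surjective))).isHomeomorph)

theorem connDim_eq_of_homeomorph {T T' : Type u} [TopologicalSpace T] [TopologicalSpace T'] (e : T ≃ₜ T') :
    LocCoh.connDim T = LocCoh.connDim T' := le_antisymm (connDim_congr e) (connDim_congr e.symm)

end Topology

section Local

variable {A : Type u} [CommRing A] {m : Ideal A} [m.IsPrime] {L : Type u} [CommRing L] [Algebra A L]
  [IsLocalization.AtPrime L m]

theorem exists_over {p : Ideal A} [p.IsPrime] (h : p ≤ m) :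
    ∃ x : PrimeSpectrum L, x.asIdeal = p.map (algebraMap A L) ∧ x.asIdeal.comap (algebraMap A L) = p :=
  have hd : Disjoint (m.primeCompl : Set A) (p : Set A) := Set.disjoint_left.mpr fun _ hx hp => hx (h hp)
  ⟨⟨_, IsLocalization.isPrime_of_isPrime_disjoint m.primeCompl L p ‹_› hd⟩, rfl,
    IsLocalization.comap_map_of_isPrime_disjoint m.primeCompl L ‹_› hd⟩

theorem dim_le_quotient {A L : Type u} [CommRing A] [CommRing L] [Algebra A L] (m : Ideal A) [m.IsPrime]
    [IsLocalization.AtPrime L m] (J : Ideal A) :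
    ringKrullDim (L ⧸ J.map (algebraMap A L)) ≤ ringKrullDim (A ⧸ J) := by
  refine Order.krullDim_le_of_strictMono (PrimeSpectrum.comap (Ideal.quotientMap (J.map (algebraMap A L))
    (algebraMap A L) Ideal.le_comap_map)) fun x y hxy => ?_
  refine lt_of_le_of_ne (Ideal.comap_mono hxy.le) fun h => hxy.ne ?_
  refine PrimeSpectrum.ext ?_
  have h' := congrArg (fun z : PrimeSpectrum (A ⧸ J) => z.asIdeal.comap (Ideal.Quotient.mk J)) h
  simp only [PrimeSpectrum.comap_asIdeal, Ideal.comap_comap, Ideal.quotientMap_comp_mk] at h'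
  have e : ∀ z : PrimeSpectrum (L ⧸ J.map (algebraMap A L)),
      z.asIdeal = ((z.asIdeal.comap ((Ideal.Quotient.mk (J.map (algebraMap A L))).comp (algebraMap A L))).map
        (algebraMap A L)).map (Ideal.Quotient.mk (J.map (algebraMap A L))) := fun z => by
    rw [← Ideal.comap_comap, IsLocalization.map_comap m.primeCompl L,
      Ideal.map_comap_of_surjective _ Ideal.Quotient.mk_surjective]
  rw [e x, e y, h']

/-- Localizing at a prime containing all minimal primes does not increase the connectedness dimension. -/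
theorem connDim_le_connDim [IsNoetherianRing A] (hmin : ∀ p ∈ minimalPrimes A, p ≤ m) :
    LocCoh.connDim (PrimeSpectrum L) ≤ LocCoh.connDim (PrimeSpectrum A) := by
  obtain ⟨Z, hZ, hconn, he⟩ := exists_connDim (PrimeSpectrum A)
  let f := PrimeSpectrum.comap (algebraMap A L)
  have hf : Continuous f := PrimeSpectrum.continuous_comap _
  have hdim : topologicalKrullDim ↥(f ⁻¹' Z) ≤ topologicalKrullDim Z := by
    obtain ⟨J, rfl⟩ := (isClosed_iff_zeroLocus_ideal Z).1 hZ
    rw [show f ⁻¹' zeroLocus (J : Set A) = zeroLocus ((J.map (algebraMap A L) : Ideal L) : Set L) from by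
      rw [PrimeSpectrum.preimage_comap_zeroLocus, Ideal.map, PrimeSpectrum.zeroLocus_span], dim_zeroLocus, dim_zeroLocus]
    exact dim_le_quotient m J
  rw [he]
  refine (connDim_le (hZ.preimage hf) ?_).trans hdim
  rcases exists_split hZ hconn with rfl | ⟨F₁, F₂, h₁, h₂, hu, hi, n₁, n₂⟩
  · rw [Set.preimage_univ, Set.compl_univ]
    exact fun h => h.nonempty.ne_empty rfl
  · have hne : ∀ {F : Set (PrimeSpectrum A)}, IsClosed F → F ≠ Set.univ → f ⁻¹' F ≠ Set.univ := by
      intro F hF hne h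
      obtain ⟨x, hx⟩ := (Set.ne_univ_iff_exists_notMem _).1 hne
      obtain ⟨p, hp, hpx⟩ := Ideal.exists_minimalPrimes_le (I := (⊥ : Ideal A)) (J := x.asIdeal) bot_le
      haveI := hp.1.1
      obtain ⟨y, -, hy⟩ := exists_over (L := L) (hmin p hp)
      have hyF : f y ∈ F := (h ▸ Set.mem_univ y : y ∈ f ⁻¹' F)
      exact hx (((le_iff_specializes (f y) x).1 (by show y.asIdeal.comap _ ≤ _; rw [hy]; exact hpx)).mem_closed hF hyF)
    rw [← hi, Set.preimage_inter]
    exact not_isConnected_compl_inter (h₁.preimage hf) (h₂.preimage hf)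
      (by rw [← Set.preimage_union, hu, Set.preimage_univ]) (hne h₁ n₁) (hne h₂ n₂)

/-- The converse, given that dimensions are computed at the prime. -/
theorem connDim_ge_connDim [IsNoetherianRing A] (hmin : ∀ p ∈ minimalPrimes A, p ≤ m) (Hom : Ideal A → Prop)
    (hbot : Hom ⊥) (htop : Hom ⊤) (hinf : ∀ I J, Hom I → Hom J → Hom (I ⊓ J))
    (hsup : ∀ I J, Hom I → Hom J → Hom (I ⊔ J)) (hHmin : ∀ p ∈ minimalPrimes A, Hom p)
    (hdim : ∀ J, Hom J → ringKrullDim (A ⧸ J) ≤ ringKrullDim (L ⧸ J.map (algebraMap A L))) :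
    LocCoh.connDim (PrimeSpectrum A) ≤ LocCoh.connDim (PrimeSpectrum L) := by
  classical
  obtain ⟨Z, hZ, hconn, he⟩ := exists_connDim (PrimeSpectrum L)
  rw [he]
  rcases exists_split hZ hconn with rfl | ⟨F₁, F₂, h₁, h₂, hu, hi, n₁, n₂⟩
  · rw [topologicalKrullDim_univ]
    refine connDim_le_dim.trans ?_
    rw [PrimeSpectrum.topologicalKrullDim_eq_ringKrullDim, PrimeSpectrum.topologicalKrullDim_eq_ringKrullDim,
      ← ringKrullDim_eq_of_ringEquiv (RingEquiv.quotientBot A)]
    exact (hdim ⊥ hbot).trans (ringKrullDim_quotient_le _)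
  have hfin := minimalPrimes.finite_of_isNoetherianRing A
  let S := fun F : Set (PrimeSpectrum L) =>
    {p ∈ minimalPrimes A | ∀ h : (p.map (algebraMap A L)).IsPrime, (⟨_, h⟩ : PrimeSpectrum L) ∈ F}
  have hSfin : ∀ F, (S F).Finite := fun F => hfin.subset fun p hp => hp.1
  let I : Set (PrimeSpectrum L) → Ideal A := fun F => (hSfin F).toFinset.inf id
  have hp' : ∀ p ∈ minimalPrimes A, (p.map (algebraMap A L)).IsPrime := fun p hp => by
    haveI := hp.1.1
    obtain ⟨y, hy, -⟩ := exists_over (L := L) (hmin p hp)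
    exact hy ▸ y.2
  have hHom : ∀ F, Hom (I F) := fun F => by
    refine Finset.inf_induction htop (fun a ha b hb => hinf a b ha hb) fun p hp => ?_
    exact hHmin p ((hSfin F).mem_toFinset.1 hp).1
  have hor : ∀ P : Ideal A, P.IsPrime → I F₁ ≤ P ∨ I F₂ ≤ P := fun P hP => by
    haveI := hP
    obtain ⟨p, hp, hpP⟩ := Ideal.exists_minimalPrimes_le (I := (⊥ : Ideal A)) (J := P) bot_le
    rcases (hu.symm ▸ Set.mem_univ _ : (⟨_, hp' p hp⟩ : PrimeSpectrum L) ∈ F₁ ∪ F₂) with h | h
    · exact Or.inl ((Finset.inf_le (f := id) ((hSfin F₁).mem_toFinset.2 ⟨hp, fun _ => h⟩)).trans hpP)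
    · exact Or.inr ((Finset.inf_le (f := id) ((hSfin F₂).mem_toFinset.2 ⟨hp, fun _ => h⟩)).trans hpP)
  have hmem : ∀ {F : Set (PrimeSpectrum L)}, IsClosed F → ∀ x : PrimeSpectrum L,
      I F ≤ x.asIdeal.comap (algebraMap A L) → x ∈ F := by
    intro F hF x h
    obtain ⟨r, hr, hrp⟩ := (Ideal.IsPrime.inf_le' (Ideal.IsPrime.comap (algebraMap A L) (hK := x.2))).1 h
    obtain ⟨hr1, hr2⟩ := (hSfin F).mem_toFinset.1 hr
    exact ((le_iff_specializes _ x).1 (show r.map (algebraMap A L) ≤ x.asIdeal from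
      Ideal.map_le_iff_le_comap.2 hrp)).mem_closed hF (hr2 (hp' r hr1))
  have hex : ∀ {F : Set (PrimeSpectrum L)}, IsClosed F → F ≠ Set.univ → ∃ P : Ideal A, P.IsPrime ∧ ¬ I F ≤ P := by
    intro F hF hne
    obtain ⟨x, hx⟩ := (Set.ne_univ_iff_exists_notMem _).1 hne
    exact ⟨_, Ideal.IsPrime.comap (algebraMap A L) (hK := x.2), fun h => hx (hmem hF x h)⟩
  refine (connDim_le_dim_sup hor (hex h₁ n₁) (hex h₂ n₂)).trans ((hdim _ (hsup _ _ (hHom _) (hHom _))).trans ?_)
  rw [← dim_zeroLocus, ← hi]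
  refine topologicalKrullDim_mono fun x hx => ?_
  have hx' : I F₁ ⊔ I F₂ ≤ x.asIdeal.comap (algebraMap A L) := Ideal.map_le_iff_le_comap.1 hx
  exact ⟨hmem h₁ x (le_sup_left.trans hx'), hmem h₂ x (le_sup_right.trans hx')⟩

omit [IsLocalization.AtPrime L m] in
theorem algebraMapSubmonoid_primeCompl {J : Ideal A} (hJm : J ≤ m) [(m.map (Ideal.Quotient.mk J)).IsPrime] :
    Algebra.algebraMapSubmonoid (A ⧸ J) m.primeCompl = (m.map (Ideal.Quotient.mk J)).primeCompl := by
  ext x
  obtain ⟨c, rfl⟩ := Ideal.Quotient.mk_surjective x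
  constructor
  · rintro ⟨d, hd, hdc⟩ hc
    refine hd ?_
    have h2 : Ideal.Quotient.mk J d ∈ m.map (Ideal.Quotient.mk J) := by rw [show Ideal.Quotient.mk J d = _ from hdc]; exact hc
    rwa [Ideal.mem_quotient_iff_mem hJm] at h2
  · exact fun hc => ⟨c, fun hcm => hc (Ideal.mem_map_of_mem _ hcm), rfl⟩

end Local

section Graded

open MvPolynomial

attribute [local instance] MvPolynomial.gradedAlgebra

variable {σ : Type u} [Finite σ] {K : Type u} [Field K]

local notation "S" => MvPolynomial σ K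

theorem idealOfVars_eq_ker : idealOfVars σ K = RingHom.ker (constantCoeff : S →+* K) := by
  ext x
  rw [← pow_one (idealOfVars σ K), mem_pow_idealOfVars_iff', RingHom.mem_ker, constantCoeff_eq]
  exact ⟨fun h => h 0 (by simp), fun h c hc => by rwa [Finsupp.degree_eq_zero_iff c |>.mp (by omega)]⟩

instance idealOfVars_isMaximal : (idealOfVars σ K).IsMaximal := by
  rw [idealOfVars_eq_ker]
  exact RingHom.ker_isMaximal_of_surjective _ fun c => ⟨C c, constantCoeff_C _ c⟩

theorem le_idealOfVars {H : Ideal S} (hH : H.IsHomogeneous (homogeneousSubmodule σ K)) (h1 : H ≠ ⊤) :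
    H ≤ idealOfVars σ K := fun a ha => by
  rw [idealOfVars_eq_ker, RingHom.mem_ker]
  by_contra h0
  refine h1 (H.eq_top_of_isUnit_mem (x := C (constantCoeff a)) ?_ ((isUnit_iff_ne_zero.mpr h0).map C))
  have h := GradedCompl.homogeneousComponent_mem hH ha 0
  rwa [homogeneousComponent_zero] at h

theorem map_isMaximal {H : Ideal S} (hH : H.IsHomogeneous (homogeneousSubmodule σ K)) (h1 : H ≠ ⊤) :
    ((idealOfVars σ K).map (Ideal.Quotient.mk H)).IsMaximal :=
  (Ideal.map_eq_top_or_isMaximal_of_surjective _ Ideal.Quotient.mk_surjective inferInstance).resolve_left fun h => by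
    have := congrArg (Ideal.comap (Ideal.Quotient.mk H)) h
    rw [Ideal.comap_map_of_surjective _ Ideal.Quotient.mk_surjective, ← RingHom.ker_eq_comap_bot, Ideal.mk_ker,
      Ideal.comap_top, sup_eq_left.mpr (le_idealOfVars hH h1)] at this
    exact (idealOfVars_isMaximal (σ := σ) (K := K)).ne_top this

theorem dim_eq_height {H : Ideal S} (hH : H.IsHomogeneous (homogeneousSubmodule σ K)) (h1 : H ≠ ⊤) :
    ringKrullDim (S ⧸ H) = (((idealOfVars σ K).map (Ideal.Quotient.mk H)).height : WithBot ℕ∞) := by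
  have hirr : (HomogeneousIdeal.irrelevant (homogeneousSubmodule σ K)).toIdeal = idealOfVars σ K := by
    ext x
    rw [idealOfVars_eq_ker, RingHom.mem_ker, constantCoeff_eq]
    change GradedRing.proj (homogeneousSubmodule σ K) 0 x = 0 ↔ _
    rw [show GradedRing.proj (homogeneousSubmodule σ K) 0 x = homogeneousComponent 0 x from
      MvPolynomial.decomposition.decompose'_apply x 0, homogeneousComponent_zero, C_eq_zero]
  haveI : ((HomogeneousIdeal.irrelevant (homogeneousSubmodule σ K)).toIdeal.map (Ideal.Quotient.mk H)).IsPrime := by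
    rw [hirr]; exact (map_isMaximal hH h1).isPrime
  rw [H26Grass.Graded.ringKrullDim_eq_height_irrelevant (K := K) hH (fun a ha => ⟨coeff 0 a, ?_⟩) (Field.toIsField K), hirr]
  show MvPolynomial.C (coeff 0 a) = a
  rw [← homogeneousComponent_zero]
  exact (homogeneousComponent_of_mem ha).trans (if_pos rfl)

/-- A homogeneous ideal of the coordinate ring of a cone. -/
def Hom (H : Ideal S) (J : Ideal (S ⧸ H)) : Prop :=
  (J.comap (Ideal.Quotient.mk H)).IsHomogeneous (homogeneousSubmodule σ K)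

variable {H : Ideal (MvPolynomial σ K)} (hH : H.IsHomogeneous (homogeneousSubmodule σ K))

include hH in
theorem hom_bot : Hom H ⊥ := by
  show ((⊥ : Ideal (S ⧸ H)).comap _).IsHomogeneous _
  rwa [← RingHom.ker_eq_comap_bot, Ideal.mk_ker]

theorem hom_top : Hom H ⊤ := by
  show ((⊤ : Ideal (S ⧸ H)).comap _).IsHomogeneous _
  rw [Ideal.comap_top]
  exact Ideal.IsHomogeneous.top _

theorem hom_inf (I J : Ideal (S ⧸ H)) (hI : Hom H I) (hJ : Hom H J) : Hom H (I ⊓ J) := by
  show ((I ⊓ J).comap _).IsHomogeneous _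
  rw [Ideal.comap_inf]
  exact Ideal.IsHomogeneous.inf hI hJ

theorem hom_sup (I J : Ideal (S ⧸ H)) (hI : Hom H I) (hJ : Hom H J) : Hom H (I ⊔ J) := by
  show ((I ⊔ J).comap _).IsHomogeneous _
  have hk : RingHom.ker (Ideal.Quotient.mk H) ≤ I.comap (Ideal.Quotient.mk H) ⊔ J.comap (Ideal.Quotient.mk H) := by
    rw [RingHom.ker_eq_comap_bot]
    exact (Ideal.comap_mono bot_le).trans le_sup_left
  rw [← Ideal.map_comap_of_surjective (Ideal.Quotient.mk H) Ideal.Quotient.mk_surjective I,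
    ← Ideal.map_comap_of_surjective (Ideal.Quotient.mk H) Ideal.Quotient.mk_surjective J, ← Ideal.map_sup,
    Ideal.comap_map_of_surjective _ Ideal.Quotient.mk_surjective, ← RingHom.ker_eq_comap_bot, sup_eq_left.mpr hk]
  exact Ideal.IsHomogeneous.sup hI hJ

include hH in
theorem hom_min {p : Ideal (S ⧸ H)} (hp : p ∈ minimalPrimes (S ⧸ H)) : Hom H p := by
  refine H26Grass.Graded.isHomogeneous_of_mem_minimalPrimes hH ?_
  rw [Ideal.minimalPrimes_eq_comap]
  exact ⟨p, hp, rfl⟩

variable (h1 : H ≠ ⊤)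

include hH h1 in
theorem hom_le {J : Ideal (S ⧸ H)} (hJ : Hom H J) (hne : J ≠ ⊤) :
    J ≤ (idealOfVars σ K).map (Ideal.Quotient.mk H) := by
  rw [← Ideal.map_comap_of_surjective (Ideal.Quotient.mk H) Ideal.Quotient.mk_surjective J]
  exact Ideal.map_mono (le_idealOfVars hJ fun h => hne (by
    rw [← Ideal.map_comap_of_surjective (Ideal.Quotient.mk H) Ideal.Quotient.mk_surjective J, h, Ideal.map_top]))

include hH h1 in
theorem dim_le_local [((idealOfVars σ K).map (Ideal.Quotient.mk H)).IsPrime] {L : Type u} [CommRing L]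
    [Algebra (S ⧸ H) L] [IsLocalization.AtPrime L ((idealOfVars σ K).map (Ideal.Quotient.mk H))]
    {J : Ideal (S ⧸ H)} (hJ : Hom H J) :
    ringKrullDim ((S ⧸ H) ⧸ J) ≤ ringKrullDim (L ⧸ J.map (algebraMap (S ⧸ H) L)) := by
  by_cases hne : J = ⊤
  · subst hne
    haveI : Subsingleton ((S ⧸ H) ⧸ (⊤ : Ideal (S ⧸ H))) := Ideal.Quotient.subsingleton_iff.2 rfl
    rw [ringKrullDim_eq_bot_of_subsingleton]; exact bot_le
  have hJm := hom_le hH h1 hJ hne
  set m := (idealOfVars σ K).map (Ideal.Quotient.mk H) with hm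
  set J' := J.comap (Ideal.Quotient.mk H) with hJ'
  have hHJ : H ≤ J' := by
    conv_lhs => rw [← Ideal.mk_ker (I := H), RingHom.ker_eq_comap_bot]
    exact Ideal.comap_mono bot_le
  let e : (S ⧸ H) ⧸ J ≃+* S ⧸ J' :=
    (Ideal.quotEquivOfEq (Ideal.map_comap_of_surjective _ Ideal.Quotient.mk_surjective J).symm).trans
      (DoubleQuot.quotQuotEquivQuotOfLE hHJ)
  haveI hmb : (m.map (Ideal.Quotient.mk J)).IsPrime :=
    Ideal.map_isPrime_of_surjective Ideal.Quotient.mk_surjective (by rwa [Ideal.mk_ker])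
  have hcompl := algebraMapSubmonoid_primeCompl (m := m) hJm
  haveI : IsLocalization.AtPrime (L ⧸ J.map (algebraMap (S ⧸ H) L)) (m.map (Ideal.Quotient.mk J)) := by
    have h : @IsLocalization ((S ⧸ H) ⧸ J) _ (Algebra.algebraMapSubmonoid ((S ⧸ H) ⧸ J) m.primeCompl)
        (L ⧸ J.map (algebraMap (S ⧸ H) L)) _ _ := inferInstance
    rw [hcompl] at h
    exact h
  rw [IsLocalization.AtPrime.ringKrullDim_eq_height (m.map (Ideal.Quotient.mk J)) (L ⧸ J.map (algebraMap (S ⧸ H) L)),
    ringKrullDim_eq_of_ringEquiv e, dim_eq_height hJ (fun h => hne (by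
      rw [← Ideal.map_comap_of_surjective (Ideal.Quotient.mk H) Ideal.Quotient.mk_surjective J]
      exact (congrArg _ h).trans (Ideal.map_top _))),
    ← e.height_map (m.map (Ideal.Quotient.mk J)), hm]
  refine le_of_eq ?_
  congr 2
  rw [← Ideal.map_coe e, Ideal.map_map, Ideal.map_map]
  rfl

include hH h1 in
theorem subdim_le_local [((idealOfVars σ K).map (Ideal.Quotient.mk H)).IsPrime] {L : Type u} [CommRing L]
    [Algebra (S ⧸ H) L] [IsLocalization.AtPrime L ((idealOfVars σ K).map (Ideal.Quotient.mk H))] :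
    LocCoh.subdim (PrimeSpectrum (S ⧸ H)) ≤ LocCoh.subdim (PrimeSpectrum L) := by
  refine le_subdim fun q hq => ?_
  haveI := hq.1.1
  obtain ⟨p, hp, hpq⟩ := Ideal.exists_minimalPrimes_le (I := (⊥ : Ideal (S ⧸ H)))
    (J := q.comap (algebraMap (S ⧸ H) L)) bot_le
  haveI := hp.1.1
  obtain ⟨y, hy, -⟩ := exists_over (L := L) (hom_le hH h1 (hom_min hH hp) hp.1.1.ne_top)
  have hyq : y.asIdeal ≤ q := by rw [hy]; exact Ideal.map_le_iff_le_comap.mpr hpq
  obtain rfl : y.asIdeal = q := le_antisymm hyq (hq.2 ⟨y.2, bot_le⟩ hyq)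
  rw [hy]
  exact (subdim_le_dim_quotient hp).trans (dim_le_local hH h1 (hom_min hH hp))

/-- Membership in powers of the maximal ideal after localizing at the vertex. -/
theorem mem_of_map_mem [((idealOfVars σ K).map (Ideal.Quotient.mk H)).IsPrime] {L : Type u} [CommRing L]
    [Algebra (S ⧸ H) L] [IsLocalization.AtPrime L ((idealOfVars σ K).map (Ideal.Quotient.mk H))]
    {P : Ideal S} (hHP : H ≤ P) {a : ℕ} {c : S}
    (hc : algebraMap (S ⧸ H) L (Ideal.Quotient.mk H c) ∈
      ((P ⊔ idealOfVars σ K ^ a).map (Ideal.Quotient.mk H)).map (algebraMap (S ⧸ H) L)) :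
    c ∈ P ⊔ idealOfVars σ K ^ a := by
  obtain ⟨⟨⟨i, hi⟩, ⟨s, hs⟩⟩, e⟩ := (IsLocalization.mem_map_algebraMap_iff
    ((idealOfVars σ K).map (Ideal.Quotient.mk H)).primeCompl L).mp hc
  rw [← map_mul, IsLocalization.eq_iff_exists ((idealOfVars σ K).map (Ideal.Quotient.mk H)).primeCompl L] at e
  obtain ⟨⟨t, ht⟩, e⟩ := e
  obtain ⟨i₀, hi₀, rfl⟩ := (Ideal.mem_map_iff_of_surjective _ Ideal.Quotient.mk_surjective).mp hi
  obtain ⟨s₀, rfl⟩ := Ideal.Quotient.mk_surjective s
  obtain ⟨t₀, rfl⟩ := Ideal.Quotient.mk_surjective t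
  simp only [← map_mul, Ideal.Quotient.eq] at e
  have hmem : t₀ * s₀ * c ∈ P ⊔ idealOfVars σ K ^ a := by
    have h := add_mem (Ideal.mem_sup_left (T := idealOfVars σ K ^ a) (hHP e)) (Ideal.mul_mem_left _ t₀ hi₀)
    rwa [show t₀ * (c * s₀) - t₀ * i₀ + t₀ * i₀ = t₀ * s₀ * c by ring] at h
  have hns : t₀ * s₀ ∉ idealOfVars σ K := fun h =>
    ((idealOfVars σ K).map (Ideal.Quotient.mk H)).primeCompl.mul_mem ht hs
      (by rw [← map_mul]; exact Ideal.mem_map_of_mem _ h)
  obtain ⟨u, v, hv, huv⟩ := (idealOfVars_isMaximal (σ := σ) (K := K)).exists_inv hns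
  have h1 : v ^ a ∈ idealOfVars σ K ^ a := Ideal.pow_mem_pow hv a
  have h2 : (1 : S) - v ∣ 1 - v ^ a := by
    have := sub_dvd_pow_sub_pow (1 : S) v a
    rwa [one_pow] at this
  obtain ⟨w', hw'⟩ := h2
  have h3 : c = (t₀ * s₀ * c) * (u * w') + c * v ^ a := by
    have : (1 : S) - v = u * (t₀ * s₀) := by rw [← huv]; ring
    rw [this] at hw'
    linear_combination (-c) * hw'.symm
  rw [h3]
  exact add_mem (Ideal.mul_mem_right _ _ hmem) (Ideal.mem_sup_right (Ideal.mul_mem_left _ _ h1))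

include hH h1 in
theorem isDomain_completion [((idealOfVars σ K).map (Ideal.Quotient.mk H)).IsPrime] {L : Type u} [CommRing L]
    [Algebra (S ⧸ H) L] [IsLocalization.AtPrime L ((idealOfVars σ K).map (Ideal.Quotient.mk H))] [IsLocalRing L]
    [IsNoetherianRing L] {p : Ideal L} (hp : p ∈ minimalPrimes L) :
    (p.map (algebraMap L (AdicCompletion (maximalIdeal L) L))).IsPrime := by
  haveI := hp.1.1
  set m := (idealOfVars σ K).map (Ideal.Quotient.mk H) with hm
  set q := p.comap (algebraMap (S ⧸ H) L) with hq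
  have hqmin : q ∈ minimalPrimes (S ⧸ H) := by
    obtain ⟨p₀, hp₀, hle⟩ := Ideal.exists_minimalPrimes_le (I := (⊥ : Ideal (S ⧸ H))) (J := q) bot_le
    haveI := hp₀.1.1
    obtain ⟨y, hy, hy'⟩ := exists_over (L := L) (hom_le hH h1 (hom_min hH hp₀) hp₀.1.1.ne_top)
    have hyp : y.asIdeal ≤ p := by rw [hy]; exact Ideal.map_le_iff_le_comap.mpr hle
    rwa [hq, ← le_antisymm hyp (hp.2 ⟨y.2, bot_le⟩ hyp), hy']
  set P := q.comap (Ideal.Quotient.mk H) with hP
  have hPhom : P.IsHomogeneous (homogeneousSubmodule σ K) := hom_min hH hqmin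
  haveI : P.IsPrime := Ideal.IsPrime.comap _ (hK := Ideal.IsPrime.comap _ (hK := hp.1.1))
  have hHP : H ≤ P := by
    conv_lhs => rw [← Ideal.mk_ker (I := H), RingHom.ker_eq_comap_bot]
    exact Ideal.comap_mono bot_le
  haveI : IsLocalRing (L ⧸ p) := .of_surjective' _ Ideal.Quotient.mk_surjective
  have hmax : maximalIdeal (L ⧸ p) = ((idealOfVars σ K).map (Ideal.Quotient.mk H)).map
      ((Ideal.Quotient.mk p).comp (algebraMap (S ⧸ H) L)) := by
    rw [← Ideal.map_map, IsLocalization.AtPrime.map_eq_maximalIdeal m L]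
    exact (IsLocalRing.map_maximalIdeal_of_surjective _ Ideal.Quotient.mk_surjective).symm
  let π : S →+* L ⧸ p := (Ideal.Quotient.mk p).comp ((algebraMap (S ⧸ H) L).comp (Ideal.Quotient.mk H))
  have hmax' : ∀ a : ℕ, maximalIdeal (L ⧸ p) ^ a = (idealOfVars σ K ^ a).map π := fun a => by
    rw [hmax, Ideal.map_pow, Ideal.map_map, RingHom.comp_assoc]
  have hcrit : ∀ (a : ℕ) (c : S), π c ∈ maximalIdeal (L ⧸ p) ^ a ↔ c ∈ P ⊔ idealOfVars σ K ^ a := by
    intro a c
    have hle : (P ⊔ idealOfVars σ K ^ a).map π = maximalIdeal (L ⧸ p) ^ a := by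
      rw [hmax', Ideal.map_sup, sup_eq_right.mpr]
      refine le_trans (le_of_eq ((Ideal.map_eq_bot_iff_le_ker π).mpr fun x hx => ?_)) bot_le
      exact Ideal.Quotient.eq_zero_iff_mem.mpr hx
    refine ⟨fun hc => mem_of_map_mem (L := L) hHP ?_, fun hc => hle ▸ Ideal.mem_map_of_mem π hc⟩
    rw [← hle, ← Ideal.map_map] at hc
    change Ideal.Quotient.mk p (algebraMap (S ⧸ H) L (Ideal.Quotient.mk H c)) ∈ _ at hc
    rw [Ideal.mem_quotient_iff_mem_sup, ← Ideal.map_map] at hc
    rw [sup_eq_left.mpr] at hc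
    · exact hc
    refine le_trans ?_ (Ideal.map_mono (Ideal.map_mono le_sup_left))
    rw [hP, Ideal.map_comap_of_surjective _ Ideal.Quotient.mk_surjective, hq, IsLocalization.map_comap m.primeCompl L]
  haveI hdom : IsDomain (AdicCompletion (maximalIdeal (L ⧸ p)) (L ⧸ p)) := by
    refine GradedCompl.isDomain_adicCompletion _ (maximalIdeal.isMaximal _).ne_top fun a b x y hx hx' hy hy' hxy => ?_
    have hrep : ∀ z : L ⧸ p, ∃ (c : S) (v : (L ⧸ p)ˣ), z = π c * v := fun z => by
      obtain ⟨z, rfl⟩ := Ideal.Quotient.mk_surjective z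
      obtain ⟨⟨c, s⟩, e⟩ := IsLocalization.surj m.primeCompl z
      obtain ⟨c, rfl⟩ := Ideal.Quotient.mk_surjective c
      refine ⟨c, ((IsLocalization.map_units L s).map (Ideal.Quotient.mk p)).unit⁻¹, ?_⟩
      rw [Units.eq_mul_inv_iff_mul_eq, IsUnit.unit_spec, ← map_mul, e]
      rfl
    obtain ⟨c, v, rfl⟩ := hrep x
    obtain ⟨d, w, rfl⟩ := hrep y
    rw [Ideal.mul_unit_mem_iff_mem _ v.isUnit] at hx hx'
    rw [Ideal.mul_unit_mem_iff_mem _ w.isUnit] at hy hy'
    rw [mul_mul_mul_comm, ← map_mul, Ideal.mul_unit_mem_iff_mem _ (v.isUnit.mul w.isUnit), hcrit] at hxy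
    rw [hcrit] at hx hx' hy hy'
    exact GradedCompl.notMem_mul hPhom hx hx' hy hy' hxy
  obtain ⟨e⟩ := H05EGA4.exists_completion_quotient_equiv (maximalIdeal L) (L ⧸ p) (Ideal.Quotient.mk p)
    Ideal.Quotient.mk_surjective (maximalIdeal (L ⧸ p))
    (IsLocalRing.map_maximalIdeal_of_surjective _ Ideal.Quotient.mk_surjective)
  rw [Ideal.mk_ker] at e
  haveI := e.toMulEquiv.isDomain
  exact (Ideal.Quotient.isDomain_iff_prime _).mp inferInstance

include hH in
/-- The connectedness bound for cones, for any localization at the vertex. -/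
theorem cone_bound_aux [((idealOfVars σ K).map (Ideal.Quotient.mk H)).IsMaximal] {L : Type u} [CommRing L]
    [Algebra (S ⧸ H) L] [IsLocalization.AtPrime L ((idealOfVars σ K).map (Ideal.Quotient.mk H))] [IsLocalRing L]
    [IsNoetherianRing L] (huc : CAlg.IsUniversallyCatenary L) {H' : Ideal S} (hH' : H'.IsHomogeneous (homogeneousSubmodule σ K)) (hH'1 : H' ≠ ⊤)
    (s : Finset S) (hs : H' = H ⊔ Ideal.span (s : Set S)) :
    min (LocCoh.connDim (PrimeSpectrum (S ⧸ H)) + 1) (LocCoh.subdim (PrimeSpectrum (S ⧸ H))) ≤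
      LocCoh.connDim (PrimeSpectrum (S ⧸ H')) + (s.card : WithBot ℕ∞) + 1 := by
  classical
  have hle : H ≤ H' := by rw [hs]; exact le_sup_left
  have h1 : H ≠ ⊤ := ne_top_of_le_ne_top hH'1 hle
  set m := (idealOfVars σ K).map (Ideal.Quotient.mk H) with hm
  have hmin : ∀ p ∈ minimalPrimes (S ⧸ H), p ≤ m := fun p hp => hom_le hH h1 (hom_min hH hp) hp.1.1.ne_top
  have c1 : LocCoh.connDim (PrimeSpectrum (S ⧸ H)) ≤ LocCoh.connDim (PrimeSpectrum L) :=
    connDim_ge_connDim (L := L) hmin (Hom H) (hom_bot hH) hom_top hom_inf hom_sup (fun p hp => hom_min hH hp)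
      fun J hJ => dim_le_local hH h1 hJ
  have s1 : LocCoh.subdim (PrimeSpectrum (S ⧸ H)) ≤ LocCoh.subdim (PrimeSpectrum L) := subdim_le_local (L := L) hH h1
  let C := AdicCompletion (maximalIdeal L) L
  have c2 : LocCoh.connDim (PrimeSpectrum L) ≤ LocCoh.connDim (PrimeSpectrum C) :=
    connDim_le_completion L fun p hp => isDomain_completion hH h1 hp
  have s2 : LocCoh.subdim (PrimeSpectrum L) ≤ LocCoh.subdim (PrimeSpectrum C) := subdim_le_completion L huc
  -- the quotient
  let Hb : Ideal (S ⧸ H) := H'.map (Ideal.Quotient.mk H)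
  let I' : Ideal L := Hb.map (algebraMap (S ⧸ H) L)
  have hHbm : Hb ≤ m := Ideal.map_mono (le_idealOfVars hH' hH'1)
  have hI' : I' ≤ maximalIdeal L := (Ideal.map_mono hHbm).trans (IsLocalization.AtPrime.map_eq_maximalIdeal m L).le
  haveI : Nontrivial (L ⧸ I') := Ideal.Quotient.nontrivial_iff.2 (ne_top_of_le_ne_top (maximalIdeal.isMaximal L).ne_top hI')
  haveI : IsLocalRing (L ⧸ I') := .of_surjective' _ Ideal.Quotient.mk_surjective
  haveI hmb : (m.map (Ideal.Quotient.mk Hb)).IsPrime :=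
    Ideal.map_isPrime_of_surjective Ideal.Quotient.mk_surjective (by rwa [Ideal.mk_ker])
  haveI : IsLocalization.AtPrime (L ⧸ I') (m.map (Ideal.Quotient.mk Hb)) := by
    have h : @IsLocalization ((S ⧸ H) ⧸ Hb) _ (Algebra.algebraMapSubmonoid ((S ⧸ H) ⧸ Hb) m.primeCompl)
        (L ⧸ I') _ _ := inferInstance
    rw [show Algebra.algebraMapSubmonoid ((S ⧸ H) ⧸ Hb) m.primeCompl = _ from algebraMapSubmonoid_primeCompl hHbm] at h
    exact h
  let e' : (S ⧸ H) ⧸ Hb ≃+* S ⧸ H' := DoubleQuot.quotQuotEquivQuotOfLE hle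
  have hmin' : ∀ p ∈ minimalPrimes ((S ⧸ H) ⧸ Hb), p ≤ m.map (Ideal.Quotient.mk Hb) := by
    intro p hp
    haveI := hp.1.1
    have hp' : p.comap (Ideal.Quotient.mk Hb) ∈ Hb.minimalPrimes := by
      rw [Ideal.minimalPrimes_eq_comap]; exact ⟨p, hp, rfl⟩
    have hq : (p.comap (Ideal.Quotient.mk Hb)).comap (Ideal.Quotient.mk H) ∈ H'.minimalPrimes := by
      have h := Ideal.comap_minimalPrimes_eq_of_surjective (f := Ideal.Quotient.mk H) Ideal.Quotient.mk_surjective Hb
      rw [show Hb.comap (Ideal.Quotient.mk H) = H' by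
        rw [Ideal.comap_map_of_surjective _ Ideal.Quotient.mk_surjective, ← RingHom.ker_eq_comap_bot, Ideal.mk_ker,
          sup_eq_left.mpr hle]] at h
      rw [h]; exact ⟨_, hp', rfl⟩
    have h2 := le_idealOfVars (H26Grass.Graded.isHomogeneous_of_mem_minimalPrimes hH' hq) hq.1.1.ne_top
    rw [← Ideal.map_comap_of_surjective _ Ideal.Quotient.mk_surjective p]
    refine Ideal.map_mono ?_
    rw [← Ideal.map_comap_of_surjective (Ideal.Quotient.mk H) Ideal.Quotient.mk_surjective (p.comap (Ideal.Quotient.mk Hb))]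
    exact Ideal.map_mono h2
  have c3 : LocCoh.connDim (PrimeSpectrum (L ⧸ I')) ≤ LocCoh.connDim (PrimeSpectrum (S ⧸ H')) :=
    (connDim_le_connDim (m := m.map (Ideal.Quotient.mk Hb)) hmin').trans
      (connDim_congr (PrimeSpectrum.homeomorphOfRingEquiv e'))
  let a : Ideal C := I'.map (algebraMap L C)
  haveI : IsNoetherianRing C := H05EGA4.isNoetherianRing_adicCompletion L (maximalIdeal L)
  obtain ⟨e⟩ := H05EGA4.exists_completion_quotient_equiv (maximalIdeal L) (L ⧸ I') (Ideal.Quotient.mk I')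
    Ideal.Quotient.mk_surjective (maximalIdeal (L ⧸ I'))
    (IsLocalRing.map_maximalIdeal_of_surjective _ Ideal.Quotient.mk_surjective)
  rw [Ideal.mk_ker] at e
  have c4 : LocCoh.connDim (PrimeSpectrum (C ⧸ a)) ≤ LocCoh.connDim (PrimeSpectrum (S ⧸ H')) :=
    ((connDim_congr (PrimeSpectrum.homeomorphOfRingEquiv e)).trans (connDim_completion_le (L ⧸ I'))).trans c3
  have ha : a ≠ ⊤ := fun h => by
    haveI := e.toEquiv.nontrivial
    exact (Ideal.Quotient.nontrivial_iff.1 this) h
  let φ : S →+* C := (algebraMap L C).comp ((algebraMap (S ⧸ H) L).comp (Ideal.Quotient.mk H))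
  have hspan : a = Ideal.span ((s.image φ : Finset C) : Set C) := by
    show ((H'.map (Ideal.Quotient.mk H)).map (algebraMap (S ⧸ H) L)).map (algebraMap L C) = _
    rw [Ideal.map_map, Ideal.map_map, RingHom.comp_assoc, hs, Ideal.map_sup, Ideal.map_span, Finset.coe_image,
      sup_eq_right.mpr ?_]
    refine le_trans (le_of_eq ((Ideal.map_eq_bot_iff_le_ker φ).mpr fun x hx => ?_)) bot_le
    simp [φ, RingHom.mem_ker, Ideal.Quotient.eq_zero_iff_mem.mpr hx]
  have hcd : LocCoh.CdLE C a s.card := fun M _ _ i hi => by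
    rw [hspan]
    exact H4LC.cdLE_span_finset (s.image φ) M i (lt_of_le_of_lt (by exact_mod_cast Finset.card_image_le) hi)
  refine le_trans ?_ ((min_le_connDim_quotient a ha s.card hcd).trans (by gcongr))
  exact min_le_min (by gcongr; exact c1.trans c2) (s1.trans s2)

include hH in
/-- **The connectedness bound for cones.** -/
theorem cone_bound {H' : Ideal S} (hH' : H'.IsHomogeneous (homogeneousSubmodule σ K)) (hH'1 : H' ≠ ⊤)
    (s : Finset S) (hs : H' = H ⊔ Ideal.span (s : Set S)) :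
    min (LocCoh.connDim (PrimeSpectrum (S ⧸ H)) + 1) (LocCoh.subdim (PrimeSpectrum (S ⧸ H))) ≤
      LocCoh.connDim (PrimeSpectrum (S ⧸ H')) + (s.card : WithBot ℕ∞) + 1 := by
  have h1 : H ≠ ⊤ := ne_top_of_le_ne_top hH'1 (by rw [hs]; exact le_sup_left)
  haveI := map_isMaximal hH h1
  have huc : CAlg.IsUniversallyCatenary (Localization.AtPrime ((idealOfVars σ K).map (Ideal.Quotient.mk H))) := by
    haveI : Algebra.EssFiniteType (S ⧸ H) (Localization.AtPrime ((idealOfVars σ K).map (Ideal.Quotient.mk H))) :=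
      Algebra.EssFiniteType.of_isLocalization _ ((idealOfVars σ K).map (Ideal.Quotient.mk H)).primeCompl
    haveI : Algebra.EssFiniteType K (Localization.AtPrime ((idealOfVars σ K).map (Ideal.Quotient.mk H))) :=
      Algebra.EssFiniteType.comp K (S ⧸ H) _
    haveI : IsAdicComplete (maximalIdeal K) K := by rw [IsLocalRing.maximalIdeal_eq_bot]; infer_instance
    exact Groth.Agent.S9126.result K _ (H05EGA4.isUniversallyCatenary_of_isAdicComplete K)
  exact cone_bound_aux (L := Localization.AtPrime ((idealOfVars σ K).map (Ideal.Quotient.mk H))) hH huc hH' hH'1 s hs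

end Graded

end Groth.Agent.H3CAlg.ConeConn
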