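import Groth.Agent.H3CAlg.ConeConn
import Groth.Agent.H22Alg.IntersectDim
import Groth.Agent.H19Grp.AlgClosedGeom

/-!
# Connectedness dimension of products of affine schemes over an algebraically closed field
-/

set_option autoImplicit false
set_option linter.style.haveILetI false
set_option synthInstance.maxHeartbeats 80000

universe u

open TensorProduct PrimeSpectrum
open Groth.Agent.H4Conn

namespace Groth.Agent.H3CAlg.ConeProd

section Top

theorem subdim_congr {T T' : Type u} [TopologicalSpace T] [TopologicalSpace T'] (e : T ≃ₜ T') :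
    LocCoh.subdim T ≤ LocCoh.subdim T' := by
  refine le_iInf₂ fun C hC => ?_
  have hC' : e ⁻¹' C ∈ irreducibleComponents T := by
    refine ⟨?_, fun D hD hCD => ?_⟩
    · rw [← e.image_symm]
      exact hC.1.image _ e.symm.continuous.continuousOn
    · have h1 : C ⊆ e '' D := fun x hx => ⟨e.symm x, hCD (by simpa using hx), by simp⟩
      intro x hx
      exact hC.2 (hD.image _ e.continuous.continuousOn) h1 ⟨x, hx, rfl⟩
  refine (H4Conn.subdim_le hC').trans (le_of_eq ?_)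
  exact IsHomeomorph.topologicalKrullDim_eq _
    ((e.image (e ⁻¹' C)).trans (Homeomorph.setCongr (Set.image_preimage_eq C e.surjective))).isHomeomorph

theorem subdim_eq_of_homeomorph {T T' : Type u} [TopologicalSpace T] [TopologicalSpace T'] (e : T ≃ₜ T') :
    LocCoh.subdim T = LocCoh.subdim T' := le_antisymm (subdim_congr e) (subdim_congr e.symm)

end Top

section Column

variable {R B : Type u} [CommRing R] [CommRing B]

/-- A partition of minimal primes splitting the fibre over a fixed component. -/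
theorem le_dim_of_split [IsNoetherianRing B] (hfin : ∀ J : Ideal B, J ≠ ⊤ → ∃ n : ℕ, ringKrullDim (B ⧸ J) = n)
    (Φ : Ideal B → Ideal R) {d : WithBot ℕ∞}
    (hmono : ∀ q q', q ≤ q' → Φ q ≤ Φ q')
    (hdim : ∀ Q : Ideal B, Q.IsPrime → d + ringKrullDim (B ⧸ Q) ≤ ringKrullDim (R ⧸ Φ Q))
    {F G : Set (PrimeSpectrum R)} (hF : IsClosed F) (hG : IsClosed G)
    (hprime : ∀ Q : Ideal B, Q.IsPrime → (Φ Q).IsPrime)
    (hcover : ∀ q ∈ minimalPrimes B, ∀ h : (Φ q).IsPrime, (⟨Φ q, h⟩ : PrimeSpectrum R) ∈ F ∪ G)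
    (hF' : ∃ q ∈ minimalPrimes B, ∃ h : (Φ q).IsPrime, (⟨Φ q, h⟩ : PrimeSpectrum R) ∈ F)
    (hG' : ∃ q ∈ minimalPrimes B, ∃ h : (Φ q).IsPrime, (⟨Φ q, h⟩ : PrimeSpectrum R) ∈ G) :
    d + LocCoh.connDim (PrimeSpectrum B) ≤ topologicalKrullDim ↥(F ∩ G) := by
  classical
  obtain ⟨f, rfl⟩ := (isClosed_iff_zeroLocus_ideal F).1 hF
  obtain ⟨g, rfl⟩ := (isClosed_iff_zeroLocus_ideal G).1 hG
  have key : ∀ Q : Ideal B, Q.IsPrime → f ≤ Φ Q → g ≤ Φ Q →
      d + ringKrullDim (B ⧸ Q) ≤ topologicalKrullDim ↥(zeroLocus (f : Set R) ∩ zeroLocus (g : Set R)) := by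
    intro Q hQ hf hg
    rw [← zeroLocus_sup, dim_zeroLocus]
    exact (hdim Q hQ).trans (dim_quotient_mono (sup_le hf hg))
  obtain ⟨q₁, hq₁, h₁, hq₁F⟩ := hF'
  obtain ⟨q₂, hq₂, h₂, hq₂G⟩ := hG'
  simp only [mem_zeroLocus, SetLike.coe_subset_coe] at hq₁F hq₂G
  have hcov : ∀ q ∈ minimalPrimes B, f ≤ Φ q ∨ g ≤ Φ q := fun q hq =>
    (hcover q hq (hprime q hq.1.1)).imp (fun h => h) fun h => h
  by_cases hboth : ∃ q ∈ minimalPrimes B, f ≤ Φ q ∧ g ≤ Φ q
  · obtain ⟨q, hq, hf, hg⟩ := hboth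
    exact (add_le_add le_rfl (connDim_le_subdim.trans (subdim_le_dim_quotient hq))).trans (key q hq.1.1 hf hg)
  push Not at hboth
  let sf := (minimalPrimes.finite_of_isNoetherianRing B).toFinset.filter fun q => f ≤ Φ q
  let sg := (minimalPrimes.finite_of_isNoetherianRing B).toFinset.filter fun q => g ≤ Φ q
  have hmem : ∀ {q : Ideal B}, q ∈ (minimalPrimes.finite_of_isNoetherianRing B).toFinset ↔ q ∈ minimalPrimes B :=
    fun {q} => Set.Finite.mem_toFinset _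
  have hsplit : ∀ P : Ideal B, P.IsPrime → sf.inf id ≤ P ∨ sg.inf id ≤ P := by
    intro P hP
    obtain ⟨q, hq, hqP⟩ := Ideal.exists_minimalPrimes_le (I := (⊥ : Ideal B)) (J := P) bot_le
    rcases hcov q hq with h | h
    · exact Or.inl ((Finset.inf_le (f := id) (Finset.mem_filter.2 ⟨hmem.2 hq, h⟩)).trans hqP)
    · exact Or.inr ((Finset.inf_le (f := id) (Finset.mem_filter.2 ⟨hmem.2 hq, h⟩)).trans hqP)
  have hsf : ∃ P : Ideal B, P.IsPrime ∧ ¬ sf.inf id ≤ P := by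
    refine ⟨q₂, hq₂.1.1, fun hle => ?_⟩
    obtain ⟨q, hq, hqq⟩ := (Ideal.IsPrime.inf_le' hq₂.1.1).1 hle
    rw [Finset.mem_filter, hmem] at hq
    exact hboth q₂ hq₂ (hq.2.trans (hmono _ _ hqq)) hq₂G
  have hsg : ∃ P : Ideal B, P.IsPrime ∧ ¬ sg.inf id ≤ P := by
    refine ⟨q₁, hq₁.1.1, fun hle => ?_⟩
    obtain ⟨q, hq, hqq⟩ := (Ideal.IsPrime.inf_le' hq₁.1.1).1 hle
    rw [Finset.mem_filter, hmem] at hq
    exact hboth q₁ hq₁ hq₁F (hq.2.trans (hmono _ _ hqq))
  have hle := connDim_le_dim_sup hsplit hsf hsg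
  by_cases htop : sf.inf id ⊔ sg.inf id = ⊤
  · rw [htop] at hle
    haveI : Subsingleton (B ⧸ (⊤ : Ideal B)) := Ideal.Quotient.subsingleton_iff.2 rfl
    rw [ringKrullDim_eq_bot_of_subsingleton, le_bot_iff] at hle
    rw [hle, WithBot.add_bot]
    exact bot_le
  obtain ⟨n, hn⟩ := hfin _ htop
  obtain ⟨Q, hQ, hQdim⟩ := le_dim_sup_of_le_minimal _ hn.ge (sf.inf id ⊔ sg.inf id).minimalPrimes
    fun P hP hle => Ideal.exists_minimalPrimes_le hle
  rw [sup_eq_right.mpr hQ.1.2, ← hn] at hQdim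
  haveI := hQ.1.1
  obtain ⟨qf, hqf, hqfQ⟩ := (Ideal.IsPrime.inf_le' hQ.1.1).1 (le_sup_left.trans hQ.1.2)
  obtain ⟨qg, hqg, hqgQ⟩ := (Ideal.IsPrime.inf_le' hQ.1.1).1 (le_sup_right.trans hQ.1.2)
  rw [Finset.mem_filter] at hqf hqg
  exact (add_le_add le_rfl (hle.trans hQdim)).trans
    (key Q hQ.1.1 (hqf.2.trans (hmono _ _ hqfQ)) (hqg.2.trans (hmono _ _ hqgQ)))

end Column

section Product

theorem exists_nat_dim (K : Type u) [Field K] {B : Type u} [CommRing B] [Algebra K B] [Algebra.FiniteType K B]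
    (J : Ideal B) (hJ : J ≠ ⊤) : ∃ n : ℕ, ringKrullDim (B ⧸ J) = n := by
  haveI : Nontrivial (B ⧸ J) := Ideal.Quotient.nontrivial_iff.2 hJ
  obtain ⟨s, f, hf⟩ := (Algebra.FiniteType.iff_quotient_mvPolynomial'' (R := K) (S := B)).1 inferInstance
  have hle := ringKrullDim_le_of_surjective ((Ideal.Quotient.mk J).comp f.toRingHom)
    (Ideal.Quotient.mk_surjective.comp hf)
  rw [MvPolynomial.ringKrullDim_of_isNoetherianRing, ringKrullDim_eq_zero_of_field, zero_add,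
    Nat.card_eq_fintype_card, Fintype.card_fin] at hle
  have h0 : (0 : WithBot ℕ∞) ≤ ringKrullDim (B ⧸ J) := ringKrullDim_nonneg_of_nontrivial
  generalize ringKrullDim (B ⧸ J) = x at hle h0
  obtain ⟨m, rfl⟩ : ∃ m : ℕ∞, x = (m : WithBot ℕ∞) := ⟨_, (WithBot.coe_unbot x (by rintro rfl; simp at h0)).symm⟩
  obtain ⟨n, rfl⟩ := ENat.ne_top_iff_exists.1 (show m ≠ ⊤ by
    rintro rfl
    exact absurd hle (not_le.mpr (WithBot.coe_lt_coe.mpr (ENat.coe_lt_top s))))
  exact ⟨n, rfl⟩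

variable (K : Type u) [Field K] {A B : Type u} [CommRing A] [CommRing B] [Algebra K A] [Algebra K B]

/-- The product of two closed subschemes. -/
noncomputable def prodIdeal (p : Ideal A) (q : Ideal B) : Ideal (A ⊗[K] B) :=
  p.map (Algebra.TensorProduct.includeLeft : A →ₐ[K] A ⊗[K] B) ⊔
    q.map (Algebra.TensorProduct.includeRight : B →ₐ[K] A ⊗[K] B)

theorem prodIdeal_mono {p p' : Ideal A} {q q' : Ideal B} (hp : p ≤ p') (hq : q ≤ q') :
    prodIdeal K p q ≤ prodIdeal K p' q' :=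
  sup_le_sup (Ideal.map_mono hp) (Ideal.map_mono hq)

theorem ker_map_mk (p : Ideal A) (q : Ideal B) :
    RingHom.ker (Algebra.TensorProduct.map (Ideal.Quotient.mkₐ K p) (Ideal.Quotient.mkₐ K q)) = prodIdeal K p q := by
  rw [Algebra.TensorProduct.map_ker _ _ (Ideal.Quotient.mkₐ_surjective K p) (Ideal.Quotient.mkₐ_surjective K q)]
  have hp : RingHom.ker (Ideal.Quotient.mkₐ K p) = p := Ideal.Quotient.mkₐ_ker K p
  have hq : RingHom.ker (Ideal.Quotient.mkₐ K q) = q := Ideal.Quotient.mkₐ_ker K q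
  rw [hp, hq]
  rfl

theorem prodIdeal_isPrime [IsAlgClosed K] (p : Ideal A) (q : Ideal B) [p.IsPrime] [q.IsPrime] :
    (prodIdeal K p q).IsPrime := by
  haveI := H19Grp.isDomain_tensorProduct (k := K) (A ⧸ p) (B ⧸ q)
  rw [← ker_map_mk]
  exact RingHom.ker_isPrime _

/-- The quotient by a product ideal. -/
noncomputable def quotientProdIdealEquiv (p : Ideal A) (q : Ideal B) :
    (A ⊗[K] B) ⧸ prodIdeal K p q ≃+* (A ⧸ p) ⊗[K] (B ⧸ q) :=
  (Ideal.quotEquivOfEq (ker_map_mk K p q).symm).trans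
    (RingHom.quotientKerEquivOfSurjective
      (f := (Algebra.TensorProduct.map (Ideal.Quotient.mkₐ K p) (Ideal.Quotient.mkₐ K q)).toRingHom)
      (Algebra.TensorProduct.map_surjective _ _ (Ideal.Quotient.mkₐ_surjective K p)
        (Ideal.Quotient.mkₐ_surjective K q)))

theorem dim_prodIdeal [IsAlgClosed K] [Algebra.FiniteType K A] [Algebra.FiniteType K B] (p : Ideal A) (q : Ideal B)
    [p.IsPrime] [q.IsPrime] :
    ringKrullDim ((A ⊗[K] B) ⧸ prodIdeal K p q) = ringKrullDim (A ⧸ p) + ringKrullDim (B ⧸ q) := by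
  haveI := H19Grp.isDomain_tensorProduct (k := K) (A ⧸ p) (B ⧸ q)
  haveI : Algebra.FiniteType K (A ⧸ p) := Algebra.FiniteType.trans (R := K) (S := A) inferInstance inferInstance
  haveI : Algebra.FiniteType K (B ⧸ q) := Algebra.FiniteType.trans (R := K) (S := B) inferInstance inferInstance
  rw [ringKrullDim_eq_of_ringEquiv (quotientProdIdealEquiv K p q),
    ← H22Alg.IntersectDim.dim_quotient_minimalPrimes_tensor K (A ⧸ p) (A := B ⧸ q) ⊥
      ⟨⟨Ideal.bot_prime, le_rfl⟩, fun _ _ _ => bot_le⟩]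
  exact (ringKrullDim_eq_of_ringEquiv (RingEquiv.quotientBot _)).symm

theorem exists_components [IsAlgClosed K] {Q : Ideal (A ⊗[K] B)} (hQ : Q ∈ minimalPrimes (A ⊗[K] B)) :
    ∃ p ∈ minimalPrimes A, ∃ q ∈ minimalPrimes B, Q = prodIdeal K p q := by
  haveI := hQ.1.1
  obtain ⟨p, hp, hpQ⟩ := Ideal.exists_minimalPrimes_le (I := (⊥ : Ideal A))
    (J := Q.comap (Algebra.TensorProduct.includeLeft : A →ₐ[K] A ⊗[K] B)) bot_le
  obtain ⟨q, hq, hqQ⟩ := Ideal.exists_minimalPrimes_le (I := (⊥ : Ideal B))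
    (J := Q.comap (Algebra.TensorProduct.includeRight : B →ₐ[K] A ⊗[K] B)) bot_le
  haveI := hp.1.1
  haveI := hq.1.1
  have hle : prodIdeal K p q ≤ Q :=
    sup_le (Ideal.map_le_iff_le_comap.2 hpQ) (Ideal.map_le_iff_le_comap.2 hqQ)
  exact ⟨p, hp, q, hq, le_antisymm (hQ.2 ⟨prodIdeal_isPrime K p q, bot_le⟩ hle) hle⟩

variable [IsAlgClosed K] [Algebra.FiniteType K A] [Algebra.FiniteType K B]

theorem subdim_add_le_subdim :
    LocCoh.subdim (PrimeSpectrum A) + LocCoh.subdim (PrimeSpectrum B) ≤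
      LocCoh.subdim (PrimeSpectrum (A ⊗[K] B)) := by
  refine H4Conn.le_subdim fun Q hQ => ?_
  obtain ⟨p, hp, q, hq, rfl⟩ := exists_components K hQ
  haveI := hp.1.1
  haveI := hq.1.1
  rw [dim_prodIdeal]
  exact add_le_add (subdim_le_dim_quotient hp) (subdim_le_dim_quotient hq)

theorem min_le_connDim :
    min (LocCoh.subdim (PrimeSpectrum A) + LocCoh.connDim (PrimeSpectrum B))
        (LocCoh.subdim (PrimeSpectrum B) + LocCoh.connDim (PrimeSpectrum A)) ≤
      LocCoh.connDim (PrimeSpectrum (A ⊗[K] B)) := by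
  classical
  haveI : IsNoetherianRing A := Algebra.FiniteType.isNoetherianRing K A
  haveI : IsNoetherianRing B := Algebra.FiniteType.isNoetherianRing K B
  rcases subsingleton_or_nontrivial (A ⊗[K] B) with hsub | hnt
  · haveI : IsEmpty (PrimeSpectrum (A ⊗[K] B)) := ⟨fun x => x.2.ne_top (Subsingleton.elim _ _)⟩
    haveI : Subsingleton A ∨ Subsingleton B := by
      by_contra h
      push Not at h
      haveI := h.1
      haveI := h.2
      exact not_subsingleton (A ⊗[K] B) hsub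
    rcases this with h | h
    · haveI := h
      haveI : IsEmpty (PrimeSpectrum A) := ⟨fun x => x.2.ne_top (Subsingleton.elim _ _)⟩
      refine (min_le_right _ _).trans ?_
      rw [show LocCoh.connDim (PrimeSpectrum A) = ⊥ from le_bot_iff.1 (connDim_le_dim.trans_eq (by
        rw [PrimeSpectrum.topologicalKrullDim_eq_ringKrullDim, ringKrullDim_eq_bot_of_subsingleton])), WithBot.add_bot]
      exact bot_le
    · haveI := h
      refine (min_le_left _ _).trans ?_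
      rw [show LocCoh.connDim (PrimeSpectrum B) = ⊥ from le_bot_iff.1 (connDim_le_dim.trans_eq (by
        rw [PrimeSpectrum.topologicalKrullDim_eq_ringKrullDim, ringKrullDim_eq_bot_of_subsingleton])), WithBot.add_bot]
      exact bot_le
  haveI : IsNoetherianRing (A ⊗[K] B) := by
    haveI : Algebra.FiniteType K (A ⊗[K] B) := Algebra.FiniteType.trans (R := K) (S := A) inferInstance inferInstance
    exact Algebra.FiniteType.isNoetherianRing K _
  rw [connDim_eq_iInf (T := PrimeSpectrum (A ⊗[K] B))]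
  refine le_iInf₂ fun 𝒜 ℬ => le_iInf fun ⟨h𝒜, hℬ, h𝒜n, hℬn, hu⟩ => ?_
  have hcF := isClosed_sUnion_components h𝒜
  have hcG := isClosed_sUnion_components hℬ
  set F := ⋃₀ 𝒜 with hFdef
  set G := ⋃₀ ℬ with hGdef
  have huniv : F ∪ G = Set.univ := by rw [hFdef, hGdef, ← Set.sUnion_union, hu, sUnion_irreducibleComponents]
  have hgen : ∀ {𝒞 : Set (Set (PrimeSpectrum (A ⊗[K] B)))}, 𝒞 ⊆ irreducibleComponents _ → 𝒞.Nonempty →
      ∃ p ∈ minimalPrimes A, ∃ q ∈ minimalPrimes B, ∃ h : (prodIdeal K p q).IsPrime,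
        (⟨prodIdeal K p q, h⟩ : PrimeSpectrum (A ⊗[K] B)) ∈ ⋃₀ 𝒞 := by
    intro 𝒞 h𝒞 ⟨Z, hZ⟩
    have hZ' := h𝒞 hZ
    rw [← PrimeSpectrum.zeroLocus_minimalPrimes] at hZ'
    obtain ⟨Q, hQ, rfl⟩ := hZ'
    obtain ⟨p, hp, q, hq, rfl⟩ := exists_components K hQ
    exact ⟨p, hp, q, hq, hQ.1.1, _, hZ, fun x hx => hx⟩
  obtain ⟨p₁, hp₁, q₁, hq₁, h₁, hm₁⟩ := hgen h𝒜 h𝒜n
  obtain ⟨p₂, hp₂, q₂, hq₂, h₂, hm₂⟩ := hgen hℬ hℬn
  rw [← hFdef] at hm₁
  rw [← hGdef] at hm₂
  haveI := hp₁.1.1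
  haveI := hp₂.1.1
  haveI := hq₁.1.1
  haveI := hq₂.1.1
  -- either the column over `p₂` or the row over `q₁` is split
  rcases (huniv.ge (Set.mem_univ (⟨prodIdeal K p₂ q₁, prodIdeal_isPrime K p₂ q₁⟩ : PrimeSpectrum (A ⊗[K] B))))
    with hm | hm
  · refine le_trans (min_le_left _ _) (le_trans (add_le_add (subdim_le_dim_quotient hp₂) le_rfl)
      (le_dim_of_split (exists_nat_dim K) (fun Q => prodIdeal K p₂ Q) (fun _ _ h => prodIdeal_mono K le_rfl h)
        (fun Q hQ => by haveI := hQ; rw [dim_prodIdeal]) hcF hcG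
        (fun Q hQ => by haveI := hQ; exact prodIdeal_isPrime K p₂ Q)
        (fun q _ h => huniv.ge (Set.mem_univ _)) ⟨q₁, hq₁, _, hm⟩ ⟨q₂, hq₂, h₂, hm₂⟩))
  · refine le_trans (min_le_right _ _) (le_trans (add_le_add (subdim_le_dim_quotient hq₁) le_rfl)
      (le_dim_of_split (exists_nat_dim K) (fun Q => prodIdeal K Q q₁) (fun _ _ h => prodIdeal_mono K h le_rfl)
        (fun Q hQ => by haveI := hQ; rw [dim_prodIdeal, add_comm]) hcF hcG
        (fun Q hQ => by haveI := hQ; exact prodIdeal_isPrime K Q q₁)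
        (fun q _ h => huniv.ge (Set.mem_univ _)) ⟨p₁, hp₁, h₁, hm₁⟩ ⟨p₂, hp₂, _, hm⟩))

end Product

end Groth.Agent.H3CAlg.ConeProd
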