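import Groth.Agent.H3CAlg.AdicFree
import Mathlib

/-!
Adically decaying functions, general coefficient modules: completeness, series, lifting,
tensor products, completions of free modules.
-/

open TensorProduct

namespace Groth.Agent.H3CAlg.Decaying

open W4c5adicflatcompl

universe u v w w'

variable {A : Type u} [CommRing A] {I : Ideal A} {Z : Type v} {M : Type w} [AddCommGroup M] [Module A M]

theorem map_mem {N : Type w'} [AddCommGroup N] [Module A N] (f : M →ₗ[A] N) {n : ℕ} {x : M}
    (hx : x ∈ (I ^ n • ⊤ : Submodule A M)) : f x ∈ (I ^ n • ⊤ : Submodule A N) := by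
  have := Submodule.mem_map_of_mem (f := f) hx
  rw [Submodule.map_smul''] at this
  exact (smul_mono_right _ le_top : _ ≤ (I ^ n • ⊤ : Submodule A N)) this

theorem pow_smul_le {m n : ℕ} (h : m ≤ n) : (I ^ n • ⊤ : Submodule A M) ≤ I ^ m • ⊤ :=
  Submodule.smul_mono_left (Ideal.pow_le_pow_right h)

theorem isHausdorff [IsHausdorff I M] : IsHausdorff I (decaying I Z M) :=
  ⟨fun f hf => Subtype.ext (funext fun z => IsHausdorff.haus (I := I) inferInstance _ fun n =>
    SModEq.zero.mpr (AdicFree.decaying_apply_mem (SModEq.zero.mp (hf n)) z))⟩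

theorem exists_of_mem_span_smul {r : ℕ} (a : Fin r → A) (N : Submodule A M) {x : M}
    (hx : x ∈ Ideal.span (Set.range a) • N) :
    ∃ c : Fin r → M, (∀ j, c j ∈ N) ∧ x = ∑ j, a j • c j := by
  induction hx using Submodule.smul_induction_on' with
  | smul s hs y hy =>
    obtain ⟨d, rfl⟩ := (Submodule.mem_span_range_iff_exists_fun A).mp hs
    refine ⟨fun j => d j • y, fun j => N.smul_mem _ hy, ?_⟩
    rw [Finset.sum_smul]
    exact Finset.sum_congr rfl fun j _ => by rw [smul_smul, smul_eq_mul, mul_comm]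
  | add x _ y _ hx hy =>
    obtain ⟨c, hc, rfl⟩ := hx
    obtain ⟨d, hd, rfl⟩ := hy
    exact ⟨c + d, fun j => N.add_mem (hc j) (hd j), by simp [Finset.sum_add_distrib]⟩

/-- Deep representations along a family of generators of `I ^ n`. -/
theorem exists_deep_sum [IsHausdorff I M] {r n : ℕ} (a : Fin r → A) (ha : Ideal.span (Set.range a) = I ^ n)
    (x : M) (hx : x ∈ (I ^ n • ⊤ : Submodule A M)) :
    ∃ c : Fin r → M, x = ∑ j, a j • c j ∧
      ∀ i, x ∈ (I ^ (i + n) • ⊤ : Submodule A M) → ∀ j, c j ∈ (I ^ i • ⊤ : Submodule A M) := by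
  classical
  by_cases hall : ∀ i, x ∈ (I ^ (i + n) • ⊤ : Submodule A M)
  · refine ⟨0, ?_, fun i _ j => by simp⟩
    simpa using IsHausdorff.haus (I := I) ‹_› x fun i => SModEq.zero.mpr (pow_smul_le (Nat.le_add_right i n) (hall i))
  · push Not at hall
    obtain ⟨K, hK, hKmin⟩ : ∃ K, x ∉ (I ^ (K + n) • ⊤ : Submodule A M) ∧
        ∀ i < K, x ∈ (I ^ (i + n) • ⊤ : Submodule A M) :=
      ⟨Nat.find hall, Nat.find_spec hall, fun i hi => not_not.mp (Nat.find_min hall hi)⟩
    rcases K with _ | K
    · exact absurd (by simpa using hx) hK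
    · have h1 := hKmin K K.lt_succ_self
      rw [add_comm, pow_add, Submodule.mul_smul, ← ha] at h1
      obtain ⟨c, hc, hx'⟩ := exists_of_mem_span_smul a _ h1
      refine ⟨c, hx', fun i hi j => pow_smul_le ?_ (hc j)⟩
      by_contra hlt
      exact hK (pow_smul_le (by omega) hi)

theorem mem_pow_smul_iff [IsHausdorff I M] (hI : I.FG) {n : ℕ} (h : decaying I Z M) :
    h ∈ (I ^ n • ⊤ : Submodule A (decaying I Z M)) ↔ ∀ z, (h : Z → M) z ∈ (I ^ n • ⊤ : Submodule A M) := by
  classical
  refine ⟨fun hh z => AdicFree.decaying_apply_mem hh z, fun hh => ?_⟩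
  obtain ⟨r, a, ha⟩ := Submodule.fg_iff_exists_fin_generating_family.mp (Submodule.FG.pow hI n)
  have ha' : Ideal.span (Set.range a) = I ^ n := ha
  choose c hc1 hc2 using fun z => exists_deep_sum a ha' ((h : Z → M) z) (hh z)
  have hdec : ∀ j, (fun z => c z j) ∈ decaying I Z M := fun j i =>
    (h.2 (i + n)).subset fun z hz hbad => hz (hc2 z i hbad j)
  have : h = ∑ j, a j • (⟨fun z => c z j, hdec j⟩ : decaying I Z M) := by
    refine Subtype.ext (funext fun z => ?_)
    rw [Submodule.coe_sum, Finset.sum_apply, hc1 z]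
    rfl
  rw [this]
  exact sum_mem fun j _ => Submodule.smul_mem_smul (ha' ▸ Ideal.subset_span ⟨j, rfl⟩) trivial

theorem isAdicComplete [IsAdicComplete I M] (hI : I.FG) : IsAdicComplete I (decaying I Z M) :=
  { haus' := (isHausdorff (I := I) (Z := Z) (M := M)).haus'
    prec' := fun f hf => by
      have hz : ∀ z, ∃ L : M, ∀ n, (f n : Z → M) z ≡ L [SMOD (I ^ n • ⊤ : Submodule A M)] := fun z =>
        IsPrecomplete.prec inferInstance fun {m n} hmn => SModEq.sub_mem.mpr
          (by simpa using AdicFree.decaying_apply_mem (SModEq.sub_mem.mp (hf hmn)) z)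
      choose L hL using hz
      have hLd : L ∈ decaying I Z M := by
        intro n
        refine ((f n).2 n).subset fun z hz hbad => hz ?_
        have := sub_mem hbad (SModEq.sub_mem.mp (hL z n))
        rwa [sub_sub_cancel] at this
      exact ⟨⟨L, hLd⟩, fun n => SModEq.sub_mem.mpr ((mem_pow_smul_iff hI _).mpr fun z =>
        SModEq.sub_mem.mp (hL z n))⟩ }

/-! ### Lifting -/

theorem exists_deep_lift {N : Type w'} [AddCommGroup N] [Module A N] [IsHausdorff I N] (φ : M →ₗ[A] N)
    (hφ : Function.Surjective φ) (y : N) :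
    ∃ x, φ x = y ∧ ∀ i, y ∈ (I ^ i • ⊤ : Submodule A N) → x ∈ (I ^ i • ⊤ : Submodule A M) := by
  classical
  by_cases hall : ∀ i, y ∈ (I ^ i • ⊤ : Submodule A N)
  · have : y = 0 := IsHausdorff.haus (I := I) ‹_› y fun i => SModEq.zero.mpr (hall i)
    exact ⟨0, by simp [this], fun i _ => by simp⟩
  · push Not at hall
    obtain ⟨K, hK, hKmin⟩ : ∃ K, y ∉ (I ^ K • ⊤ : Submodule A N) ∧ ∀ i < K, y ∈ (I ^ i • ⊤ : Submodule A N) :=
      ⟨Nat.find hall, Nat.find_spec hall, fun i hi => not_not.mp (Nat.find_min hall hi)⟩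
    rcases K with _ | K
    · simp at hK
    · have h1 := hKmin K K.lt_succ_self
      rw [← LinearMap.range_eq_top.mpr hφ, ← Submodule.map_top, ← Submodule.map_smul''] at h1
      obtain ⟨x, hx, rfl⟩ := h1
      refine ⟨x, rfl, fun i hi => pow_smul_le ?_ hx⟩
      by_contra hlt
      exact hK (pow_smul_le (by omega) hi)

theorem exists_decaying_lift {N : Type w'} [AddCommGroup N] [Module A N] [IsHausdorff I N] (φ : M →ₗ[A] N)
    (hφ : Function.Surjective φ) (g : Z → N) (hg : g ∈ decaying I Z N) :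
    ∃ f : Z → M, f ∈ decaying I Z M ∧ ∀ z, φ (f z) = g z := by
  choose f hf1 hf2 using fun z => exists_deep_lift (I := I) φ hφ (g z)
  exact ⟨f, fun n => (hg n).subset fun z hz hbad => hz (hf2 z n hbad), hf1⟩

theorem isHausdorff_of_finite [IsNoetherianRing A] [IsAdicComplete I A] [Module.Finite A M] : IsHausdorff I M :=
  IsHausdorff.of_le_jacobson I M (IsAdicComplete.le_jacobson_bot I)

theorem mem_decaying_submodule_iff [IsNoetherianRing A] [IsHausdorff I M] [Module.Finite A M]
    (N : Submodule A M) (f : Z → N) :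
    f ∈ decaying I Z N ↔ (fun z => (f z : M)) ∈ decaying I Z M := by
  refine ⟨fun hf n => (hf n).subset fun z hz hbad => hz (map_mem N.subtype hbad), fun hf n => ?_⟩
  obtain ⟨k, hk⟩ := Ideal.exists_pow_inf_eq_pow_smul I N
  refine (hf (n + k)).subset fun z hz hbad => hz ?_
  have h1 : (f z : M) ∈ (I ^ (n + k) • ⊤ ⊓ N : Submodule A M) := ⟨hbad, (f z).2⟩
  rw [hk _ (Nat.le_add_left _ _), Nat.add_sub_cancel] at h1
  have h2 : (I ^ n • (I ^ k • ⊤ ⊓ N) : Submodule A M) ≤ I ^ n • N := smul_mono_right _ inf_le_right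
  have h3 : (I ^ n • N : Submodule A M) = Submodule.map N.subtype (I ^ n • ⊤) := by
    rw [Submodule.map_smul'', Submodule.map_subtype_top]
  obtain ⟨y, hy, hyz⟩ := h3 ▸ h2 h1
  rwa [show f z = y from Subtype.ext hyz.symm]

/-! ### Sums of decaying families -/

variable (I) in
/-- `m` is the sum of the family `f`. -/
def IsSum (f : Z → M) (m : M) : Prop :=
  ∀ (n : ℕ) (T : Finset Z), (∀ z ∉ T, f z ∈ (I ^ n • ⊤ : Submodule A M)) →
    m - ∑ z ∈ T, f z ∈ (I ^ n • ⊤ : Submodule A M)

theorem exists_bad {f : Z → M} (hf : f ∈ decaying I Z M) (n : ℕ) :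
    ∃ T : Finset Z, ∀ z ∉ T, f z ∈ (I ^ n • ⊤ : Submodule A M) :=
  ⟨(hf n).toFinset, fun z hz => not_not.mp fun h => hz ((hf n).mem_toFinset.mpr h)⟩

theorem partialSum_sub_mem {f : Z → M} {n : ℕ} {T T' : Finset Z} (hTT : T ⊆ T')
    (hT : ∀ z ∉ T, f z ∈ (I ^ n • ⊤ : Submodule A M)) :
    ∑ z ∈ T', f z - ∑ z ∈ T, f z ∈ (I ^ n • ⊤ : Submodule A M) := by
  classical
  rw [← Finset.sum_sdiff hTT, add_sub_cancel_right]
  exact sum_mem fun z hz => hT z (Finset.mem_sdiff.mp hz).2

theorem isSum_of_exists {f : Z → M} {m : M}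
    (h : ∀ n : ℕ, ∃ S : Finset Z, (∀ z, z ∉ S → f z ∈ (I ^ n • ⊤ : Submodule A M)) ∧
      m - ∑ z ∈ S, f z ∈ (I ^ n • ⊤ : Submodule A M)) : IsSum I f m := by
  classical
  intro n T hT
  obtain ⟨S, hS, hm⟩ := h n
  have h1 := partialSum_sub_mem (T' := S ∪ T) Finset.subset_union_left hS
  have h2 := partialSum_sub_mem (T' := S ∪ T) Finset.subset_union_right hT
  have := add_mem (sub_mem hm h1) h2
  convert this using 1
  abel

theorem isSum_unique [IsHausdorff I M] {f : Z → M} (hf : f ∈ decaying I Z M) {x y : M}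
    (hx : IsSum I f x) (hy : IsSum I f y) : x = y := by
  refine sub_eq_zero.mp (IsHausdorff.haus (I := I) ‹_› _ fun n => SModEq.zero.mpr ?_)
  obtain ⟨T, hT⟩ := exists_bad hf n
  have := sub_mem (hx n T hT) (hy n T hT)
  rwa [sub_sub_sub_cancel_right] at this

theorem exists_isSum [IsPrecomplete I M] {f : Z → M} (hf : f ∈ decaying I Z M) : ∃ m, IsSum I f m := by
  classical
  choose T hT using fun n => exists_bad hf n
  let U : ℕ → Finset Z := fun n => (Finset.range (n + 1)).biUnion T
  have hU : ∀ n, ∀ z ∉ U n, f z ∈ (I ^ n • ⊤ : Submodule A M) := fun n z hz => hT n z fun h =>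
    hz (Finset.mem_biUnion.mpr ⟨n, by simp, h⟩)
  have hmono : ∀ {a b}, a ≤ b → U a ⊆ U b := fun hab =>
    Finset.biUnion_subset_biUnion_of_subset_left _ (Finset.range_mono (by omega))
  obtain ⟨x, hx⟩ := IsPrecomplete.prec (I := I) (M := M) ‹_›
    (f := fun n => ∑ z ∈ U n, f z) fun {a b} hab => SModEq.symm (SModEq.sub_mem.mpr
      (partialSum_sub_mem (hmono hab) (hU a)))
  refine ⟨x, isSum_of_exists fun n => ⟨U n, hU n, ?_⟩⟩
  rw [← neg_sub]
  exact neg_mem (SModEq.sub_mem.mp (hx n))

variable [IsAdicComplete I M]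

/-- The sum of a decaying family. -/
noncomputable def tsum : decaying I Z M →ₗ[A] M where
  toFun f := (exists_isSum f.2).choose
  map_add' f g := by
    refine isSum_unique (f + g).2 (exists_isSum (f + g).2).choose_spec (isSum_of_exists fun n => ?_)
    classical
    obtain ⟨S, hS⟩ := exists_bad f.2 n
    obtain ⟨T, hT⟩ := exists_bad g.2 n
    have hf := (exists_isSum f.2).choose_spec n (S ∪ T) fun z hz => hS z fun h => hz (by simp [h])
    have hg := (exists_isSum g.2).choose_spec n (S ∪ T) fun z hz => hT z fun h => hz (by simp [h])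
    refine ⟨S ∪ T, fun z hz => add_mem (hS z fun h => hz (by simp [h])) (hT z fun h => hz (by simp [h])), ?_⟩
    have := add_mem hf hg
    convert this using 1
    simp [Finset.sum_add_distrib]
    abel
  map_smul' a f := by
    refine isSum_unique (a • f).2 (exists_isSum (a • f).2).choose_spec (isSum_of_exists fun n => ?_)
    obtain ⟨S, hS⟩ := exists_bad f.2 n
    refine ⟨S, fun z hz => Submodule.smul_mem _ a (hS z hz), ?_⟩
    have := Submodule.smul_mem _ a ((exists_isSum f.2).choose_spec n S hS)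
    convert this using 1
    simp [smul_sub, Finset.smul_sum]

theorem tsum_spec (f : decaying I Z M) : IsSum I (f : Z → M) (tsum f) := (exists_isSum f.2).choose_spec

theorem tsum_eq {f : decaying I Z M} {m : M} (h : IsSum I (f : Z → M) m) : tsum f = m :=
  isSum_unique f.2 (tsum_spec f) h

theorem tsum_single [DecidableEq Z] (z : Z) (m : M) : tsum (single I z m) = m := by
  refine tsum_eq (isSum_of_exists fun n => ⟨{z}, fun w hw => ?_, by simp⟩)
  simp [Pi.single_eq_of_ne (by simpa using hw : w ≠ z)]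

end Groth.Agent.H3CAlg.Decaying

namespace Groth.Agent.H3CAlg.Decaying

open W4c5adicflatcompl

universe u v w w'

variable {A : Type u} [CommRing A] {I : Ideal A} {Z : Type v} {M : Type w} [AddCommGroup M] [Module A M]
  {N : Type w'} [AddCommGroup N] [Module A N]

/-- Apply linear maps pointwise. -/
def mapPi (ev : Z → N →ₗ[A] M) : decaying I Z N →ₗ[A] decaying I Z M where
  toFun g := ⟨fun z => ev z ((g : Z → N) z), fun n => (g.2 n).subset fun z hz hbad => hz (map_mem (ev z) hbad)⟩
  map_add' f g := Subtype.ext (funext fun z => by simp)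
  map_smul' a f := Subtype.ext (funext fun z => by simp)

@[simp] theorem mapPi_apply (ev : Z → N →ₗ[A] M) (g : decaying I Z N) (z : Z) :
    (mapPi ev g : Z → M) z = ev z ((g : Z → N) z) := rfl

theorem mapPi_single [DecidableEq Z] (ev : Z → N →ₗ[A] M) (z : Z) (x : N) :
    mapPi ev (single I z x) = single I z (ev z x) := by
  refine Subtype.ext (funext fun w => ?_)
  rw [mapPi_apply, coe_single, coe_single]
  rcases eq_or_ne w z with rfl | h
  · simp
  · simp [Pi.single_eq_of_ne h]

/-- `g ↦ ∑ ev z (g z)`. -/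
noncomputable def series [IsAdicComplete I M] (ev : Z → N →ₗ[A] M) : decaying I Z N →ₗ[A] M :=
  tsum ∘ₗ mapPi ev

theorem series_single [IsAdicComplete I M] [DecidableEq Z] (ev : Z → N →ₗ[A] M) (z : Z) (x : N) :
    series ev (single I z x) = ev z x := by
  simp [series, mapPi_single, tsum_single]

/-- Linear maps into Hausdorff modules are determined by singles. -/
theorem hom_ext [IsHausdorff I N] [IsHausdorff I M] [DecidableEq Z] (hI : I.FG) {φ ψ : decaying I Z N →ₗ[A] M}
    (h : ∀ z x, φ (single I z x) = ψ (single I z x)) : φ = ψ := by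
  refine LinearMap.ext fun g => sub_eq_zero.mp (IsHausdorff.haus (I := I) ‹_› _ fun n => SModEq.zero.mpr ?_)
  obtain ⟨T, hT⟩ := exists_bad g.2 n
  have h1 : g - ∑ z ∈ T, single I z ((g : Z → N) z) ∈ (I ^ n • ⊤ : Submodule A (decaying I Z N)) := by
    refine (mem_pow_smul_iff hI _).mpr fun w => ?_
    rw [Submodule.coe_sub, Pi.sub_apply, Submodule.coe_sum, Finset.sum_apply]
    by_cases hw : w ∈ T
    · simp [Pi.single_apply, hw]
    · simpa [Pi.single_apply, hw] using hT w hw
  have h2 := map_mem (φ - ψ) h1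
  simpa [h] using h2

/-- Linear maps from the completion of the ring into a complete module agree if they agree at one. -/
theorem completion_hom_ext [IsHausdorff I M] (hI : I.FG) {φ ψ : AdicCompletion I A →ₗ[A] M}
    (h : φ 1 = ψ 1) : φ = ψ := by
  refine LinearMap.ext fun x => sub_eq_zero.mp (IsHausdorff.haus (I := I) ‹_› _ fun n => SModEq.zero.mpr ?_)
  obtain ⟨a, ha⟩ := Submodule.Quotient.mk_surjective _ (x.val n)
  have h1 : x - a • (1 : AdicCompletion I A) ∈ (I ^ n • ⊤ : Submodule A (AdicCompletion I A)) := by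
    rw [AdicCompletion.pow_smul_top_eq_ker_eval hI, LinearMap.mem_ker, map_sub, map_smul, sub_eq_zero,
      AdicCompletion.eval_apply, ← ha, AdicCompletion.eval_apply, AdicCompletion.val_one]
    show _ = a • Submodule.Quotient.mk (1 : A)
    rw [← Submodule.Quotient.mk_smul]
    exact congrArg _ (mul_one a).symm
  have h2 := map_mem (φ - ψ) h1
  simpa [h] using h2

theorem exists_completion_hom [IsAdicComplete I M] (m : M) :
    ∃ φ : AdicCompletion I A →ₗ[A] M, φ 1 = m := by
  let f : ∀ n, AdicCompletion I A →ₗ[A] M ⧸ (I ^ n • ⊤ : Submodule A M) := fun n =>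
    (Submodule.mapQ _ _ (LinearMap.toSpanSingleton A M m)
      (fun a ha => map_mem (LinearMap.toSpanSingleton A M m) ha)) ∘ₗ AdicCompletion.eval I A n
  have hf : ∀ {p q : ℕ} (hle : p ≤ q), Submodule.factorPow I M hle ∘ₗ f q = f p := by
    intro p q hle
    refine LinearMap.ext fun x => ?_
    obtain ⟨a, ha⟩ := Submodule.Quotient.mk_surjective _ (x.val q)
    have hp : x.val p = Submodule.Quotient.mk a := by
      rw [← x.2 hle, ← ha]
      rfl
    simp only [f, LinearMap.comp_apply, AdicCompletion.eval_apply, ← ha, hp]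
    rfl
  refine ⟨IsAdicComplete.lift I f hf, IsHausdorff.haus (I := I) inferInstance _ |> fun h =>
    sub_eq_zero.mp (h fun n => SModEq.zero.mpr ((Submodule.Quotient.mk_eq_zero _).mp ?_))⟩
  rw [Submodule.Quotient.mk_sub, IsAdicComplete.mk_lift, sub_eq_zero]
  show Submodule.Quotient.mk (LinearMap.toSpanSingleton A M m 1) = _
  rw [LinearMap.toSpanSingleton_apply, one_smul]

end Groth.Agent.H3CAlg.Decaying
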