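import Groth.Agent.H3CAlg.Decaying
import Mathlib

/-!
Spanning by decaying series; tensor products with decaying functions; completions of free modules.
-/

open TensorProduct

namespace Groth.Agent.H3CAlg.Decaying

open W4c5adicflatcompl

universe u v w w'

variable {A : Type u} [CommRing A] {I : Ideal A} {Z : Type v} {M : Type w} [AddCommGroup M] [Module A M]

theorem exists_series_eq [IsPrecomplete I A] (e : Z → M)
    (hspan : ⊤ ≤ Submodule.span A (Set.range e) ⊔ I • (⊤ : Submodule A M)) (x : M) :
    ∃ g : Z → A, g ∈ decaying I Z A ∧ IsSum I (fun z => g z • e z) x := by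
  classical
  have hstep : ∀ (n : ℕ) (y : M), y ∈ (I ^ n • ⊤ : Submodule A M) →
      ∃ c : Z →₀ A, (∀ z, c z ∈ I ^ n) ∧ y - Finsupp.linearCombination A e c ∈ (I ^ (n + 1) • ⊤ : Submodule A M) := by
    intro n y hy
    induction hy using Submodule.smul_induction_on' with
    | smul a ha w _ =>
      obtain ⟨u, hu, v, hv, rfl⟩ := Submodule.mem_sup.mp (hspan (Submodule.mem_top (x := w)))
      obtain ⟨c, rfl⟩ := (Finsupp.mem_span_range_iff_exists_finsupp).mp hu
      refine ⟨a • c, fun z => (I ^ n).mul_mem_right _ ha, ?_⟩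
      rw [map_smul, ← smul_sub, Finsupp.linearCombination_apply, add_sub_cancel_left, pow_succ, Submodule.mul_smul]
      exact Submodule.smul_mem_smul ha hv
    | add p _ q _ hp hq =>
      obtain ⟨c, hc, hc'⟩ := hp
      obtain ⟨d, hd, hd'⟩ := hq
      refine ⟨c + d, fun z => (I ^ n).add_mem (hc z) (hd z), ?_⟩
      rw [map_add, add_sub_add_comm]
      exact add_mem hc' hd'
  choose! c hc1 hc2 using hstep
  let y : ℕ → M := fun n => Nat.rec x (fun k yk => yk - Finsupp.linearCombination A e (c k yk)) n
  have hy : ∀ n, y n ∈ (I ^ n • ⊤ : Submodule A M) := by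
    intro n
    induction n with
    | zero => simp [y]
    | succ n ih => exact hc2 n _ ih
  let P : ℕ → (Z →₀ A) := fun n => ∑ k ∈ Finset.range n, c k (y k)
  have hP : ∀ n, x - Finsupp.linearCombination A e (P n) = y n := by
    intro n
    induction n with
    | zero => simp [P, y]
    | succ n ih =>
      rw [show y (n + 1) = y n - Finsupp.linearCombination A e (c n (y n)) from rfl]
      simp only [P] at ih ⊢
      rw [Finset.sum_range_succ, map_add, sub_add_eq_sub_sub, ih]
  have hcauchy : ∀ z, ∀ {a b : ℕ}, a ≤ b → P a z ≡ P b z [SMOD (I ^ a • ⊤ : Submodule A A)] := by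
    intro z a b hab
    refine SModEq.symm (SModEq.sub_mem.mpr (AdicFree.mem_self_iff.mpr ?_))
    obtain ⟨t, rfl⟩ := Nat.exists_eq_add_of_le hab
    simp only [P, Finset.sum_range_add, Finsupp.add_apply, add_sub_cancel_left, Finsupp.finsetSum_apply]
    exact sum_mem fun i _ => Ideal.pow_le_pow_right (Nat.le_add_right a i) (hc1 _ _ (hy _) z)
  choose g hg using fun z => IsPrecomplete.prec (I := I) (M := A) inferInstance (hcauchy z)
  have hgP : ∀ n z, g z - P n z ∈ I ^ n := fun n z => by
    have := AdicFree.mem_self_iff.mp (SModEq.sub_mem.mp (hg z n))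
    rw [← neg_sub]; exact neg_mem this
  have hsupp : ∀ n, ∀ z ∉ (P n).support, g z ∈ I ^ n := fun n z hz => by
    have := hgP n z
    rwa [Finsupp.notMem_support_iff.mp hz, sub_zero] at this
  refine ⟨g, fun n => (P n).support.finite_toSet.subset fun z hz => ?_, isSum_of_exists fun n =>
    ⟨(P n).support, fun z hz => Submodule.smul_mem_smul (hsupp n z hz) trivial, ?_⟩⟩
  · by_contra hns
    exact hz (AdicFree.mem_self_iff.mpr (hsupp n z hns))
  · have hdiff : ∑ z ∈ (P n).support, g z • e z - Finsupp.linearCombination A e (P n) ∈ (I ^ n • ⊤ : Submodule A M) := by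
      rw [Finsupp.linearCombination_apply, Finsupp.sum, ← Finset.sum_sub_distrib]
      exact sum_mem fun z _ => by rw [← sub_smul]; exact Submodule.smul_mem_smul (hgP n z) trivial
    have := sub_mem (hy n) hdiff
    rw [← hP n] at this
    convert this using 1
    abel

/-- The natural map `M ⊗ D → (Z → M)`. -/
noncomputable def psi (I : Ideal A) (Z : Type v) (M : Type w) [AddCommGroup M] [Module A M] :
    M ⊗[A] decaying I Z A →ₗ[A] (Z → M) :=
  (TensorProduct.piScalarRightHom A A M Z) ∘ₗ ((decaying I Z A).subtype.lTensor M)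

theorem psi_tmul (m : M) (g : decaying I Z A) : psi I Z M (m ⊗ₜ g) = fun z => (g : Z → A) z • m := by
  funext z
  simp [psi]

theorem psi_natural {N : Type w'} [AddCommGroup N] [Module A N] (φ : M →ₗ[A] N) (t : M ⊗[A] decaying I Z A)
    (z : Z) : psi I Z N (φ.rTensor _ t) z = φ (psi I Z M t z) := by
  induction t with
  | zero => simp
  | tmul m g => simp [psi_tmul]
  | add a b ha hb => simp [ha, hb]

theorem psi_mem (t : M ⊗[A] decaying I Z A) : psi I Z M t ∈ decaying I Z M := by
  induction t with
  | zero => simp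
  | tmul m g =>
    rw [psi_tmul]
    exact fun n => (g.2 n).subset fun z hz hbad => hz (by simpa using map_mem (LinearMap.toSpanSingleton A M m) hbad)
  | add a b ha hb => simpa using add_mem ha hb

theorem psi_surj [IsNoetherianRing A] [IsAdicComplete I A] [Module.Finite A M] {f : Z → M}
    (hf : f ∈ decaying I Z M) : ∃ t, psi I Z M t = f := by
  obtain ⟨r, π, hπ⟩ := Module.Finite.exists_fin' A M
  haveI : IsHausdorff I M := isHausdorff_of_finite
  obtain ⟨F, hF, hFf⟩ := exists_decaying_lift π hπ f hf
  have hj : ∀ j, (fun z => F z j) ∈ decaying I Z A := fun j n => (hF n).subset fun z hz hbad =>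
    hz (map_mem (LinearMap.proj j : (Fin r → A) →ₗ[A] A) hbad)
  refine ⟨∑ j, π (Pi.single j 1) ⊗ₜ ⟨fun z => F z j, hj j⟩, funext fun z => ?_⟩
  classical
  rw [map_sum, Finset.sum_apply, ← hFf z]
  conv_rhs => rw [pi_eq_sum_univ' (F z), map_sum]
  exact Finset.sum_congr rfl fun j _ => by rw [psi_tmul, map_smul]

theorem psi_pi_injective (r : ℕ) : Function.Injective (psi I Z (Fin r → A)) := by
  classical
  have hdec : ∀ t : (Fin r → A) ⊗[A] decaying I Z A,
      ∃ d : Fin r → decaying I Z A, t = ∑ j, (Pi.single j (1 : A) : Fin r → A) ⊗ₜ d j := by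
    intro t
    induction t with
    | zero => exact ⟨0, by simp⟩
    | tmul m g =>
      refine ⟨fun j => m j • g, ?_⟩
      conv_lhs => rw [pi_eq_sum_univ' m, TensorProduct.sum_tmul]
      exact Finset.sum_congr rfl fun j _ => TensorProduct.smul_tmul _ _ _
    | add a b ha hb =>
      obtain ⟨c, rfl⟩ := ha
      obtain ⟨d, rfl⟩ := hb
      exact ⟨c + d, by simp [TensorProduct.tmul_add, Finset.sum_add_distrib]⟩
  rw [injective_iff_map_eq_zero]
  intro t ht
  obtain ⟨d, rfl⟩ := hdec t
  suffices d = 0 by simp [this]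
  funext j
  refine Subtype.ext (funext fun z => ?_)
  have := congrFun (congrFun ht z) j
  rw [map_sum, Finset.sum_apply, Finset.sum_apply] at this
  simpa [psi_tmul, Pi.single_apply] using this

theorem psi_injective [IsNoetherianRing A] [IsAdicComplete I A] [Module.Finite A M] :
    Function.Injective (psi I Z M) := by
  obtain ⟨r, π, hπ⟩ := Module.Finite.exists_fin' A M
  rw [injective_iff_map_eq_zero]
  intro t ht
  obtain ⟨t', rfl⟩ := LinearMap.rTensor_surjective (decaying I Z A) hπ t
  have hker : ∀ z, psi I Z _ t' z ∈ LinearMap.ker π := fun z => by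
    rw [LinearMap.mem_ker, ← psi_natural, ht]; rfl
  haveI : IsHausdorff I (Fin r → A) := isHausdorff_of_finite
  have hmem : (fun z => (⟨_, hker z⟩ : LinearMap.ker π)) ∈ decaying I Z (LinearMap.ker π) :=
    (mem_decaying_submodule_iff (LinearMap.ker π) _).mpr (psi_mem t')
  haveI : Module.Finite A (LinearMap.ker π) := Module.IsNoetherian.finite A _
  obtain ⟨s, hs⟩ := psi_surj hmem
  have heq : t' = (LinearMap.ker π).subtype.rTensor _ s := psi_pi_injective r (funext fun z => by
    rw [psi_natural, hs]; rfl)
  rw [heq, ← LinearMap.comp_apply, ← LinearMap.rTensor_comp, LinearMap.comp_ker_subtype, LinearMap.rTensor_zero]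
  rfl

/-! ### Completion of a free module -/

theorem finsupp_mem_iff {n : ℕ} (c : Z →₀ M) :
    c ∈ (I ^ n • ⊤ : Submodule A (Z →₀ M)) ↔ ∀ z, c z ∈ (I ^ n • ⊤ : Submodule A M) := by
  refine ⟨fun hc z => map_mem (Finsupp.lapply z) hc, fun hc => ?_⟩
  rw [← Finsupp.sum_single c]
  exact sum_mem fun z _ => map_mem (Finsupp.lsingle z) (hc z)

/-- In a complete completion the elements vanishing at level `n` are divisible by `I ^ n`. -/
theorem mem_pow_smul_of_val_eq_zero [IsAdicComplete I (AdicCompletion I M)] {n : ℕ} {x : AdicCompletion I M}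
    (hx : x.val n = 0) : x ∈ (I ^ n • ⊤ : Submodule A (AdicCompletion I M)) := by
  choose m hm using fun k => Submodule.Quotient.mk_surjective _ (x.val k)
  have hdiff : ∀ {a b : ℕ}, a ≤ b → m b - m a ∈ (I ^ a • ⊤ : Submodule A M) := by
    intro a b hab
    rw [← Submodule.Quotient.eq, hm a, ← x.2 hab, ← hm b]
    rfl
  obtain ⟨y, hy⟩ := IsPrecomplete.prec (I := I) (M := AdicCompletion I M) inferInstance
    (f := fun k => AdicCompletion.of I M (m k)) fun {a b} hab => SModEq.symm (SModEq.sub_mem.mpr (by
      rw [← map_sub]; exact map_mem _ (hdiff hab)))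
  have hval : ∀ k, y.val k = x.val k := fun k => by
    have h1 := AdicCompletion.pow_smul_top_le_ker_eval (I := I) (M := M) k (SModEq.sub_mem.mp (hy k))
    rw [LinearMap.mem_ker, map_sub, AdicCompletion.eval_of, sub_eq_zero, AdicCompletion.eval_apply] at h1
    rw [← h1, ← hm k]
    rfl
  have hxy : x = y := AdicCompletion.ext fun k => (hval k).symm
  rw [hxy, ← sub_sub_cancel (AdicCompletion.of I M (m n)) y]
  refine sub_mem (map_mem _ ?_) (SModEq.sub_mem.mp (hy n))
  rw [← Submodule.Quotient.mk_eq_zero, hm n, hx]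

theorem pi_map_lapply_injective :
    Function.Injective (LinearMap.pi fun z : Z =>
      (AdicCompletion.map I (Finsupp.lapply (M := M) (R := A) z)).restrictScalars A) := by
  rw [injective_iff_map_eq_zero]
  intro x hx
  refine AdicCompletion.ext fun n => ?_
  obtain ⟨c, hc⟩ := Submodule.Quotient.mk_surjective _ (x.val n)
  rw [← hc, AdicCompletion.val_zero_apply, Submodule.Quotient.mk_eq_zero, finsupp_mem_iff]
  intro z
  have h1 := congrArg (fun y : AdicCompletion I M => y.val n) (congrFun hx z)
  simp only [LinearMap.pi_apply, LinearMap.restrictScalars_apply, AdicCompletion.map_val_apply, ← hc,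
    Pi.zero_apply, AdicCompletion.val_zero_apply] at h1
  exact (Submodule.Quotient.mk_eq_zero _).mp h1

theorem range_pi_map_lapply [IsAdicComplete I (AdicCompletion I M)] :
    LinearMap.range (LinearMap.pi fun z : Z =>
        (AdicCompletion.map I (Finsupp.lapply (M := M) (R := A) z)).restrictScalars A) =
      decaying I Z (AdicCompletion I M) := by
  classical
  refine le_antisymm ?_ fun g hg => ?_
  · rintro _ ⟨x, rfl⟩ n
    obtain ⟨c, hc⟩ := Submodule.Quotient.mk_surjective _ (x.val n)
    refine c.support.finite_toSet.subset fun z hz => ?_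
    by_contra hns
    refine hz (mem_pow_smul_of_val_eq_zero ?_)
    simp only [LinearMap.pi_apply, LinearMap.restrictScalars_apply, AdicCompletion.map_val_apply, ← hc]
    refine (Submodule.Quotient.mk_eq_zero _).mpr ?_
    rw [Finsupp.lapply_apply, Finsupp.notMem_support_iff.mp hns]
    exact zero_mem _
  · choose out hout using fun (n : ℕ) z => Submodule.Quotient.mk_surjective (I ^ n • ⊤ : Submodule A M) ((g z).val n)
    choose T hT using fun n => exists_bad hg n
    let c : ℕ → (Z →₀ M) := fun n => Finsupp.indicator (T n) fun z _ => out n z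
    have hc : ∀ n z, Submodule.Quotient.mk (p := (I ^ n • ⊤ : Submodule A M)) (c n z) = (g z).val n := by
      intro n z
      by_cases hz : z ∈ T n
      · simpa [c, Finsupp.indicator_apply, hz] using hout n z
      · have h1 := AdicCompletion.pow_smul_top_le_ker_eval (I := I) (M := M) n (hT n z hz)
        simpa [c, Finsupp.indicator_apply, hz] using (LinearMap.mem_ker.mp h1).symm
    refine ⟨⟨fun n => Submodule.Quotient.mk (c n), fun {a b} hab => ?_⟩, funext fun z => AdicCompletion.ext fun n => ?_⟩
    · show Submodule.Quotient.mk (c b) = Submodule.Quotient.mk (c a)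
      rw [Submodule.Quotient.eq, finsupp_mem_iff]
      intro z
      rw [Finsupp.sub_apply, ← Submodule.Quotient.eq, hc a, ← (g z).2 hab, ← hc b]
      rfl
    · simp only [LinearMap.pi_apply, LinearMap.restrictScalars_apply, AdicCompletion.map_val_apply]
      exact hc n z

end Groth.Agent.H3CAlg.Decaying
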