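import Mathlib.Algebra.Module.GradedModule
import Mathlib.Algebra.Module.LocalizedModule.Basic
import Mathlib.RingTheory.GradedAlgebra.Basic
import Mathlib.Algebra.DirectSum.Decomposition
import Mathlib.RingTheory.Finiteness.Basic

/-!
A finite graded module with prescribed degree zero part after inverting a degree one element.
-/

universe u

open DirectSum

namespace Groth.Agent.H3CAlg.DehomModel

variable {R S M : Type u} [CommRing R] [CommRing S] [Algebra R S] (𝒜 : ℕ → Submodule R S) [GradedAlgebra 𝒜]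
  [AddCommGroup M] [Module S M] [Module R M] [IsScalarTower R S M] {n : ℕ} (g : Fin n → M)

/-- The degree `k` piece. -/
noncomputable def D (k : ℕ) : Submodule R M :=
  Submodule.span R {z | ∃ s ∈ 𝒜 k, ∃ i, z = s • g i}

theorem smul_mem {i j : ℕ} {a : S} (ha : a ∈ 𝒜 i) {m : M} (hm : m ∈ D 𝒜 g j) : a • m ∈ D 𝒜 g (i + j) := by
  induction hm using Submodule.span_induction with
  | mem z hz =>
    obtain ⟨s, hs, l, rfl⟩ := hz
    exact Submodule.subset_span ⟨a * s, SetLike.mul_mem_graded ha hs, l, (mul_smul _ _ _).symm⟩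
  | zero => simp
  | add x y _ _ hx hy => rw [smul_add]; exact add_mem hx hy
  | smul r x _ hx => rw [smul_comm]; exact Submodule.smul_mem _ r hx

theorem exists_model {f : S} (hf : f ∈ 𝒜 1) (hf1 : ∀ m : M, f • m = m)
    (hgen : ∀ m : M, ∃ k, m ∈ D 𝒜 g k) :
    ∃ (N : Type u) (_ : AddCommGroup N) (_ : Module S N) (_ : Module R N) (_ : IsScalarTower R S N)
      (ℳ : ℕ → Submodule R N) (_ : DirectSum.Decomposition ℳ) (_ : SetLike.GradedSMul 𝒜 ℳ)
      (Nf : Submodule R (LocalizedModule (Submonoid.powers f) N)) (e' : ↥Nf ≃ₗ[R] M),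
      Module.Finite S N ∧
      (∀ x, x ∈ Nf ↔ ∃ k : ℕ, ∃ v ∈ ℳ k, f ^ k • x = LocalizedModule.mk v 1) ∧
      (∀ (s : S) (k : ℕ), s ∈ 𝒜 k → ∀ x y : ↥Nf,
        s • (x : LocalizedModule (Submonoid.powers f) N) = f ^ k • (y : LocalizedModule (Submonoid.powers f) N) →
          e' y = s • e' x) := by
  classical
  haveI : SetLike.GradedSMul 𝒜 (D 𝒜 g) := ⟨by intro i j a m ha hm; exact smul_mem 𝒜 g ha hm⟩
  letI instS : Module S (⨁ k, D 𝒜 g k) := GradedModule.isModule 𝒜 (D 𝒜 g)
  let ι : ∀ k, D 𝒜 g k →ₗ[R] ⨁ k, D 𝒜 g k := fun k => DirectSum.lof R ℕ (fun k => D 𝒜 g k) k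
  have hsmul : ∀ {i j} (a : S) (ha : a ∈ 𝒜 i) (v : D 𝒜 g j),
      a • ι j v = ι (i + j) ⟨a • (v : M), smul_mem 𝒜 g ha v.2⟩ := by
    intro i j a ha v
    change DirectSum.decompose 𝒜 a • DirectSum.of (fun k => D 𝒜 g k) j v = _
    rw [DirectSum.decompose_of_mem 𝒜 ha, DirectSum.Gmodule.of_smul_of]
    rfl
  have heq : ∀ {i j} (h : i = j) (v : D 𝒜 g i) (w : D 𝒜 g j), (v : M) = w → ι i v = ι j w := by
    intro i j h v w hvw; subst h; rw [Subtype.ext hvw]
  haveI : IsScalarTower R S (⨁ k, D 𝒜 g k) := IsScalarTower.of_algebraMap_smul fun r x => by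
    induction x using DirectSum.induction_on with
    | zero => simp
    | of j v =>
      change algebraMap R S r • ι j v = r • ι j v
      rw [hsmul _ (SetLike.algebraMap_mem_graded 𝒜 r), ← map_smul]
      exact heq (zero_add j) _ _ (IsScalarTower.algebraMap_smul S r (v : M))
    | add a b ha hb => rw [smul_add, smul_add, ha, hb]
  let ℳ : ℕ → Submodule R (⨁ k, D 𝒜 g k) := fun k => LinearMap.range (ι k)
  let dec : (⨁ k, D 𝒜 g k) →ₗ[R] ⨁ k, ℳ k :=
    DirectSum.toModule R ℕ _ fun k => (DirectSum.lof R ℕ (fun k => ℳ k) k).comp (ι k).rangeRestrict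
  letI instDec : DirectSum.Decomposition ℳ :=
    DirectSum.Decomposition.ofLinearMap ℳ dec
      (by
        ext k v
        simp [dec, ι])
      (by
        refine DirectSum.linearMap_ext R fun k => LinearMap.ext fun v => ?_
        obtain ⟨_, v, rfl⟩ := v
        simp only [LinearMap.comp_apply, LinearMap.id_apply, DirectSum.lof_eq_of, DirectSum.coeLinearMap_of]
        change dec (ι k v) = DirectSum.lof R ℕ (fun k => ℳ k) k ⟨ι k v, _⟩
        simp only [dec, ι, DirectSum.toModule_lof, LinearMap.comp_apply]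
        rfl)
  haveI : SetLike.GradedSMul 𝒜 ℳ := ⟨fun {i j a} _ ha hm => by
    obtain ⟨v, rfl⟩ := hm
    exact ⟨_, (hsmul a ha v).symm⟩⟩
  -- evaluation
  let ev₀ : (⨁ k, D 𝒜 g k) →ₗ[R] M := DirectSum.toModule R ℕ M fun k => (D 𝒜 g k).subtype
  have hev : ∀ (a : S) x, ev₀ (a • x) = a • ev₀ x := by
    intro a
    induction a using DirectSum.Decomposition.inductionOn 𝒜 with
    | zero => simp
    | @homogeneous i a =>
      intro x
      induction x using DirectSum.induction_on with
      | zero => simp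
      | of j v =>
        change ev₀ ((a : S) • ι j v) = (a : S) • ev₀ (ι j v)
        rw [hsmul _ a.2]
        simp [ev₀, ι]
      | add b c hb hc => rw [smul_add, map_add, map_add, hb, hc, smul_add]
    | add b c hb hc => intro x; rw [add_smul, map_add, hb, hc, add_smul]
  let ev : (⨁ k, D 𝒜 g k) →ₗ[S] M := { ev₀ with map_smul' := hev }
  have hunit : ∀ z : Submonoid.powers f, IsUnit (algebraMap S (Module.End S M) z) := by
    rintro ⟨_, k, rfl⟩
    have : algebraMap S (Module.End S M) f = 1 := LinearMap.ext fun m => hf1 m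
    simp [this]
  let Λ : LocalizedModule (Submonoid.powers f) (⨁ k, D 𝒜 g k) →ₗ[S] M :=
    LocalizedModule.lift (Submonoid.powers f) ev hunit
  have hΛ : ∀ x, Λ (LocalizedModule.mk x 1) = ev x := fun x =>
    LinearMap.congr_fun (LocalizedModule.lift_comp (Submonoid.powers f) ev hunit) x
  have hfk : ∀ k (m : M), f ^ k • m = m := fun k m => by
    induction k with
    | zero => simp
    | succ k ih => rw [pow_succ, mul_smul, hf1, ih]
  let Nf : Submodule R (LocalizedModule (Submonoid.powers f) (⨁ k, D 𝒜 g k)) :=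
    { carrier := {x | ∃ k : ℕ, ∃ v ∈ ℳ k, f ^ k • x = LocalizedModule.mk v 1}
      zero_mem' := ⟨0, 0, zero_mem _, by simp⟩
      add_mem' := by
        rintro x y ⟨k, v, hv, hx⟩ ⟨l, w, hw, hy⟩
        refine ⟨k + l, f ^ l • v + f ^ k • w, add_mem ?_ ?_, ?_⟩
        · have h1 := SetLike.GradedSMul.smul_mem (A := 𝒜) (B := ℳ) (SetLike.pow_mem_graded l hf) hv
          rwa [vadd_eq_add, smul_eq_mul, mul_one, add_comm] at h1
        · have h1 := SetLike.GradedSMul.smul_mem (A := 𝒜) (B := ℳ) (SetLike.pow_mem_graded k hf) hw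
          rwa [vadd_eq_add, smul_eq_mul, mul_one] at h1
        · rw [smul_add, show f ^ (k + l) • x = f ^ l • (f ^ k • x) by rw [smul_smul, ← pow_add, add_comm],
            show f ^ (k + l) • y = f ^ k • (f ^ l • y) by rw [smul_smul, ← pow_add], hx, hy]
          simp only [← LocalizedModule.mkLinearMap_apply, ← map_smul, ← map_add]
      smul_mem' := by
        rintro r x ⟨k, v, hv, hx⟩
        exact ⟨k, r • v, Submodule.smul_mem _ r hv, by rw [smul_comm, hx, LocalizedModule.smul'_mk]⟩ }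
  let Λ' : Nf →ₗ[R] M := (Λ.restrictScalars R).comp Nf.subtype
  have hcancel : ∀ (k : ℕ) (z w : LocalizedModule (Submonoid.powers f) (⨁ k, D 𝒜 g k)), f ^ k • z = f ^ k • w → z = w := by
    intro k z w h
    exact ((Module.End.isUnit_iff _).mp (IsLocalizedModule.map_units
      (LocalizedModule.mkLinearMap (Submonoid.powers f) (⨁ k, D 𝒜 g k)) (⟨f ^ k, Submonoid.pow_mem _ (Submonoid.mem_powers f) k⟩ : Submonoid.powers f))).1 h
  have hnorm : ∀ (x : LocalizedModule (Submonoid.powers f) (⨁ k, D 𝒜 g k)) (k : ℕ) (v : D 𝒜 g k),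
      f ^ k • x = LocalizedModule.mk (ι k v) 1 → ∀ l, f ^ (l + k) • x =
        LocalizedModule.mk (ι (l + k) ⟨(v : M), by simpa [hfk] using smul_mem 𝒜 g (by
          simpa using SetLike.pow_mem_graded l hf : f ^ l ∈ 𝒜 l) v.2⟩) 1 ∧ Λ x = (v : M) := by
    intro x k v hx l
    refine ⟨?_, ?_⟩
    · rw [pow_add, mul_smul, hx, LocalizedModule.smul'_mk,
        hsmul (f ^ l) (by simpa using SetLike.pow_mem_graded l hf : f ^ l ∈ 𝒜 l) v]
      simp only [hfk]
    · have := congrArg Λ hx
      rw [map_smul, hfk, hΛ] at this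
      rw [this]
      simp [ev, ev₀, ι, DirectSum.toModule_lof]
  have hbij : Function.Bijective Λ' := by
    refine ⟨?_, fun m => ?_⟩
    · rintro ⟨x, k, _, ⟨v, rfl⟩, hx⟩ ⟨y, l, _, ⟨w, rfl⟩, hy⟩ h0
      obtain ⟨hx', hxv⟩ := hnorm x k v hx l
      obtain ⟨hy', hyw⟩ := hnorm y l w hy k
      have h0' : Λ x = Λ y := h0
      refine Subtype.ext (hcancel (l + k) _ _ ?_)
      rw [hx', show f ^ (l + k) • y = f ^ (k + l) • y by rw [add_comm], hy']
      exact congrArg (LocalizedModule.mk · 1) (heq (add_comm l k) _ _ (by rw [← hxv, h0', hyw]))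
    · obtain ⟨k, hk⟩ := hgen m
      obtain ⟨x, hx⟩ := ((Module.End.isUnit_iff _).mp (IsLocalizedModule.map_units
        (LocalizedModule.mkLinearMap (Submonoid.powers f) (⨁ k, D 𝒜 g k)) (⟨f ^ k, Submonoid.pow_mem _ (Submonoid.mem_powers f) k⟩ : Submonoid.powers f))).2 (LocalizedModule.mk (ι k ⟨m, hk⟩) 1)
      have hx' : f ^ k • x = LocalizedModule.mk (ι k ⟨m, hk⟩) 1 := hx
      refine ⟨⟨x, k, _, ⟨⟨m, hk⟩, rfl⟩, hx'⟩, ?_⟩
      change Λ x = m
      have := congrArg Λ hx'
      rw [map_smul, hfk, hΛ] at this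
      rw [this]
      exact DirectSum.toModule_lof R k _
  refine ⟨⨁ k, D 𝒜 g k, inferInstance, instS, inferInstance, inferInstance, ℳ, instDec, inferInstance, Nf,
    LinearEquiv.ofBijective Λ' hbij, ?_, fun x => Iff.rfl, fun s k hs x y h => ?_⟩
  · refine ⟨?_⟩
    have : (⊤ : Submodule S (⨁ k, D 𝒜 g k)) = Submodule.span S (Set.range fun i => ι 0 ⟨g i, Submodule.subset_span
        ⟨1, SetLike.GradedOne.one_mem, i, (one_smul S (g i)).symm⟩⟩) := by
      refine le_antisymm (fun x hx => ?_) le_top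
      clear hx
      induction x using DirectSum.induction_on with
      | zero => exact zero_mem _
      | of j v =>
        obtain ⟨v, hv⟩ := v
        change ι j ⟨v, hv⟩ ∈ _
        induction hv using Submodule.span_induction with
        | mem z hz =>
          obtain ⟨s, hs, i, rfl⟩ := hz
          have h1 := hsmul s hs ⟨g i, Submodule.subset_span ⟨1, SetLike.GradedOne.one_mem, i, (one_smul S (g i)).symm⟩⟩
          refine (congrArg (· ∈ _) (h1.trans (heq (add_zero j) _ _ rfl))).mp ?_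
          exact Submodule.smul_mem _ _ (Submodule.subset_span ⟨i, rfl⟩)
        | zero => exact (map_zero (ι j)).symm ▸ zero_mem _
        | add a b ha hb ha' hb' =>
          rw [show (⟨a + b, add_mem ha hb⟩ : D 𝒜 g j) = ⟨a, ha⟩ + ⟨b, hb⟩ from rfl, map_add]
          exact add_mem ha' hb'
        | smul r a ha ha' =>
          rw [show (⟨r • a, Submodule.smul_mem _ r ha⟩ : D 𝒜 g j) = r • ⟨a, ha⟩ from rfl, map_smul, ← IsScalarTower.algebraMap_smul S r]
          exact Submodule.smul_mem _ _ ha'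
      | add a b ha hb => exact add_mem ha hb
    rw [this]
    exact Submodule.fg_span (Set.finite_range _)
  · have := congrArg Λ h
    rw [map_smul, map_smul, hfk] at this
    exact this.symm

end Groth.Agent.H3CAlg.DehomModel
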