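import Groth.Agent.H9Hens.Pair
import Groth.Agent.H9Hens.PairOps
import Mathlib.RingTheory.TensorProduct.Free
import Mathlib.RingTheory.Finiteness.Projective
import Mathlib.LinearAlgebra.Matrix.ToLin
import Mathlib.LinearAlgebra.Matrix.NonsingularInverse
import Mathlib.LinearAlgebra.Matrix.Charpoly.Coeff
import Mathlib.Tactic.NoncommRing

/-!
Finite projective modules over `A[1/t] → Â[1/t]`: comparison by approximating matrices.
-/

universe u

open TensorProduct Matrix

namespace Groth.Agent.H3CAlg.DenseLoc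

/-- `ι : S → S'` behaves like `A[1/t] → Â[1/t]`, with `B` playing the role of the image of `Â`. -/
structure Data {A S S' : Type u} [CommRing A] [CommRing S] [CommRing S'] (a : A →+* S) (t : A) (ι : S →+* S')
    (B : Subring S') : Prop where
  mem : ∀ x, ι (a x) ∈ B
  unit : IsUnit (a t)
  surj : ∀ s : S, ∃ (j : ℕ) (x : A), a t ^ j * s = a x
  loc : ∀ x : S', ∃ j : ℕ, ι (a t) ^ j * x ∈ B
  dense : ∀ x ∈ B, ∀ k : ℕ, ∃ x₀ : A, ∃ z ∈ B, x - ι (a x₀) = ι (a t) ^ k * z
  reflect : ∀ (x : A) (k : ℕ), (∃ z ∈ B, ι (a x) = ι (a t) ^ k * z) → ∃ x₁ : A, a x = a t ^ k * a x₁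
  jac : t ∈ (⊥ : Ideal A).jacobson
  isUnit_one_add : ∀ z ∈ B, IsUnit (1 + ι (a t) * z)

section Size

variable {S' : Type u} [CommRing S'] (B : Subring S') (τ : S') {l m n : Type} [Fintype m]

/-- Entries in `τ ^ k B`. -/
def Small (k : ℕ) (M : Matrix l n S') : Prop := ∀ i j, ∃ z ∈ B, M i j = τ ^ k * z

/-- Entries in `τ ^ (-j) B`. -/
def Bdd (j : ℕ) (M : Matrix l n S') : Prop := ∀ i i', τ ^ j * M i i' ∈ B

variable {B τ} (hτ : τ ∈ B) (hu : IsUnit τ)

include hu in
omit [Fintype m] in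
theorem small_of_mem {k : ℕ} {M : Matrix l n S'} (h : ∀ i i', ∃ w, τ ^ k * w = M i i' ∧ w ∈ B) : Small B τ k M :=
  fun i i' => by obtain ⟨w, h1, h2⟩ := h i i'; exact ⟨w, h2, h1.symm⟩

include hτ in
omit [Fintype m] in
theorem Small.mono {k k' : ℕ} {M : Matrix l n S'} (h : Small B τ k M) (hk : k' ≤ k) : Small B τ k' M := fun i j => by
  obtain ⟨z, hz, hM⟩ := h i j
  exact ⟨τ ^ (k - k') * z, B.mul_mem (pow_mem hτ _) hz, by rw [hM, ← mul_assoc, ← pow_add, Nat.add_sub_cancel' hk]⟩

include hτ in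
omit [Fintype m] in
theorem Bdd.mono {j j' : ℕ} {M : Matrix l n S'} (h : Bdd B τ j M) (hj : j ≤ j') : Bdd B τ j' M := fun i i' => by
  rw [← Nat.add_sub_cancel' hj, pow_add, mul_comm (τ ^ j), mul_assoc]
  exact B.mul_mem (pow_mem hτ _) (h i i')

omit [Fintype m] in
theorem Small.add {k : ℕ} {M N : Matrix l n S'} (h : Small B τ k M) (h' : Small B τ k N) : Small B τ k (M + N) :=
  fun i j => by
    obtain ⟨z, hz, hM⟩ := h i j
    obtain ⟨z', hz', hN⟩ := h' i j
    exact ⟨z + z', B.add_mem hz hz', by rw [Matrix.add_apply, hM, hN, mul_add]⟩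

omit [Fintype m] in
theorem Small.neg {k : ℕ} {M : Matrix l n S'} (h : Small B τ k M) : Small B τ k (-M) := fun i j => by
  obtain ⟨z, hz, hM⟩ := h i j
  exact ⟨-z, B.neg_mem hz, by rw [Matrix.neg_apply, hM, mul_neg]⟩

omit [Fintype m] in
theorem Small.sub {k : ℕ} {M N : Matrix l n S'} (h : Small B τ k M) (h' : Small B τ k N) : Small B τ k (M - N) := by
  rw [sub_eq_add_neg]; exact h.add h'.neg

include hu in
theorem Small.mul {k j : ℕ} {M : Matrix l m S'} {N : Matrix m n S'} (h : Small B τ (k + j) M) (h' : Bdd B τ j N) :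
    Small B τ k (M * N) := fun i i' => by
  choose z hz hM using fun x => h i x
  refine ⟨∑ x, z x * (τ ^ j * N x i'), B.sum_mem fun x _ => B.mul_mem (hz x) (h' x i'), ?_⟩
  rw [Matrix.mul_apply, Finset.mul_sum]
  refine Finset.sum_congr rfl fun x _ => ?_
  rw [hM x, pow_add]; ring

include hu in
theorem Small.mul' {k j : ℕ} {M : Matrix l m S'} {N : Matrix m n S'} (h : Bdd B τ j M) (h' : Small B τ (k + j) N) :
    Small B τ k (M * N) := fun i i' => by
  choose z hz hN using fun x => h' x i'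
  refine ⟨∑ x, (τ ^ j * M i x) * z x, B.sum_mem fun x _ => B.mul_mem (h i x) (hz x), ?_⟩
  rw [Matrix.mul_apply, Finset.mul_sum]
  refine Finset.sum_congr rfl fun x _ => ?_
  rw [hN x, pow_add]; ring

omit [Fintype m] in
theorem Bdd.add {j : ℕ} {M N : Matrix l n S'} (h : Bdd B τ j M) (h' : Bdd B τ j N) : Bdd B τ j (M + N) :=
  fun i i' => by rw [Matrix.add_apply, mul_add]; exact B.add_mem (h i i') (h' i i')

include hτ in
omit [Fintype m] in
theorem Small.bdd {k j : ℕ} {M : Matrix l n S'} (h : Small B τ k M) : Bdd B τ j M := fun i i' => by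
  obtain ⟨z, hz, hM⟩ := h i i'
  rw [hM, ← mul_assoc, ← pow_add]
  exact B.mul_mem (pow_mem hτ _) hz

theorem isUnit_one_add_of_small [DecidableEq m] (hB : ∀ z ∈ B, IsUnit (1 + τ * z)) (hτ : τ ∈ B)
    {M : Matrix m m S'} (h : Small B τ 1 M) : IsUnit (1 + M) := by
  rw [Matrix.isUnit_iff_isUnit_det]
  choose Z hZ hM using fun i j => h i j
  let MB : Matrix m m B := Matrix.of fun i j => ⟨τ * Z i j, B.mul_mem hτ (hZ i j)⟩
  have hMB : MB.map B.subtype = M := by ext i j; simp [MB, hM, pow_one]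
  have h1 : (1 + MB).det - 1 ∈ Ideal.span {(⟨τ, hτ⟩ : B)} := by
    rw [← Ideal.Quotient.eq, map_one, RingHom.map_det, map_add, map_one,
      show (Ideal.Quotient.mk (Ideal.span {(⟨τ, hτ⟩ : B)})).mapMatrix MB = 0 from ?_, add_zero, Matrix.det_one]
    ext i j
    show Ideal.Quotient.mk _ (MB i j) = 0
    exact Ideal.Quotient.eq_zero_iff_mem.mpr (Ideal.mem_span_singleton'.mpr ⟨⟨Z i j, hZ i j⟩, Subtype.ext (mul_comm _ _)⟩)
  obtain ⟨⟨z, hz⟩, hzd⟩ := Ideal.mem_span_singleton'.mp h1
  have h2 := congrArg B.subtype hzd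
  rw [map_mul, map_sub, map_one, RingHom.map_det, map_add, map_one,
    show B.subtype.mapMatrix MB = M from hMB] at h2
  have h3 : (1 + M).det = 1 + τ * z := by
    simp only [Subring.subtype_apply] at h2
    linear_combination -h2
  rw [h3]; exact hB z hz

end Size

section Modules

variable {A S S' : Type u} [CommRing A] [CommRing S] [CommRing S'] [Algebra S S'] {a : A →+* S} {t : A}
  {B : Subring S'} (D : Data a t (algebraMap S S') B)
include D

local notation "τ" => algebraMap S S' (a t)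

theorem τ_mem : τ ∈ B := D.mem t

theorem τ_unit : IsUnit τ := D.unit.map _

theorem exists_bdd {l n : Type} [Finite l] [Finite n] (M : Matrix l n S') : ∃ j, Bdd B τ j M := by
  choose j hj using fun p : l × n => D.loc (M p.1 p.2)
  obtain ⟨J, hJ⟩ := Finite.exists_le j
  refine ⟨J, fun i i' => ?_⟩
  rw [← Nat.add_sub_cancel' (hJ (i, i')), pow_add, mul_comm (_ ^ j (i, i')), mul_assoc]
  exact B.mul_mem (pow_mem (τ_mem D) _) (hj (i, i'))

theorem exists_approx {l n : Type} [Finite l] [Finite n] (M : Matrix l n S') (k : ℕ) :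
    ∃ M₀ : Matrix l n S, Small B τ k (M - M₀.map (algebraMap S S')) := by
  obtain ⟨j, hj⟩ := exists_bdd D M
  obtain ⟨v, hv⟩ := D.unit.pow j
  choose x₀ z hz hx using fun i i' => D.dense _ (hj i i') (k + j)
  refine ⟨Matrix.of fun i i' => ↑v⁻¹ * a (x₀ i i'), fun i i' => ⟨z i i', hz i i', ?_⟩⟩
  refine ((τ_unit D).pow j).mul_left_cancel ?_
  have hv' : τ ^ j * algebraMap S S' ↑v⁻¹ = 1 := by
    rw [← map_pow, ← hv, ← map_mul, Units.mul_inv, map_one]
  simp only [Matrix.sub_apply, Matrix.map_apply, Matrix.of_apply, map_mul]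
  rw [mul_sub, ← mul_assoc, hv', one_mul, hx, pow_add]
  ring

theorem reflect_matrix {l n : Type} (M : Matrix l n S) {k : ℕ} (h : Small B τ k (M.map (algebraMap S S'))) :
    ∃ X : Matrix l n A, M = a t ^ k • X.map a := by
  choose j x hx using fun i i' => D.surj (M i i')
  have key : ∀ i i', ∃ y : A, M i i' = a t ^ k * a y := fun i i' => by
    obtain ⟨z, hz, hM⟩ := h i i'
    obtain ⟨y, hy⟩ := D.reflect (x i i') (j i i' + k) ⟨z, hz, by
      rw [← hx, map_mul, map_pow, show algebraMap S S' (M i i') = τ ^ k * z from hM, pow_add, mul_assoc]⟩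
    exact ⟨y, (D.unit.pow (j i i')).mul_left_cancel (by rw [hx, hy, pow_add, mul_assoc])⟩
  choose X hX using key
  exact ⟨Matrix.of X, Matrix.ext fun i i' => by simp [hX]⟩

theorem isUnit_one_add {n : Type} [Fintype n] [DecidableEq n] (M : Matrix n n S)
    (h : Small B τ 1 (M.map (algebraMap S S'))) : IsUnit (1 + M) := by
  obtain ⟨X, rfl⟩ := reflect_matrix D M h
  have h1 : IsUnit (1 + t • X) := by
    rw [Matrix.isUnit_iff_isUnit_det]
    have h2 : (1 + t • X).det - 1 ∈ Ideal.span {t} := by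
      rw [← Ideal.Quotient.eq, map_one, RingHom.map_det, map_add, map_one,
        show (Ideal.Quotient.mk (Ideal.span {t})).mapMatrix (t • X) = 0 from ?_, add_zero, Matrix.det_one]
      ext i j
      show Ideal.Quotient.mk _ (t * X i j) = 0
      exact Ideal.Quotient.eq_zero_iff_mem.mpr (Ideal.mul_mem_right _ _ (Ideal.mem_span_singleton_self t))
    have h3 := Ideal.mem_jacobson_bot.mp ((Ideal.span_singleton_le_iff_mem _).mpr D.jac h2) 1
    rwa [mul_one, sub_add_cancel] at h3
  have := h1.map a.mapMatrix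
  rw [map_add, map_one] at this
  convert this using 2
  ext i j
  simp [RingHom.mapMatrix_apply]

variable {M N : Type u} [AddCommGroup M] [Module S M] [Module.Finite S M] [Module.Projective S M]
  [AddCommGroup N] [Module S N] [Module.Finite S N] [Module.Projective S N]

omit D in
/-- Matrix over `S'` of a linear map between extended free modules. -/
noncomputable abbrev mat' {p q : ℕ} (φ : S' ⊗[S] (Fin p → S) →ₗ[S'] S' ⊗[S] (Fin q → S)) : Matrix (Fin q) (Fin p) S' :=
  LinearMap.toMatrix (Algebra.TensorProduct.basis S' (Pi.basisFun S (Fin p)))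
    (Algebra.TensorProduct.basis S' (Pi.basisFun S (Fin q))) φ

omit D in
theorem mat'_baseChange {p q : ℕ} (f : (Fin p → S) →ₗ[S] (Fin q → S)) :
    mat' (f.baseChange S') = (LinearMap.toMatrix' f).map (algebraMap S S') := by
  rw [mat', LinearMap.toMatrix_baseChange]
  congr 1

omit D in
theorem mat'_comp {p q r : ℕ} (φ : S' ⊗[S] (Fin p → S) →ₗ[S'] S' ⊗[S] (Fin q → S))
    (ψ : S' ⊗[S] (Fin q → S) →ₗ[S'] S' ⊗[S] (Fin r → S)) : mat' (ψ ∘ₗ φ) = mat' ψ * mat' φ :=
  LinearMap.toMatrix_comp _ _ _ ψ φ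

/-- Extended finite projective modules determine the modules. -/
theorem nonempty_equiv (φ : S' ⊗[S] M ≃ₗ[S'] S' ⊗[S] N) : Nonempty (M ≃ₗ[S] N) := by
  classical
  obtain ⟨p, fM, gM, -, -, hM⟩ := Module.Finite.exists_comp_eq_id_of_projective S M
  obtain ⟨q, fN, gN, -, -, hN⟩ := Module.Finite.exists_comp_eq_id_of_projective S N
  have hM' : fM.baseChange S' ∘ₗ gM.baseChange S' = LinearMap.id := by
    rw [← LinearMap.baseChange_comp, hM, LinearMap.baseChange_id]
  have hN' : fN.baseChange S' ∘ₗ gN.baseChange S' = LinearMap.id := by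
    rw [← LinearMap.baseChange_comp, hN, LinearMap.baseChange_id]
  let α := gN.baseChange S' ∘ₗ φ.toLinearMap ∘ₗ fM.baseChange S'
  let β := gM.baseChange S' ∘ₗ φ.symm.toLinearMap ∘ₗ fN.baseChange S'
  let eM := LinearMap.toMatrix' (gM ∘ₗ fM)
  let eN := LinearMap.toMatrix' (gN ∘ₗ fN)
  let EM := eM.map (algebraMap S S')
  let EN := eN.map (algebraMap S S')
  have hEM : EM = mat' (gM.baseChange S' ∘ₗ fM.baseChange S') := by
    rw [← LinearMap.baseChange_comp, mat'_baseChange]
  have hEN : EN = mat' (gN.baseChange S' ∘ₗ fN.baseChange S') := by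
    rw [← LinearMap.baseChange_comp, mat'_baseChange]
  have hba : mat' β * mat' α = EM := by
    rw [← mat'_comp, hEM]
    congr 1
    refine LinearMap.ext fun x => ?_
    simp only [α, β, LinearMap.comp_apply, LinearEquiv.coe_coe]
    rw [show fN.baseChange S' (gN.baseChange S' (φ _)) = φ _ from LinearMap.congr_fun hN' _, φ.symm_apply_apply]
  have hab : mat' α * mat' β = EN := by
    rw [← mat'_comp, hEN]
    congr 1
    refine LinearMap.ext fun x => ?_
    simp only [α, β, LinearMap.comp_apply, LinearEquiv.coe_coe]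
    rw [show fM.baseChange S' (gM.baseChange S' (φ.symm _)) = φ.symm _ from LinearMap.congr_fun hM' _,
      φ.apply_symm_apply]
  have hα : EN * mat' α = mat' α := by
    rw [hEN, ← mat'_comp]
    congr 1
    refine LinearMap.ext fun x => ?_
    simp only [α, LinearMap.comp_apply, LinearEquiv.coe_coe]
    rw [show fN.baseChange S' (gN.baseChange S' (φ _)) = φ _ from LinearMap.congr_fun hN' _]
  have hβ : EM * mat' β = mat' β := by
    rw [hEM, ← mat'_comp]
    congr 1
    refine LinearMap.ext fun x => ?_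
    simp only [β, LinearMap.comp_apply, LinearEquiv.coe_coe]
    rw [show fM.baseChange S' (gM.baseChange S' (φ.symm _)) = φ.symm _ from LinearMap.congr_fun hM' _]
  have hEM2 : EM * EM = EM := by
    rw [hEM, ← mat'_comp]
    congr 1
    refine LinearMap.ext fun x => ?_
    simp only [LinearMap.comp_apply]
    rw [show fM.baseChange S' (gM.baseChange S' _) = _ from LinearMap.congr_fun hM' _, LinearMap.id_apply]
  have hEN2 : EN * EN = EN := by
    rw [hEN, ← mat'_comp]
    congr 1
    refine LinearMap.ext fun x => ?_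
    simp only [LinearMap.comp_apply]
    rw [show fN.baseChange S' (gN.baseChange S' _) = _ from LinearMap.congr_fun hN' _, LinearMap.id_apply]
  -- bounds
  obtain ⟨j₁, hj₁⟩ := exists_bdd D (mat' α)
  obtain ⟨j₂, hj₂⟩ := exists_bdd D (mat' β)
  obtain ⟨j₃, hj₃⟩ := exists_bdd D EM
  obtain ⟨j₄, hj₄⟩ := exists_bdd D EN
  let J := j₁ + j₂ + j₃ + j₄
  have hτ := τ_mem D
  have hu := τ_unit D
  replace hj₁ := hj₁.mono hτ (show j₁ ≤ J by omega)
  replace hj₂ := hj₂.mono hτ (show j₂ ≤ J by omega)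
  replace hj₃ := hj₃.mono hτ (show j₃ ≤ J by omega)
  replace hj₄ := hj₄.mono hτ (show j₄ ≤ J by omega)
  obtain ⟨a₀, ha₀⟩ := exists_approx D (mat' α) (1 + J + J + J + J)
  obtain ⟨b₀, hb₀⟩ := exists_approx D (mat' β) (1 + J + J + J + J)
  let Aα := a₀.map (algebraMap S S')
  let Bβ := b₀.map (algebraMap S S')
  have hAα : Bdd B τ J Aα := by
    have := hj₁.add ((ha₀.neg).bdd hτ (j := J))
    convert this using 1
    simp [Aα]
  have hBβ : Bdd B τ J Bβ := by
    have := hj₂.add ((hb₀.neg).bdd hτ (j := J))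
    convert this using 1
    simp [Bβ]
  have s1 : Small B τ 1 (EM * Bβ * EN * Aα * EM - EM) := by
    have e : EM * Bβ * EN * Aα * EM - EM =
        EM * (Bβ - mat' β) * EN * Aα * EM + EM * (mat' β * (EN * (Aα - mat' α))) * EM := by
      have h5 : EM * (mat' β * (EN * mat' α)) * EM = EM := by rw [hα, hba, hEM2, hEM2]
      simp only [Matrix.mul_sub, Matrix.sub_mul, ← Matrix.mul_assoc] at h5 ⊢
      rw [h5]; abel
    rw [e]
    refine Small.add ?_ ?_
    · have hh : Small B τ (1 + J + J + J + J) (Bβ - mat' β) := by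
        have := hb₀.neg; convert this using 1; simp [Bβ]
      exact (((Small.mul' hu hj₃ hh).mul hu hj₄).mul hu hAα).mul hu hj₃
    · have hh : Small B τ (1 + J + J + J + J) (Aα - mat' α) := by
        have := ha₀.neg; convert this using 1; simp [Aα]
      exact (Small.mul' hu hj₃ (Small.mul' hu hj₂ (Small.mul' hu hj₄ hh))).mul hu hj₃
  have s2 : Small B τ 1 (EN * Aα * EM * Bβ * EN - EN) := by
    have e : EN * Aα * EM * Bβ * EN - EN =
        EN * (Aα - mat' α) * EM * Bβ * EN + EN * (mat' α * (EM * (Bβ - mat' β))) * EN := by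
      have h5 : EN * (mat' α * (EM * mat' β)) * EN = EN := by rw [hβ, hab, hEN2, hEN2]
      simp only [Matrix.mul_sub, Matrix.sub_mul, ← Matrix.mul_assoc] at h5 ⊢
      rw [h5]; abel
    rw [e]
    refine Small.add ?_ ?_
    · have hh : Small B τ (1 + J + J + J + J) (Aα - mat' α) := by
        have := ha₀.neg; convert this using 1; simp [Aα]
      exact (((Small.mul' hu hj₄ hh).mul hu hj₃).mul hu hBβ).mul hu hj₄
    · have hh : Small B τ (1 + J + J + J + J) (Bβ - mat' β) := by
        have := hb₀.neg; convert this using 1; simp [Bβ]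
      exact (Small.mul' hu hj₄ (Small.mul' hu hj₁ (Small.mul' hu hj₃ hh))).mul hu hj₄
  let ψ : M →ₗ[S] N := fN ∘ₗ Matrix.toLin' a₀ ∘ₗ gM
  let χ : N →ₗ[S] M := fM ∘ₗ Matrix.toLin' b₀ ∘ₗ gN
  have key : ∀ {P : Type u} [AddCommGroup P] [Module S P] {r : ℕ} (f : (Fin r → S) →ₗ[S] P) (g : P →ₗ[S] (Fin r → S))
      (_ : f ∘ₗ g = LinearMap.id) (θ : P →ₗ[S] P) (m : Matrix (Fin r) (Fin r) S),
      LinearMap.toMatrix' (g ∘ₗ θ ∘ₗ f) - LinearMap.toMatrix' (g ∘ₗ f) = m → IsUnit (1 + m) → Function.Bijective θ := by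
    intro P _ _ r f g hfg θ m hm hunit
    have hfg' : ∀ x, f (g x) = x := fun x => LinearMap.congr_fun hfg x
    have hml : ∀ z, Matrix.toLin' (1 + m) z = z + (g (θ (f z)) - g (f z)) := fun z => by
      rw [← hm, map_add, map_sub, Matrix.toLin'_one, Matrix.toLin'_toMatrix', Matrix.toLin'_toMatrix']; rfl
    have hbij : Function.Bijective (Matrix.toLin' (1 + m)) := by
      have := (Module.End.isUnit_iff _).mp (hunit.map Matrix.toLinAlgEquiv'.toAlgHom)
      exact this
    constructor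
    · intro x y hxy
      have h1 : Matrix.toLin' (1 + m) (g x) = Matrix.toLin' (1 + m) (g y) := by
        rw [hml, hml, hfg', hfg', hxy]; abel
      have := congrArg f (hbij.1 h1)
      rwa [hfg', hfg'] at this
    · intro x
      obtain ⟨z, hz⟩ := hbij.2 (g x)
      refine ⟨f z, ?_⟩
      have := congrArg f hz
      rw [hml, map_add, map_sub, hfg', hfg', hfg'] at this
      rw [← this]; abel
  have h1 : Function.Bijective (χ ∘ₗ ψ) := key fM gM hM (χ ∘ₗ ψ) _ rfl (isUnit_one_add D _ (by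
    convert s1 using 1
    simp only [χ, ψ, EM, EN, Aα, Bβ, eM, eN, ← Matrix.map_mul]
    rw [← Matrix.map_sub _ (by simp)]
    congr 1
    rw [show LinearMap.toMatrix' (gM ∘ₗ ((fM ∘ₗ Matrix.toLin' b₀ ∘ₗ gN) ∘ₗ (fN ∘ₗ Matrix.toLin' a₀ ∘ₗ gM)) ∘ₗ fM) =
      LinearMap.toMatrix' ((gM ∘ₗ fM) ∘ₗ Matrix.toLin' b₀ ∘ₗ (gN ∘ₗ fN) ∘ₗ Matrix.toLin' a₀ ∘ₗ (gM ∘ₗ fM)) from rfl]
    simp only [LinearMap.toMatrix'_comp, LinearMap.toMatrix'_toLin', Matrix.mul_assoc]))
  have h2 : Function.Bijective (ψ ∘ₗ χ) := key fN gN hN (ψ ∘ₗ χ) _ rfl (isUnit_one_add D _ (by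
    convert s2 using 1
    simp only [χ, ψ, EM, EN, Aα, Bβ, eM, eN, ← Matrix.map_mul]
    rw [← Matrix.map_sub _ (by simp)]
    congr 1
    rw [show LinearMap.toMatrix' (gN ∘ₗ ((fN ∘ₗ Matrix.toLin' a₀ ∘ₗ gM) ∘ₗ (fM ∘ₗ Matrix.toLin' b₀ ∘ₗ gN)) ∘ₗ fN) =
      LinearMap.toMatrix' ((gN ∘ₗ fN) ∘ₗ Matrix.toLin' a₀ ∘ₗ (gM ∘ₗ fM) ∘ₗ Matrix.toLin' b₀ ∘ₗ (gN ∘ₗ fN)) from rfl]
    simp only [LinearMap.toMatrix'_comp, LinearMap.toMatrix'_toLin', Matrix.mul_assoc]))
  exact ⟨LinearEquiv.ofBijective ψ ⟨Function.Injective.of_comp (f := χ) h1.1, Function.Surjective.of_comp (g := χ) h2.2⟩⟩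

omit D in
theorem equivFun_baseChange {p q : ℕ} (f : (Fin p → S) →ₗ[S] (Fin q → S)) (z : S' ⊗[S] (Fin p → S)) :
    (Algebra.TensorProduct.basis S' (Pi.basisFun S (Fin q))).equivFun (f.baseChange S' z) =
      Matrix.mulVec ((LinearMap.toMatrix' f).map (algebraMap S S'))
        ((Algebra.TensorProduct.basis S' (Pi.basisFun S (Fin p))).equivFun z) := by
  rw [← mat'_baseChange, Module.Basis.equivFun_apply, Module.Basis.equivFun_apply]
  exact (LinearMap.toMatrix_mulVec_repr _ _ _ _).symm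

omit D in
/-- The base change of a direct summand of a free module is the range of its idempotent matrix. -/
theorem nonempty_equiv_range {P : Type u} [AddCommGroup P] [Module S P] {r : ℕ} (f : (Fin r → S) →ₗ[S] P)
    (g : P →ₗ[S] (Fin r → S)) (hfg : f ∘ₗ g = LinearMap.id) :
    Nonempty (S' ⊗[S] P ≃ₗ[S'] LinearMap.range (Matrix.toLin' ((LinearMap.toMatrix' (g ∘ₗ f)).map (algebraMap S S')))) := by
  classical
  let bn := Algebra.TensorProduct.basis S' (Pi.basisFun S (Fin r))
  have hfg' : ∀ z, f.baseChange S' (g.baseChange S' z) = z := fun z => by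
    rw [← LinearMap.comp_apply, ← LinearMap.baseChange_comp, hfg, LinearMap.baseChange_id, LinearMap.id_apply]
  let H : S' ⊗[S] P →ₗ[S'] (Fin r → S') := bn.equivFun.toLinearMap ∘ₗ g.baseChange S'
  have hinj : Function.Injective H := bn.equivFun.injective.comp (Function.LeftInverse.injective hfg')
  have hkey : ∀ z, H (f.baseChange S' z) =
      Matrix.toLin' ((LinearMap.toMatrix' (g ∘ₗ f)).map (algebraMap S S')) (bn.equivFun z) := fun z => by
    rw [Matrix.toLin'_apply, ← equivFun_baseChange (g ∘ₗ f) z, LinearMap.baseChange_comp]; rfl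
  have hrange : LinearMap.range H =
      LinearMap.range (Matrix.toLin' ((LinearMap.toMatrix' (g ∘ₗ f)).map (algebraMap S S'))) := by
    refine le_antisymm ?_ ?_
    · rintro _ ⟨z, rfl⟩
      exact ⟨_, (hkey (g.baseChange S' z)).symm.trans (by rw [hfg'])⟩
    · rintro _ ⟨v, rfl⟩
      exact ⟨f.baseChange S' (bn.equivFun.symm v), by rw [hkey, LinearEquiv.apply_symm_apply]⟩
  exact ⟨(LinearEquiv.ofInjective H hinj).trans (LinearEquiv.ofEq _ _ hrange)⟩

/-- Stably free modules descend. -/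
theorem exists_stablyFree {M' : Type u} [AddCommGroup M'] [Module S' M'] {n m : ℕ}
    (e : (M' × (Fin n → S')) ≃ₗ[S'] (Fin m → S')) :
    ∃ (M : Type u) (_ : AddCommGroup M) (_ : Module S M), Module.Finite S M ∧
      (∃ n m : ℕ, Nonempty ((M × (Fin n → S)) ≃ₗ[S] (Fin m → S))) ∧
      Nonempty (S' ⊗[S] M ≃ₗ[S'] M') := by
  classical
  let Q := LinearMap.toMatrix' ((LinearMap.snd S' M' _) ∘ₗ e.symm.toLinearMap)
  let T := LinearMap.toMatrix' (e.toLinearMap ∘ₗ LinearMap.inr S' M' _)
  have hQT : Q * T = 1 := by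
    rw [← LinearMap.toMatrix'_comp, ← LinearMap.toMatrix'_id]
    congr 1
    refine LinearMap.ext fun v => ?_
    simp
  obtain ⟨j₁, hj₁⟩ := exists_bdd D Q
  obtain ⟨j₂, hj₂⟩ := exists_bdd D T
  have hτ := τ_mem D
  have hu := τ_unit D
  replace hj₁ := hj₁.mono hτ (show j₁ ≤ j₁ + j₂ by omega)
  replace hj₂ := hj₂.mono hτ (show j₂ ≤ j₁ + j₂ by omega)
  obtain ⟨Q₀, hQ₀⟩ := exists_approx D Q (1 + (j₁ + j₂))
  obtain ⟨T₀, hT₀⟩ := exists_approx D T (1 + (j₁ + j₂))
  let Qi := Q₀.map (algebraMap S S')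
  let Ti := T₀.map (algebraMap S S')
  have hTi : Bdd B τ (j₁ + j₂) Ti := by
    have := hj₂.add ((hT₀.neg).bdd hτ (j := j₁ + j₂))
    convert this using 1
    simp [Ti]
  have hsmall : Small B τ 1 ((Q₀ * T₀ - 1).map (algebraMap S S')) := by
    have e1 : (Q₀ * T₀ - 1).map (algebraMap S S') = (Qi - Q) * Ti + Q * (Ti - T) := by
      rw [Matrix.map_sub _ (by simp), Matrix.map_mul, Matrix.map_one _ (map_zero _) (map_one _), ← hQT]
      simp only [Matrix.sub_mul, Matrix.mul_sub, Qi, Ti]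
      abel
    rw [e1]
    refine Small.add (Small.mul hu ?_ hTi) (Small.mul' hu hj₁ ?_)
    · have := hQ₀.neg; convert this using 1; simp [Qi]
    · have := hT₀.neg; convert this using 1; simp [Ti]
  obtain ⟨V, hV⟩ := isUnit_one_add D _ hsmall
  rw [add_sub_cancel] at hV
  let s₀ := T₀ * ((V⁻¹ : (Matrix (Fin n) (Fin n) S)ˣ) : Matrix (Fin n) (Fin n) S)
  have hq₀ : Q₀ * s₀ = 1 := by rw [← Matrix.mul_assoc, ← hV, Units.mul_inv]
  -- the kernel
  let q := Matrix.toLin' Q₀
  let σ := Matrix.toLin' s₀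
  have hqσ : ∀ v, q (σ v) = v := fun v => by
    rw [← LinearMap.comp_apply, ← Matrix.toLin'_mul, hq₀, Matrix.toLin'_one, LinearMap.id_apply]
  let f : (Fin m → S) →ₗ[S] LinearMap.ker q :=
    (LinearMap.id - σ ∘ₗ q).codRestrict _ fun v => by simp [LinearMap.mem_ker, map_sub, hqσ]
  have hfg : f ∘ₗ (LinearMap.ker q).subtype = LinearMap.id := by
    refine LinearMap.ext fun v => Subtype.ext ?_
    simp [f, LinearMap.mem_ker.mp v.2]
  refine ⟨LinearMap.ker q, inferInstance, inferInstance,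
    Module.Finite.of_surjective f fun v => ⟨v.1, LinearMap.congr_fun hfg v⟩, ⟨n, m, ⟨?_⟩⟩, ?_⟩
  · exact LinearEquiv.ofLinear ((LinearMap.ker q).subtype.coprod σ) (f.prod q)
      (LinearMap.ext fun v => by simp [f])
      (LinearMap.ext fun ⟨v, w⟩ => by
        refine Prod.ext (Subtype.ext ?_) ?_
        · simp [f, LinearMap.mem_ker.mp v.2, map_add, hqσ]
        · simp [LinearMap.mem_ker.mp v.2, hqσ])
  obtain ⟨E⟩ := nonempty_equiv_range (S' := S') f (LinearMap.ker q).subtype hfg
  have hker : LinearMap.range (Matrix.toLin' ((LinearMap.toMatrix' ((LinearMap.ker q).subtype ∘ₗ f)).map (algebraMap S S'))) =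
      LinearMap.ker (Matrix.toLin' Qi) := by
    have hm : (LinearMap.toMatrix' ((LinearMap.ker q).subtype ∘ₗ f)).map (algebraMap S S') =
        1 - s₀.map (algebraMap S S') * Qi := by
      rw [show (LinearMap.ker q).subtype ∘ₗ f = LinearMap.id - σ ∘ₗ q from LinearMap.subtype_comp_codRestrict _ _ _,
        map_sub, LinearMap.toMatrix'_comp, LinearMap.toMatrix'_id, LinearMap.toMatrix'_toLin', LinearMap.toMatrix'_toLin',
        Matrix.map_sub _ (by simp), Matrix.map_mul, Matrix.map_one _ (map_zero _) (map_one _)]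
    have hq : Qi * s₀.map (algebraMap S S') = 1 := by
      rw [← Matrix.map_mul, hq₀, Matrix.map_one _ (map_zero _) (map_one _)]
    rw [hm]
    refine le_antisymm ?_ fun v hv => ⟨v, ?_⟩
    · rintro _ ⟨v, rfl⟩
      rw [LinearMap.mem_ker, ← LinearMap.comp_apply, ← Matrix.toLin'_mul, Matrix.mul_sub, Matrix.mul_one,
        ← Matrix.mul_assoc, hq, Matrix.one_mul, sub_self]
      simp
    · rw [map_sub, LinearMap.sub_apply, Matrix.toLin'_one, Matrix.toLin'_mul, LinearMap.comp_apply,
        LinearMap.mem_ker.mp hv, map_zero, sub_zero, LinearMap.id_apply]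
  -- conjugating kernels
  have hg : IsUnit (1 + T * (Qi - Q)) := isUnit_one_add_of_small D.isUnit_one_add hτ
    (Small.mul' hu hj₂ (by have := hQ₀.neg; convert this using 1; simp [Qi]))
  have hQg : Q * (1 + T * (Qi - Q)) = Qi := by
    rw [Matrix.mul_add, Matrix.mul_one, ← Matrix.mul_assoc, hQT, Matrix.one_mul]; abel
  obtain ⟨G, hG⟩ := hg
  let γ : (Fin m → S') ≃ₗ[S'] (Fin m → S') :=
    LinearEquiv.ofBijective (Matrix.toLin' (G : Matrix (Fin m) (Fin m) S'))
      ((Module.End.isUnit_iff _).mp (G.isUnit.map Matrix.toLinAlgEquiv'.toAlgHom))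
  have hγ : ∀ v, Matrix.toLin' Qi v = Matrix.toLin' Q (γ v) := fun v => by
    rw [← hQg, ← hG, Matrix.toLin'_mul]; rfl
  have hmap : (LinearMap.ker (Matrix.toLin' Qi)).map γ.toLinearMap = LinearMap.ker (Matrix.toLin' Q) := by
    refine le_antisymm ?_ fun v hv => ⟨γ.symm v, ?_, γ.apply_symm_apply v⟩
    · rintro _ ⟨v, hv, rfl⟩
      exact LinearMap.mem_ker.mpr ((hγ v).symm.trans (LinearMap.mem_ker.mp hv))
    · exact LinearMap.mem_ker.mpr (by rw [hγ, γ.apply_symm_apply]; exact LinearMap.mem_ker.mp hv)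
  have hkQ : LinearMap.ker (Matrix.toLin' Q) = LinearMap.range (e.toLinearMap ∘ₗ LinearMap.inl S' M' _) := by
    rw [show Matrix.toLin' Q = (LinearMap.snd S' M' _) ∘ₗ e.symm.toLinearMap from Matrix.toLin'_toMatrix' _]
    refine le_antisymm ?_ ?_
    · intro v hv
      refine ⟨(e.symm v).1, ?_⟩
      have h2 : (e.symm v).2 = 0 := hv
      show e ((e.symm v).1, 0) = v
      rw [← h2, Prod.mk.eta, e.apply_symm_apply]
    · rintro _ ⟨v, rfl⟩
      simp
  exact ⟨((E.trans (LinearEquiv.ofEq _ _ hker)).trans (γ.submoduleMap _)).trans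
    ((LinearEquiv.ofEq _ _ (hmap.trans hkQ)).trans
      (LinearEquiv.ofInjective (e.toLinearMap ∘ₗ LinearMap.inl S' M' _) (e.injective.comp LinearMap.inl_injective)).symm)⟩

/-- Idempotent matrices descend up to conjugation over henselian pairs. -/
theorem exists_idem [HenselianRing A (Ideal.span {t})] {n : ℕ} (E : Matrix (Fin n) (Fin n) S')
    (hE : IsIdempotentElem E) :
    ∃ (e : Matrix (Fin n) (Fin n) S) (G : Matrix (Fin n) (Fin n) S'),
      IsIdempotentElem e ∧ IsUnit G ∧ G * e.map (algebraMap S S') = E * G := by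
  classical
  obtain ⟨j, hj⟩ := exists_bdd D E
  have hτ := τ_mem D
  have hu := τ_unit D
  obtain ⟨e₀, he₀⟩ := exists_approx D E (2 + j + j + j)
  let Ei := e₀.map (algebraMap S S')
  have hd : Small B τ (2 + j + j + j) (Ei - E) := by
    have := he₀.neg; convert this using 1; simp [Ei]
  have hEi : Bdd B τ j Ei := by
    have := hj.add (hd.bdd hτ (j := j))
    convert this using 1
    simp
  have hc : Small B τ (2 + j + j) ((e₀ * e₀ - e₀).map (algebraMap S S')) := by
    have e1 : (e₀ * e₀ - e₀).map (algebraMap S S') = (Ei - E) * Ei + E * (Ei - E) - (Ei - E) := by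
      rw [Matrix.map_sub _ (by simp), Matrix.map_mul]
      simp only [Matrix.sub_mul, Matrix.mul_sub, hE.eq, Ei]
      abel
    rw [e1]
    exact ((hd.mul hu hEi).add (Small.mul' hu hj hd)).sub (hd.mono hτ (by omega))
  obtain ⟨X, hX⟩ := reflect_matrix D _ hc
  let k := 2 + j + j
  -- Newton's equation in a commutative algebra
  let C₀ : Matrix (Fin n) (Fin n) A := t ^ k • X
  have hCu : IsUnit (1 + 4 * C₀) := by
    rw [Matrix.isUnit_iff_isUnit_det]
    have h2 : (1 + 4 * C₀).det - 1 ∈ Ideal.span {t} := by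
      rw [← Ideal.Quotient.eq, map_one, RingHom.map_det, map_add, map_one, map_mul,
        show (Ideal.Quotient.mk (Ideal.span {t})).mapMatrix C₀ = 0 from ?_, mul_zero, add_zero, Matrix.det_one]
      ext i i'
      show Ideal.Quotient.mk _ (t ^ k * X i i') = 0
      exact Ideal.Quotient.eq_zero_iff_mem.mpr (Ideal.mul_mem_right _ _
        (Ideal.pow_mem_of_mem _ (Ideal.mem_span_singleton_self t) k (by omega)))
    have h3 := Ideal.mem_jacobson_bot.mp ((Ideal.span_singleton_le_iff_mem _).mpr D.jac h2) 1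
    rwa [mul_one, sub_add_cancel] at h3
  obtain ⟨U, hU⟩ := hCu
  let D' : Matrix (Fin n) (Fin n) A := X * ((U⁻¹ : (Matrix (Fin n) (Fin n) A)ˣ) : Matrix (Fin n) (Fin n) A)
  let R := Algebra.adjoin A ({D'} : Set (Matrix (Fin n) (Fin n) A))
  letI : CommRing R :=
    { (inferInstance : Ring R) with
      mul_comm := fun x y => by
        obtain ⟨p, hp⟩ := (Algebra.adjoin_singleton_eq_range_aeval A D').le x.2
        obtain ⟨q, hq⟩ := (Algebra.adjoin_singleton_eq_range_aeval A D').le y.2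
        apply Subtype.ext
        show (x : Matrix (Fin n) (Fin n) A) * (y : Matrix (Fin n) (Fin n) A) = (y : Matrix (Fin n) (Fin n) A) * (x : Matrix (Fin n) (Fin n) A)
        rw [← hp, ← hq]
        show Polynomial.aeval D' p * Polynomial.aeval D' q = Polynomial.aeval D' q * Polynomial.aeval D' p
        rw [← map_mul, ← map_mul, mul_comm] }
  have hint : Algebra.IsIntegral A R := by
    refine ⟨fun z => ?_⟩
    obtain ⟨p, hp, hz⟩ := (Algebra.IsIntegral.isIntegral (R := A) (z : Matrix (Fin n) (Fin n) A))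
    refine ⟨p, hp, Subtype.ext ?_⟩
    rw [← Polynomial.aeval_def] at hz ⊢
    simpa [Polynomial.aeval_subalgebra_coe] using hz
  haveI := hint
  have := Groth.Agent.H9Hens.henselianRing_of_isIntegral (I := Ideal.span {t}) R
  haveI : HenselianRing R (Ideal.span {algebraMap A R t ^ k}) := by
    have h1 : (Ideal.span {t}).map (algebraMap A R) = Ideal.span {algebraMap A R t} := by
      rw [Ideal.map_span, Set.image_singleton]
    rw [h1] at this
    exact Groth.Agent.H9Hens.henselianRing_of_le (J := Ideal.span {algebraMap A R t})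
      (Ideal.span_singleton_le_span_singleton.mpr (dvd_pow_self _ (by omega)))
  let d : R := algebraMap A R t ^ k * ⟨D', Algebra.subset_adjoin rfl⟩
  have hfm : (Polynomial.X ^ 2 - Polynomial.X + Polynomial.C d : Polynomial R).Monic := by
    rcases subsingleton_or_nontrivial R with h | h
    · exact Subsingleton.elim _ _
    rw [sub_add]
    refine Polynomial.monic_X_pow_sub (lt_of_le_of_lt (Polynomial.degree_sub_le _ _) ?_)
    rw [max_lt_iff]
    exact ⟨lt_of_le_of_lt Polynomial.degree_X_le (by norm_num), lt_of_le_of_lt Polynomial.degree_C_le (by norm_num)⟩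
  obtain ⟨y, hy, hyI⟩ := HenselianRing.is_henselian (I := Ideal.span {algebraMap A R t ^ k})
    (Polynomial.X ^ 2 - Polynomial.X + Polynomial.C d) hfm 0
    (by simpa using Ideal.mem_span_singleton'.mpr ⟨_, mul_comm _ _⟩)
    (by simp [Polynomial.derivative_X_pow])
  simp only [Polynomial.IsRoot, Polynomial.eval_add, Polynomial.eval_sub, Polynomial.eval_pow, Polynomial.eval_X,
    Polynomial.eval_C] at hy
  rw [sub_zero] at hyI
  obtain ⟨y', hy'⟩ := Ideal.mem_span_singleton'.mp hyI
  -- push to `S`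
  let φ : R →+* Matrix (Fin n) (Fin n) S := a.mapMatrix.comp R.val.toRingHom
  have hφt : φ (algebraMap A R t) = a t • 1 := by
    ext i i'
    simp [φ, Matrix.algebraMap_matrix_apply, Matrix.one_apply, apply_ite a]
  let w := φ d
  have hw : w * (1 + 4 * (e₀ * e₀ - e₀)) = e₀ * e₀ - e₀ := by
    have h1 : (t ^ k • (1 : Matrix (Fin n) (Fin n) A)) * D' * (1 + 4 * C₀) = C₀ := by
      rw [← hU, smul_mul_assoc, Matrix.one_mul, smul_mul_assoc, Matrix.mul_assoc X, Units.inv_mul, Matrix.mul_one]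
    have h2 := congrArg a.mapMatrix h1
    simp only [map_mul, map_add, map_one, map_ofNat] at h2
    rw [show a.mapMatrix C₀ = e₀ * e₀ - e₀ by
      rw [hX]; ext i i'; simp [C₀, k]] at h2
    rw [show w = a.mapMatrix (t ^ k • (1 : Matrix (Fin n) (Fin n) A)) * a.mapMatrix D' from ?_]
    · exact h2
    show a.mapMatrix ((algebraMap A R t ^ k * (⟨D', Algebra.subset_adjoin rfl⟩ : R) : R) : Matrix (Fin n) (Fin n) A) = _
    rw [← map_mul]
    congr 1
    rw [MulMemClass.coe_mul, SubmonoidClass.coe_pow, Subalgebra.coe_algebraMap, ← map_pow, Algebra.algebraMap_eq_smul_one]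
  have hpos : IsUnit (1 + 4 * (e₀ * e₀ - e₀)) := by
    have := (U.isUnit).map a.mapMatrix
    rwa [hU, map_add, map_one, map_mul, map_ofNat, show a.mapMatrix C₀ = e₀ * e₀ - e₀ by
      rw [hX]; ext i i'; simp [C₀, k]] at this
  have hcomm0 : Commute w e₀ := by
    have hce : Commute (e₀ * e₀ - e₀) e₀ := ((Commute.refl e₀).mul_left (Commute.refl e₀)).sub_left (Commute.refl e₀)
    have h4 : Commute (1 + 4 * (e₀ * e₀ - e₀)) e₀ := (Commute.one_left _).add_left ((Commute.ofNat_left 4 _).mul_left hce)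
    obtain ⟨P, hP⟩ := hpos
    rw [← hP] at hw h4
    have : w = (e₀ * e₀ - e₀) * ((P⁻¹ : (Matrix (Fin n) (Fin n) S)ˣ) : Matrix (Fin n) (Fin n) S) := by rw [← hw, Matrix.mul_assoc, Units.mul_inv, Matrix.mul_one]
    rw [this]
    exact hce.mul_left h4.units_inv_left
  have hcomm : Commute (φ y) e₀ := by
    have hcD : Commute (φ ⟨D', Algebra.subset_adjoin rfl⟩) e₀ := by
      have h5 : w = (a t) ^ k • φ ⟨D', Algebra.subset_adjoin rfl⟩ := by
        show φ (_ * _) = _
        rw [map_mul, map_pow, hφt, smul_pow, one_pow, smul_mul_assoc, Matrix.one_mul]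
      obtain ⟨v, hv⟩ := D.unit.pow k
      rw [h5, ← hv] at hcomm0
      have := hcomm0.smul_left (↑v⁻¹ : S)
      rwa [smul_smul, Units.inv_mul, one_smul] at this
    obtain ⟨p, hp⟩ := (Algebra.adjoin_singleton_eq_range_aeval A D').le y.2
    have key : ∀ p : Polynomial A, Commute (a.mapMatrix (Polynomial.aeval D' p)) e₀ := fun p => by
      induction p using Polynomial.induction_on' with
      | add p q hp hq => rw [map_add, map_add]; exact hp.add_left hq
      | monomial i c =>
        rw [Polynomial.aeval_monomial, Algebra.algebraMap_eq_smul_one, smul_mul_assoc, Matrix.one_mul]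
        have : a.mapMatrix (c • D' ^ i) = a c • (a.mapMatrix D') ^ i := by
          rw [← map_pow]; ext i1 i2; simp
        rw [this]
        exact (Commute.pow_left (show Commute (a.mapMatrix D') e₀ from hcD) i).smul_left _
    show Commute (a.mapMatrix (y : Matrix (Fin n) (Fin n) A)) e₀
    rw [← hp]
    exact key p
  let Y := φ y
  have hY : Y ^ 2 - Y + w = 0 := by
    have := congrArg φ hy
    rwa [map_add, map_sub, map_pow, map_zero] at this
  let δ := -((2 * e₀ - 1) * Y)
  let e := e₀ + δ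
  have hcommY : Commute Y (2 * e₀ - 1) := ((Commute.ofNat_right Y 2).mul_right hcomm).sub_right (Commute.one_right _)
  have hidem : IsIdempotentElem e := by
    show e * e = e
    rw [← sub_eq_zero]
    have h2 : (2 * e₀ - 1) * (2 * e₀ - 1) = 1 + 4 * (e₀ * e₀ - e₀) := by noncomm_ring
    have h3 : e * e - e = (e₀ * e₀ - e₀) + (1 + 4 * (e₀ * e₀ - e₀)) * (Y * Y - Y) := by
      have hA : e₀ * ((2 * e₀ - 1) * Y) = (2 * e₀ - 1) * (e₀ * Y) := by noncomm_ring
      have hB : Y * e₀ = e₀ * Y := hcomm.eq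
      have hC : (2 * e₀ - 1) * Y * ((2 * e₀ - 1) * Y) = (1 + 4 * (e₀ * e₀ - e₀)) * (Y * Y) := by
        rw [← h2, Matrix.mul_assoc, ← Matrix.mul_assoc Y, hcommY.eq, Matrix.mul_assoc, Matrix.mul_assoc]
      calc e * e - e = (e₀ * e₀ - e₀) - e₀ * ((2 * e₀ - 1) * Y) - (2 * e₀ - 1) * (Y * e₀)
            + (2 * e₀ - 1) * Y + (2 * e₀ - 1) * Y * ((2 * e₀ - 1) * Y) := by simp only [e, δ]; noncomm_ring
        _ = _ := by rw [hA, hB, hC]; noncomm_ring
    rw [h3, show Y * Y - Y = -w from eq_neg_of_add_eq_zero_left (by rwa [← pow_two]), Matrix.mul_neg]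
    rw [show (1 + 4 * (e₀ * e₀ - e₀)) * w = w * (1 + 4 * (e₀ * e₀ - e₀)) from ?_, hw, add_neg_cancel]
    exact ((Commute.one_left w).add_left ((Commute.ofNat_left 4 w).mul_left
      ((hcomm0.symm.mul_left hcomm0.symm).sub_left hcomm0.symm))).eq
  have hYs : Small B τ (2 + j + j) (Y.map (algebraMap S S')) := by
    intro i i'
    refine ⟨algebraMap S S' (φ y' i i'), ?_, ?_⟩
    · exact D.mem _
    · show algebraMap S S' (φ y i i') = _
      rw [← hy', map_mul, map_pow φ, hφt, smul_pow, one_pow, mul_smul_comm, Matrix.mul_one, Matrix.smul_apply,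
        smul_eq_mul, map_mul, map_pow]
  let ei := e.map (algebraMap S S')
  have hdiff : Small B τ (1 + j) (ei - E) := by
    have e1 : ei - E = (Ei - E) - (Ei * Y.map (algebraMap S S') + Ei * Y.map (algebraMap S S') - Y.map (algebraMap S S')) := by
      show (algebraMap S S').mapMatrix e - E = _
      simp only [e, δ, map_add, map_neg, map_mul, map_sub, map_one, map_ofNat]
      simp only [RingHom.mapMatrix_apply, Ei]
      noncomm_ring
    rw [e1]
    exact (hd.mono hτ (by omega)).sub (((Small.mul' hu hEi (hYs.mono hτ (show 1 + j + j ≤ 2 + j + j by omega))).add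
      (Small.mul' hu hEi (hYs.mono hτ (show 1 + j + j ≤ 2 + j + j by omega)))).sub (hYs.mono hτ (by omega)))
  refine ⟨e, 1 + (E + E - 1) * (ei - E), hidem, isUnit_one_add_of_small D.isUnit_one_add hτ ?_, ?_⟩
  · have h1 : Bdd B τ j (E + E - 1) := by
      intro i i'
      rw [Matrix.sub_apply, Matrix.add_apply, mul_sub, mul_add]
      refine B.sub_mem (B.add_mem (hj i i') (hj i i')) (B.mul_mem (pow_mem hτ _) ?_)
      rw [Matrix.one_apply]; split_ifs <;> simp [B.one_mem, B.zero_mem]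
    exact Small.mul' hu h1 hdiff
  · have hei : ei * ei = ei := by simp only [ei, ← Matrix.map_mul, hidem.eq]
    have hEE := hE.eq
    show (1 + (E + E - 1) * (ei - E)) * ei = E * (1 + (E + E - 1) * (ei - E))
    simp only [Matrix.add_mul, Matrix.mul_add, Matrix.sub_mul, Matrix.mul_sub, Matrix.one_mul, Matrix.mul_one,
      Matrix.mul_assoc, hei, hEE]
    simp only [← Matrix.mul_assoc, hEE]
    abel

/-- Finite projective modules descend over henselian pairs. -/
theorem exists_projective [HenselianRing A (Ideal.span {t})] (M' : Type u) [AddCommGroup M'] [Module S' M']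
    [Module.Finite S' M'] [Module.Projective S' M'] :
    ∃ (M : Type u) (_ : AddCommGroup M) (_ : Module S M), Module.Finite S M ∧ Module.Projective S M ∧
      Nonempty (S' ⊗[S] M ≃ₗ[S'] M') := by
  classical
  obtain ⟨n, f', g', -, -, h'⟩ := Module.Finite.exists_comp_eq_id_of_projective S' M'
  have h'' : ∀ x, f' (g' x) = x := fun x => LinearMap.congr_fun h' x
  obtain ⟨e, G, he, hG, hGe⟩ := exists_idem D (LinearMap.toMatrix' (g' ∘ₗ f')) (by
    show _ * _ = _
    rw [← LinearMap.toMatrix'_comp]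
    congr 1
    exact LinearMap.ext fun x => by simp [h''])
  let ε := Matrix.toLin' e
  let f : (Fin n → S) →ₗ[S] LinearMap.range ε := ε.rangeRestrict
  have hfg : f ∘ₗ (LinearMap.range ε).subtype = LinearMap.id := by
    refine LinearMap.ext fun v => Subtype.ext ?_
    obtain ⟨w, hw⟩ := v.2
    show ε v.1 = v.1
    rw [← hw, ← LinearMap.comp_apply, ← Matrix.toLin'_mul, he.eq]
  refine ⟨LinearMap.range ε, inferInstance, inferInstance, inferInstance,
    Module.Projective.of_split (LinearMap.range ε).subtype f hfg, ?_⟩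
  obtain ⟨T⟩ := nonempty_equiv_range (S' := S') f (LinearMap.range ε).subtype hfg
  have hm : LinearMap.toMatrix' ((LinearMap.range ε).subtype ∘ₗ f) = e := by
    rw [show (LinearMap.range ε).subtype ∘ₗ f = ε from LinearMap.subtype_comp_codRestrict _ _ _, LinearMap.toMatrix'_toLin']
  rw [hm] at T
  let γ : (Fin n → S') ≃ₗ[S'] (Fin n → S') :=
    LinearEquiv.ofBijective (Matrix.toLin' G) ((Module.End.isUnit_iff _).mp (hG.map Matrix.toLinAlgEquiv'.toAlgHom))
  have hmap : (LinearMap.range (Matrix.toLin' (e.map (algebraMap S S')))).map γ.toLinearMap = LinearMap.range g' := by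
    rw [← LinearMap.range_comp, show γ.toLinearMap ∘ₗ Matrix.toLin' (e.map (algebraMap S S')) =
      (g' ∘ₗ f') ∘ₗ Matrix.toLin' G from (Matrix.toLin'_mul _ _).symm.trans (by rw [hGe, Matrix.toLin'_mul, Matrix.toLin'_toMatrix'])]
    rw [LinearMap.range_comp_of_range_eq_top _ (show LinearMap.range (Matrix.toLin' G) = ⊤ from LinearMap.range_eq_top.mpr γ.surjective)]
    exact LinearMap.range_comp_of_range_eq_top _ (LinearMap.range_eq_top.mpr fun x => ⟨g' x, h'' x⟩)
  exact ⟨(T.trans (γ.submoduleMap _)).trans ((LinearEquiv.ofEq _ _ hmap).trans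
    (LinearEquiv.ofInjective g' (Function.LeftInverse.injective h'')).symm)⟩

end Modules

end Groth.Agent.H3CAlg.DenseLoc
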