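import Groth.Agent.H3CAlg.DenseLoc
import Groth.Prelude.Def_Hens2
import Mathlib.RingTheory.LaurentSeries
import Mathlib.RingTheory.PowerSeries.Trunc
import Mathlib.RingTheory.PowerSeries.Inverse
import Mathlib.RingTheory.AdicCompletion.Completeness
import Mathlib.RingTheory.AdicCompletion.Algebra
import Mathlib.RingTheory.Localization.Away.Basic

/-!
`A[1/t] → Â[1/t]` and polynomial rings to Laurent series as instances of `DenseLoc.Data`.
-/

universe u

open Groth.Agent.H3CAlg.DenseLoc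

namespace Groth.Agent.H3CAlg.DenseLocInst

theorem data_adic {A : Type u} [CommRing A] {t : A} (ht : t ∈ (⊥ : Ideal A).jacobson)
    {S' : Type u} [CommRing S'] [Algebra (AdicCompletion (Ideal.span {t}) A) S']
    [IsLocalization.Away (algebraMap A (AdicCompletion (Ideal.span {t}) A) t) S']
    {S : Type u} [CommRing S] [Algebra A S] [IsLocalization.Away t S] (ι : S →+* S')
    (hι : ∀ x, ι (algebraMap A S x) = algebraMap (AdicCompletion (Ideal.span {t}) A) S' (algebraMap A _ x)) :
    Data (algebraMap A S) t ι (algebraMap (AdicCompletion (Ideal.span {t}) A) S').range := by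
  classical
  have hfg : (Ideal.span {t}).FG := Submodule.fg_span_singleton t
  set τA := algebraMap A (AdicCompletion (Ideal.span {t}) A) t with hτA
  have hker : ∀ (c : AdicCompletion (Ideal.span {t}) A) (k : ℕ), AdicCompletion.eval (Ideal.span {t}) A k c = 0 →
      ∃ d, c = τA ^ k * d := by
    intro c k hc
    have h1 : c ∈ LinearMap.ker (AdicCompletion.eval (Ideal.span {t}) A k) := hc
    rw [← AdicCompletion.pow_smul_top_eq_ker_eval hfg, Ideal.span_singleton_pow, Submodule.ideal_span_singleton_smul,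
      Submodule.mem_smul_pointwise_iff_exists] at h1
    obtain ⟨d, -, hd⟩ := h1
    exact ⟨d, by rw [← hd, Algebra.smul_def, map_pow]⟩
  refine ⟨fun x => ⟨_, (hι x).symm⟩, IsLocalization.Away.algebraMap_isUnit t, fun s => ?_, fun x => ?_, ?_, ?_, ht, ?_⟩
  · obtain ⟨n, x, hx⟩ := IsLocalization.Away.surj t s
    exact ⟨n, x, by rw [mul_comm]; exact hx⟩
  · obtain ⟨n, c, hc⟩ := IsLocalization.Away.surj τA x
    exact ⟨n, c, by rw [mul_comm, hι]; exact hc.symm⟩
  · rintro _ ⟨c, rfl⟩ k
    obtain ⟨x₀, hx₀⟩ := Submodule.Quotient.mk_surjective _ (AdicCompletion.eval (Ideal.span {t}) A k c)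
    obtain ⟨d, hd⟩ := hker (c - algebraMap A _ x₀) k (by
      rw [map_sub, ← hx₀]
      exact sub_eq_zero.mpr (AdicCompletion.eval_of (Ideal.span {t}) A k x₀).symm)
    refine ⟨x₀, _, ⟨d, rfl⟩, ?_⟩
    rw [hι, hι, ← map_sub, hd, map_mul, map_pow]
  · rintro x k ⟨_, ⟨c, rfl⟩, hz⟩
    rw [hι, hι, ← map_pow, ← map_mul] at hz
    obtain ⟨⟨_, i, rfl⟩, hi⟩ := (IsLocalization.eq_iff_exists (Submonoid.powers τA) S').mp hz
    have h1 : AdicCompletion.eval (Ideal.span {t}) A (i + k) (algebraMap A _ (t ^ i * x)) = 0 := by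
      have h2 : algebraMap A (AdicCompletion (Ideal.span {t}) A) (t ^ i * x) = t ^ (i + k) • c := by
        rw [map_mul, map_pow, Algebra.smul_def, map_pow, pow_add, mul_assoc]; exact hi
      rw [h2]
      show (t ^ (i + k) • c : AdicCompletion (Ideal.span {t}) A) ∈ LinearMap.ker (AdicCompletion.eval (Ideal.span {t}) A (i + k))
      rw [← AdicCompletion.pow_smul_top_eq_ker_eval hfg]
      exact Submodule.smul_mem_smul (Ideal.pow_mem_pow (Ideal.mem_span_singleton_self t) _) Submodule.mem_top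
    have h2 : t ^ i * x ∈ Ideal.span {t} ^ (i + k) := by
      have h3 : Submodule.mkQ (Ideal.span {t} ^ (i + k) • ⊤ : Submodule A A) (t ^ i * x) = 0 :=
        (AdicCompletion.eval_of (Ideal.span {t}) A (i + k) (t ^ i * x)).symm.trans h1
      rwa [Submodule.mkQ_apply, Submodule.Quotient.mk_eq_zero, smul_eq_mul, Ideal.mul_top] at h3
    rw [Ideal.span_singleton_pow, Ideal.mem_span_singleton] at h2
    obtain ⟨y, hy⟩ := h2
    refine ⟨y, ((IsLocalization.Away.algebraMap_isUnit (S := S) t).pow i).mul_left_cancel ?_⟩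
    rw [← map_pow, ← map_mul, hy, pow_add, map_mul, map_mul, map_pow, mul_assoc]; simp only [map_pow]
  · rintro _ ⟨c, rfl⟩
    rw [hι, ← map_mul, ← map_one (algebraMap (AdicCompletion (Ideal.span {t}) A) S'), ← map_add]
    refine IsUnit.map _ ?_
    haveI := AdicCompletion.isAdicComplete (M := A) hfg
    haveI : IsAdicComplete ((Ideal.span {t}).map (algebraMap A (AdicCompletion (Ideal.span {t}) A))) (AdicCompletion (Ideal.span {t}) A) :=
      (IsAdicComplete.map_algebraMap_iff _ _).mpr inferInstance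
    have := Ideal.mem_jacobson_bot.mp (IsAdicComplete.le_jacobson_bot _
      (Ideal.mem_map_of_mem (algebraMap A (AdicCompletion (Ideal.span {t}) A)) (Ideal.mem_span_singleton_self t))) c
    rwa [add_comm]

section PowerSeries

variable {R A S L' : Type u} [CommRing R] [CommRing A] [CommRing S] [CommRing L']

theorem data_powerSeries (a : A →+* S) (t : A) (ι : S →+* L') (e : L' ≃+* LaurentSeries R)
    (ψ : A →+* PowerSeries R) (ρ : Polynomial R →+* A) (hρ : ∀ p : Polynomial R, ψ (ρ p) = (p : PowerSeries R))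
    (hψt : ψ t = PowerSeries.X) (he : ∀ x, e (ι (a x)) = HahnSeries.ofPowerSeries ℤ R (ψ x))
    (hunit : IsUnit (a t)) (hsurj : ∀ s : S, ∃ (j : ℕ) (x : A), a t ^ j * s = a x)
    (hrefl : ∀ (x : A) (k : ℕ), PowerSeries.X ^ k ∣ ψ x → t ^ k ∣ x) (hjac : t ∈ (⊥ : Ideal A).jacobson) :
    Data a t ι (e.symm.toRingHom.comp (HahnSeries.ofPowerSeries ℤ R)).range := by
  have hmem : ∀ x, ι (a x) = e.symm.toRingHom.comp (HahnSeries.ofPowerSeries ℤ R) (ψ x) := fun x => by
    simp only [RingHom.comp_apply, RingEquiv.toRingHom_eq_coe, RingEquiv.coe_toRingHom, ← he, RingEquiv.symm_apply_apply]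
  refine ⟨fun x => ⟨_, (hmem x).symm⟩, hunit, hsurj, fun x => ?_, ?_, ?_, hjac, ?_⟩
  · obtain ⟨j, c, hc⟩ : ∃ (j : ℕ) (c : PowerSeries R),
        HahnSeries.ofPowerSeries ℤ R PowerSeries.X ^ j * e x = HahnSeries.ofPowerSeries ℤ R c := by
      have h := LaurentSeries.single_order_mul_powerSeriesPart (e x)
      refine ⟨(-(e x).order).toNat, PowerSeries.X ^ ((e x).order).toNat * (e x).powerSeriesPart, ?_⟩
      rw [map_mul, map_pow, HahnSeries.ofPowerSeries_X]
      generalize (e x).powerSeriesPart = P at h ⊢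
      generalize (e x).order = o at h ⊢
      rw [← h]
      rw [← mul_assoc, HahnSeries.single_pow, HahnSeries.single_pow, HahnSeries.single_mul_single, one_pow, one_pow, one_mul]
      congr 2
      simp only [nsmul_eq_mul, mul_one]
      congr 1; omega
    refine ⟨j, c, ?_⟩
    simp only [RingHom.comp_apply, RingEquiv.toRingHom_eq_coe, RingEquiv.coe_toRingHom]
    apply e.injective
    rw [RingEquiv.apply_symm_apply, map_mul, map_pow, he, hψt, hc]
  · rintro _ ⟨c, rfl⟩ k
    obtain ⟨d, hd⟩ : (PowerSeries.X : PowerSeries R) ^ k ∣ c - (PowerSeries.trunc k c : PowerSeries R) := by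
      rw [PowerSeries.X_pow_dvd_iff]
      intro m hm
      rw [map_sub, Polynomial.coeff_coe, PowerSeries.coeff_trunc, if_pos hm, sub_self]
    refine ⟨ρ (PowerSeries.trunc k c), _, ⟨d, rfl⟩, ?_⟩
    rw [hmem, hmem, hρ, hψt, ← map_sub, hd, map_mul, map_pow]
  · rintro x k ⟨_, ⟨c, rfl⟩, hz⟩
    obtain ⟨y, hy⟩ := hrefl x k ⟨c, by
      apply HahnSeries.ofPowerSeries_injective (Γ := ℤ)
      apply e.symm.injective
      rw [hmem, hmem, hψt, ← map_pow, ← map_mul] at hz
      simpa using hz⟩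
    exact ⟨y, by rw [hy, map_mul, map_pow]⟩
  · rintro _ ⟨c, rfl⟩
    rw [hmem, hψt, ← map_mul, ← map_one (e.symm.toRingHom.comp (HahnSeries.ofPowerSeries ℤ R)), ← map_add]
    exact IsUnit.map _ (PowerSeries.isUnit_iff_constantCoeff.mpr (by simp))

end PowerSeries

section Henselization

open Polynomial

variable {R : Type u} [CommRing R] {B : Type u} [CommRing B] [Algebra R[X] B]

theorem dvd_of_dvd_henselization (hB : Hens2.IsPairHenselization R[X] (Ideal.span {(X : R[X])}) B)
    (ψ : B →ₐ[R[X]] PowerSeries R) (hψ : ∀ p : R[X], ψ (algebraMap R[X] B p) = (p : PowerSeries R)) (x : B) (k : ℕ)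
    (h : PowerSeries.X ^ k ∣ ψ x) : algebraMap R[X] B X ^ k ∣ x := by
  rcases k with _ | k
  · simp
  set t := algebraMap R[X] B X with ht
  have hn : ∀ {C : Type u} [CommRing C] (c : C), c ^ (k + 1) = 0 → HenselianRing C (Ideal.span {c}) := fun c hc =>
    Groth.Agent.H9Hens.henselianRing_of_isNilpotent fun z hz => by
      obtain ⟨d, rfl⟩ := Ideal.mem_span_singleton'.mp hz
      exact ⟨k + 1, by rw [mul_pow, hc, mul_zero]⟩
  have h0 : ∀ {C : Type u} [CommRing C] (c : C), Ideal.Quotient.mk (Ideal.span {c ^ (k + 1)}) c ^ (k + 1) = 0 := fun c => by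
    rw [← map_pow]; exact Ideal.Quotient.eq_zero_iff_mem.mpr (Ideal.mem_span_singleton_self _)
  have hle : ∀ {C : Type u} [CommRing C] (f : R[X] →+* C), (Ideal.span {(X : R[X])}).map f ≤ Ideal.span {f X} := fun f => by
    rw [Ideal.map_span, Set.image_singleton]
  let mA := Ideal.Quotient.mk (Ideal.span {(X : R[X]) ^ (k + 1)})
  let mB := Ideal.Quotient.mk (Ideal.span {t ^ (k + 1)})
  let mP := Ideal.Quotient.mk (Ideal.span {(PowerSeries.X : PowerSeries R) ^ (k + 1)})
  let j : (R[X] ⧸ Ideal.span {(X : R[X]) ^ (k + 1)}) →+* B ⧸ Ideal.span {t ^ (k + 1)} :=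
    Ideal.quotientMap _ (algebraMap R[X] B) (by
      rw [Ideal.span_singleton_le_iff_mem, Ideal.mem_comap, map_pow]; exact Ideal.mem_span_singleton_self _)
  let i : (R[X] ⧸ Ideal.span {(X : R[X]) ^ (k + 1)}) →+* PowerSeries R ⧸ Ideal.span {(PowerSeries.X : PowerSeries R) ^ (k + 1)} :=
    Ideal.quotientMap _ Polynomial.coeToPowerSeries.ringHom (by
      rw [Ideal.span_singleton_le_iff_mem, Ideal.mem_comap, map_pow, Polynomial.coeToPowerSeries.ringHom_apply, Polynomial.coe_X]
      exact Ideal.mem_span_singleton_self _)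
  obtain ⟨g, hg, -⟩ := hB.2 _ _ mA (hn (mA X) (h0 _)) (hle mA)
  obtain ⟨g₁, -, hg₁⟩ := hB.2 _ _ (mB.comp (algebraMap R[X] B)) (hn (mB t) (h0 _)) (hle _)
  obtain ⟨g₂, -, hg₂⟩ := hB.2 _ _ (mP.comp Polynomial.coeToPowerSeries.ringHom) (hn (mP PowerSeries.X) (h0 _))
    ((hle _).trans (by simp))
  have e1 : mB = j.comp g := (hg₁ mB rfl).trans (hg₁ (j.comp g) (by show (RingHom.comp _ g).comp _ = _; rw [RingHom.comp_assoc, hg]; exact Ideal.quotientMap_comp_mk _)).symm
  have e2 : mP.comp ψ.toRingHom = i.comp g :=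
    (hg₂ _ (RingHom.ext fun p => congrArg mP (hψ p))).trans
      (hg₂ (i.comp g) (by show (RingHom.comp _ g).comp _ = _; rw [RingHom.comp_assoc, hg]; exact Ideal.quotientMap_comp_mk _)).symm
  have hi : Function.Injective i := by
    refine Ideal.quotientMap_injective' (fun p hp => ?_)
    rw [Ideal.mem_comap, Polynomial.coeToPowerSeries.ringHom_apply, Ideal.mem_span_singleton, PowerSeries.X_pow_dvd_iff] at hp
    rw [Ideal.mem_span_singleton, Polynomial.X_pow_dvd_iff]
    exact fun m hm => (Polynomial.coeff_coe _ m).symm.trans (hp m hm)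
  have hgx : g x = 0 := hi (by
    rw [map_zero, ← RingHom.comp_apply i, ← e2, RingHom.comp_apply]
    exact Ideal.Quotient.eq_zero_iff_mem.mpr (Ideal.mem_span_singleton.mpr h))
  have : mB x = 0 := by rw [e1, RingHom.comp_apply, hgx, map_zero]
  exact Ideal.mem_span_singleton.mp (Ideal.Quotient.eq_zero_iff_mem.mp this)

end Henselization

end Groth.Agent.H3CAlg.DenseLocInst
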