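import Groth.Agent.H26Grass.Determinantal
import Groth.Agent.H05EGA4.IntegralDim
import Mathlib.FieldTheory.IsAlgClosed.AlgebraicClosure
import Mathlib.RingTheory.IntegralClosure.IsIntegralClosure.Basic
import Mathlib.RingTheory.KrullDimension.Polynomial
import Mathlib.LinearAlgebra.Dual.Lemmas
import Mathlib.LinearAlgebra.Basis.VectorSpace

/-!
Dimension of the generic determinantal ring over any field.
-/

namespace Groth.Agent.H3CAlg

open MvPolynomial

universe u

variable {k K : Type u} [Field k] [Field K] [Algebra k K] {σ : Type}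

theorem DetDim.comap_map (I : Ideal (MvPolynomial σ k)) :
    (I.map (MvPolynomial.map (algebraMap k K))).comap (MvPolynomial.map (algebraMap k K)) = I := by
  classical
  refine le_antisymm ?_ Ideal.le_comap_map
  obtain ⟨l, hl⟩ := (Algebra.linearMap k K).exists_leftInverse_of_injective
    (LinearMap.ker_eq_bot.mpr (algebraMap k K).injective)
  have hl1 : ∀ a : k, l (algebraMap k K a) = a := fun a => LinearMap.congr_fun hl a
  let ψ : MvPolynomial σ K →+ MvPolynomial σ k :=
    { toFun := fun p => AddMonoidAlgebra.ofCoeff (Finsupp.mapRange l (map_zero l) (AddMonoidAlgebra.coeff p))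
      map_zero' := by simp
      map_add' := fun p q => by ext d; simp [MvPolynomial.coeff] }
  have hψ : ∀ p d, MvPolynomial.coeff d (ψ p) = l (MvPolynomial.coeff d p) := fun p d => rfl
  have key : ∀ z ∈ I.map (MvPolynomial.map (algebraMap k K)), ∀ q, ψ (q * z) ∈ I := by
    intro z hz
    induction hz using Submodule.span_induction with
    | mem x hx =>
      obtain ⟨g, hg, rfl⟩ := hx
      intro q
      induction q using MvPolynomial.induction_on' with
      | add a b ha hb => rw [add_mul, map_add]; exact add_mem ha hb
      | monomial d c =>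
        have : ψ (monomial d c * MvPolynomial.map (algebraMap k K) g) = monomial d (l c) * g := by
          ext e
          rw [hψ, coeff_monomial_mul', coeff_monomial_mul']
          split_ifs with h
          · rw [coeff_map, ← Algebra.commutes, ← Algebra.smul_def, map_smul, smul_eq_mul, mul_comm]
          · exact map_zero l
        rw [this]
        exact I.mul_mem_left _ hg
    | zero => intro q; rw [mul_zero, map_zero]; exact zero_mem _
    | add a b _ _ ha hb => intro q; rw [mul_add, map_add]; exact add_mem (ha q) (hb q)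
    | smul c a _ ha => intro q; rw [smul_eq_mul, ← mul_assoc]; exact ha _
  intro g hg
  have := key _ hg 1
  rw [one_mul] at this
  rwa [show ψ (MvPolynomial.map (algebraMap k K) g) = g from MvPolynomial.ext _ _ fun d => by
    rw [hψ, coeff_map, hl1]] at this

theorem DetDim.dim_map [Algebra.IsAlgebraic k K] (I : Ideal (MvPolynomial σ k)) :
    ringKrullDim (MvPolynomial σ K ⧸ I.map (MvPolynomial.map (algebraMap k K))) =
      ringKrullDim (MvPolynomial σ k ⧸ I) := by
  set J := I.map (MvPolynomial.map (algebraMap k K)) with hJ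
  let f : (MvPolynomial σ k ⧸ I) →+* (MvPolynomial σ K ⧸ J) :=
    Ideal.quotientMap J (MvPolynomial.map (algebraMap k K)) Ideal.le_comap_map
  have hinj : Function.Injective f := Ideal.quotientMap_injective' (DetDim.comap_map I).le
  letI := f.toAlgebra
  have hint : Algebra.IsIntegral (MvPolynomial σ k ⧸ I) (MvPolynomial σ K ⧸ J) := by
    refine ⟨fun z => ?_⟩
    obtain ⟨p, rfl⟩ := Ideal.Quotient.mk_surjective z
    induction p using MvPolynomial.induction_on with
    | C a =>
      obtain ⟨P, hP, hP0⟩ := (Algebra.IsIntegral.isIntegral (R := k) a)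
      refine ⟨P.map ((Ideal.Quotient.mk I).comp MvPolynomial.C), hP.map _, ?_⟩
      rw [Polynomial.eval₂_map]
      have hc : (algebraMap (MvPolynomial σ k ⧸ I) (MvPolynomial σ K ⧸ J)).comp ((Ideal.Quotient.mk I).comp MvPolynomial.C) =
          ((Ideal.Quotient.mk J).comp MvPolynomial.C).comp (algebraMap k K) := by
        ext b
        show f (Ideal.Quotient.mk I (C b)) = _
        rw [Ideal.quotientMap_mk, map_C]; rfl
      rw [hc, show Ideal.Quotient.mk J (C a) = ((Ideal.Quotient.mk J).comp MvPolynomial.C) a from rfl,
        ← Polynomial.hom_eval₂, hP0, map_zero]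
    | add a b ha hb => rw [map_add]; exact ha.add hb
    | mul_X a i ha =>
      rw [map_mul]
      refine ha.mul ?_
      rw [show Ideal.Quotient.mk J (X i : MvPolynomial σ K) = f (Ideal.Quotient.mk I (X i)) by
        rw [Ideal.quotientMap_mk, map_X]]
      exact isIntegral_algebraMap
  exact (Groth.Agent.H05EGA4.dim_int _ _).2 hinj

omit [Algebra k K] in
theorem DetDim.map_minorIdeal {n m : ℕ} (φ : k →+* K) (t : ℕ) :
    (CAlgX.minorIdeal (Matrix.of fun (i : Fin n) (j : Fin m) => (X (i, j) : MvPolynomial (Fin n × Fin m) k)) t).map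
      (MvPolynomial.map φ) =
      CAlgX.minorIdeal (Matrix.of fun (i : Fin n) (j : Fin m) => (X (i, j) : MvPolynomial (Fin n × Fin m) K)) t := by
  rw [CAlgX.minorIdeal, Ideal.map_span, CAlgX.minorIdeal, ← Set.range_comp]
  congr 2
  funext fg
  rw [Function.comp_apply, RingHom.map_det]
  congr 1
  ext i j
  simp

/-- The generic determinantal ring has dimension `r (m + n - r)` over any field. -/
theorem DetDim.ringKrullDim_eq (k : Type u) [Field k] (n m r : ℕ) (hr : r ≤ min n m) :
    ringKrullDim (MvPolynomial (Fin n × Fin m) k ⧸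
      CAlgX.minorIdeal (Matrix.of fun (i : Fin n) (j : Fin m) => (X (i, j) : MvPolynomial (Fin n × Fin m) k)) (r + 1)) =
      ((r * (m + n - r) : ℕ) : WithBot ℕ∞) := by
  classical
  rcases Nat.eq_zero_or_pos m with hm | hm
  · subst hm
    obtain rfl : r = 0 := by omega
    have : CAlgX.minorIdeal (Matrix.of fun (i : Fin n) (j : Fin 0) => (X (i, j) : MvPolynomial (Fin n × Fin 0) k)) (0 + 1) = ⊥ := by
      rw [CAlgX.minorIdeal, Ideal.span_eq_bot]
      rintro _ ⟨⟨f, g⟩, rfl⟩
      exact (g 0).elim0
    rw [this, ringKrullDim_eq_of_ringEquiv (RingEquiv.quotientBot _), MvPolynomial.ringKrullDim_of_isNoetherianRing,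
      ringKrullDim_eq_zero_of_field]
    simp
  · rw [← DetDim.dim_map (k := k) (K := AlgebraicClosure k), DetDim.map_minorIdeal]
    have h := Groth.Agent.H26Grass.ringKrullDim_minorIdeal (AlgebraicClosure k) (d := m) (r := n) (s := r) hm
      (by omega) (by omega)
    rw [show n + m - r = m + n - r by omega] at h
    exact h

end Groth.Agent.H3CAlg
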