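import Groth.Prelude.Def_CAlgX
import Groth.Agent.H27Zeta.Series
import Mathlib.RingTheory.Smooth.Locus
import Mathlib.RingTheory.Nakayama
import Mathlib.LinearAlgebra.Matrix.SchurComplement
import Mathlib.Algebra.MvPolynomial.PDeriv
import Mathlib.RingTheory.MvPolynomial.Ideal
import Mathlib.RingTheory.Polynomial.Basic

/-!
The smooth locus of a generic determinantal variety.
-/

universe u

open MvPolynomial

namespace Groth.Agent.H3CAlg.DetSmooth

section Matrix

variable {S : Type u} [CommRing S] {n m r : ℕ}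

/-- A product through `Fin r` has vanishing minors of size `r + 1`. -/
theorem det_submatrix_mul (U : Matrix (Fin n) (Fin r) S) (V : Matrix (Fin r) (Fin m) S)
    (a : Fin (r + 1) → Fin n) (b : Fin (r + 1) → Fin m) : ((U * V).submatrix a b).det = 0 := by
  let U' : Matrix (Fin (r + 1)) (Fin (r + 1)) S := fun p q =>
    if h : (q : ℕ) < r then U (a p) ⟨q, h⟩ else 0
  let V' : Matrix (Fin (r + 1)) (Fin (r + 1)) S := fun p q =>
    if h : (p : ℕ) < r then V ⟨p, h⟩ (b q) else 0
  have h : (U * V).submatrix a b = U' * V' := by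
    ext p q
    rw [Matrix.submatrix_apply, Matrix.mul_apply, Matrix.mul_apply, Fin.sum_univ_castSucc]
    simp [U', V']
  rw [h, Matrix.det_mul, Matrix.det_eq_zero_of_column_eq_zero (A := U') (Fin.last r) (fun p => by simp [U']), zero_mul]

variable (M : Matrix (Fin n) (Fin m) S) (f : Fin r → Fin n) (g : Fin r → Fin m)

/-- The rank `r` matrix through the rows `f` and the columns `g`. -/
noncomputable def rankFill : Matrix (Fin n) (Fin m) S :=
  M.submatrix id g * (M.submatrix f g)⁻¹ * M.submatrix f id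

theorem rankFill_row (hδ : IsUnit (M.submatrix f g).det) (c : Fin r) (j : Fin m) :
    rankFill M f g (f c) j = M (f c) j := by
  have h : (rankFill M f g).submatrix f id = M.submatrix f id := by
    rw [rankFill, Matrix.submatrix_mul _ _ f id id Function.bijective_id,
      Matrix.submatrix_mul _ _ f id id Function.bijective_id]
    simp only [Matrix.submatrix_submatrix, Function.id_comp, Function.comp_id, Matrix.submatrix_id_id]
    rw [Matrix.mul_nonsing_inv _ hδ, Matrix.one_mul]
  exact congrFun (congrFun h c) j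

theorem rankFill_col (hδ : IsUnit (M.submatrix f g).det) (i : Fin n) (d : Fin r) :
    rankFill M f g i (g d) = M i (g d) := by
  have h : (rankFill M f g).submatrix id g = M.submatrix id g := by
    rw [rankFill, Matrix.submatrix_mul _ _ id id g Function.bijective_id]
    simp only [Matrix.submatrix_submatrix, Function.id_comp, Function.comp_id, Matrix.submatrix_id_id]
    rw [Matrix.mul_assoc, Matrix.nonsing_inv_mul _ hδ, Matrix.mul_one]
  exact congrFun (congrFun h i) d

theorem eq_rankFill (hδ : IsUnit (M.submatrix f g).det)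
    (h0 : ∀ (a : Fin (r + 1) → Fin n) (b : Fin (r + 1) → Fin m), (M.submatrix a b).det = 0) :
    M = rankFill M f g := by
  ext i j
  haveI := (M.submatrix f g).invertibleOfIsUnitDet hδ
  let e := (finSumFinEquiv (m := r) (n := 1)).symm
  have h1 := h0 (Fin.append f fun _ : Fin 1 => i) (Fin.append g fun _ : Fin 1 => j)
  have h2 : (M.submatrix (Fin.append f fun _ : Fin 1 => i) (Fin.append g fun _ : Fin 1 => j)) =
      (Matrix.fromBlocks (M.submatrix f g) (M.submatrix f fun _ : Fin 1 => j)
        (M.submatrix (fun _ : Fin 1 => i) g) (M.submatrix (fun _ : Fin 1 => i) fun _ : Fin 1 => j)).submatrix e e := by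
    ext p q
    induction p using Fin.addCases with
    | left p =>
      induction q using Fin.addCases with
      | left q => simp [e]
      | right q => simp [e]
    | right p =>
      induction q using Fin.addCases with
      | left q => simp [e]
      | right q => simp [e]
  rw [h2, Matrix.det_submatrix_equiv_self, Matrix.det_fromBlocks₁₁, hδ.mul_right_eq_zero, Matrix.det_fin_one,
    Matrix.sub_apply, sub_eq_zero, Matrix.invOf_eq_nonsing_inv] at h1
  exact h1

theorem map_submatrix_det {T : Type u} [CommRing T] (φ : S →+* T) {d : ℕ} (a : Fin d → Fin n) (b : Fin d → Fin m) :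
    ((M.map φ).submatrix a b).det = φ (M.submatrix a b).det := by
  rw [RingHom.map_det]; rfl

end Matrix

variable (k : Type u) [Field k] (n m r : ℕ)

/-- The generic matrix. -/
noncomputable abbrev gen : Matrix (Fin n) (Fin m) (MvPolynomial (Fin n × Fin m) k) :=
  Matrix.of fun (i : Fin n) (j : Fin m) => (MvPolynomial.X (i, j) : MvPolynomial (Fin n × Fin m) k)

/-- The determinantal ideal. -/
noncomputable abbrev detI : Ideal (MvPolynomial (Fin n × Fin m) k) := CAlgX.minorIdeal (gen k n m) (r + 1)

theorem minor_mem (d : ℕ) (a : Fin d → Fin n) (b : Fin d → Fin m) :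
    ((gen k n m).submatrix a b).det ∈ CAlgX.minorIdeal (gen k n m) d :=
  Ideal.subset_span ⟨(a, b), rfl⟩

section Smooth

variable (f : Fin r → Fin n) (g : Fin r → Fin m)

/-- The variables in the rows `f` and the columns `g`. -/
abbrev Kept := {a : Fin n × Fin m // a.1 ∈ Set.range f ∨ a.2 ∈ Set.range g}

/-- The block of kept variables. -/
noncomputable def blockY : Matrix (Fin r) (Fin r) (MvPolynomial (Kept n m r f g) k) :=
  Matrix.of fun c d => X ⟨(f c, g d), Or.inl ⟨c, rfl⟩⟩

/-- The kept matrix padded by zero. -/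
noncomputable def padY : Matrix (Fin n) (Fin m) (Localization.Away (blockY k n m r f g).det) :=
  Matrix.of fun i j => open Classical in
    if h : i ∈ Set.range f ∨ j ∈ Set.range g then
      algebraMap (MvPolynomial (Kept n m r f g) k) (Localization.Away (blockY k n m r f g).det) (X ⟨(i, j), h⟩)
    else 0

theorem padY_eq {i : Fin n} {j : Fin m} (h : i ∈ Set.range f ∨ j ∈ Set.range g) :
    padY k n m r f g i j = algebraMap (MvPolynomial (Kept n m r f g) k)
      (Localization.Away (blockY k n m r f g).det) (X ⟨(i, j), h⟩) :=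
  dif_pos h

theorem isUnit_padY : IsUnit ((padY k n m r f g).submatrix f g).det := by
  have h : (padY k n m r f g).submatrix f g =
      (blockY k n m r f g).map (algebraMap _ (Localization.Away (blockY k n m r f g).det)) := by
    ext c d
    rw [Matrix.submatrix_apply, padY_eq k n m r f g (Or.inl ⟨c, rfl⟩)]
    simp [blockY]
  rw [h, ← RingHom.mapMatrix_apply, ← RingHom.map_det]
  exact IsLocalization.Away.algebraMap_isUnit _

theorem gen_map {T : Type u} [CommRing T] [Algebra k T] (N : Matrix (Fin n) (Fin m) T) :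
    (gen k n m).map (aeval (R := k) fun a : Fin n × Fin m => N a.1 a.2).toRingHom = N := by
  ext i j; simp

theorem formallySmooth_away :
    Algebra.FormallySmooth k (Localization.Away
      (Ideal.Quotient.mk (detI k n m r) ((gen k n m).submatrix f g).det)) := by
  classical
  let δ := Ideal.Quotient.mk (detI k n m r) ((gen k n m).submatrix f g).det
  let S' := Localization.Away δ
  let T := Localization.Away (blockY k n m r f g).det
  let π : MvPolynomial (Fin n × Fin m) k →ₐ[k] S' :=
    (IsScalarTower.toAlgHom k _ S').comp (Ideal.Quotient.mkₐ k (detI k n m r))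
  -- the map to the kept coordinates
  let β₀ : MvPolynomial (Fin n × Fin m) k →ₐ[k] T :=
    aeval fun a => rankFill (padY k n m r f g) f g a.1 a.2
  have hβI : ∀ x ∈ detI k n m r, β₀ x = 0 := by
    suffices detI k n m r ≤ RingHom.ker β₀.toRingHom from fun x hx => this hx
    rw [detI, CAlgX.minorIdeal, Ideal.span_le]
    rintro _ ⟨⟨a, b⟩, rfl⟩
    rw [SetLike.mem_coe, RingHom.mem_ker, ← map_submatrix_det (gen k n m) β₀.toRingHom,
      gen_map k n m, rankFill]
    exact det_submatrix_mul _ _ a b
  let β₁ : (MvPolynomial (Fin n × Fin m) k ⧸ detI k n m r) →ₐ[k] T := Ideal.Quotient.liftₐ _ β₀ hβI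
  have hβδ : IsUnit (β₁ δ) := by
    have h1 : β₁ δ = β₀.toRingHom ((gen k n m).submatrix f g).det := rfl
    rw [h1, ← map_submatrix_det (gen k n m) β₀.toRingHom, gen_map k n m]
    have h2 : (rankFill (padY k n m r f g) f g).submatrix f g = (padY k n m r f g).submatrix f g := by
      ext c d
      exact rankFill_row _ f g (isUnit_padY k n m r f g) c (g d)
    rw [h2]
    exact isUnit_padY k n m r f g
  let β : S' →ₐ[k] T := IsLocalization.liftAlgHom (M := Submonoid.powers δ) (f := β₁) (by
    rintro ⟨_, e, rfl⟩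
    rw [map_pow]
    exact hβδ.pow e)
  have hβ : ∀ x, β (π x) = β₀ x := fun x => IsLocalization.lift_eq _ _
  -- the map back
  let α₀ : MvPolynomial (Kept n m r f g) k →ₐ[k] S' := aeval fun a => π (X a.1)
  have hδS : IsUnit (((gen k n m).map π.toRingHom).submatrix f g).det := by
    rw [map_submatrix_det]
    exact IsLocalization.Away.algebraMap_isUnit δ
  have hαδ : IsUnit (α₀ (blockY k n m r f g).det) := by
    have h1 : (blockY k n m r f g).map α₀.toRingHom = ((gen k n m).map π.toRingHom).submatrix f g := by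
      ext c d; simp [blockY, α₀]
    have h2 : α₀ (blockY k n m r f g).det = ((blockY k n m r f g).map α₀.toRingHom).det :=
      α₀.toRingHom.map_det _
    rw [h2, h1]
    exact hδS
  let α : T →ₐ[k] S' := IsLocalization.liftAlgHom (M := Submonoid.powers (blockY k n m r f g).det) (f := α₀) (by
    rintro ⟨_, e, rfl⟩
    rw [map_pow]
    exact hαδ.pow e)
  have hα : ∀ x, α (algebraMap _ T x) = α₀ x := fun x => IsLocalization.lift_eq _ _
  have hkey : ∀ i j, α (β (π (X (i, j)))) = π (X (i, j)) := by
    let M' : Matrix (Fin n) (Fin m) S' := (rankFill (padY k n m r f g) f g).map α.toRingHom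
    let MS : Matrix (Fin n) (Fin m) S' := (gen k n m).map π.toRingHom
    have hrow : ∀ c j, M' (f c) j = MS (f c) j := fun c j => by
      show α (rankFill (padY k n m r f g) f g (f c) j) = π (X (f c, j))
      rw [rankFill_row _ f g (isUnit_padY k n m r f g) c j, padY_eq k n m r f g (Or.inl ⟨c, rfl⟩)]
      exact (hα _).trans (aeval_X _ _)
    have hcol : ∀ i d, M' i (g d) = MS i (g d) := fun i d => by
      show α (rankFill (padY k n m r f g) f g i (g d)) = π (X (i, g d))
      rw [rankFill_col _ f g (isUnit_padY k n m r f g) i d, padY_eq k n m r f g (Or.inr ⟨d, rfl⟩)]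
      exact (hα _).trans (aeval_X _ _)
    have hsq : M'.submatrix f g = MS.submatrix f g := by ext c d; exact hrow c (g d)
    have hfill : rankFill M' f g = rankFill MS f g := by
      rw [rankFill, rankFill, hsq, show M'.submatrix id g = MS.submatrix id g from by ext i d; exact hcol i d,
        show M'.submatrix f id = MS.submatrix f id from by ext c j; exact hrow c j]
    have hM' : M' = rankFill M' f g := by
      refine eq_rankFill M' f g (hsq ▸ hδS) fun a b => ?_
      rw [map_submatrix_det, rankFill, det_submatrix_mul, map_zero]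
    have hMS : MS = rankFill MS f g := by
      refine eq_rankFill MS f g hδS fun a b => ?_
      rw [map_submatrix_det]
      show algebraMap _ S' (Ideal.Quotient.mk (detI k n m r) _) = 0
      rw [Ideal.Quotient.eq_zero_iff_mem.mpr (minor_mem k n m (r + 1) a b), map_zero]
    intro i j
    rw [hβ]
    show α (aeval (fun a => rankFill (padY k n m r f g) f g a.1 a.2) (X (i, j))) = MS i j
    rw [aeval_X, hMS, ← hfill, ← hM']
    rfl
  have h1 : α.comp β = AlgHom.id k S' := by
    refine IsLocalization.algHom_ext (Submonoid.powers δ) (Ideal.Quotient.algHom_ext k ?_)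
    refine MvPolynomial.algHom_ext fun a => ?_
    exact hkey a.1 a.2
  have h2 : β.comp α = AlgHom.id k T := by
    refine IsLocalization.algHom_ext (Submonoid.powers (blockY k n m r f g).det) (MvPolynomial.algHom_ext fun a => ?_)
    show β (α (algebraMap _ T (X a))) = algebraMap _ T (X a)
    rw [hα]
    simp only [α₀, aeval_X]
    rw [hβ]
    obtain ⟨⟨i, j⟩, h⟩ := a
    show aeval (fun a => rankFill (padY k n m r f g) f g a.1 a.2) (X (i, j)) = _
    rw [aeval_X]
    rcases h with ⟨c, hc⟩ | ⟨d, hd⟩
    · change f c = i at hc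
      subst hc
      rw [rankFill_row _ f g (isUnit_padY k n m r f g) c j]
      exact padY_eq k n m r f g _
    · change g d = j at hd
      subst hd
      rw [rankFill_col _ f g (isUnit_padY k n m r f g) i d]
      exact padY_eq k n m r f g _
  haveI : Algebra.FormallySmooth (MvPolynomial (Kept n m r f g) k) T :=
    Algebra.FormallySmooth.of_isLocalization (Submonoid.powers (blockY k n m r f g).det)
  haveI : Algebra.FormallySmooth k T := Algebra.FormallySmooth.comp k (MvPolynomial (Kept n m r f g) k) T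
  exact Algebra.FormallySmooth.of_equiv (AlgEquiv.ofAlgHom α β h1 h2)

end Smooth

section Singular

variable {k n m r}

theorem pderiv_minor_mem (a : Fin (r + 1) → Fin n) (b : Fin (r + 1) → Fin m) (c : Fin n × Fin m) :
    pderiv c ((gen k n m).submatrix a b).det ∈ CAlgX.minorIdeal (gen k n m) r := by
  rw [H27Zeta.derivation_det]
  simp only [Matrix.trace, Matrix.diag, Matrix.mul_apply]
  refine Ideal.sum_mem _ fun i _ => Ideal.sum_mem _ fun j _ => Ideal.mul_mem_right _ _ ?_
  rw [Matrix.adjugate_fin_succ_eq_det_submatrix, Matrix.submatrix_submatrix]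
  exact Ideal.mul_mem_left _ _ (minor_mem k n m r _ _)

theorem algHom_eq_add {σ : Type} {B : Type u} [CommRing B] [Algebra k B] (ψ φ : MvPolynomial σ k →ₐ[k] B)
    (h : ∀ a b, (ψ (X a) - φ (X a)) * (ψ (X b) - φ (X b)) = 0) (G : MvPolynomial σ k)
    (hG : ∀ a, φ (pderiv a G) * (ψ (X a) - φ (X a)) = 0) : ψ G = φ G := by
  classical
  have key : ∀ G : MvPolynomial σ k, ∃ s : Finset σ, ∀ t, s ⊆ t →
      ψ G = φ G + ∑ a ∈ t, φ (pderiv a G) * (ψ (X a) - φ (X a)) := by
    intro G
    induction G using MvPolynomial.induction_on with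
    | C c => exact ⟨∅, fun t _ => by simp [← algebraMap_eq]⟩
    | add p q hp hq =>
      obtain ⟨s, hs⟩ := hp; obtain ⟨s', hs'⟩ := hq
      refine ⟨s ∪ s', fun t ht => ?_⟩
      rw [map_add, hs t (Finset.union_subset_left ht), hs' t (Finset.union_subset_right ht)]
      simp only [map_add, add_mul, Finset.sum_add_distrib]
      ring
    | mul_X p b hp =>
      obtain ⟨s, hs⟩ := hp
      refine ⟨insert b s, fun t ht => ?_⟩
      have hb : b ∈ t := ht (Finset.mem_insert_self _ _)
      rw [map_mul, hs t ((Finset.subset_insert _ _).trans ht)]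
      have h0 : (∑ a ∈ t, φ (pderiv a p) * (ψ (X a) - φ (X a))) * (ψ (X b) - φ (X b)) = 0 := by
        rw [Finset.sum_mul]
        exact Finset.sum_eq_zero fun a _ => by rw [mul_assoc, h, mul_zero]
      have h1 : ∑ a ∈ t, φ (pderiv a (p * X b)) * (ψ (X a) - φ (X a)) =
          (∑ a ∈ t, φ (pderiv a p) * (ψ (X a) - φ (X a))) * φ (X b) + φ p * (ψ (X b) - φ (X b)) := by
        simp only [pderiv_mul, map_add, map_mul, add_mul, Finset.sum_add_distrib, Finset.sum_mul]
        congr 1
        · exact Finset.sum_congr rfl fun a _ => by ring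
        · rw [Finset.sum_eq_single b]
          · simp
          · intro a _ ha
            simp [pderiv_X, Pi.single_eq_of_ne (M := fun _ => MvPolynomial σ k) (Ne.symm ha)]
          · exact fun h' => absurd hb h'
      rw [h1, map_mul]
      linear_combination h0
  obtain ⟨s, hs⟩ := key G
  rw [hs s subset_rfl, Finset.sum_eq_zero fun a _ => hG a, add_zero]

theorem minor_ne_zero (hn : r < n) (hm : r < m) :
    ((gen k n m).submatrix (Fin.castLE hn) (Fin.castLE hm)).det ≠ 0 := by
  intro h
  let φ : MvPolynomial (Fin n × Fin m) k →ₐ[k] k := aeval fun a =>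
    (Matrix.of fun (i : Fin n) (j : Fin m) => if (i : ℕ) = j then (1 : k) else 0) a.1 a.2
  have h1 := congrArg φ.toRingHom h
  rw [map_zero, ← map_submatrix_det, gen_map k n m (Matrix.of fun (i : Fin n) (j : Fin m) =>
    if (i : ℕ) = j then (1 : k) else 0)] at h1
  rw [show (Matrix.of fun (i : Fin n) (j : Fin m) => if (i : ℕ) = j then (1 : k) else 0).submatrix
    (Fin.castLE hn) (Fin.castLE hm) = (1 : Matrix (Fin (r + 1)) (Fin (r + 1)) k) from by
      ext i j; simp [Matrix.one_apply, Fin.ext_iff]] at h1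
  simp at h1

theorem minor_eq_zero_of_lift (P : PrimeSpectrum (MvPolynomial (Fin n × Fin m) k ⧸ detI k n m r))
    [Algebra.FormallySmooth k (Localization.AtPrime P.asIdeal)]
    {B : Type u} [CommRing B] [Algebra k B] (N : Ideal B) (hNN : N * N = ⊥)
    (π : MvPolynomial (Fin n × Fin m) k →ₐ[k] B) (hIN : ∀ x ∈ detI k n m r, π x ∈ N)
    (hPN : ∀ x ∈ CAlgX.minorIdeal (gen k n m) r, ∀ u ∈ N, π x * u = 0)
    (hunit : ∀ x, Ideal.Quotient.mk (detI k n m r) x ∉ P.asIdeal → IsUnit (π x))
    (a : Fin (r + 1) → Fin n) (b : Fin (r + 1) → Fin m) : π ((gen k n m).submatrix a b).det = 0 := by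
  let ι : MvPolynomial (Fin n × Fin m) k →ₐ[k] Localization.AtPrime P.asIdeal :=
    (IsScalarTower.toAlgHom k _ _).comp (Ideal.Quotient.mkₐ k (detI k n m r))
  have hι : ∀ x ∈ detI k n m r, ι x = 0 := fun x hx => by
    show algebraMap _ _ (Ideal.Quotient.mk (detI k n m r) x) = 0
    rw [Ideal.Quotient.eq_zero_iff_mem.mpr hx, map_zero]
  let q₁ : (MvPolynomial (Fin n × Fin m) k ⧸ detI k n m r) →ₐ[k] B ⧸ N :=
    Ideal.Quotient.liftₐ (detI k n m r) ((Ideal.Quotient.mkₐ k N).comp π) fun x hx =>
      Ideal.Quotient.eq_zero_iff_mem.mpr (hIN x hx)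
  have hu : ∀ y : P.asIdeal.primeCompl, IsUnit (q₁ y) := by
    rintro ⟨y, hy⟩
    obtain ⟨x, rfl⟩ := Ideal.Quotient.mk_surjective y
    show IsUnit (Ideal.Quotient.mk N (π x))
    exact (hunit x hy).map _
  let q : Localization.AtPrime P.asIdeal →ₐ[k] B ⧸ N :=
    IsLocalization.liftAlgHom (A := k) (S := Localization.AtPrime P.asIdeal) (M := P.asIdeal.primeCompl) (f := q₁) hu
  have hq : ∀ x, q (ι x) = Ideal.Quotient.mk N (π x) := fun x => IsLocalization.lift_eq _ _
  obtain ⟨φ, hφ⟩ := Algebra.FormallySmooth.exists_lift N ⟨2, by rw [pow_two]; exact hNN⟩ q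
  have hdiff : ∀ x, φ (ι x) - π x ∈ N := fun x => by
    refine (Ideal.Quotient.mk_eq_mk_iff_sub_mem _ _).mp ?_
    rw [← hq, ← hφ]
    rfl
  refine (algHom_eq_add (φ.comp ι) π (fun c d => ?_) _ fun c => ?_).symm.trans ?_
  · exact (Submodule.mem_bot _).mp (hNN ▸ Ideal.mul_mem_mul (hdiff (X c)) (hdiff (X d)))
  · exact hPN _ (pderiv_minor_mem a b c) _ (hdiff (X c))
  · rw [AlgHom.comp_apply, hι _ (minor_mem k n m (r + 1) a b), map_zero]

theorem map_mul_map_eq_bot {L : Type u} [CommRing L] {I J : Ideal L} (h : I * I ≤ J) :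
    I.map (Ideal.Quotient.mk J) * I.map (Ideal.Quotient.mk J) = ⊥ := by
  rw [← Ideal.map_mul, Ideal.map_eq_bot_iff_le_ker, Ideal.mk_ker]
  exact h

variable (hr : r < min n m)
include hr

set_option maxHeartbeats 400000 in
theorem not_isSmoothAt (P : PrimeSpectrum (MvPolynomial (Fin n × Fin m) k ⧸ detI k n m r))
    (hP : (CAlgX.minorIdeal (gen k n m) r).map (Ideal.Quotient.mk (detI k n m r)) ≤ P.asIdeal) :
    P ∉ Algebra.smoothLocus k (MvPolynomial (Fin n × Fin m) k ⧸ detI k n m r) := by
  intro hsm
  haveI hfs : Algebra.FormallySmooth k (Localization.AtPrime P.asIdeal) := hsm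
  obtain ⟨P₀, hP₀⟩ : ∃ P₀, P₀ = P.asIdeal.comap (Ideal.Quotient.mk (detI k n m r)) := ⟨_, rfl⟩
  haveI : P₀.IsPrime := hP₀ ▸ Ideal.comap_isPrime _ _
  obtain ⟨J, hJ⟩ : ∃ J : Ideal (Localization.AtPrime P₀),
    J = IsLocalRing.maximalIdeal (Localization.AtPrime P₀) * (detI k n m r).map (algebraMap _ _) := ⟨_, rfl⟩
  let π₀ : MvPolynomial (Fin n × Fin m) k →ₐ[k] Localization.AtPrime P₀ := IsScalarTower.toAlgHom k _ _
  let π : MvPolynomial (Fin n × Fin m) k →ₐ[k] Localization.AtPrime P₀ ⧸ J := (Ideal.Quotient.mkₐ k J).comp π₀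
  let N : Ideal (Localization.AtPrime P₀ ⧸ J) :=
    ((detI k n m r).map (algebraMap _ (Localization.AtPrime P₀))).map (Ideal.Quotient.mk J)
  have hIP : detI k n m r ≤ P₀ := fun x hx => by
    rw [hP₀, Ideal.mem_comap, Ideal.Quotient.eq_zero_iff_mem.mpr hx]; exact zero_mem _
  have hIm : (detI k n m r).map (algebraMap _ _) ≤ IsLocalRing.maximalIdeal (Localization.AtPrime P₀) :=
    (Ideal.map_mono hIP).trans (Localization.AtPrime.map_eq_maximalIdeal).le
  have hmap : ∀ x, x ∈ P₀ → algebraMap _ (Localization.AtPrime P₀) x ∈ IsLocalRing.maximalIdeal _ :=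
    fun x hx => Localization.AtPrime.map_eq_maximalIdeal (I := P₀) ▸ Ideal.mem_map_of_mem _ hx
  have hNN : N * N = ⊥ := map_mul_map_eq_bot (hJ ▸ Ideal.mul_mono_left hIm)
  have hPN : ∀ x ∈ CAlgX.minorIdeal (gen k n m) r, ∀ u ∈ N, π x * u = 0 := by
    intro x hx u hu
    obtain ⟨v, hv, rfl⟩ := (Ideal.mem_map_iff_of_surjective _ Ideal.Quotient.mk_surjective).mp hu
    show Ideal.Quotient.mk J (π₀ x) * _ = 0
    rw [← map_mul, Ideal.Quotient.eq_zero_iff_mem, hJ]
    refine Ideal.mul_mem_mul (hmap x ?_) hv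
    rw [hP₀]
    exact hP (Ideal.mem_map_of_mem _ hx)
  have hgen := minor_eq_zero_of_lift P (B := Localization.AtPrime P₀ ⧸ J) N hNN π
    (fun x hx => Ideal.mem_map_of_mem _ (Ideal.mem_map_of_mem _ hx)) hPN
    (fun x hx => (IsLocalization.map_units (M := P₀.primeCompl) (Localization.AtPrime P₀)
      ⟨x, show x ∉ P₀ from hP₀ ▸ hx⟩).map (Ideal.Quotient.mk J))
  have hle : (detI k n m r).map (algebraMap _ (Localization.AtPrime P₀)) ≤
      IsLocalRing.maximalIdeal (Localization.AtPrime P₀) • (detI k n m r).map (algebraMap _ _) := by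
    rw [Ideal.map_le_iff_le_comap, detI, CAlgX.minorIdeal, Ideal.span_le]
    rintro _ ⟨⟨a, b⟩, rfl⟩
    have h1 := Ideal.Quotient.eq_zero_iff_mem.mp (hgen a b)
    simp only [hJ] at h1
    exact h1
  have hbot := Submodule.eq_bot_of_le_smul_of_le_jacobson_bot _ _ (IsNoetherian.noetherian _) hle
    (IsLocalRing.maximalIdeal_le_jacobson _)
  refine minor_ne_zero (k := k) (lt_min_iff.mp hr).1 (lt_min_iff.mp hr).2
    (IsLocalization.injective (Localization.AtPrime P₀) P₀.primeCompl_le_nonZeroDivisors ?_)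
  rw [map_zero, ← Ideal.mem_bot, ← hbot]
  exact Ideal.mem_map_of_mem _ (minor_mem k n m (r + 1) _ _)

theorem mem_smoothLocus_iff (P : PrimeSpectrum (MvPolynomial (Fin n × Fin m) k ⧸ detI k n m r)) :
    P ∈ Algebra.smoothLocus k (MvPolynomial (Fin n × Fin m) k ⧸ detI k n m r) ↔
      ¬ (CAlgX.minorIdeal (gen k n m) r).map (Ideal.Quotient.mk (detI k n m r)) ≤ P.asIdeal := by
  refine ⟨fun h hle => not_isSmoothAt hr P hle h, fun h => ?_⟩
  rw [CAlgX.minorIdeal, Ideal.map_span, Ideal.span_le, Set.not_subset] at h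
  obtain ⟨_, ⟨_, ⟨⟨f, g⟩, rfl⟩, rfl⟩, hfg⟩ := h
  haveI : Algebra.FinitePresentation k (MvPolynomial (Fin n × Fin m) k ⧸ detI k n m r) :=
    Algebra.FinitePresentation.quotient (IsNoetherian.noetherian _)
  exact Algebra.basicOpen_subset_smoothLocus_iff.mpr (formallySmooth_away k n m r f g) hfg

end Singular

end Groth.Agent.H3CAlg.DetSmooth
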