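import Groth.Agent.H22Alg.IntersectDim
import Mathlib

/-!
# The intersection inequality in a domain unramified over a polynomial ring
-/

set_option autoImplicit false
set_option linter.style.haveILetI false

universe u

open TensorProduct

namespace Groth.Agent.H3CAlg.IntDim

open Groth.Agent.H8Props.FieldDim Groth.Agent.H22Alg.IntersectDim

/-- Two maps out of an unramified algebra which agree on the base and after composing with a map
detecting the diagonal agree. -/
theorem eq_of_agree (P R D C : Type u) [CommRing P] [CommRing R] [Algebra P R] [Algebra.EssFiniteType P R]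
    [Algebra.FormallyUnramified P R] [CommRing D] [IsDomain D] [CommRing C] [Nontrivial C]
    (c1 c2 : R →+* D) (hbase : c1.comp (algebraMap P R) = c2.comp (algebraMap P R))
    (ν : D →+* C) (hν : ν.comp c1 = ν.comp c2) : c1 = c2 := by
  letI : Algebra P D := (c1.comp (algebraMap P R)).toAlgebra
  let f1 : R →ₐ[P] D := { c1 with commutes' := fun _ => rfl }
  let f2 : R →ₐ[P] D := { c2 with commutes' := fun r => (RingHom.congr_fun hbase r).symm }
  let μ : R ⊗[P] R →ₐ[P] D := Algebra.TensorProduct.lift f1 f2 fun _ _ => Commute.all _ _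
  obtain ⟨t, ht, ht1⟩ := (Algebra.FormallyUnramified.iff_exists_tensorProduct (R := P) (S := R)).mp inferInstance
  have hμ : ν (μ t) = ν (c1 (Algebra.TensorProduct.lmul' P t)) := by
    clear ht ht1
    induction t using TensorProduct.induction_on with
    | zero => simp
    | tmul x y =>
      have h1 : μ (x ⊗ₜ[P] y) = c1 x * c2 y := Algebra.TensorProduct.lift_tmul _ _ _ _ _
      rw [h1, map_mul, Algebra.TensorProduct.lmul'_apply_tmul, map_mul, map_mul,
        show ν (c2 y) = ν (c1 y) from (RingHom.congr_fun hν y).symm]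
    | add x y hx hy => rw [map_add, map_add, hx, hy, map_add, map_add, map_add]
  rw [ht1, map_one, map_one] at hμ
  have ht0 : μ t ≠ 0 := fun h => one_ne_zero (α := C) (by rw [← hμ, h, map_zero])
  ext s
  have h2 := congrArg μ (ht s)
  rw [map_mul, map_sub, map_zero] at h2
  have e1 : μ ((1 : R) ⊗ₜ[P] s) = c2 s := by
    rw [Algebra.TensorProduct.lift_tmul]
    show c1 1 * c2 s = c2 s
    rw [map_one, one_mul]
  have e2 : μ (s ⊗ₜ[P] (1 : R)) = c1 s := by
    rw [Algebra.TensorProduct.lift_tmul]
    show c1 s * c2 1 = c1 s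
    rw [map_one, mul_one]
  rw [e1, e2] at h2
  exact (sub_eq_zero.mp ((mul_eq_zero.mp h2).resolve_right ht0)).symm

variable (k : Type u) [Field k]

/-- The intersection inequality: `dim R/p + dim R/q ≤ dim R/Q + n`. -/
theorem dim_add_dim_le {R : Type u} [CommRing R] [Algebra k R] [Algebra.FiniteType k R] {n : ℕ}
    (g : MvPolynomial (Fin n) k →ₐ[k] R) (hg : g.toRingHom.FormallyUnramified)
    (p q Q : Ideal R) [p.IsPrime] [q.IsPrime] [Q.IsPrime] (hQ : Q ∈ (p ⊔ q).minimalPrimes) :
    ringKrullDim (R ⧸ p) + ringKrullDim (R ⧸ q) ≤ ringKrullDim (R ⧸ Q) + n := by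
  classical
  haveI : Algebra.FiniteType k (R ⧸ p) := Algebra.FiniteType.trans (R := k) (S := R) inferInstance inferInstance
  haveI : Algebra.FiniteType k (R ⧸ q) := Algebra.FiniteType.trans (R := k) (S := R) inferInstance inferInstance
  haveI : Algebra.FiniteType k ((R ⧸ p) ⊗[k] (R ⧸ q)) :=
    Algebra.FiniteType.trans (R := k) (S := R ⧸ p) inferInstance inferInstance
  letI : Algebra (MvPolynomial (Fin n) k) R := g.toRingHom.toAlgebra
  haveI : IsScalarTower k (MvPolynomial (Fin n) k) R :=
    IsScalarTower.of_algebraMap_eq fun c => (g.commutes c).symm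
  haveI : Algebra.FiniteType (MvPolynomial (Fin n) k) R :=
    Algebra.FiniteType.of_restrictScalars_finiteType k _ _
  haveI : Algebra.FormallyUnramified (MvPolynomial (Fin n) k) R := hg
  let a : R →ₐ[k] (R ⧸ p) ⊗[k] (R ⧸ q) := Algebra.TensorProduct.includeLeft.comp (Ideal.Quotient.mkₐ k p)
  let b : R →ₐ[k] (R ⧸ p) ⊗[k] (R ⧸ q) := Algebra.TensorProduct.includeRight.comp (Ideal.Quotient.mkₐ k q)
  let π : (R ⧸ p) ⊗[k] (R ⧸ q) →ₐ[k] R ⧸ Q := Algebra.TensorProduct.lift
    (Ideal.Quotient.factorₐ k (le_sup_left.trans hQ.1.2)) (Ideal.Quotient.factorₐ k (le_sup_right.trans hQ.1.2))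
    fun _ _ => Commute.all _ _
  have hπa : ∀ z, π (a z) = Ideal.Quotient.mk Q z := fun z => by simp [π, a]
  have hπb : ∀ z, π (b z) = Ideal.Quotient.mk Q z := fun z => by simp [π, b]
  have hπs : Function.Surjective π := fun z => by
    obtain ⟨z, rfl⟩ := Ideal.Quotient.mk_surjective z
    exact ⟨a z, hπa z⟩
  obtain ⟨Q', hQ'def⟩ : ∃ Q' : Ideal ((R ⧸ p) ⊗[k] (R ⧸ q)), Q' = RingHom.ker π := ⟨_, rfl⟩
  haveI : Q'.IsPrime := hQ'def ▸ RingHom.ker_isPrime π
  have hQ'mem : ∀ z, z ∈ Q' ↔ π z = 0 := fun z => by rw [hQ'def]; exact RingHom.mem_ker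
  let T : Finset ((R ⧸ p) ⊗[k] (R ⧸ q)) :=
    Finset.univ.image fun i => a (g (MvPolynomial.X i)) - b (g (MvPolynomial.X i))
  have hT : Ideal.span (T : Set ((R ⧸ p) ⊗[k] (R ⧸ q))) ≤ Q' := by
    rw [Ideal.span_le]
    intro z hz
    obtain ⟨i, -, rfl⟩ := Finset.mem_image.mp (Finset.mem_coe.mp hz)
    rw [SetLike.mem_coe, hQ'mem, map_sub, hπa, hπb, sub_self]
  obtain ⟨P₀, hP₀, hP₀Q⟩ := @Ideal.exists_minimalPrimes_le ((R ⧸ p) ⊗[k] (R ⧸ q)) _ ⊥ Q' ‹_› bot_le
  haveI : P₀.IsPrime := hP₀.1.1
  have hmin' : Q' ∈ (P₀ ⊔ Ideal.span (T : Set ((R ⧸ p) ⊗[k] (R ⧸ q)))).minimalPrimes := by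
    refine ⟨⟨inferInstance, sup_le hP₀Q hT⟩, fun S hS hSQ => ?_⟩
    obtain ⟨hSp, hS'⟩ := hS
    haveI := hSp
    let ν : (R ⧸ p) ⊗[k] (R ⧸ q) ⧸ S →+* R ⧸ Q :=
      Ideal.Quotient.lift S π.toRingHom fun w hw => (hQ'mem w).mp (hSQ hw)
    have hbase : (((Ideal.Quotient.mkₐ k S).comp a).comp g) = (((Ideal.Quotient.mkₐ k S).comp b).comp g) :=
      MvPolynomial.algHom_ext fun i => Ideal.Quotient.eq.mpr
        ((le_sup_right.trans hS') (Ideal.subset_span
          (Finset.mem_coe.mpr (Finset.mem_image_of_mem _ (Finset.mem_univ i)))))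
    have hagree := eq_of_agree (MvPolynomial (Fin n) k) R ((R ⧸ p) ⊗[k] (R ⧸ q) ⧸ S) (R ⧸ Q)
      ((Ideal.Quotient.mk S).comp a.toRingHom) ((Ideal.Quotient.mk S).comp b.toRingHom)
      (congrArg AlgHom.toRingHom hbase) ν (RingHom.ext fun z => (hπa z).trans (hπb z).symm)
    have hab : ∀ z, a z - b z ∈ S := fun z => Ideal.Quotient.eq.mp (RingHom.congr_fun hagree z)
    have hle : Q ≤ S.comap a := hQ.2 ⟨Ideal.IsPrime.comap _, sup_le
      (fun z hz => by
        rw [Ideal.mem_comap, show a z = 0 by simp [a, Ideal.Quotient.eq_zero_iff_mem.mpr hz]]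
        exact S.zero_mem)
      (fun z hz => by
        rw [Ideal.mem_comap, ← sub_zero (a z), ← show b z = 0 by simp [b, Ideal.Quotient.eq_zero_iff_mem.mpr hz]]
        exact hab z)⟩
      (fun z hz => by
        have h2 := (hQ'mem _).mp (hSQ (Ideal.mem_comap.mp hz))
        rw [hπa] at h2
        exact Ideal.Quotient.eq_zero_iff_mem.mp h2)
    have key : ∀ w : (R ⧸ p) ⊗[k] (R ⧸ q), ∃ z, w - a z ∈ S := fun w => by
      induction w using TensorProduct.induction_on with
      | zero => exact ⟨0, by simp⟩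
      | add x y hx hy =>
        obtain ⟨z, hz⟩ := hx
        obtain ⟨z', hz'⟩ := hy
        exact ⟨z + z', by rw [map_add, add_sub_add_comm]; exact S.add_mem hz hz'⟩
      | tmul x y =>
        obtain ⟨x, rfl⟩ := Ideal.Quotient.mk_surjective x
        obtain ⟨y, rfl⟩ := Ideal.Quotient.mk_surjective y
        refine ⟨x * y, ?_⟩
        have h3 : Ideal.Quotient.mk p x ⊗ₜ[k] Ideal.Quotient.mk q y - a (x * y) = a x * (b y - a y) := by
          rw [mul_sub, ← map_mul]
          congr 1
          simp [a, b]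
        rw [h3]
        exact S.mul_mem_left _ (by rw [← neg_sub]; exact S.neg_mem (hab y))
    intro w hw
    obtain ⟨z, hz⟩ := key w
    have h4 : z ∈ Q := by
      have h5 := (hQ'mem _).mp (hSQ hz)
      rw [map_sub, (hQ'mem _).mp hw, zero_sub, neg_eq_zero, hπa] at h5
      exact Ideal.Quotient.eq_zero_iff_mem.mp h5
    have h6 := S.add_mem hz (hle h4)
    rwa [sub_add_cancel] at h6
  have h := dim_le_dim_add_of_minimalPrimes k P₀ Q' T hmin'
  have he : ringKrullDim ((R ⧸ p) ⊗[k] (R ⧸ q) ⧸ Q') = ringKrullDim (R ⧸ Q) :=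
    ringKrullDim_eq_of_ringEquiv ((Ideal.quotEquivOfEq hQ'def).trans
      (Ideal.quotientKerAlgEquivOfSurjective hπs).toRingEquiv)
  rw [dim_quotient_minimalPrimes_tensor k (R ⧸ p) P₀ hP₀, he] at h
  refine h.trans (add_le_add le_rfl ?_)
  exact_mod_cast Finset.card_image_le.trans_eq (Finset.card_fin n)

end Groth.Agent.H3CAlg.IntDim

namespace Groth.Agent.H3CAlg.IntDim

open Groth.Agent.H8Props.FieldDim

variable (k : Type u) [Field k]

/-- The intersection inequality in a smooth finitely generated domain. -/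
theorem dim_add_dim_le_of_smooth (A : Type u) [CommRing A] [IsDomain A] [Algebra k A] [Algebra.Smooth k A]
    (p q Q : Ideal A) [p.IsPrime] [q.IsPrime] [Q.IsPrime] (hQ : Q ∈ (p ⊔ q).minimalPrimes) :
    ringKrullDim (A ⧸ p) + ringKrullDim (A ⧸ q) ≤ ringKrullDim (A ⧸ Q) + ringKrullDim A := by
  haveI : Algebra.FiniteType k A := inferInstance
  obtain ⟨a, haQ, hstd⟩ := Algebra.IsSmoothAt.exists_notMem_isStandardSmooth k (S := A) Q
  obtain ⟨n, g, hgC, hget⟩ := RingHom.IsStandardSmooth.exists_etale_mvPolynomial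
    (f := algebraMap k (Localization.Away a)) (RingHom.isStandardSmooth_algebraMap.mpr hstd)
  let g' : MvPolynomial (Fin n) k →ₐ[k] Localization.Away a :=
    { g with commutes' := fun c => RingHom.congr_fun hgC c }
  have hap : a ∉ p := fun h => haQ (hQ.1.2 (le_sup_left (a := p) h))
  have haq : a ∉ q := fun h => haQ (hQ.1.2 (le_sup_right (b := q) h))
  have key : ∀ (P : Ideal A) [P.IsPrime], a ∉ P →
      (P.map (algebraMap A (Localization.Away a))).IsPrime ∧
      (P.map (algebraMap A (Localization.Away a))).comap (algebraMap A (Localization.Away a)) = P := by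
    intro P hP haP
    have hd : Disjoint ((Submonoid.powers a : Submonoid A) : Set A) P :=
      (Ideal.disjoint_powers_iff_notMem_of_isPrime _).mpr haP
    exact ⟨IsLocalization.isPrime_of_isPrime_disjoint _ _ P hP hd,
      IsLocalization.comap_map_of_isPrime_disjoint (Submonoid.powers a) _ hP hd⟩
  haveI := (key p hap).1
  haveI := (key q haq).1
  haveI := (key Q haQ).1
  have hmin : Q.map (algebraMap A (Localization.Away a)) ∈
      (p.map (algebraMap A (Localization.Away a)) ⊔ q.map (algebraMap A (Localization.Away a))).minimalPrimes := by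
    refine ⟨⟨inferInstance, sup_le (Ideal.map_mono (le_sup_left.trans hQ.1.2))
      (Ideal.map_mono (le_sup_right.trans hQ.1.2))⟩, fun S hS hSQ => ?_⟩
    rw [Ideal.map_le_iff_le_comap]
    refine hQ.2 ⟨Ideal.IsPrime.comap (hK := hS.1) _, sup_le
      (Ideal.map_le_iff_le_comap.mp (le_sup_left.trans hS.2))
      (Ideal.map_le_iff_le_comap.mp (le_sup_right.trans hS.2))⟩ ?_
    exact (Ideal.comap_mono hSQ).trans (key Q haQ).2.le
  haveI : Algebra.FiniteType k (Localization.Away a) := by
    haveI := hstd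
    infer_instance
  have h := dim_add_dim_le k g' (show g'.toRingHom.Etale from hget).formallyUnramified _ _ _ hmin
  rw [dim_quotient_localization_away k A (Localization.Away a) a,
    dim_quotient_localization_away k A (Localization.Away a) a,
    dim_quotient_localization_away k A (Localization.Away a) a,
    (key p hap).2, (key q haq).2, (key Q haQ).2] at h
  refine h.trans (add_le_add le_rfl ?_)
  have ha0 : a ≠ 0 := fun h0 => hap (h0 ▸ p.zero_mem)
  haveI : IsDomain (Localization.Away a) :=
    IsLocalization.isDomain_localization (powers_le_nonZeroDivisors_of_noZeroDivisors ha0)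
  have hinj : Function.Injective g' := by
    have hflat : g'.toRingHom.Flat :=
      (RingHom.Etale.iff_flat_and_formallyUnramified.mp (show g'.toRingHom.Etale from hget)).1
    rw [injective_iff_map_eq_zero]
    intro z hz
    by_contra h0
    letI := g'.toRingHom.toAlgebra
    haveI : Module.Flat (MvPolynomial (Fin n) k) (Localization.Away a) := hflat
    have hreg := Module.Flat.isSMulRegular_of_nonZeroDivisors (M := Localization.Away a)
      (mem_nonZeroDivisors_of_ne_zero h0)
    refine one_ne_zero (α := Localization.Away a) (hreg (?_ : z • (1 : Localization.Away a) = z • 0))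
    rw [smul_zero, Algebra.smul_def, mul_one]
    exact hz
  have hdimA : ringKrullDim A = ringKrullDim (Localization.Away a) := by
    have := dim_quotient_localization_away k A (Localization.Away a) a (⊥ : Ideal (Localization.Away a))
    rw [ringKrullDim_eq_of_ringEquiv (RingEquiv.quotientBot (Localization.Away a)), ← RingHom.ker_eq_comap_bot,
      (RingHom.injective_iff_ker_eq_bot _).mp (IsLocalization.injective _
        (powers_le_nonZeroDivisors_of_noZeroDivisors ha0)),
      ringKrullDim_eq_of_ringEquiv (RingEquiv.quotientBot A)] at this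
    exact this.symm
  obtain ⟨s, hs, hs'⟩ := exists_dim_trdeg k (Localization.Away a)
  obtain ⟨t, ht, ht'⟩ := exists_dim_trdeg k (MvPolynomial (Fin n) k)
  have htn : t = n := by
    rw [MvPolynomial.ringKrullDim_of_isNoetherianRing, ringKrullDim_eq_zero_of_field, zero_add,
      Nat.card_eq_fintype_card, Fintype.card_fin] at ht
    exact_mod_cast ht.symm
  have hle := trdeg_le_of_injective g' hinj
  rw [hs', ht', htn] at hle
  rw [hdimA, hs]
  exact_mod_cast hle

end Groth.Agent.H3CAlg.IntDim
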