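import Groth.Agent.H3CAlg.TorKoszul
import Groth.Agent.H1TorFlip.Flip
import Groth.Agent.H8Props.MiracleFlat
import Groth.Agent.H29Blow.Stalk
import Groth.Agent.H22Alg.FiniteLength
import Mathlib

/-!
# Multiplicity of a regular sequence on a quotient
-/

set_option autoImplicit false
set_option linter.style.haveILetI false
universe u

open CategoryTheory RingTheory.Sequence Filter Topology

namespace Groth.Agent.H3CAlg.TorMult

variable {A : Type u} [CommRing A]

theorem chi_flip (M N : Type u) [AddCommGroup M] [Module A M] [AddCommGroup N] [Module A N] :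
    IntMult.chi A M N = IntMult.chi A N M := by
  refine finsum_congr fun i => ?_
  have e : Module.length A (DRing.Tor A i M N) = Module.length A (DRing.Tor A i N M) :=
    (((H1TorFlip.torFlip A i).app (ModuleCat.of A M)).app (ModuleCat.of A N)).toLinearEquiv.length_eq
  exact congrArg (fun z : ℕ∞ => (-1 : ℤ) ^ i * (z.toNat : ℤ)) e

/-- Higher Koszul homology of a weakly regular sequence vanishes. -/
theorem len_eq_zero_of_regular [IsNoetherianRing A] : ∀ (l : List A) (M : Type u) [AddCommGroup M] [Module A M] [Module.Finite A M],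
    IsWeaklyRegular M l → ∀ i : ℤ, 0 < i → H1Koszul.len l M i = 0 := by
  intro l
  induction l with
  | nil => intro M _ _ _ _ i hi; exact H1Koszul.len_eq_zero (Or.inr (by simpa using hi))
  | cons x l ih =>
    intro M _ _ _ h i hi
    rw [isWeaklyRegular_cons_iff] at h
    rw [H1Koszul.len_cons_regular x l h.1]
    refine ih _ (((Submodule.quotEquivOfEq _ _ ?_).isWeaklyRegular_congr l).mp h.2) i hi
    ext m
    simp [Submodule.mem_smul_pointwise_iff_exists]

theorem chi_eq_length_of_regular [IsNoetherianRing A] (l : List A) (M : Type u) [AddCommGroup M] [Module A M]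
    [Module.Finite A M] (h : IsWeaklyRegular M l) :
    H1Koszul.chi l M = ((Module.length A (M ⧸ (Ideal.ofList l • (⊤ : Submodule A M)))).toNat : ℤ) := by
  rw [H1Koszul.chi, Finset.sum_eq_single (0 : ℕ)]
  · rw [pow_zero, one_mul, Nat.cast_zero, H1Koszul.len, H1Koszul.length_H_zero]
  · intro n _ hn
    rw [len_eq_zero_of_regular l M h n (by exact_mod_cast Nat.pos_of_ne_zero hn), Nat.cast_zero, mul_zero]
  · intro h0
    simp at h0

/-- `(A/Q)/J(A/Q) = A/(Q + J)`. -/
theorem length_quot_smul (Q J : Ideal A) :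
    Module.length A ((A ⧸ Q) ⧸ (J • (⊤ : Submodule A (A ⧸ Q)))) = Module.length A (A ⧸ (Q ⊔ J)) := by
  have h : J • (⊤ : Submodule A (A ⧸ Q)) = Submodule.map (Submodule.mkQ Q) (Q ⊔ J) := by
    rw [Submodule.map_sup, Submodule.mkQ_map_self, bot_sup_eq,
      show Submodule.map (Submodule.mkQ Q) (J : Submodule A A) =
        Submodule.map (Submodule.mkQ Q) (J • (⊤ : Submodule A A)) by
          rw [smul_eq_mul, Ideal.mul_top],
      Submodule.map_smul'', Submodule.map_top, Submodule.range_mkQ]
  rw [(Submodule.quotEquivOfEq _ _ h).length_eq,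
    (Submodule.quotientQuotientEquivQuotient Q (Q ⊔ J) le_sup_left).length_eq]

variable [IsNoetherianRing A] [IsLocalRing A]

theorem length_ne_top_of_eq_maximal (Q J : Ideal A)
    (hmax : ∀ p : PrimeSpectrum A, Q ⊔ J ≤ p.asIdeal → p.asIdeal = IsLocalRing.maximalIdeal A) :
    Module.length A ((A ⧸ Q) ⧸ (J • (⊤ : Submodule A (A ⧸ Q)))) ≠ ⊤ := by
  refine H22Alg.length_ne_top_of_support_maximal fun p hp => ?_
  rw [Groth.Agent.H4Depth.support_quotient_smul_top, Set.mem_inter_iff, Module.support_eq_zeroLocus,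
    Ideal.annihilator_quotient, PrimeSpectrum.mem_zeroLocus, PrimeSpectrum.mem_zeroLocus] at hp
  rw [hmax p (sup_le hp.1 hp.2)]
  exact IsLocalRing.maximalIdeal.isMaximal A

variable {c : ℕ} (g : Fin c → A)

/-- Multiplicity data for a regular sequence meeting `A/Q` properly. -/
theorem main (hreg : IsRegular A (List.ofFn g)) (Q : Ideal A) [Q.IsPrime] {dA dP dQ : ℕ}
    (hA : ringKrullDim A = dA) (hP : ringKrullDim (A ⧸ Ideal.span (Set.range g)) = dP)
    (hQ : ringKrullDim (A ⧸ Q) = dQ) (hsum : dP + dQ = dA)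
    (hmax : ∀ p : PrimeSpectrum A, Q ⊔ Ideal.span (Set.range g) ≤ p.asIdeal →
      p.asIdeal = IsLocalRing.maximalIdeal A) :
    Tendsto (fun t : ℕ => (c.factorial : ℝ) *
        ((Module.length A (A ⧸ (Q ⊔ Ideal.span (Set.range g) ^ t))).toNat : ℝ) / (t : ℝ) ^ c) atTop
      (𝓝 (IntMult.chi A (A ⧸ Q) (A ⧸ Ideal.span (Set.range g)) : ℝ)) ∧
      0 < IntMult.chi A (A ⧸ Q) (A ⧸ Ideal.span (Set.range g)) ∧
      (LocCoh.IsCohenMacaulayLocalRing (A ⧸ Q) →
        IntMult.chi A (A ⧸ Q) (A ⧸ Ideal.span (Set.range g)) =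
          ((Module.length A (A ⧸ (Q ⊔ Ideal.span (Set.range g)))).toNat : ℤ)) := by
  have hspan : Ideal.ofList (List.ofFn g) = Ideal.span (Set.range g) := H1Koszul.span_ofFn g
  have hlen : (List.ofFn g).length = c := List.length_ofFn
  have hmem : ∀ r ∈ List.ofFn g, r ∈ IsLocalRing.maximalIdeal A := fun r hr => by
    by_contra hu
    rw [IsLocalRing.mem_maximalIdeal, mem_nonunits_iff, not_not] at hu
    refine hreg.2 ?_
    rw [smul_eq_mul, Ideal.mul_top,
      Ideal.eq_top_of_isUnit_mem (Ideal.ofList (List.ofFn g)) (Ideal.subset_span (show r ∈ {a | a ∈ List.ofFn g} from hr)) hu]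
  have hc : dP + c = dA := by
    have h := ringKrullDim_add_length_eq_ringKrullDim_of_isRegular _ hreg
    rw [hspan, hP, hA, hlen] at h
    exact_mod_cast h
  have hQc : dQ = c := by omega
  have hK : LCI.IsKoszulRegularSeq A (List.ofFn g) := (S15821.result A _ hreg.toIsWeaklyRegular).1
  have hchi : IntMult.chi A (A ⧸ Q) (A ⧸ Ideal.span (Set.range g)) = H1Koszul.chi (List.ofFn g) (A ⧸ Q) := by
    rw [chi_flip, ← hspan, TorKoszul.chi_eq_chi _ hK]
  have hne := length_ne_top_of_eq_maximal Q _ hmax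
  have hsmall : H1Koszul.Small (List.ofFn g) (A ⧸ Q) :=
    H1Koszul.small_ofFn g (Module.length_ne_top_iff.1 hne)
  have hdimQ : Module.supportDim A (A ⧸ Q) = (c : WithBot ℕ∞) := by
    rw [Module.supportDim_quotient_eq_ringKrullDim, hQ, hQc]
  rw [hchi]
  refine ⟨?_, ?_, fun hCM => ?_⟩
  · have h := H1Koszul.tendsto_samuel hsmall
    rw [H1Koszul.span_ofFn, hlen] at h
    have h2 := h.const_mul (c.factorial : ℝ)
    rw [mul_div_cancel₀ _ (Nat.cast_ne_zero.2 c.factorial_ne_zero)] at h2
    exact h2.congr fun t => by rw [length_quot_smul, mul_div_assoc]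
  · have hj : ∀ j, g j ∈ IsLocalRing.maximalIdeal A := fun j => hmem _ (List.mem_ofFn.2 ⟨j, rfl⟩)
    exact (H1Koszul.dim_chi c g hj (A ⧸ Q) hsmall).2.2.2 hdimQ
  · have hs : Function.Surjective (algebraMap A (A ⧸ Q)) := Ideal.Quotient.mk_surjective
    have hCM' : LocCoh.IsCohenMacaulayModule A (A ⧸ Q) := by
      unfold LocCoh.IsCohenMacaulayModule LocCoh.depth
      rw [H29Blow.idealDepth_of_surjective hs, IsLocalRing.map_maximalIdeal_of_surjective _ hs,
        Module.supportDim_quotient_eq_ringKrullDim, ← Module.supportDim_self_eq_ringKrullDim]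
      exact hCM.supportDim_eq_depth
    have hwr : IsWeaklyRegular (A ⧸ Q) (List.ofFn g) := by
      refine H8Props.MiracleFlat.isWeaklyRegular_of_supportDim _ _ hmem hCM' ?_
      rw [hspan, hlen, hdimQ]
      haveI : Module.Finite A ((A ⧸ Q) ⧸ (Ideal.span (Set.range g) • (⊤ : Submodule A (A ⧸ Q)))) := inferInstance
      have h0 : Module.supportDim A ((A ⧸ Q) ⧸ (Ideal.span (Set.range g) • (⊤ : Submodule A (A ⧸ Q)))) ≤ 0 := by
        rw [Module.supportDim]
        have hsub : Subsingleton (Module.support A ((A ⧸ Q) ⧸ (Ideal.span (Set.range g) • (⊤ : Submodule A (A ⧸ Q))))) := by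
          refine ⟨fun p q => Subtype.ext (PrimeSpectrum.ext ?_)⟩
          have key : ∀ p ∈ Module.support A ((A ⧸ Q) ⧸ (Ideal.span (Set.range g) • (⊤ : Submodule A (A ⧸ Q)))),
              (p : PrimeSpectrum A).asIdeal = IsLocalRing.maximalIdeal A := fun p hp => by
            rw [Groth.Agent.H4Depth.support_quotient_smul_top, Set.mem_inter_iff, Module.support_eq_zeroLocus,
              Ideal.annihilator_quotient, PrimeSpectrum.mem_zeroLocus, PrimeSpectrum.mem_zeroLocus] at hp
            exact hmax p (sup_le hp.1 hp.2)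
          rw [key p p.2, key q q.2]
        exact Order.krullDim_nonpos_of_subsingleton
      exact le_trans (add_le_add h0 le_rfl) (le_of_eq (zero_add _))
    rw [chi_eq_length_of_regular _ _ hwr, hspan, length_quot_smul]

end Groth.Agent.H3CAlg.TorMult
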