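import Groth.Agent.H3CAlg.DiagRed
import Groth.Agent.H3CAlg.TorMult
import Groth.Agent.H3CAlg.IntDim
import Groth.Agent.H02CA.SmoothRegular
import Groth.Agent.H05EGA4.Regular
import Groth.Agent.H4Depth.Regular
import Mathlib

/-!
# The local ring of the diagonal
-/

set_option autoImplicit false
set_option linter.style.haveILetI false
universe u

open TensorProduct RingTheory.Sequence

namespace Groth.Agent.H3CAlg.DiagLocal

/-- Two maps out of an unramified algebra agreeing on the base and on the diagonal agree. -/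
theorem eq_of_agree (P R D C : Type u) [CommRing P] [CommRing R] [Algebra P R] [Algebra.EssFiniteType P R]
    [Algebra.FormallyUnramified P R] [CommRing D] [CommRing C]
    (c1 c2 : R →+* D) (hbase : c1.comp (algebraMap P R) = c2.comp (algebraMap P R))
    (ν : D →+* C) (hν : ν.comp c1 = ν.comp c2) (hunit : ∀ d, ν d = 1 → IsUnit d) : c1 = c2 := by
  letI : Algebra P D := (c1.comp (algebraMap P R)).toAlgebra
  let f1 : R →ₐ[P] D := { c1 with commutes' := fun _ => rfl }
  let f2 : R →ₐ[P] D := { c2 with commutes' := fun r => (RingHom.congr_fun hbase r).symm }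
  let μ : R ⊗[P] R →ₐ[P] D := Algebra.TensorProduct.lift f1 f2 fun _ _ => Commute.all _ _
  obtain ⟨t, ht, ht1⟩ := (Algebra.FormallyUnramified.iff_exists_tensorProduct (R := P) (S := R)).mp inferInstance
  have hμ : ν (μ t) = ν (c1 (Algebra.TensorProduct.lmul' P t)) := by
    clear ht ht1
    induction t using TensorProduct.induction_on with
    | zero => simp
    | tmul x y =>
      have h1 : μ (x ⊗ₜ[P] y) = c1 x * c2 y := Algebra.TensorProduct.lift_tmul _ _ _ _ _
      rw [h1, map_mul, Algebra.TensorProduct.lmul'_apply_tmul, map_mul, map_mul,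
        show ν (c2 y) = ν (c1 y) from (RingHom.congr_fun hν y).symm]
    | add x y hx hy => rw [map_add, map_add, hx, hy, map_add, map_add, map_add]
  rw [ht1, map_one, map_one] at hμ
  have hu := hunit _ hμ
  ext s
  have h2 := congrArg μ (ht s)
  rw [map_mul, map_sub, map_zero] at h2
  have e1 : μ ((1 : R) ⊗ₜ[P] s) = c2 s := by
    rw [Algebra.TensorProduct.lift_tmul]
    show c1 1 * c2 s = c2 s
    rw [map_one, one_mul]
  have e2 : μ (s ⊗ₜ[P] (1 : R)) = c1 s := by
    rw [Algebra.TensorProduct.lift_tmul]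
    show c1 s * c2 1 = c1 s
    rw [map_one, mul_one]
  rw [e1, e2] at h2
  exact (sub_eq_zero.mp (hu.mul_left_eq_zero.mp h2)).symm

/-- Higher Koszul homology of a regular sequence vanishes. -/
theorem subsingleton_H_of_regular {E : Type u} [CommRing E] [IsNoetherianRing E] :
    ∀ (l : List E) (M : Type u) [AddCommGroup M] [Module E M] [Module.Finite E M],
      IsWeaklyRegular M l → ∀ i : ℤ, 0 < i → Subsingleton (H1Koszul.H M l i) := by
  intro l
  induction l with
  | nil =>
    intro M _ _ _ _ i hi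
    exact H1Koszul.subsingleton_H _ (Or.inr (by simpa using hi))
  | cons x l ih =>
    intro M _ _ _ h i hi
    rw [isWeaklyRegular_cons_iff] at h
    have h2 : IsWeaklyRegular (M ⧸ LinearMap.range (x • LinearMap.id : M →ₗ[E] M)) l := by
      refine ((Submodule.quotEquivOfEq _ _ ?_).isWeaklyRegular_congr l).mp h.2
      ext m
      simp [Submodule.mem_smul_pointwise_iff_exists]
    rw [← Module.length_eq_zero_iff (R := E), H1Koszul.length_cons_regular x l h.1,
      Module.length_eq_zero_iff]
    exact ih _ h2 i hi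

section setup

variable (k : Type u) [Field k] {R : Type u} [CommRing R] [Algebra k R] (Q₀ : Ideal R) [Q₀.IsPrime]

/-- The point of the diagonal. -/
noncomputable def D : Ideal (R ⊗[k] R) := Q₀.comap (Algebra.TensorProduct.lmul' k (S := R)).toRingHom

instance : (D k Q₀).IsPrime := inferInstanceAs (Ideal.comap _ _).IsPrime

/-- The local ring of `R ⊗ R` at the point of the diagonal. -/
abbrev E : Type u := Localization.AtPrime (D k Q₀)

variable (A : Type u) [CommRing A] [Algebra R A] [IsLocalization.AtPrime A Q₀]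

theorem isUnit_left (s : Q₀.primeCompl) :
    IsUnit (((algebraMap (R ⊗[k] R) (E k Q₀)).comp
      (Algebra.TensorProduct.includeLeftRingHom : R →+* R ⊗[k] R)) s) :=
  IsLocalization.map_units (M := (D k Q₀).primeCompl) (E k Q₀) ⟨(s : R) ⊗ₜ 1, fun h => s.2 (by
    simpa [D] using h)⟩

theorem isUnit_right (s : Q₀.primeCompl) :
    IsUnit (((algebraMap (R ⊗[k] R) (E k Q₀)).comp
      (Algebra.TensorProduct.includeRight (R := k) (A := R) (B := R)).toRingHom) s) :=
  IsLocalization.map_units (M := (D k Q₀).primeCompl) (E k Q₀) ⟨(1 : R) ⊗ₜ s, fun h => s.2 (by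
    simpa [D] using h)⟩

/-- The left map. -/
noncomputable def left : A →+* E k Q₀ :=
  IsLocalization.lift (M := Q₀.primeCompl) (isUnit_left k Q₀)

/-- The right map. -/
noncomputable def right : A →+* E k Q₀ :=
  IsLocalization.lift (M := Q₀.primeCompl) (isUnit_right k Q₀)

theorem left_algebraMap (r : R) :
    left k Q₀ A (algebraMap R A r) = algebraMap (R ⊗[k] R) (E k Q₀) (r ⊗ₜ 1) :=
  IsLocalization.lift_eq _ r

theorem right_algebraMap (r : R) :
    right k Q₀ A (algebraMap R A r) = algebraMap (R ⊗[k] R) (E k Q₀) ((1 : R) ⊗ₜ r) :=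
  IsLocalization.lift_eq _ r

theorem isUnit_diag (y : (D k Q₀).primeCompl) :
    IsUnit (((algebraMap R A).comp (Algebra.TensorProduct.lmul' k (S := R)).toRingHom) y) :=
  IsLocalization.map_units (M := Q₀.primeCompl) A ⟨Algebra.TensorProduct.lmul' k (S := R) (y : R ⊗[k] R),
    fun h => y.2 h⟩

/-- The diagonal. -/
noncomputable def diag : E k Q₀ →+* A :=
  IsLocalization.lift (M := (D k Q₀).primeCompl) (isUnit_diag k Q₀ A)

theorem diag_algebraMap (w : R ⊗[k] R) :
    diag k Q₀ A (algebraMap (R ⊗[k] R) (E k Q₀) w) = algebraMap R A (Algebra.TensorProduct.lmul' k w) :=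
  IsLocalization.lift_eq _ w

theorem diag_left (x : A) : diag k Q₀ A (left k Q₀ A x) = x :=
  RingHom.congr_fun (IsLocalization.ringHom_ext Q₀.primeCompl
    (j := (diag k Q₀ A).comp (left k Q₀ A)) (k := RingHom.id A) (RingHom.ext fun r => by
      show diag k Q₀ A (left k Q₀ A (algebraMap R A r)) = _
      rw [left_algebraMap, diag_algebraMap, Algebra.TensorProduct.lmul'_apply_tmul, mul_one]
      rfl)) x

theorem diag_right (x : A) : diag k Q₀ A (right k Q₀ A x) = x :=
  RingHom.congr_fun (IsLocalization.ringHom_ext Q₀.primeCompl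
    (j := (diag k Q₀ A).comp (right k Q₀ A)) (k := RingHom.id A) (RingHom.ext fun r => by
      show diag k Q₀ A (right k Q₀ A (algebraMap R A r)) = _
      rw [right_algebraMap, diag_algebraMap, Algebra.TensorProduct.lmul'_apply_tmul, one_mul]
      rfl)) x

theorem diag_surjective : Function.Surjective (diag k Q₀ A) := fun x => ⟨_, diag_left k Q₀ A x⟩

variable {n : ℕ} (g : MvPolynomial (Fin n) k →ₐ[k] R)

/-- The equations of the diagonal. -/
noncomputable def gens : List (E k Q₀) :=
  List.ofFn fun i => algebraMap (R ⊗[k] R) (E k Q₀)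
    (g (MvPolynomial.X i) ⊗ₜ[k] 1 - (1 : R) ⊗ₜ[k] g (MvPolynomial.X i))

theorem gens_le : Ideal.ofList (gens k Q₀ g) ≤ RingHom.ker (diag k Q₀ A) := by
  refine Ideal.span_le.mpr fun z hz => ?_
  obtain ⟨i, rfl⟩ := List.mem_ofFn.mp hz
  rw [SetLike.mem_coe, RingHom.mem_ker, diag_algebraMap, map_sub, Algebra.TensorProduct.lmul'_apply_tmul,
    Algebra.TensorProduct.lmul'_apply_tmul, mul_one, one_mul, sub_self, map_zero]

theorem span_gens [Algebra.FiniteType k R] (hg : g.toRingHom.FormallyUnramified)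
    (hinjA : Function.Injective (algebraMap R A)) :
    Ideal.ofList (gens k Q₀ g) = RingHom.ker (diag k Q₀ A) := by
  refine le_antisymm (gens_le k Q₀ A g) fun e he => ?_
  haveI : IsLocalRing A := IsLocalization.AtPrime.isLocalRing A Q₀
  letI : Algebra (MvPolynomial (Fin n) k) R := g.toRingHom.toAlgebra
  haveI : IsScalarTower k (MvPolynomial (Fin n) k) R :=
    IsScalarTower.of_algebraMap_eq fun c => (g.commutes c).symm
  haveI : Algebra.FiniteType (MvPolynomial (Fin n) k) R :=
    Algebra.FiniteType.of_restrictScalars_finiteType k _ _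
  haveI : Algebra.FormallyUnramified (MvPolynomial (Fin n) k) R := hg
  obtain ⟨J, hJ⟩ : ∃ J, J = Ideal.ofList (gens k Q₀ g) := ⟨_, rfl⟩
  rw [← hJ]
  have hJle : J ≤ RingHom.ker (diag k Q₀ A) := hJ ▸ gens_le k Q₀ A g
  have hJne : J ≠ ⊤ := fun h => RingHom.ker_ne_top (diag k Q₀ A) (top_le_iff.mp (h ▸ hJle))
  let π : R ⊗[k] R →ₐ[k] E k Q₀ ⧸ J :=
    (Ideal.Quotient.mkₐ k J).comp (IsScalarTower.toAlgHom k (R ⊗[k] R) (E k Q₀))
  let ν : E k Q₀ ⧸ J →+* A := Ideal.Quotient.lift J (diag k Q₀ A) fun z hz => hJle hz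
  have hunit : ∀ d, ν d = 1 → IsUnit d := by
    intro d hd
    obtain ⟨d, rfl⟩ := Ideal.Quotient.mk_surjective d
    refine IsUnit.map _ ?_
    by_contra hne
    have hmem : d ∈ IsLocalRing.maximalIdeal (E k Q₀) := hne
    have : RingHom.ker ((IsLocalRing.residue A).comp (diag k Q₀ A) ) = IsLocalRing.maximalIdeal (E k Q₀) :=
      IsLocalRing.eq_maximalIdeal (RingHom.ker_isMaximal_of_surjective _
        (IsLocalRing.residue_surjective.comp (diag_surjective k Q₀ A)))
    rw [← this, RingHom.mem_ker, RingHom.comp_apply, show diag k Q₀ A d = 1 from hd, map_one] at hmem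
    exact one_ne_zero hmem
  have hbase : (π.comp Algebra.TensorProduct.includeLeft).comp g =
      (π.comp Algebra.TensorProduct.includeRight).comp g := by
    refine MvPolynomial.algHom_ext fun i => Ideal.Quotient.eq.mpr ?_
    rw [hJ]
    refine Ideal.subset_span ?_
    show _ ∈ gens k Q₀ g
    rw [gens, List.mem_ofFn]
    exact ⟨i, map_sub _ _ _⟩
  have hagree := eq_of_agree (MvPolynomial (Fin n) k) R (E k Q₀ ⧸ J) A
    (π.comp Algebra.TensorProduct.includeLeft).toRingHom (π.comp Algebra.TensorProduct.includeRight).toRingHom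
    (congrArg AlgHom.toRingHom hbase) ν (RingHom.ext fun r => by
      show diag k Q₀ A (algebraMap _ _ (r ⊗ₜ[k] 1)) = diag k Q₀ A (algebraMap _ _ ((1 : R) ⊗ₜ[k] r))
      rw [diag_algebraMap, diag_algebraMap, Algebra.TensorProduct.lmul'_apply_tmul,
        Algebra.TensorProduct.lmul'_apply_tmul, mul_one, one_mul]) hunit
  obtain ⟨⟨w, s⟩, hw⟩ := IsLocalization.surj (D k Q₀).primeCompl e
  have hw0 : Algebra.TensorProduct.lmul' k (S := R) w = 0 := by
    have h1 := congrArg (diag k Q₀ A) hw
    rw [map_mul, show diag k Q₀ A e = 0 from he, zero_mul, diag_algebraMap] at h1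
    exact hinjA (h1.symm.trans (map_zero _).symm)
  have hwJ : algebraMap (R ⊗[k] R) (E k Q₀) w ∈ J := by
    have hle : KaehlerDifferential.ideal k R ≤ J.comap (algebraMap (R ⊗[k] R) (E k Q₀)) := by
      rw [← KaehlerDifferential.span_range_eq_ideal, Ideal.span_le]
      rintro _ ⟨x, rfl⟩
      rw [SetLike.mem_coe, Ideal.mem_comap, map_sub]
      exact Ideal.Quotient.eq.mp (RingHom.congr_fun hagree x).symm
    exact hle hw0
  rw [← Ideal.mul_unit_mem_iff_mem J (IsLocalization.map_units (E k Q₀) s), hw]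
  exact hwJ

end setup

end Groth.Agent.H3CAlg.DiagLocal
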