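import Groth.Agent.H3CAlg.DiagLocal
import Mathlib

/-!
# Dimension, regularity and flatness of the local ring of the diagonal
-/

set_option autoImplicit false
set_option linter.style.haveILetI false
universe u

open TensorProduct RingTheory.Sequence Groth.Agent.H8Props.FieldDim Groth.Agent.H22Alg.IntersectDim

namespace Groth.Agent.H3CAlg.DiagLocal

theorem dim_quotient_comap {S T : Type u} [CommRing S] [CommRing T] (Φ : S →+* T) (hΦ : Function.Surjective Φ)
    (P₀ : Ideal T) : ringKrullDim (S ⧸ P₀.comap Φ) = ringKrullDim (T ⧸ P₀) :=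
  ringKrullDim_eq_of_ringEquiv ((Ideal.quotEquivOfEq (show P₀.comap Φ = RingHom.ker ((Ideal.Quotient.mk P₀).comp Φ) by
    ext w; rw [Ideal.mem_comap, RingHom.mem_ker, RingHom.comp_apply, Ideal.Quotient.eq_zero_iff_mem])).trans
    (RingHom.quotientKerEquivOfSurjective (Ideal.Quotient.mk_surjective.comp hΦ)))

theorem dim_localization_quotient {S : Type u} [CommRing S] (D P : Ideal S) [D.IsPrime] (hPD : P ≤ D)
    [(D.map (Ideal.Quotient.mk P)).IsPrime]
    (L : Type u) [CommRing L] [Algebra S L] [IsLocalization.AtPrime L D] :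
    ringKrullDim (L ⧸ P.map (algebraMap S L)) = (D.map (Ideal.Quotient.mk P)).height := by
  have hiff : ∀ y, Ideal.Quotient.mk P y ∈ D.map (Ideal.Quotient.mk P) ↔ y ∈ D := fun y => by
    rw [← Ideal.mem_comap, Ideal.comap_map_of_surjective' _ Ideal.Quotient.mk_surjective, Ideal.mk_ker,
      sup_eq_left.mpr hPD]
  have hsub : Algebra.algebraMapSubmonoid (S ⧸ P) D.primeCompl = (D.map (Ideal.Quotient.mk P)).primeCompl := by
    ext x
    obtain ⟨x, rfl⟩ := Ideal.Quotient.mk_surjective x
    constructor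
    · rintro ⟨y, hy, hyx⟩
      intro hx
      change Ideal.Quotient.mk P y = Ideal.Quotient.mk P x at hyx
      rw [← hyx] at hx
      exact hy ((hiff y).mp hx)
    · intro hx
      exact ⟨x, fun h => hx ((hiff x).mpr h), rfl⟩
  haveI : IsLocalization.AtPrime (L ⧸ P.map (algebraMap S L)) (D.map (Ideal.Quotient.mk P)) := by
    show IsLocalization (D.map (Ideal.Quotient.mk P)).primeCompl _
    rw [← hsub]
    infer_instance
  exact IsLocalization.AtPrime.ringKrullDim_eq_height (D.map (Ideal.Quotient.mk P)) _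

theorem flat_of_quotient {R A S L X : Type u} [CommRing R] [CommRing A] [Algebra R A] (M : Submonoid R)
    [IsLocalization M A] [CommRing S] [Algebra R S] [CommRing L] [Algebra S L] (N : Submonoid S)
    [IsLocalization N L] (J : Ideal S) [Module.Flat R (S ⧸ J)] [CommRing X] (π : L →+* X)
    (hπ : Function.Surjective π) (hker : RingHom.ker π = J.map (algebraMap S L)) (α : A →+* X)
    (hα : ∀ r, π (algebraMap S L (algebraMap R S r)) = α (algebraMap R A r)) : α.Flat := by
  letI : Algebra A X := α.toAlgebra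
  letI : Algebra R X := (α.comp (algebraMap R A)).toAlgebra
  haveI : IsScalarTower R A X := IsScalarTower.of_algebraMap_eq fun _ => rfl
  letI : Algebra (S ⧸ J) X := (Ideal.Quotient.lift J (π.comp (algebraMap S L)) fun z hz => by
    rw [RingHom.comp_apply, ← RingHom.mem_ker, hker]; exact Ideal.mem_map_of_mem _ hz).toAlgebra
  haveI : IsScalarTower R (S ⧸ J) X := IsScalarTower.of_algebraMap_eq fun r => (hα r).symm
  haveI : IsLocalization (N.map (Ideal.Quotient.mk J)) X :=
    IsLocalization.of_surjective N L (Ideal.Quotient.mk J) Ideal.Quotient.mk_surjective π hπ rfl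
      (by rw [hker, Ideal.mk_ker])
  haveI : Module.Flat (S ⧸ J) X := IsLocalization.flat X (N.map (Ideal.Quotient.mk J))
  haveI : Module.Flat R X := Module.Flat.trans R (S ⧸ J) X
  exact (Module.flat_iff_of_isLocalization A M (M := X)).mpr inferInstance

variable (k : Type u) [Field k] {R : Type u} [CommRing R] [Algebra k R] (Q₀ : Ideal R) [Q₀.IsPrime]

/-- Quotients of the diagonal local ring by two primes are big. -/
theorem le_ringKrullDim_quotient [Algebra.FiniteType k R] (p q : Ideal R) [p.IsPrime] [q.IsPrime]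
    (hp : p ≤ Q₀) (hq : q ≤ Q₀) {a b c : ℕ} (ha : ringKrullDim (R ⧸ p) = a) (hb : ringKrullDim (R ⧸ q) = b)
    (hc : ringKrullDim (R ⧸ Q₀) = c) :
    ((a + b - c : ℕ) : WithBot ℕ∞) ≤ ringKrullDim (E k Q₀ ⧸
      (p.map (Algebra.TensorProduct.includeLeftRingHom : R →+* R ⊗[k] R) ⊔
        q.map (Algebra.TensorProduct.includeRight (R := k) (A := R) (B := R)).toRingHom).map
        (algebraMap (R ⊗[k] R) (E k Q₀))) := by
  haveI : Algebra.FiniteType k (R ⧸ p) := Algebra.FiniteType.trans (R := k) (S := R) inferInstance inferInstance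
  haveI : Algebra.FiniteType k (R ⧸ q) := Algebra.FiniteType.trans (R := k) (S := R) inferInstance inferInstance
  haveI : Algebra.FiniteType k (R ⊗[k] R) := Algebra.FiniteType.trans (R := k) (S := R) inferInstance inferInstance
  let Φ : R ⊗[k] R →ₐ[k] (R ⧸ p) ⊗[k] (R ⧸ q) :=
    Algebra.TensorProduct.map (Ideal.Quotient.mkₐ k p) (Ideal.Quotient.mkₐ k q)
  let μ : (R ⧸ p) ⊗[k] (R ⧸ q) →ₐ[k] R ⧸ Q₀ := Algebra.TensorProduct.lift
    (Ideal.Quotient.factorₐ k hp) (Ideal.Quotient.factorₐ k hq) fun _ _ => Commute.all _ _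
  have hμΦ : ∀ w, μ (Φ w) = Ideal.Quotient.mk Q₀ (Algebra.TensorProduct.lmul' k w) := fun w => by
    induction w using TensorProduct.induction_on with
    | zero => simp
    | tmul x y => simp [μ, Φ]
    | add x y hx hy => simp only [map_add, hx, hy]
  have hΦs : Function.Surjective Φ :=
    TensorProduct.map_surjective (Ideal.Quotient.mkₐ_surjective k p) (Ideal.Quotient.mkₐ_surjective k q)
  obtain ⟨D', hD'⟩ : ∃ D', D' = RingHom.ker μ := ⟨_, rfl⟩
  haveI : D'.IsPrime := hD' ▸ RingHom.ker_isPrime μ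
  obtain ⟨P₀, hP₀, hP₀D⟩ := @Ideal.exists_minimalPrimes_le ((R ⧸ p) ⊗[k] (R ⧸ q)) _ ⊥ D' ‹_› bot_le
  haveI : P₀.IsPrime := hP₀.1.1
  obtain ⟨P, hP⟩ : ∃ P, P = P₀.comap Φ := ⟨_, rfl⟩
  haveI : P.IsPrime := hP ▸ Ideal.IsPrime.comap _
  have hPD : P ≤ D k Q₀ := by
    intro w hw
    rw [hP, Ideal.mem_comap] at hw
    have h1 : μ (Φ w) = 0 := by
      have := hP₀D hw
      rwa [hD', RingHom.mem_ker] at this
    rw [hμΦ] at h1
    show Algebra.TensorProduct.lmul' k (S := R) w ∈ Q₀
    exact Ideal.Quotient.eq_zero_iff_mem.mp h1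
  have hJP : p.map (Algebra.TensorProduct.includeLeftRingHom : R →+* R ⊗[k] R) ⊔
      q.map (Algebra.TensorProduct.includeRight (R := k) (A := R) (B := R)).toRingHom ≤ P := by
    refine sup_le (Ideal.map_le_iff_le_comap.mpr fun x hx => ?_) (Ideal.map_le_iff_le_comap.mpr fun x hx => ?_)
    · rw [Ideal.mem_comap, hP, Ideal.mem_comap,
        show Φ (Algebra.TensorProduct.includeLeftRingHom x) = 0 by
          simp [Φ, Ideal.Quotient.eq_zero_iff_mem.mpr hx]]
      exact P₀.zero_mem
    · rw [Ideal.mem_comap, hP, Ideal.mem_comap,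
        show Φ ((Algebra.TensorProduct.includeRight (R := k) (A := R) (B := R)).toRingHom x) = 0 by
          simp [Φ, Ideal.Quotient.eq_zero_iff_mem.mpr hx]]
      exact P₀.zero_mem
  -- dimensions
  have hdimP : ringKrullDim ((R ⊗[k] R) ⧸ P) = ((a + b : ℕ) : WithBot ℕ∞) := by
    rw [hP, show ringKrullDim ((R ⊗[k] R) ⧸ P₀.comap Φ) = _ from dim_quotient_comap Φ.toRingHom hΦs P₀,
      dim_quotient_minimalPrimes_tensor k (R ⧸ p) P₀ hP₀, ha, hb, Nat.cast_add]
  have hdimD : ringKrullDim ((R ⊗[k] R) ⧸ D k Q₀) = (c : WithBot ℕ∞) := by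
    rw [← hc]
    refine ringKrullDim_eq_of_ringEquiv ((Ideal.quotEquivOfEq (show D k Q₀ = RingHom.ker
      ((Ideal.Quotient.mk Q₀).comp (Algebra.TensorProduct.lmul' k (S := R)).toRingHom) by
        ext w; rw [RingHom.mem_ker, RingHom.comp_apply, Ideal.Quotient.eq_zero_iff_mem]; rfl)).trans
      (RingHom.quotientKerEquivOfSurjective (Ideal.Quotient.mk_surjective.comp fun x => ⟨x ⊗ₜ 1, by simp⟩)))
  haveI hD'' : ((D k Q₀).map (Ideal.Quotient.mk P)).IsPrime := Ideal.isPrime_map_quotientMk_of_isPrime hPD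
  haveI : Algebra.FiniteType k ((R ⊗[k] R) ⧸ P) :=
    Algebra.FiniteType.trans (R := k) (S := R ⊗[k] R) inferInstance inferInstance
  have hht := height_add_dim_quotient k ((R ⊗[k] R) ⧸ P) ((D k Q₀).map (Ideal.Quotient.mk P))
  rw [ringKrullDim_eq_of_ringEquiv (DoubleQuot.quotQuotEquivQuotOfLE hPD), hdimD, hdimP] at hht
  -- the localization
  refine le_trans ?_ (ringKrullDim_le_of_surjective
    (R := E k Q₀ ⧸ _) (S := E k Q₀ ⧸ P.map (algebraMap (R ⊗[k] R) (E k Q₀)))
    (Ideal.Quotient.factor (Ideal.map_mono hJP)) (Ideal.Quotient.factor_surjective (Ideal.map_mono hJP)))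
  rw [dim_localization_quotient (D k Q₀) P hPD (E k Q₀)]
  revert hht
  generalize ((D k Q₀).map (Ideal.Quotient.mk P)).height = h
  intro hht
  induction h using ENat.recTopCoe with
  | top => exact le_top
  | coe h =>
    have hh : h + c = a + b := by exact_mod_cast hht
    exact WithBot.coe_le_coe.mpr (Nat.cast_le.mpr (show a + b - c ≤ h by omega))

/-- The local ring of the diagonal of a smooth algebra is regular. -/
theorem isRegularLocalRing [Algebra.Smooth k R] : IsRegularLocalRing (E k Q₀) := by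
  haveI : Algebra.Smooth R (R ⊗[k] R) := inferInstance
  haveI : Algebra.Smooth k (R ⊗[k] R) := Algebra.Smooth.comp k R (R ⊗[k] R)
  haveI : IsRegularRing k := inferInstance
  haveI := H02CA.isRegularRing_of_smooth k (R ⊗[k] R)
  exact isRegularRing_iff.mp inferInstance (D k Q₀)

variable (A : Type u) [CommRing A] [Algebra R A] [IsLocalization.AtPrime A Q₀]

/-- Right quotients are flat on the left. -/
theorem flat_left (q : Ideal R) (X : Type u) [CommRing X] (π : E k Q₀ →+* X) (hπ : Function.Surjective π)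
    (hker : RingHom.ker π = (q.map (algebraMap R A)).map (right k Q₀ A)) :
    (π.comp (left k Q₀ A)).Flat := by
  have hI : (q.map (algebraMap R A)).map (right k Q₀ A) =
      (q.map (Algebra.TensorProduct.includeRight (R := k) (A := R) (B := R)).toRingHom).map
        (algebraMap (R ⊗[k] R) (E k Q₀)) := by
    rw [Ideal.map_map, Ideal.map_map]
    congr 1
    exact RingHom.ext fun r => right_algebraMap k Q₀ A r
  rw [hI] at hker
  haveI : Module.Flat R ((R ⊗[k] R) ⧸ q.map (Algebra.TensorProduct.includeRight (R := k) (A := R) (B := R))) :=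
    Module.Flat.of_linearEquiv (Algebra.TensorProduct.tensorQuotientEquiv (R := k) R R R q).toLinearEquiv.symm
  exact flat_of_quotient Q₀.primeCompl (D k Q₀).primeCompl
    (q.map (Algebra.TensorProduct.includeRight (R := k) (A := R) (B := R))) π hπ hker (π.comp (left k Q₀ A))
    fun r => congrArg π (left_algebraMap k Q₀ A r).symm

end Groth.Agent.H3CAlg.DiagLocal
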