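import Groth.Agent.H3CAlg.TorLES
import Groth.Agent.H3CAlg.TorBasic
import Groth.Agent.H1Koszul.Samuel
import Groth.Prelude.Def_IntMult
import Mathlib

/-!
# Reduction to the diagonal: `Tor` over `A` as Koszul homology over a thickening `E` of the diagonal
-/

set_option autoImplicit false
set_option linter.style.haveILetI false
universe u

open CategoryTheory TensorProduct Groth.Agent.H1Koszul

namespace Groth.Agent.H3CAlg.DiagRed

variable {A E : Type u} [CommRing A] [CommRing E]

section koszul

variable {M N N' : Type u} [AddCommGroup M] [Module E M] [AddCommGroup N] [Module E N]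
  [AddCommGroup N'] [Module E N'] (l : List E)

/-- The class of an element in the bottom Koszul homology. -/
noncomputable def q0 : M →ₗ[E] H M l 0 :=
  (cls l 0).comp ((emb l).codRestrict _ fun m => mem_Z.2 ⟨(range_emb (M := M) l).le ⟨m, rfl⟩, by
    have h2 : D M l (emb l m) ∈ P M l (0 - 1) := D_mem l ((range_emb (M := M) l).le ⟨m, rfl⟩)
    rw [P_eq_bot l (Or.inl (by omega))] at h2
    exact (Submodule.mem_bot E).1 h2⟩)

theorem q0_surjective : Function.Surjective (q0 (M := M) l) := by
  intro z
  obtain ⟨⟨a, ha⟩, rfl⟩ := cls_surjective l 0 z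
  obtain ⟨m, rfl⟩ := (range_emb l).ge ha.1
  exact ⟨m, rfl⟩

theorem q0_eq_zero_iff (m : M) : q0 l m = 0 ↔ m ∈ Ideal.ofList l • (⊤ : Submodule E M) := by
  show cls l 0 _ = 0 ↔ _
  rw [cls_eq_zero, show Ideal.ofList l = Ideal.span {a | a ∈ l} from rfl, ← comap_emb_B]
  rfl

theorem map_emb (f : M →ₗ[E] N) : ∀ (l : List E) (m : M), map f l (emb l m) = emb l (f m)
  | [], m => rfl
  | x :: l, m => Prod.ext (map_emb f l m) (map_zero (map f l))

theorem mapH_q0 (f : M →ₗ[E] N) (m : M) : mapH f l 0 (q0 l m) = q0 l (f m) := by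
  show mapH f l 0 (cls l 0 _) = cls l 0 _
  rw [mapH_cls]
  exact congrArg _ (Subtype.ext (map_emb f l m))

theorem subsingleton_T [Subsingleton M] : ∀ l : List E, Subsingleton (T M l)
  | [] => inferInstanceAs (Subsingleton M)
  | _ :: l => by
    haveI := subsingleton_T l
    exact inferInstanceAs (Subsingleton (T M l × T M l))

theorem subsingleton_H_of_subsingleton [Subsingleton M] (i : ℤ) : Subsingleton (H M l i) := by
  haveI := subsingleton_T (M := M) l
  exact (cls_surjective (M := M) l i).subsingleton

/-- Vanishing passes to extensions. -/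
theorem subsingleton_H_mid (f : M →ₗ[E] N) (g : N →ₗ[E] N') (hf : Function.Injective f)
    (hg : Function.Surjective g) (hfg : Function.Exact f g) (i : ℤ) (h1 : Subsingleton (H M l i))
    (h3 : Subsingleton (H N' l i)) : Subsingleton (H N l i) := by
  refine subsingleton_of_forall_eq 0 fun z => ?_
  obtain ⟨w, rfl⟩ := (mapH_exact hf hg hfg l i z).1 (Subsingleton.elim _ _)
  rw [Subsingleton.elim w 0, map_zero]

theorem subsingleton_H_congr (e : M ≃ₗ[E] N) (i : ℤ) (h : Subsingleton (H M l i)) : Subsingleton (H N l i) :=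
  subsingleton_H_mid l (e : M →ₗ[E] N) (0 : N →ₗ[E] PUnit.{u+1}) e.injective
    (fun _ => ⟨0, Subsingleton.elim _ _⟩)
    (fun z => ⟨fun _ => ⟨e.symm z, e.apply_symm_apply z⟩, fun _ => Subsingleton.elim _ _⟩) i h
    (subsingleton_H_of_subsingleton l i)

theorem subsingleton_H_pi (i : ℤ) (h : Subsingleton (H M l i)) :
    ∀ m : ℕ, Subsingleton (H (Fin m → M) l i)
  | 0 => subsingleton_H_of_subsingleton l i
  | m + 1 => by
    refine subsingleton_H_mid l (LinearMap.single E (fun _ : Fin (m + 1) => M) 0)
      (LinearMap.funLeft E M (Fin.succ : Fin m → Fin (m + 1))) (fun a b h => by simpa using congr_fun h 0)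
      (fun v => ⟨Fin.cons 0 v, funext fun j => by simp [LinearMap.funLeft_apply]⟩) (fun v => ?_) i h
      (subsingleton_H_pi i h m)
    refine ⟨fun hv => ⟨v 0, funext fun j => ?_⟩, ?_⟩
    · induction j using Fin.cases with
      | zero => simp
      | succ j =>
        have := congr_fun hv j
        simp only [LinearMap.funLeft_apply, Pi.zero_apply] at this
        simp [this]
    · rintro ⟨x, rfl⟩
      funext j
      simp [LinearMap.funLeft_apply]

/-- The kernel in the bottom degree. -/
theorem nonempty_ker_mapH_zero {X₁ X₂ N₁ N₂ : Type u} [AddCommGroup X₁] [Module E X₁] [AddCommGroup X₂]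
    [Module E X₂] [AddCommGroup N₁] [Module E N₁] [AddCommGroup N₂] [Module E N₂] (f : X₁ →ₗ[E] X₂)
    (f' : N₁ →ₗ[E] N₂) (π₁ : X₁ →ₗ[E] N₁) (π₂ : X₂ →ₗ[E] N₂) (h₁ : Function.Surjective π₁)
    (h₂ : Function.Surjective π₂) (k₁ : LinearMap.ker π₁ = Ideal.ofList l • ⊤)
    (k₂ : LinearMap.ker π₂ = Ideal.ofList l • ⊤) (hc : π₂.comp f = f'.comp π₁) :
    Nonempty (LinearMap.ker f' ≃ₗ[E] LinearMap.ker (mapH f l 0)) := by
  have hq : ∀ {X : Type u} [AddCommGroup X] [Module E X],
      LinearMap.ker (q0 (M := X) l) = Ideal.ofList l • ⊤ := fun {X} _ _ => by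
    ext x; rw [LinearMap.mem_ker, q0_eq_zero_iff]
  let e₁ : N₁ ≃ₗ[E] H X₁ l 0 := (π₁.quotKerEquivOfSurjective h₁).symm.trans
    ((Submodule.quotEquivOfEq _ _ (k₁.trans (hq (X := X₁)).symm)).trans
      ((q0 l).quotKerEquivOfSurjective (q0_surjective l)))
  let e₂ : N₂ ≃ₗ[E] H X₂ l 0 := (π₂.quotKerEquivOfSurjective h₂).symm.trans
    ((Submodule.quotEquivOfEq _ _ (k₂.trans (hq (X := X₂)).symm)).trans
      ((q0 l).quotKerEquivOfSurjective (q0_surjective l)))
  have he₁ : ∀ x, e₁ (π₁ x) = q0 l x := fun x => by
    have : (π₁.quotKerEquivOfSurjective h₁).symm (π₁ x) = Submodule.Quotient.mk x := by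
      rw [LinearEquiv.symm_apply_eq]; rfl
    simp only [e₁, LinearEquiv.trans_apply, this]
    rfl
  have he₂ : ∀ x, e₂ (π₂ x) = q0 l x := fun x => by
    have : (π₂.quotKerEquivOfSurjective h₂).symm (π₂ x) = Submodule.Quotient.mk x := by
      rw [LinearEquiv.symm_apply_eq]; rfl
    simp only [e₂, LinearEquiv.trans_apply, this]
    rfl
  have hcomm : ∀ z, mapH f l 0 (e₁ z) = e₂ (f' z) := fun z => by
    obtain ⟨x, rfl⟩ := h₁ z
    rw [he₁, mapH_q0, ← he₂]
    exact congrArg e₂ (LinearMap.congr_fun hc x)
  refine ⟨e₁.ofSubmodules _ _ ?_⟩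
  refine le_antisymm ?_ fun z hz => ?_
  · rintro _ ⟨z, hz, rfl⟩
    show mapH f l 0 (e₁ z) = 0
    rw [hcomm, show f' z = 0 from hz, map_zero]
  · refine ⟨e₁.symm z, ?_, e₁.apply_symm_apply z⟩
    show f' (e₁.symm z) = 0
    apply e₂.injective
    rw [map_zero, ← hcomm, e₁.apply_symm_apply]
    exact hz

end koszul

variable [Algebra A E] (Δ : E →ₐ[A] A)

theorem sub_algebraMap_mem (e : E) : e - algebraMap A E (Δ e) ∈ RingHom.ker Δ := by
  rw [RingHom.mem_ker, map_sub, AlgHom.commutes, Algebra.algebraMap_self_apply, sub_self]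

/-- Lengths of modules living on the diagonal. -/
theorem length_eq_of_killed {W : Type u} [AddCommGroup W] [Module E W] [Module A W] [IsScalarTower A E W]
    (hW : ∀ e ∈ RingHom.ker Δ, ∀ w : W, e • w = 0) : Module.length E W = Module.length A W := by
  have key : ∀ (e : E) (w : W), e • w = Δ e • w := fun e w => by
    have := hW _ (sub_algebraMap_mem Δ e) w
    rw [sub_smul, sub_eq_zero, algebraMap_smul] at this
    exact this
  let φ : Submodule E W ≃o Submodule A W :=
    { toFun := fun S => S.restrictScalars A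
      invFun := fun S =>
        { S.toAddSubmonoid with
          smul_mem' := fun e w hw => by rw [key e w]; exact S.smul_mem _ hw }
      left_inv := fun S => by ext; rfl
      right_inv := fun S => by ext; rfl
      map_rel_iff' := Iff.rfl }
  apply WithBot.coe_injective
  rw [Module.coe_length, Module.coe_length, Order.krullDim_eq_of_orderIso φ]

variable {l : List E} (hl : Ideal.ofList l = RingHom.ker Δ)

/-- Projection to the diagonal. -/
noncomputable def proj (N : Type u) [AddCommGroup N] [Module A N] : E ⊗[A] N →ₗ[A] N :=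
  (TensorProduct.lid A N).toLinearMap.comp (Δ.toLinearMap.rTensor N)

theorem proj_tmul {N : Type u} [AddCommGroup N] [Module A N] (e : E) (n : N) :
    proj Δ N (e ⊗ₜ n) = Δ e • n := by simp [proj]

theorem proj_comm {N N' : Type u} [AddCommGroup N] [Module A N] [AddCommGroup N'] [Module A N']
    (f : N →ₗ[A] N') (w : E ⊗[A] N) : proj Δ N' (f.baseChange E w) = f (proj Δ N w) := by
  induction w using TensorProduct.induction_on with
  | zero => simp
  | tmul e n => rw [LinearMap.baseChange_tmul, proj_tmul, proj_tmul, map_smul]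
  | add x y hx hy => simp only [map_add, hx, hy]

include hl in
theorem mem_smul_top_of_proj {N : Type u} [AddCommGroup N] [Module A N] (w : E ⊗[A] N) (h : proj Δ N w = 0) :
    w ∈ Ideal.ofList l • (⊤ : Submodule E (E ⊗[A] N)) := by
  have key : ∀ w : E ⊗[A] N, w - (1 : E) ⊗ₜ proj Δ N w ∈ Ideal.ofList l • (⊤ : Submodule E (E ⊗[A] N)) := by
    intro w
    induction w using TensorProduct.induction_on with
    | zero => simp
    | tmul e n =>
      have e1 : e ⊗ₜ[A] n - (1 : E) ⊗ₜ[A] proj Δ N (e ⊗ₜ n) = (e - algebraMap A E (Δ e)) • ((1 : E) ⊗ₜ[A] n) := by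
        rw [proj_tmul, TensorProduct.smul_tmul', smul_eq_mul, mul_one, TensorProduct.sub_tmul,
          Algebra.algebraMap_eq_smul_one, TensorProduct.smul_tmul]
      rw [e1]
      exact Submodule.smul_mem_smul (hl.ge (sub_algebraMap_mem Δ e)) trivial
    | add x y hx hy =>
      rw [map_add, TensorProduct.tmul_add, add_sub_add_comm]
      exact add_mem hx hy
  have := key w
  rwa [h, TensorProduct.tmul_zero, sub_zero] at this

include hl in
theorem proj_eq_zero_of_mem {N : Type u} [AddCommGroup N] [Module A N] (w : E ⊗[A] N)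
    (h : w ∈ Ideal.ofList l • (⊤ : Submodule E (E ⊗[A] N))) : proj Δ N w = 0 := by
  refine Submodule.smul_induction_on h (fun e he z hz => ?_) fun x y hx hy => by rw [map_add, hx, hy, add_zero]
  clear hz
  induction z using TensorProduct.induction_on with
  | zero => rw [smul_zero, map_zero]
  | tmul e' n =>
    rw [TensorProduct.smul_tmul', proj_tmul, smul_eq_mul, map_mul, show Δ e = 0 from hl.le he, zero_mul,
      zero_smul]
  | add x y hx hy => rw [smul_add, map_add, hx, hy, add_zero]

variable [IsNoetherianRing A]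

include hl in
/-- The Koszul complex of the diagonal stays acyclic after base change. -/
theorem subsingleton_H_baseChange [Module.Flat A E] (hE : ∀ i : ℕ, Subsingleton (H E l ((i + 1 : ℕ) : ℤ))) :
    ∀ (i : ℕ) (N : Type u) [AddCommGroup N] [Module A N] [Module.Finite A N],
      Subsingleton (H (E ⊗[A] N) l ((i + 1 : ℕ) : ℤ)) := by
  intro i
  induction i with
  | zero =>
    intro N _ _ _
    obtain ⟨m, p, hp⟩ := Module.Finite.exists_fin' A N
    let K := LinearMap.ker p
    have hf : Function.Injective (K.subtype.baseChange E) :=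
      Module.Flat.lTensor_preserves_injective_linearMap _ K.injective_subtype
    have hg : Function.Surjective (p.baseChange E) := LinearMap.lTensor_surjective E hp
    have hfg : Function.Exact (K.subtype.baseChange E) (p.baseChange E) :=
      lTensor_exact E (LinearMap.exact_subtype_ker_map p) hp
    haveI : Subsingleton (H (E ⊗[A] (Fin m → A)) l ((0 + 1 : ℕ) : ℤ)) :=
      subsingleton_H_congr l (TensorProduct.piScalarRight A E E (Fin m)).symm _ (subsingleton_H_pi l _ (hE 0) m)
    obtain ⟨e⟩ := nonempty_coker_equiv_ker hf hg hfg l ((0 + 1 : ℕ) : ℤ)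
    rw [show ((0 + 1 : ℕ) : ℤ) - 1 = 0 by norm_num] at e
    haveI : Subsingleton (LinearMap.ker (mapH (K.subtype.baseChange E) l 0)) := by
      refine subsingleton_of_forall_eq 0 fun z => Subtype.ext ?_
      obtain ⟨x, hx⟩ := q0_surjective l z.1
      have hz := z.2
      rw [LinearMap.mem_ker, ← hx, mapH_q0, q0_eq_zero_iff] at hz
      have h1 := proj_eq_zero_of_mem Δ hl _ hz
      rw [proj_comm] at h1
      have h2 : proj Δ K x = 0 := K.injective_subtype (h1.trans (map_zero _).symm)
      rw [← hx, (q0_eq_zero_iff l x).mpr (mem_smul_top_of_proj Δ hl x h2)]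
      rfl
    refine subsingleton_of_forall_eq 0 fun z => ?_
    obtain ⟨w, hw⟩ := (Submodule.Quotient.mk_eq_zero _).mp
      (e.injective (Subsingleton.elim (e (Submodule.Quotient.mk z)) (e 0)))
    rw [← hw, Subsingleton.elim w 0, map_zero]
  | succ i ih =>
    intro N _ _ _
    obtain ⟨m, p, hp⟩ := Module.Finite.exists_fin' A N
    let K := LinearMap.ker p
    have hf : Function.Injective (K.subtype.baseChange E) :=
      Module.Flat.lTensor_preserves_injective_linearMap _ K.injective_subtype
    have hg : Function.Surjective (p.baseChange E) := LinearMap.lTensor_surjective E hp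
    have hfg : Function.Exact (K.subtype.baseChange E) (p.baseChange E) :=
      lTensor_exact E (LinearMap.exact_subtype_ker_map p) hp
    haveI : Subsingleton (H (E ⊗[A] (Fin m → A)) l ((i + 1 + 1 : ℕ) : ℤ)) :=
      subsingleton_H_congr l (TensorProduct.piScalarRight A E E (Fin m)).symm _ (subsingleton_H_pi l _ (hE (i + 1)) m)
    obtain ⟨e⟩ := nonempty_coker_equiv_ker hf hg hfg l ((i + 1 + 1 : ℕ) : ℤ)
    rw [show ((i + 1 + 1 : ℕ) : ℤ) - 1 = ((i + 1 : ℕ) : ℤ) by push_cast; ring] at e
    haveI := ih K
    refine subsingleton_of_forall_eq 0 fun z => ?_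
    obtain ⟨w, hw⟩ := (Submodule.Quotient.mk_eq_zero _).mp
      (e.injective (Subsingleton.elim (e (Submodule.Quotient.mk z)) (e 0)))
    rw [← hw, Subsingleton.elim w 0, map_zero]

section tor

variable {X N : Type u} [AddCommGroup X] [Module E X] [Module A X] [IsScalarTower A E X]
  [AddCommGroup N] [Module E N] [Module A N] [IsScalarTower A E N] (π : X →ₗ[E] N)

omit [IsNoetherianRing A] in
theorem ker_rTensor (hs : Function.Surjective π) (hk : LinearMap.ker π = Ideal.ofList l • ⊤)
    (M : Type u) [AddCommGroup M] [Module A M] :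
    LinearMap.ker (TensorProduct.AlgebraTensorModule.map π (LinearMap.id : M →ₗ[A] M)) =
      Ideal.ofList l • (⊤ : Submodule E (X ⊗[A] M)) := by
  refine le_antisymm (fun w hw => ?_) (Submodule.smul_le.mpr fun e he w hw => ?_)
  · have hex := rTensor_exact M (LinearMap.exact_subtype_ker_map (π.restrictScalars A)) hs
    obtain ⟨v, rfl⟩ := (hex w).mp hw
    clear hw
    induction v using TensorProduct.induction_on with
    | zero => rw [map_zero]; exact zero_mem _
    | tmul x m =>
      have hx : (x : X) ∈ Ideal.ofList l • (⊤ : Submodule E X) := hk ▸ x.2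
      rw [LinearMap.rTensor_tmul, Submodule.subtype_apply]
      refine Submodule.smul_induction_on hx (fun e he z _ => ?_) fun a b ha hb => ?_
      · rw [← TensorProduct.smul_tmul']
        exact Submodule.smul_mem_smul he trivial
      · rw [TensorProduct.add_tmul]; exact add_mem ha hb
    | add a b ha hb => rw [map_add]; exact add_mem ha hb
  · clear hw
    induction w using TensorProduct.induction_on with
    | zero => rw [smul_zero]; exact zero_mem _
    | tmul x m =>
      rw [LinearMap.mem_ker, TensorProduct.smul_tmul', TensorProduct.AlgebraTensorModule.map_tmul,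
        show π (e • x) = 0 from LinearMap.mem_ker.mp (hk.ge (Submodule.smul_mem_smul he trivial)),
        TensorProduct.zero_tmul]
    | add a b ha hb => rw [smul_add]; exact add_mem ha hb

include hl in
/-- `Tor` over `A` is Koszul homology over `E`. -/
theorem length_tor_eq [Module.Flat A X] (hs : Function.Surjective π)
    (hk : LinearMap.ker π = Ideal.ofList l • ⊤) (hX : ∀ i : ℕ, Subsingleton (H X l ((i + 1 : ℕ) : ℤ))) :
    ∀ (i : ℕ) (M : Type u) [AddCommGroup M] [Module A M] [Module.Finite A M],
      Module.length A (DRing.Tor A i N M) = Module.length E (H (X ⊗[A] M) l (i : ℤ)) := by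
  have hkillN : ∀ (M : Type u) [AddCommGroup M] [Module A M], ∀ e ∈ RingHom.ker Δ, ∀ w : N ⊗[A] M, e • w = 0 := by
    intro M _ _ e he w
    induction w using TensorProduct.induction_on with
    | zero => exact smul_zero _
    | tmul n m =>
      obtain ⟨x, rfl⟩ := hs n
      rw [TensorProduct.smul_tmul', ← map_smul,
        show π (e • x) = 0 from LinearMap.mem_ker.mp (hk.ge (Submodule.smul_mem_smul (hl.ge he) trivial)),
        TensorProduct.zero_tmul]
    | add a b ha hb => rw [smul_add, ha, hb, add_zero]
  have hsurj : ∀ (M : Type u) [AddCommGroup M] [Module A M],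
      Function.Surjective (TensorProduct.AlgebraTensorModule.map π (LinearMap.id : M →ₗ[A] M)) := by
    intro M _ _ z
    exact LinearMap.rTensor_surjective M (g := π.restrictScalars A) hs z
  intro i
  induction i with
  | zero =>
    intro M _ _ _
    have e1 : Module.length A (DRing.Tor A 0 N M) = Module.length A (N ⊗[A] M) :=
      ((Tor.zeroIso (ModuleCat.of A N)).app (ModuleCat.of A M)).toLinearEquiv.length_eq
    rw [e1, ← length_eq_of_killed Δ (hkillN M), Nat.cast_zero]
    refine LinearEquiv.length_eq (((TensorProduct.AlgebraTensorModule.map π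
      (LinearMap.id : M →ₗ[A] M)).quotKerEquivOfSurjective (hsurj M)).symm.trans
      ((Submodule.quotEquivOfEq _ _ ?_).trans ((q0 l).quotKerEquivOfSurjective (q0_surjective l))))
    rw [ker_rTensor π hs hk M]
    ext x
    rw [LinearMap.mem_ker, q0_eq_zero_iff]
  | succ i ih =>
    intro M _ _ _
    obtain ⟨m, p, hp⟩ := Module.Finite.exists_fin' A M
    let K := LinearMap.ker p
    let S : ShortComplex (ModuleCat.{u} A) := ShortComplex.mk (ModuleCat.ofHom K.subtype) (ModuleCat.ofHom p)
      (ModuleCat.hom_ext (LinearMap.exact_subtype_ker_map p).linearMap_comp_eq_zero)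
    have hS : S.ShortExact := ModuleCat.shortComplex_shortExact S (LinearMap.exact_subtype_ker_map p)
      K.injective_subtype hp
    haveI hproj : Projective S.X₂ := ModuleCat.projective_of_categoryTheory_projective (ModuleCat.of A (Fin m → A))
    obtain ⟨-, -, δ, w₁, w₂, h₁, h₂⟩ := Tor.les₂ (ModuleCat.of A N) S hS i
    haveI : Mono δ := h₁.mono_g ((isZero_Tor_succ_of_projective _ (ModuleCat.of A N) S.X₂ i).eq_of_src _ _)
    have hrange : LinearMap.range δ.hom = LinearMap.ker (((Tor (ModuleCat.{u} A) i).obj (ModuleCat.of A N)).map S.f).hom :=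
      (ShortComplex.moduleCat_exact_iff_range_eq_ker _).mp h₂
    have hδ : Module.length A (DRing.Tor A (i + 1) N M) =
        Module.length A (LinearMap.ker (((Tor (ModuleCat.{u} A) i).obj (ModuleCat.of A N)).map S.f).hom) := by
      rw [← hrange]
      exact (LinearEquiv.ofInjective δ.hom ((ModuleCat.mono_iff_injective δ).mp inferInstance)).length_eq
    let F := TensorProduct.AlgebraTensorModule.map (LinearMap.id : X →ₗ[E] X) K.subtype
    let G := TensorProduct.AlgebraTensorModule.map (LinearMap.id : X →ₗ[E] X) p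
    have hf : Function.Injective F :=
      Module.Flat.lTensor_preserves_injective_linearMap (M := X) K.subtype K.injective_subtype
    have hg : Function.Surjective G := LinearMap.lTensor_surjective X hp
    have hfg : Function.Exact F G := lTensor_exact X (LinearMap.exact_subtype_ker_map p) hp
    haveI hFree : ∀ j : ℕ, Subsingleton (H (X ⊗[A] (Fin m → A)) l ((j + 1 : ℕ) : ℤ)) := fun j =>
      subsingleton_H_congr l (TensorProduct.piScalarRight A E X (Fin m)).symm _ (subsingleton_H_pi l _ (hX j) m)
    obtain ⟨e⟩ := nonempty_coker_equiv_ker hf hg hfg l ((i + 1 : ℕ) : ℤ)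
    rw [show ((i + 1 : ℕ) : ℤ) - 1 = (i : ℤ) by push_cast; ring] at e
    have hbot : LinearMap.range (mapH G l ((i + 1 : ℕ) : ℤ)) = ⊥ := by
      rw [eq_bot_iff]
      rintro _ ⟨z, rfl⟩
      rw [Subsingleton.elim z 0, map_zero]
      exact zero_mem _
    rw [hδ, (((Submodule.quotEquivOfEqBot _ hbot).symm).trans e).length_eq]
    cases i with
    | zero =>
      let F' := TensorProduct.AlgebraTensorModule.map (LinearMap.id : N →ₗ[E] N) K.subtype
      obtain ⟨e'⟩ := nonempty_ker_mapH_zero l F F'
        (TensorProduct.AlgebraTensorModule.map π (LinearMap.id : K →ₗ[A] K))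
        (TensorProduct.AlgebraTensorModule.map π (LinearMap.id : (Fin m → A) →ₗ[A] (Fin m → A)))
        (hsurj K) (hsurj (Fin m → A)) (ker_rTensor π hs hk K) (ker_rTensor π hs hk (Fin m → A))
        (by ext x k; simp [F, F'])
      rw [Nat.cast_zero, ← e'.length_eq]
      rw [length_eq_of_killed Δ (W := LinearMap.ker F') fun e he w => Subtype.ext (hkillN K e he w.1)]
      let z₁ := ((Tor.zeroIso (ModuleCat.of A N)).app (ModuleCat.of A K)).toLinearEquiv
      let z₂ := ((Tor.zeroIso (ModuleCat.of A N)).app (ModuleCat.of A (Fin m → A))).toLinearEquiv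
      have hnat : ∀ v, z₂ ((((Tor (ModuleCat.{u} A) 0).obj (ModuleCat.of A N)).map S.f).hom v) =
          K.subtype.lTensor N (z₁ v) := fun v =>
        LinearMap.congr_fun (congrArg ModuleCat.Hom.hom ((Tor.zeroIso (ModuleCat.of A N)).hom.naturality S.f)) v
      refine (z₁.ofSubmodules _ ((LinearMap.ker F').restrictScalars A) ?_).length_eq
      refine le_antisymm ?_ fun v hv => ?_
      · rintro _ ⟨v, hv, rfl⟩
        show K.subtype.lTensor N (z₁ v) = 0
        rw [← hnat, show (((Tor (ModuleCat.{u} A) 0).obj (ModuleCat.of A N)).map S.f).hom v = 0 from hv, map_zero]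
      · refine ⟨z₁.symm v, ?_, z₁.apply_symm_apply v⟩
        show (((Tor (ModuleCat.{u} A) 0).obj (ModuleCat.of A N)).map S.f).hom (z₁.symm v) = 0
        apply z₂.injective
        rw [hnat, z₁.apply_symm_apply, map_zero]
        exact hv
    | succ i =>
      have hz := isZero_Tor_succ_of_projective (ModuleCat.{u} A) (ModuleCat.of A N) S.X₂ i
      have k1 : LinearMap.ker (((Tor (ModuleCat.{u} A) (i + 1)).obj (ModuleCat.of A N)).map S.f).hom = ⊤ := by
        haveI := ModuleCat.subsingleton_of_isZero hz
        exact Submodule.eq_top_iff'.mpr fun v => Subsingleton.elim _ _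
      have k2 : LinearMap.ker (mapH F l ((i + 1 : ℕ) : ℤ)) = ⊤ := by
        haveI := hFree i
        exact Submodule.eq_top_iff'.mpr fun v => Subsingleton.elim _ _
      rw [(LinearEquiv.ofTop _ k1).length_eq, (LinearEquiv.ofTop _ k2).length_eq]
      exact ih K

include hl in
/-- The Tor formula is a Koszul Euler characteristic on the diagonal. -/
theorem chi_eq [IsNoetherianRing E] [Module.Flat A X] (hs : Function.Surjective π) (hk : LinearMap.ker π = Ideal.ofList l • ⊤)
    (hX : ∀ i : ℕ, Subsingleton (H X l ((i + 1 : ℕ) : ℤ))) (M : Type u) [AddCommGroup M] [Module A M]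
    [Module.Finite A M] : IntMult.chi A N M = H1Koszul.chi l (X ⊗[A] M) := by
  have hlen : ∀ n : ℕ, (Module.length A (DRing.Tor A n N M)).toNat = H1Koszul.len l (X ⊗[A] M) n := fun n => by
    rw [length_tor_eq Δ hl π hs hk hX n M]
    rfl
  rw [IntMult.chi, H1Koszul.chi, finsum_eq_sum_of_support_subset _ (s := Finset.range (l.length + 1))]
  · exact Finset.sum_congr rfl fun i _ => by rw [hlen]
  · intro i hi
    rw [Finset.coe_range, Set.mem_Iio]
    by_contra hne
    refine hi ?_
    show _ * _ = (0 : ℤ)
    rw [hlen, H1Koszul.len_eq_zero (Or.inr (by omega)), Nat.cast_zero, mul_zero]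

end tor

end Groth.Agent.H3CAlg.DiagRed
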