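import Groth.Agent.H4LocDual.Main
import Groth.Agent.H4DR.Ext.InjAmp
import Groth.Agent.H4DR.Ext.LocalDevissage
import Groth.Agent.H4DR.HT.Compare
import Groth.Agent.H4LC.FiniteH1
import Groth.Agent.H4Matlis.Hull
import Groth.Agent.H4DR.RHom.TensFree

/-!
# The completion of a Matlis dual
-/

set_option autoImplicit false
set_option linter.style.haveILetI false
set_option linter.unusedVariables false

universe u

open CategoryTheory CategoryTheory.Limits CochainComplex CochainComplex.HomComplex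
open Groth.Agent.H4DR
open Groth.Agent.H4DR.RHom (sgl0 cls exists_cls cls_eq_zero_iff)

attribute [local instance] HasDerivedCategory.standard

namespace Groth.Agent.H3CAlg

variable {A : Type u} [CommRing A] (E : Type u) [AddCommGroup E] [Module A E]

theorem injective_sgl0_X (hE : Module.Injective A E) (i : ℤ) :
    Module.Injective A ((sgl0 (ModuleCat.of A E)).X i) := by
  rcases eq_or_ne i 0 with rfl | hi
  · exact Module.Injective.of_ringEquiv (RingEquiv.refl A)
      (HomologicalComplex.singleObjXSelf (ComplexShape.up ℤ) 0 (ModuleCat.of A E)).toLinearEquiv.symm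
  · haveI : Subsingleton ((sgl0 (ModuleCat.of A E)).X i) := ModuleCat.subsingleton_of_isZero
      (HomologicalComplex.isZero_single_obj_X (ComplexShape.up ℤ) 0 (ModuleCat.of A E) i hi)
    exact ⟨fun X Y _ _ _ _ f _ g => ⟨0, fun x => Subsingleton.elim _ _⟩⟩

theorem isKInjective_sgl0 (hE : Module.Injective A E) :
    CochainComplex.IsKInjective (sgl0 (ModuleCat.of A E)) :=
  Ext.isKInjective_of_vanishesOutside (a := 0) (b := 0)
    (fun i hi => HomologicalComplex.isZero_single_obj_X (ComplexShape.up ℤ) 0 _ i (by omega))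
    (injective_sgl0_X E hE)

/-- A class of `Hom•(G, E)` is controlled by a functional on the cohomology of `G`. -/
theorem exists_functional_homCx_single (hE : Module.Injective A E) (G : DRing.Cx A) (n p : ℤ) (h : p + n = 0)
    (x : (DRing.homCx G (sgl0 (ModuleCat.of A E))).homology n) :
    ∃ φ : G.homology p →ₗ[A] E, ∀ c : A, c • φ = 0 → c • x = 0 := by
  obtain ⟨z, hz, rfl⟩ := exists_cls _ n x
  let T := sgl0 (ModuleCat.of A E)
  let z' : Cochain G T n := z
  obtain ⟨f, hf⟩ := Cochain.toSingleMk_surjective (X := ModuleCat.of A E) z' p h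
  have hd : G.d (p - 1) p ≫ f = 0 := by
    have h1 : δ n (n + 1) z' = 0 := hz
    rw [← hf, Cochain.δ_toSingleMk f h (n + 1) (p - 1) (by omega)] at h1
    have h2 : Cochain.toSingleMk (G.d (p - 1) p ≫ f) (show p - 1 + (n + 1) = 0 by omega) = 0 :=
      (smul_eq_zero_iff_eq _).1 h1
    exact (Cochain.toSingleEquiv (show p - 1 + (n + 1) = 0 by omega)).symm.injective (h2.trans (map_zero _).symm)
  -- the functional on cycles descends to cohomology
  let g : G.cycles p ⟶ ModuleCat.of A E := G.iCycles p ≫ f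
  have hg : G.toCycles (p - 1) p ≫ g = 0 := by
    rw [← Category.assoc, G.toCycles_i, hd]
  let φ := Cofork.IsColimit.desc' (G.homologyIsCokernel (p - 1) p (by simp)) g (by rw [hg, zero_comp])
  refine ⟨φ.1.hom, fun c hc => ?_⟩
  have hcg : c • g = 0 := by
    have h0 : c • φ.1 = 0 := ModuleCat.hom_ext hc
    rw [← φ.2]
    exact (Linear.comp_smul _ _ _ _ _ _).symm.trans ((congrArg (_ ≫ ·) h0).trans comp_zero)
  have hker : LinearMap.ker (G.d p (p + 1)).hom ≤ LinearMap.ker (c • f.hom) := fun y hy => by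
    have hmem := RHom.iCycles_cls G p y (LinearMap.mem_ker.1 hy)
    refine LinearMap.mem_ker.2 ?_
    rw [← hmem]
    exact congr($(hcg).hom _)
  obtain ⟨ψ, hψ⟩ := (Module.Baer.of_injective hE).extension_property
    ((LinearMap.ker (G.d p (p + 1)).hom).liftQ (G.d p (p + 1)).hom le_rfl)
    (LinearMap.ker_eq_bot.1 (Submodule.ker_liftQ_eq_bot _ _ _ le_rfl))
    ((LinearMap.ker (G.d p (p + 1)).hom).liftQ (c • f.hom) hker)
  have hdf : G.d p (p + 1) ≫ ModuleCat.ofHom ψ = c • f := ModuleCat.hom_ext (LinearMap.ext fun y =>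
    LinearMap.congr_fun hψ (Submodule.Quotient.mk y))
  rw [← RG.cls_smul _ n c z hz (by rw [map_smul, hz, smul_zero])]
  refine (cls_eq_zero_iff _ _ _ _).2 ⟨n.negOnePow • Cochain.toSingleMk (ModuleCat.ofHom ψ)
    (show p + 1 + (n - 1) = 0 by omega), ?_⟩
  show δ (n - 1) n (n.negOnePow • Cochain.toSingleMk (ModuleCat.ofHom ψ) (show p + 1 + (n - 1) = 0 by omega) :
    Cochain G T (n - 1)) = c • z'
  rw [δ_units_smul, Cochain.δ_toSingleMk _ _ n p h, smul_smul, Int.units_mul_self, one_smul, hdf, ← hf]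
  refine (Cochain.toSingleEquiv h).injective ?_
  simp [Cochain.toSingleEquiv]
  rfl

variable [IsNoetherianRing A] (I : Ideal A) [DRing.HasDerivedCompletion I]

/-- `Hom(F, E)` in degree `0`. -/
theorem nonempty_rhom_single (hE : Module.Injective A E) (F : Type u) [AddCommGroup F] [Module A F]
    [DRing.HasRHomCx (sgl0 (ModuleCat.of A F))] :
    Nonempty ((DRing.RHomCx (sgl0 (ModuleCat.of A F))).obj (Dual.inD A E) ≅ Dual.inD A (F →ₗ[A] E)) := by
  haveI := isKInjective_sgl0 E hE
  let eS := (DerivedCategory.singleFunctorIsoCompQ (ModuleCat.{u} A) 0)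
  exact ⟨(DRing.RHomCx _).mapIso (eS.app (ModuleCat.of A E)) ≪≫ RHom.rhomObj _ (sgl0 (ModuleCat.of A E)) ≪≫
    DerivedCategory.Q.mapIso (asIso (RHom.evalSingle (ModuleCat.of A F) (sgl0 (ModuleCat.of A E))) ≪≫
      (HomologicalComplex.singleMapHomologicalComplex (DComplete.homF (ModuleCat.of A F)) (ComplexShape.up ℤ) 0).app
        (ModuleCat.of A E)) ≪≫ (eS.app (ModuleCat.of A (F →ₗ[A] E))).symm⟩

/-- The cohomology of the completion of `Hom(F, E)` is controlled by functionals on local cohomology. -/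
theorem exists_functional_completion_dual (hE : Module.Injective A E) (hI : LocCoh.IsPowerTorsion I E)
    (F : Type u) [AddCommGroup F] [Module A F] (q : ℤ)
    (x : Dual.HD A ((DRing.derivedCompletion I).obj (Dual.inD A (F →ₗ[A] E))).obj q) :
    (0 < q → x = 0) ∧ ∀ a : ℕ, q = -(a : ℤ) →
      ∃ φ : LocCoh.H I a F →ₗ[A] E, ∀ c : A, c • φ = 0 → c • x = 0 := by
  haveI : DRing.HasRgammaI I := RG.hasRgammaI I
  haveI := isKInjective_sgl0 E hE
  obtain ⟨G, hG, -, ⟨eG⟩⟩ := RG.exists_model ((DRing.RgammaI I).obj (DRing.toD (sgl0 (ModuleCat.of A F))))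
  haveI : DRing.HasRHomCx (sgl0 (ModuleCat.of A F)) := RHom.hasRHomCx _
  haveI : DRing.HasRHomCx G := RHom.hasRHomCx G
  haveI := RG.isIso_ε I (Dual.inD A E) (fun i y => by
    rcases eq_or_ne i 0 with rfl | hi
    · obtain ⟨k, hk⟩ := hI (PCoh.HDinD (ModuleCat.of A E) y)
      exact ⟨k, fun a ha => (PCoh.HDinD (ModuleCat.of A E)).injective (by rw [map_smul, hk a ha, map_zero])⟩
    · haveI := PCoh.subsingleton_HD_inD (ModuleCat.of A E) i hi
      exact ⟨0, fun a _ => Subsingleton.elim _ _⟩)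
  obtain ⟨e1⟩ := H4LocDual.nonempty_completion_rhom_iso I (Dual.inD A E)
    (asIso ((DRing.RgammaIε I).app (Dual.inD A E))) (sgl0 (ModuleCat.of A F)) G eG
  obtain ⟨e0⟩ := nonempty_rhom_single E hE F
  let eS := (DerivedCategory.singleFunctorIsoCompQ (ModuleCat.{u} A) 0)
  let L : Dual.HD A ((DRing.derivedCompletion I).obj (Dual.inD A (F →ₗ[A] E))).obj q ≃ₗ[A]
      (DRing.homCx G (sgl0 (ModuleCat.of A E))).homology q :=
    (PCoh.hEquiv q ((ObjectProperty.ι _).mapIso ((DRing.derivedCompletion I).mapIso e0.symm) ≪≫ e1 ≪≫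
      (DRing.RHomCx G).mapIso (eS.app (ModuleCat.of A E)) ≪≫ RHom.rhomObj G (sgl0 (ModuleCat.of A E)))).trans
      ((DerivedCategory.homologyFunctorFactors (ModuleCat.{u} A) q).app _).toLinearEquiv
  obtain ⟨φ, hφ⟩ := exists_functional_homCx_single E hE G q (-q) (by omega) (L x)
  obtain ⟨eR⟩ := RG.nonempty_equiv_HDI I (Dual.inD A F) (-q)
  let M : G.homology (-q) ≃ₗ[A] LD.H I ((Dual.inD A F)⟦-q⟧) :=
    (((DerivedCategory.homologyFunctorFactors (ModuleCat.{u} A) (-q)).app G).toLinearEquiv.symm.trans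
      (PCoh.hEquiv (-q) (eG ≪≫ (DRing.RgammaI I).mapIso (eS.app (ModuleCat.of A F)).symm))).trans eR
  have key : ∀ c : A, c • φ = 0 → c • x = 0 := fun c hc => L.injective (by
    rw [map_smul, map_zero]; exact hφ c hc)
  refine ⟨fun hq => ?_, fun a ha => ?_⟩
  · haveI : Subsingleton (LD.H I ((Dual.inD A F)⟦-q⟧)) := LD.subsingleton_H _ fun n =>
      Ext.subsingleton_ex_low (a := 0) (HT.subsingleton_HD_inD_of_neg F) _ (-q) (by omega)
    haveI := M.injective.subsingleton
    simpa using key 1 (LinearMap.ext fun y => by rw [Subsingleton.elim y 0, map_zero, map_zero])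
  · have hq : -q = (a : ℤ) := by omega
    let M' : G.homology (-q) ≃ₗ[A] LocCoh.H I a F := M.trans
      ((LD.hEquiv I (eqToIso (congrArg (fun j => (Dual.inD A F)⟦j⟧) hq))).trans (LD.lcEquiv I F a).symm)
    refine ⟨φ ∘ₗ M'.symm.toLinearMap, fun c hc => key c (LinearMap.ext fun y => ?_)⟩
    simpa using LinearMap.congr_fun hc (M' y)

theorem isPowerTorsion_dual (m : Ideal A) (hE : LocCoh.IsPowerTorsion m E) (F : Type u) [AddCommGroup F]
    [Module A F] [Module.Finite A F] : LocCoh.IsPowerTorsion m (F →ₗ[A] E) := fun φ => by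
  classical
  obtain ⟨s, hs⟩ := (inferInstance : Module.Finite A F).fg_top
  choose k hk using hE
  refine ⟨s.sup fun y => k (φ y), fun a ha => LinearMap.ext_on hs fun y hy => ?_⟩
  exact hk (φ y) a (Ideal.pow_le_pow_right (Finset.le_sup (f := fun y => k (φ y)) hy) ha)

end Groth.Agent.H3CAlg
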