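import Mathlib.LinearAlgebra.FreeModule.PID
import Mathlib.LinearAlgebra.BilinearForm.Properties
import Mathlib.Data.ZMod.Basic
import Mathlib.RingTheory.Int.Basic
import Mathlib.Algebra.GCDMonoid.Finset
import Mathlib.GroupTheory.QuotientGroup.Basic
import Mathlib.GroupTheory.SpecificGroups.Cyclic
import Mathlib.LinearAlgebra.Matrix.BilinearForm
import Mathlib.Tactic.LinearCombination

/-!
The subgroup of `Hom(ℤ^r, ℤ/δ)` of the forms `x ↦ b(d,x) + (1-g) b(x,x)`.
-/

namespace Groth.Agent.H3CAlg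

open Finset

/-- A vector of `ℤ^(s+1)` is its content times a basis vector. -/
theorem exists_basis_gcd_smul {s : ℕ} (d : Fin (s + 1) → ℤ) :
    ∃ v : Module.Basis (Fin (s + 1)) ℤ (Fin (s + 1) → ℤ), d = (univ.gcd d) • v 0 := by
  classical
  by_cases hd : d = 0
  · refine ⟨Pi.basisFun ℤ _, ?_⟩
    rw [show univ.gcd d = 0 from Finset.gcd_eq_zero_iff.mpr fun i _ => by simp [hd], hd, zero_smul]
  obtain ⟨n, bM, bN, f, a, snf⟩ := Submodule.smithNormalForm (Pi.basisFun ℤ (Fin (s + 1))) (Submodule.span ℤ {d})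
  have hn : n = 1 := by
    have h1 := Module.finrank_eq_card_basis bN
    rw [← (LinearEquiv.toSpanNonzeroSingleton ℤ _ d hd).finrank_eq, Module.finrank_self, Fintype.card_fin] at h1
    exact h1.symm
  subst hn
  let v0 := bM.reindex (Equiv.swap (f 0) 0)
  have hv0 : v0 0 = bM (f 0) := by simp [v0]
  obtain ⟨c, hc⟩ : ∃ c : ℤ, d = c • v0 0 := by
    refine ⟨bN.repr ⟨d, Submodule.mem_span_singleton_self d⟩ 0 * a 0, ?_⟩
    have h2 := congrArg (fun x : Submodule.span ℤ ({d} : Set _) => (x : Fin (s + 1) → ℤ))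
      (bN.sum_repr ⟨d, Submodule.mem_span_singleton_self d⟩)
    simp only [Fin.sum_univ_one, Submodule.coe_smul, snf, smul_smul] at h2
    rw [hv0]
    exact h2.symm
  have hdvd : c ∣ univ.gcd d := Finset.dvd_gcd fun i _ => ⟨v0 0 i, by rw [hc]; simp⟩
  have hdvd' : univ.gcd d ∣ c := by
    have h3 : ∀ x : Fin (s + 1) → ℤ, (∀ i, univ.gcd d ∣ x i) → ∀ j, univ.gcd d ∣ v0.repr x j := by
      intro x hx j
      choose y hy using hx
      rw [show x = univ.gcd d • y from funext fun i => by simpa using hy i, map_smul]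
      exact ⟨v0.repr y j, by simp⟩
    have h4 := h3 d (fun i => Finset.gcd_dvd (mem_univ i)) 0
    rwa [hc, map_smul, Module.Basis.repr_self, Finsupp.smul_apply, Finsupp.single_eq_same, smul_eq_mul, mul_one, ← hc] at h4
  obtain ⟨u, hu⟩ := associated_of_dvd_dvd hdvd hdvd'
  refine ⟨v0.unitsSMul (fun j => if j = 0 then u⁻¹ else 1), ?_⟩
  rw [Module.Basis.unitsSMul_apply, if_pos rfl, Units.smul_def, smul_smul, hc, ← hc, ← hu, mul_assoc, Units.mul_inv, mul_one]
  exact hc

variable {s : ℕ} (δ : ℕ) (g : ℤ) (d : Fin (s + 1) → ℤ)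

/-- The forms. -/
def formSet : Set ((Fin (s + 1) → ℤ) →+ ZMod δ) :=
  {φ | ∃ b : LinearMap.BilinForm ℤ (Fin (s + 1) → ℤ), b.IsSymm ∧
      ∀ x, φ x = ((b d x + (1 - g) * b x x : ℤ) : ZMod δ)}

/-- The generators of the value groups. -/
def cvals : Fin (s + 1) → ℤ :=
  Fin.cons (univ.gcd d + 1 - g) (fun _ => (Int.gcd (g - 1) (univ.gcd d) : ℤ))

theorem closure_formSet (hδ : (δ : ℤ) ∣ 2 * (g - 1))
    (v : Module.Basis (Fin (s + 1)) ℤ (Fin (s + 1) → ℤ)) (hv : d = (univ.gcd d) • v 0)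
    (φ : (Fin (s + 1) → ℤ) →+ ZMod δ) :
    φ ∈ AddSubgroup.closure (formSet δ g d) ↔
      ∀ i, φ (v i) ∈ AddSubgroup.zmultiples ((cvals g d i : ℤ) : ZMod δ) := by
  classical
  constructor
  · intro hφ i
    refine AddSubgroup.closure_induction (p := fun φ _ => φ (v i) ∈ AddSubgroup.zmultiples ((cvals g d i : ℤ) : ZMod δ))
      ?_ ?_ ?_ ?_ hφ
    · rintro ψ ⟨b, hb, hψ⟩
      have hbd : b d (v i) = univ.gcd d * b (v 0) (v i) := by
        conv_lhs => rw [hv, map_smul, LinearMap.smul_apply, smul_eq_mul]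
      rw [hψ, hbd]
      refine AddSubgroup.mem_zmultiples_iff.mpr ?_
      suffices h : cvals g d i ∣ univ.gcd d * b (v 0) (v i) + (1 - g) * b (v i) (v i) by
        obtain ⟨k, hk⟩ := h
        refine ⟨k, ?_⟩
        rw [zsmul_eq_mul, ← Int.cast_mul, mul_comm, ← hk]
      refine Fin.cases ?_ (fun j => ?_) i
      · exact ⟨b (v 0) (v 0), by simp only [cvals, Fin.cons_zero]; ring⟩
      · simp only [cvals, Fin.cons_succ]
        refine dvd_add (dvd_mul_of_dvd_left (Int.gcd_dvd_right _ _) _) (dvd_mul_of_dvd_left ?_ _)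
        rw [show (1 : ℤ) - g = -(g - 1) by ring, dvd_neg]
        exact Int.gcd_dvd_left _ _
    · simp
    · intro x y _ _ hx hy
      exact add_mem hx hy
    · intro x _ hx
      exact neg_mem hx
  · intro h
    refine AddSubgroup.subset_closure ?_
    choose k hk using fun i => AddSubgroup.mem_zmultiples_iff.mp (h i)
    let D := univ.gcd d
    let p : ℤ := Int.gcdB (g - 1) D
    let q : ℤ := -Int.gcdA (g - 1) D
    let M : Matrix (Fin (s + 1)) (Fin (s + 1)) ℤ := Matrix.of fun i j =>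
      if i = j then (if i = 0 then k 0 else k i * q)
      else if i = 0 then k j * p else if j = 0 then k i * p else 0
    have hMsymm : ∀ i j, M i j = M j i := fun i j => by
      simp only [M, Matrix.of_apply]
      by_cases hij : i = j
      · rw [hij]
      · rw [if_neg hij, if_neg (Ne.symm hij)]
        by_cases hi : i = 0
        · rw [if_pos hi, if_neg (fun hj => hij (hi.trans hj.symm)), if_pos hi]
        · rw [if_neg hi, if_neg hi]
    let b : LinearMap.BilinForm ℤ (Fin (s + 1) → ℤ) :=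
      v.constr ℤ fun i => v.constr ℤ fun j => M i j
    have hbv : ∀ i j, b (v i) (v j) = M i j := fun i j => by simp [b]
    have hbsymm : ∀ x y, b x y = b y x := by
      intro x y
      have : b = LinearMap.flip b := v.ext fun i => v.ext fun j => by
        rw [LinearMap.flip_apply, hbv, hbv, hMsymm]
      exact LinearMap.congr_fun₂ this x y
    refine ⟨b, ⟨fun x y => hbsymm x y⟩, ?_⟩
    let ψ : (Fin (s + 1) → ℤ) →+ ZMod δ :=
      AddMonoidHom.mk' (fun x => ((b d x + (1 - g) * b x x : ℤ) : ZMod δ)) (fun x y => by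
        rw [← sub_eq_zero, ← Int.cast_add, ← Int.cast_sub, ZMod.intCast_zmod_eq_zero_iff_dvd]
        obtain ⟨m, hm⟩ := hδ
        refine ⟨-m * b x y, ?_⟩
        simp only [map_add, LinearMap.add_apply, hbsymm y x]
        linear_combination (-(b x y)) * hm)
    suffices hψ : φ = ψ from fun x => DFunLike.congr_fun hψ x
    have hφψ : φ.toIntLinearMap = ψ.toIntLinearMap := v.ext fun i => by
      change φ (v i) = ((b d (v i) + (1 - g) * b (v i) (v i) : ℤ) : ZMod δ)
      have hbd : b d (v i) = univ.gcd d * b (v 0) (v i) := by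
        conv_lhs => rw [hv, map_smul, LinearMap.smul_apply, smul_eq_mul]
      rw [← hk i, zsmul_eq_mul, ← Int.cast_mul, hbd, hbv, hbv]
      congr 1
      refine Fin.cases ?_ (fun j => ?_) i
      · simp [cvals, M]; ring
      · have hg := Int.gcd_eq_gcd_ab (g - 1) D
        simp only [cvals, Fin.cons_succ, M, Matrix.of_apply, if_neg (Ne.symm (Fin.succ_ne_zero j)), if_pos,
          if_neg (Fin.succ_ne_zero j), p, q]
        linear_combination (k j.succ) * hg
    exact AddMonoidHom.ext fun x => LinearMap.congr_fun hφψ x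

/-- Homs out of a free module are tuples of values. -/
noncomputable def homEquivPi {M : Type*} [AddCommGroup M] {ι : Type*} [Fintype ι] (v : Module.Basis ι ℤ M)
    (A : Type*) [AddCommGroup A] : (M →+ A) ≃+ (ι → A) :=
  (addMonoidHomLequivInt ℤ).toAddEquiv.trans (v.constr ℤ).symm.toAddEquiv

theorem homEquivPi_apply {M : Type*} [AddCommGroup M] {ι : Type*} [Fintype ι] (v : Module.Basis ι ℤ M)
    {A : Type*} [AddCommGroup A] (φ : M →+ A) (i : ι) : homEquivPi v A φ i = φ (v i) := rfl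

theorem mem_zmultiples_iff_castHom_eq_zero (c : ℤ) (a : ZMod δ) :
    a ∈ AddSubgroup.zmultiples ((c : ℤ) : ZMod δ) ↔
      ZMod.castHom (Int.gcd_dvd_left δ c |> Int.natCast_dvd_natCast.mp) (ZMod (Int.gcd δ c)) a = 0 := by
  obtain ⟨x, rfl⟩ := ZMod.intCast_surjective a
  rw [map_intCast, ZMod.intCast_zmod_eq_zero_iff_dvd, AddSubgroup.mem_zmultiples_iff]
  constructor
  · rintro ⟨k, hk⟩
    rw [zsmul_eq_mul, ← Int.cast_mul, ← sub_eq_zero, ← Int.cast_sub, ZMod.intCast_zmod_eq_zero_iff_dvd] at hk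
    have h1 := (Int.gcd_dvd_left (δ : ℤ) c).trans hk
    have h2 : ((Int.gcd δ c : ℕ) : ℤ) ∣ k * c := dvd_mul_of_dvd_right (Int.gcd_dvd_right _ _) k
    simpa using dvd_sub h2 h1
  · rintro ⟨m, rfl⟩
    refine ⟨Int.gcdB δ c * m, ?_⟩
    rw [zsmul_eq_mul, ← Int.cast_mul, ← sub_eq_zero, ← Int.cast_sub, ZMod.intCast_zmod_eq_zero_iff_dvd]
    refine ⟨-(Int.gcdA δ c * m), ?_⟩
    rw [Int.gcd_eq_gcd_ab]; ring

theorem quotient_equiv (hδ : (δ : ℤ) ∣ 2 * (g - 1)) :
    Nonempty ((((Fin (s + 1) → ℤ) →+ ZMod δ) ⧸ AddSubgroup.closure (formSet δ g d)) ≃+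
      (ZMod (Int.gcd δ (univ.gcd d + 1 - g)) × (Fin s → ZMod (Int.gcd δ (Int.gcd (g - 1) (univ.gcd d)))))) := by
  obtain ⟨v, hv⟩ := exists_basis_gcd_smul d
  let c0 : ZMod δ →+* ZMod (Int.gcd δ (univ.gcd d + 1 - g)) :=
    ZMod.castHom (Int.gcd_dvd_left δ (univ.gcd d + 1 - g) |> Int.natCast_dvd_natCast.mp) _
  let c1 : ZMod δ →+* ZMod (Int.gcd δ (Int.gcd (g - 1) (univ.gcd d))) :=
    ZMod.castHom (Int.gcd_dvd_left δ (Int.gcd (g - 1) (univ.gcd d) : ℤ) |> Int.natCast_dvd_natCast.mp) _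
  let T : ((Fin (s + 1) → ℤ) →+ ZMod δ) →+
      ZMod (Int.gcd δ (univ.gcd d + 1 - g)) × (Fin s → ZMod (Int.gcd δ (Int.gcd (g - 1) (univ.gcd d)))) :=
    AddMonoidHom.mk' (fun φ => (c0 (φ (v 0)), fun j => c1 (φ (v j.succ)))) (fun φ ψ =>
      Prod.ext (by simp) (funext fun j => by simp))
  have hker : AddSubgroup.closure (formSet δ g d) = T.ker := by
    ext φ
    rw [closure_formSet δ g d hδ v hv, AddMonoidHom.mem_ker, Fin.forall_fin_succ]
    simp only [cvals, Fin.cons_zero, Fin.cons_succ, mem_zmultiples_iff_castHom_eq_zero]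
    exact ⟨fun h => Prod.ext h.1 (funext h.2), fun h => ⟨congrArg Prod.fst h, congrFun (congrArg Prod.snd h)⟩⟩
  have hT : Function.Surjective T := by
    rintro ⟨a, b⟩
    obtain ⟨a', ha⟩ := ZMod.castHom_surjective (Int.gcd_dvd_left δ (univ.gcd d + 1 - g) |> Int.natCast_dvd_natCast.mp) a
    choose b' hb using fun j => ZMod.castHom_surjective (Int.gcd_dvd_left δ (Int.gcd (g - 1) (univ.gcd d) : ℤ) |> Int.natCast_dvd_natCast.mp) (b j)
    refine ⟨(homEquivPi v (ZMod δ)).symm (Fin.cons a' b'), ?_⟩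
    have h1 : ∀ i, (homEquivPi v (ZMod δ)).symm (Fin.cons a' b') (v i) = Fin.cons (α := fun _ => ZMod δ) a' b' i := fun i => by
      rw [← homEquivPi_apply, AddEquiv.apply_symm_apply]
    exact Prod.ext (by simpa [T, c0, h1] using ha) (funext fun j => by simpa [T, c1, h1] using hb j)
  exact ⟨(QuotientAddGroup.quotientAddEquivOfEq hker).trans (QuotientAddGroup.quotientKerEquivOfSurjective T hT)⟩

/-- `ℤ/(δ/gcd(δ,c))` onto the multiples of `c` in `ℤ/δ`. -/
theorem nonempty_zmultiples_equiv (hδ0 : 0 < δ) (c : ℤ) :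
    Nonempty (AddSubgroup.zmultiples ((c : ℤ) : ZMod δ) ≃+ ZMod (δ / Int.gcd δ c)) := by
  have h : addOrderOf ((c : ℤ) : ZMod δ) = δ / Int.gcd δ c := by
    haveI : NeZero δ := ⟨hδ0.ne'⟩
    have hn : ((c : ℤ) : ZMod δ) = (((c % δ).toNat : ℕ) : ZMod δ) := by
      rw [← Int.cast_natCast, Int.toNat_of_nonneg (Int.emod_nonneg _ (by omega)), ZMod.intCast_mod]
    rw [hn, ZMod.addOrderOf_coe _ hδ0.ne']
    congr 1
    rw [← Int.gcd_natCast_natCast, Int.toNat_of_nonneg (Int.emod_nonneg _ (by omega)), Int.gcd_comm δ c,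
      Int.gcd_comm, Int.gcd_emod]
  rw [← h, ← Nat.card_zmultiples]
  exact ⟨(zmodAddCyclicAddEquiv inferInstance).symm⟩

theorem closure_equiv (hδ0 : 0 < δ) (hδ : (δ : ℤ) ∣ 2 * (g - 1)) :
    Nonempty (AddSubgroup.closure (formSet δ g d) ≃+
      (ZMod (δ / Int.gcd δ (univ.gcd d + 1 - g)) × (Fin s → ZMod (δ / Int.gcd δ (Int.gcd (g - 1) (univ.gcd d)))))) := by
  obtain ⟨v, hv⟩ := exists_basis_gcd_smul d
  obtain ⟨e0⟩ := nonempty_zmultiples_equiv δ hδ0 (univ.gcd d + 1 - g)
  obtain ⟨e1⟩ := nonempty_zmultiples_equiv δ hδ0 (Int.gcd (g - 1) (univ.gcd d) : ℤ)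
  let E := homEquivPi v (ZMod δ)
  let P : AddSubgroup.closure (formSet δ g d) ≃+ (AddSubgroup.zmultiples (((univ.gcd d + 1 - g : ℤ)) : ZMod δ) ×
      (Fin s → AddSubgroup.zmultiples (((Int.gcd (g - 1) (univ.gcd d) : ℤ)) : ZMod δ))) :=
    { toFun := fun φ => (⟨E φ.1 0, (closure_formSet δ g d hδ v hv φ.1).mp φ.2 0⟩,
        fun j => ⟨E φ.1 j.succ, by
          have := (closure_formSet δ g d hδ v hv φ.1).mp φ.2 j.succ
          simp only [cvals, Fin.cons_succ] at this
          exact this⟩)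
      invFun := fun w => ⟨E.symm (Fin.cons w.1.1 fun j => (w.2 j).1), (closure_formSet δ g d hδ v hv _).mpr (fun i => by
        rw [← homEquivPi_apply, AddEquiv.apply_symm_apply]
        refine Fin.cases ?_ (fun j => ?_) i
        · simpa [cvals] using w.1.2
        · simp only [cvals, Fin.cons_succ]; exact (w.2 j).2)⟩
      left_inv := fun φ => Subtype.ext (E.injective (by
        rw [AddEquiv.apply_symm_apply]
        exact Fin.cons_self_tail (E φ.1)))
      right_inv := fun w => Prod.ext (Subtype.ext (by simp [E]))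
        (funext fun j => Subtype.ext (by simp [E]))
      map_add' := fun x y => Prod.ext (Subtype.ext (by simp [E, homEquivPi_apply]))
        (funext fun j => Subtype.ext (by simp [E, homEquivPi_apply])) }
  exact ⟨P.trans (AddEquiv.prodCongr e0 (AddEquiv.piCongrRight fun _ => e1))⟩

end Groth.Agent.H3CAlg
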