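import Mathlib.FieldTheory.IsAlgClosed.Classification
import Mathlib.RingTheory.AlgebraicIndependent.TranscendenceBasis
import Mathlib.SetTheory.Cardinal.Arithmetic
import Mathlib.RingTheory.Localization.Integral

/-! Isomorphisms of algebraically closed fields over a finitely generated subdomain. -/

set_option autoImplicit false
universe u

open Cardinal

namespace Groth.Agent.H3CAlg

theorem trdeg_eq_of_infinite {τ a n : Cardinal.{u}} (hn : n < ℵ₀) (hτ : ℵ₀ ≤ τ) (h : n + a = τ) : a = τ := by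
  have ha : ℵ₀ ≤ a := by
    by_contra hh
    exact absurd (h ▸ Cardinal.add_lt_aleph0 hn (not_le.1 hh)) (not_lt.2 hτ)
  rw [← h, Cardinal.add_eq_right ha (hn.le.trans ha)]

theorem exists_equiv_of_trdeg (k₀ R₀ Ω k : Type u) [Field k₀] [CommRing R₀] [IsDomain R₀] [Algebra k₀ R₀]
    [Algebra.FiniteType k₀ R₀] [Field Ω] [IsAlgClosed Ω] [Field k] [IsAlgClosed k]
    [Algebra R₀ Ω] [Algebra R₀ k] [Algebra k₀ Ω] [Algebra k₀ k] [IsScalarTower k₀ R₀ Ω]
    [IsScalarTower k₀ R₀ k] [FaithfulSMul R₀ Ω] [FaithfulSMul R₀ k]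
    (h : Algebra.trdeg k₀ Ω = Algebra.trdeg k₀ k) (hinf : ℵ₀ ≤ Algebra.trdeg k₀ k) :
    ∃ e : Ω ≃+* k, ∀ r, e (algebraMap R₀ Ω r) = algebraMap R₀ k r := by
  haveI : FaithfulSMul k₀ R₀ := (faithfulSMul_iff_algebraMap_injective _ _).2 (algebraMap k₀ R₀).injective
  have hn : Algebra.trdeg k₀ R₀ < ℵ₀ := trdeg_lt_aleph0_of_finiteType
  have h1 := trdeg_add_eq k₀ R₀ (A := Ω)
  have h2 := trdeg_add_eq k₀ R₀ (A := k)
  have e1 := trdeg_eq_of_infinite hn (h ▸ hinf) h1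
  have e2 := trdeg_eq_of_infinite hn hinf h2
  obtain ⟨s, hs⟩ := exists_isTranscendenceBasis R₀ Ω
  obtain ⟨t, ht⟩ := exists_isTranscendenceBasis R₀ k
  obtain ⟨eqv⟩ : Nonempty (s ≃ t) := Cardinal.eq.1 (by
    rw [hs.cardinalMk_eq_trdeg, ht.cardinalMk_eq_trdeg, e1, e2, h])
  haveI := IsAlgClosed.isAlgClosure_of_transcendence_basis _ hs
  haveI := IsAlgClosed.isAlgClosure_of_transcendence_basis _ ht
  let E : Algebra.adjoin R₀ (Set.range ((↑) : s → Ω)) ≃ₐ[R₀] Algebra.adjoin R₀ (Set.range ((↑) : t → k)) :=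
    hs.1.aevalEquiv.symm.trans ((MvPolynomial.renameEquiv R₀ eqv).trans ht.1.aevalEquiv)
  refine ⟨IsAlgClosure.equivOfEquiv Ω k E.toRingEquiv, fun r => ?_⟩
  rw [IsScalarTower.algebraMap_apply R₀ (Algebra.adjoin R₀ (Set.range ((↑) : s → Ω))) Ω,
    IsAlgClosure.equivOfEquiv_algebraMap]
  show algebraMap _ k (E (algebraMap R₀ _ r)) = _
  rw [E.commutes, ← IsScalarTower.algebraMap_apply]

end Groth.Agent.H3CAlg

namespace Groth.Agent.H3CAlg

theorem exists_equiv_point (k₀ k R₀ Rk Ω : Type u) [Field k₀] [Field k] [IsAlgClosed k] [Algebra k₀ k]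
    [CommRing R₀] [Algebra k₀ R₀] [Algebra.FiniteType k₀ R₀] [CommRing Rk] [IsDomain Rk] [Algebra k₀ Rk]
    [Algebra k Rk] [IsScalarTower k₀ k Rk] [Algebra.FiniteType k Rk] [Field Ω] [IsAlgClosed Ω]
    [Algebra Rk Ω] [FaithfulSMul Rk Ω] [Algebra.IsAlgebraic Rk Ω]
    (i : R₀ →ₐ[k₀] Rk) (hi : Function.Injective i) (ev : Rk →ₐ[k] k)
    (hev : Function.Injective fun r => ev (i r)) (hinf : ℵ₀ ≤ Algebra.trdeg k₀ k) :
    ∃ e : Ω ≃+* k, ∀ r, e (algebraMap Rk Ω (i r)) = ev (i r) := by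
  haveI : IsDomain R₀ := hi.isDomain i.toRingHom
  letI : Algebra k Ω := ((algebraMap Rk Ω).comp (algebraMap k Rk)).toAlgebra
  letI : Algebra k₀ Ω := ((algebraMap Rk Ω).comp (algebraMap k₀ Rk)).toAlgebra
  haveI : IsScalarTower k Rk Ω := IsScalarTower.of_algebraMap_eq fun _ => rfl
  haveI : IsScalarTower k₀ Rk Ω := IsScalarTower.of_algebraMap_eq fun _ => rfl
  haveI : IsScalarTower k₀ k Ω := IsScalarTower.of_algebraMap_eq fun c => by
    show algebraMap Rk Ω (algebraMap k₀ Rk c) = algebraMap Rk Ω (algebraMap k Rk (algebraMap k₀ k c))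
    rw [IsScalarTower.algebraMap_apply k₀ k Rk c]
  letI : Algebra R₀ Ω := ((algebraMap Rk Ω).comp i.toRingHom).toAlgebra
  letI : Algebra R₀ k := (ev.toRingHom.comp i.toRingHom).toAlgebra
  haveI : IsScalarTower k₀ R₀ Ω := IsScalarTower.of_algebraMap_eq fun c => by
    show algebraMap Rk Ω (algebraMap k₀ Rk c) = algebraMap Rk Ω (i (algebraMap k₀ R₀ c))
    rw [i.commutes]
  haveI : IsScalarTower k₀ R₀ k := IsScalarTower.of_algebraMap_eq fun c => by
    show algebraMap k₀ k c = ev (i (algebraMap k₀ R₀ c))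
    rw [i.commutes, IsScalarTower.algebraMap_apply k₀ k Rk, ev.commutes, Algebra.algebraMap_self_apply]
  haveI : FaithfulSMul R₀ Ω := (faithfulSMul_iff_algebraMap_injective _ _).2
    ((FaithfulSMul.algebraMap_injective Rk Ω).comp hi)
  haveI : FaithfulSMul R₀ k := (faithfulSMul_iff_algebraMap_injective _ _).2 hev
  haveI : FaithfulSMul k Rk := (faithfulSMul_iff_algebraMap_injective _ _).2 (algebraMap k Rk).injective
  have hfin : Algebra.trdeg k Ω < ℵ₀ := by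
    rw [← trdeg_add_eq k Rk (A := Ω), trdeg_eq_zero (R := Rk) (A := Ω), add_zero]
    exact trdeg_lt_aleph0_of_finiteType
  have heq : Algebra.trdeg k₀ Ω = Algebra.trdeg k₀ k := by
    rw [← trdeg_add_eq k₀ k (A := Ω), Cardinal.add_eq_left hinf (hfin.le.trans hinf)]
  exact exists_equiv_of_trdeg k₀ R₀ Ω k heq hinf

end Groth.Agent.H3CAlg
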