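import Mathlib.RingTheory.Smooth.StandardSmoothOfFree
import Mathlib.RingTheory.Smooth.Basic
import Mathlib.RingTheory.Etale.Kaehler
import Mathlib.RingTheory.Etale.Basic
import Mathlib.RingTheory.RingHom.Etale
import Mathlib.RingTheory.Smooth.Locus
import Mathlib.RingTheory.LocalRing.Module

/-!
Slicing a smooth algebra by elements whose differentials form a basis gives an étale algebra.
-/

universe u v w

open KaehlerDifferential TensorProduct

namespace Groth.Agent.H3CAlg.EtaleSlice

theorem etale_quotient {C : Type v} {B : Type w} [CommRing C] [CommRing B] [Algebra C B] [Algebra.Smooth C B]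
    {κ : Type*} [Finite κ] (g : κ → B) (b : Module.Basis κ B (Ω[B⁄C])) (hb : ∀ i, b i = D C B (g i)) :
    Algebra.Etale C (B ⧸ Ideal.span (Set.range g)) := by
  classical
  set I := Ideal.span (Set.range g) with hI
  have hsur : Function.Surjective (algebraMap B (B ⧸ I)) := Ideal.Quotient.mk_surjective
  haveI : Algebra.FinitePresentation C B := Algebra.Smooth.finitePresentation
  haveI hfp : Algebra.FinitePresentation C (B ⧸ I) :=
    Algebra.FinitePresentation.quotient (Submodule.fg_span (Set.finite_range g))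
  haveI : Algebra.FormallyUnramified C (B ⧸ I) := by
    rw [Algebra.formallyUnramified_iff]
    refine subsingleton_of_forall_eq 0 fun ω => ?_
    obtain ⟨x, rfl⟩ := KaehlerDifferential.map_surjective_of_surjective C C B (B ⧸ I) hsur ω
    rw [← b.linearCombination_repr x, Finsupp.linearCombination_apply, Finsupp.sum, map_sum]
    refine Finset.sum_eq_zero fun i _ => ?_
    rw [map_smul, hb, map_D, show algebraMap B (B ⧸ I) (g i) = 0 from
      Ideal.Quotient.eq_zero_iff_mem.mpr (Ideal.subset_span ⟨i, rfl⟩), map_zero, smul_zero]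
  have hmem : ∀ i, g i ∈ RingHom.ker (algebraMap B (B ⧸ I)) := fun i =>
    Ideal.Quotient.eq_zero_iff_mem.mpr (Ideal.subset_span ⟨i, rfl⟩)
  let bS : Module.Basis κ (B ⧸ I) ((B ⧸ I) ⊗[B] Ω[B⁄C]) := b.baseChange (B ⧸ I)
  let J := (RingHom.ker (algebraMap B (B ⧸ I)))
  let l₀ : Ω[B⁄C] →ₗ[B] J.Cotangent := b.constr B fun i => J.toCotangent ⟨g i, hmem i⟩
  have hzero : ∀ (c : B), c ∈ I → ∀ z : J.Cotangent, c • z = 0 := by
    intro c hc z
    obtain ⟨y, rfl⟩ := J.toCotangent_surjective z
    rw [← map_smul, Ideal.toCotangent_eq_zero, pow_two]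
    exact Ideal.mul_mem_mul (Ideal.Quotient.eq_zero_iff_mem.mpr hc) y.2
  have hker : Submodule.span B (Set.range fun i => J.toCotangent ⟨g i, hmem i⟩) = ⊤ := by
    rw [eq_top_iff]
    intro z _
    obtain ⟨⟨y, hy⟩, rfl⟩ := J.toCotangent_surjective z
    obtain ⟨c, hc⟩ : ∃ c : κ →₀ B, c.sum (fun i a => a • g i) = y :=
      Finsupp.mem_span_range_iff_exists_finsupp.mp (Ideal.Quotient.eq_zero_iff_mem.mp hy)
    have : (⟨y, hy⟩ : J) = c.sum fun i a => a • (⟨g i, hmem i⟩ : J) := by
      apply Subtype.ext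
      rw [Finsupp.sum, Submodule.coe_sum]
      exact hc.symm
    rw [this, map_finsuppSum]
    exact Submodule.sum_mem _ fun i _ => by simp only [map_smul]; exact Submodule.smul_mem _ _ (Submodule.subset_span ⟨i, rfl⟩)
  let lB : (B ⧸ I) →ₗ[B] Ω[B⁄C] →ₗ[B] J.Cotangent :=
    (Submodule.liftQ (I : Submodule B B) (LinearMap.toSpanSingleton B (Ω[B⁄C] →ₗ[B] J.Cotangent) l₀) fun c hc => by
      rw [LinearMap.mem_ker, LinearMap.toSpanSingleton_apply]
      exact LinearMap.ext fun x => hzero c hc _)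
  let l : (B ⧸ I) ⊗[B] Ω[B⁄C] →ₗ[B] J.Cotangent := TensorProduct.lift lB
  haveI : Algebra.FormallySmooth C (B ⧸ I) := by
    refine (Algebra.FormallySmooth.iff_split_injection hsur).mpr ⟨l, LinearMap.ext_on hker ?_⟩
    rintro _ ⟨i, rfl⟩
    rw [LinearMap.comp_apply, kerCotangentToTensor_toCotangent, LinearMap.id_apply]
    change lB (Ideal.Quotient.mk I 1) (D C B (g i)) = _
    change ((1 : B) • l₀) (D C B (g i)) = _
    rw [one_smul, ← hb]
    exact b.constr_basis B _ i
  haveI : Algebra.FormallyEtale C (B ⧸ I) := .of_formallyUnramified_and_formallySmooth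
  exact ⟨inferInstance, hfp⟩

theorem exists_slice {C : Type v} {B : Type w} [CommRing C] [CommRing B] [Algebra C B] [Algebra.Smooth C B]
    (J : Ideal B) (hsurj : ∀ y : B, ∃ c : C, y - algebraMap C B c ∈ J) (p : Ideal B) [p.IsPrime] :
    ∃ f : B, f ∉ p ∧ ∃ J₀ : Ideal (Localization.Away f), J₀ ≤ J.map (algebraMap B (Localization.Away f)) ∧
      Algebra.Etale C (Localization.Away f ⧸ J₀) := by
  classical
  have hspan : Submodule.span B (Set.range fun j : J => D C B (j : B)) = ⊤ := by
    rw [eq_top_iff, ← KaehlerDifferential.span_range_derivation, Submodule.span_le]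
    rintro _ ⟨y, rfl⟩
    obtain ⟨c, hc⟩ := hsurj y
    refine Submodule.subset_span ⟨⟨_, hc⟩, ?_⟩
    simp
  let L := Localization.AtPrime p
  let l₂ : Ω[B⁄C] →ₗ[B] Ω[L⁄C] := map C C B L
  have hspanL : Submodule.span L (Set.range fun j : J => l₂ (D C B (j : B))) = ⊤ := by
    have h := span_eq_top_of_isLocalizedModule L p.primeCompl l₂ hspan
    rw [← Set.range_comp] at h
    exact h
  obtain ⟨κ, a, b, hb⟩ := Module.exists_basis_of_span_of_flat _ hspanL
  let e : (κ →₀ B) →ₗ[B] Ω[B⁄C] := Finsupp.linearCombination B fun i : κ ↦ D C B (a i : B)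
  let l₁ : (κ →₀ B) →ₗ[B] (κ →₀ L) := Finsupp.mapRange.linearMap (Algebra.linearMap B L)
  let eₚ : (κ →₀ L) →ₗ[L] Ω[L⁄C] := IsLocalizedModule.mapExtendScalars p.primeCompl l₁ l₂ L e
  have : eₚ = b.repr.symm := by
    ext i
    trans IsLocalizedModule.map p.primeCompl l₁ l₂ e <| l₁ <| Finsupp.single i 1
    · simp [eₚ, -IsLocalizedModule.map_apply, l₁]
    · simp [l₂, e, hb]
  have heₚ : Function.Bijective eₚ := this ▸ b.repr.symm.bijective
  have : Finite κ := Module.Finite.finite_basis b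
  obtain ⟨f, hf, h⟩ := Module.FinitePresentation.exists_notMem_bijective e p l₁ l₂ heₚ
  let l₁ₜ : (κ →₀ B) →ₗ[B] (κ →₀ Localization.Away f) := Finsupp.mapRange.linearMap (Algebra.linearMap B _)
  let l₂ₜ : Ω[B⁄C] →ₗ[B] Ω[Localization.Away f⁄C] := map C C B (Localization.Away f)
  rw [← IsLocalizedModule.map_bijective_iff_localizedModuleMap_bijective l₁ₜ l₂ₜ] at h
  let eₜ : (κ →₀ Localization.Away f) →ₗ[Localization.Away f] Ω[Localization.Away f⁄C] :=
    IsLocalizedModule.mapExtendScalars (Submonoid.powers f) l₁ₜ l₂ₜ (Localization.Away f) e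
  let g : κ → Localization.Away f := fun i => algebraMap B _ (a i : B)
  let bf : Module.Basis κ (Localization.Away f) (Ω[Localization.Away f⁄C]) := .ofRepr (LinearEquiv.ofBijective eₜ h).symm
  have hbf : ∀ i, bf i = D C (Localization.Away f) (g i) := by
    intro i
    change eₜ (Finsupp.single i 1) = _
    trans IsLocalizedModule.map (Submonoid.powers f) l₁ₜ l₂ₜ e <| l₁ₜ <| Finsupp.single i 1
    · simp [eₜ, -IsLocalizedModule.map_apply, l₁ₜ]
    · simp [l₂ₜ, e, g]
  refine ⟨f, hf, Ideal.span (Set.range g), Ideal.span_le.mpr ?_, ?_⟩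
  · rintro _ ⟨i, rfl⟩
    exact Ideal.mem_map_of_mem _ (a i).2
  · haveI : Algebra.Smooth B (Localization.Away f) := Algebra.Smooth.of_isLocalization_Away f
    haveI : Algebra.Smooth C (Localization.Away f) := Algebra.Smooth.comp C B (Localization.Away f)
    exact etale_quotient g bf hbf

end Groth.Agent.H3CAlg.EtaleSlice
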