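import Mathlib

universe u

open CategoryTheory CategoryTheory.Abelian

namespace Groth.Agent.H3CAlg.ExtBranches

open scoped ModuleCat in
theorem hom_smul_apply {k : Type u} [Field k] {A : Type u} [CommRing A] [Algebra k A]
    {M N : ModuleCat.{u} A} (c : k) (f : M ⟶ N) (m : M) :
    (c • f).hom m = algebraMap k A c • f.hom m :=
  algebra_compatible_smul A c (f.hom m)

theorem extClass_comp_mk₀_smul_id {k : Type u} [Field k] {A : Type u} [CommRing A] [Algebra k A]
    {M N : ModuleCat.{u} A} (ξ : Ext M N 1) (c : k) :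
    ξ.comp (Ext.mk₀ (algebraMap k A c • 𝟙 N)) (add_zero 1) = c • ξ := by
  have h : algebraMap k A c • 𝟙 N = c • 𝟙 N := by
    ext m
    exact (hom_smul_apply c (𝟙 N) m).symm
  rw [h, Ext.mk₀_smul, Ext.comp_smul, Ext.comp_mk₀_id]

/-- If `x, y` generate the augmentation ideal and the annihilator of `y` is `(x)`, then
`Ext¹(A/(y), A/(x))` is a line. -/
theorem finrank_ext_one_eq_one (k : Type u) [Field k] (A : Type u) [CommRing A] [Algebra k A]
    (x y : A) (hxy : x * y = 0) (hann : ∀ a : A, a * y = 0 → a ∈ Ideal.span {x})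
    (hdec : ∀ a : A, ∃ (c : k) (p q : A), a = algebraMap k A c + x * p + y * q)
    (hunit : ∀ q : A, 1 - q * y ∉ Ideal.span {x}) :
    Module.finrank k (Ext (ModuleCat.of A (A ⧸ Ideal.span {y}))
      (ModuleCat.of A (A ⧸ Ideal.span {x})) 1) = 1 := by
  let ι : (A ⧸ Ideal.span {x}) →ₗ[A] A :=
    Submodule.liftQ (Ideal.span {x}) (LinearMap.toSpanSingleton A A y) (by
      intro a ha
      obtain ⟨b, rfl⟩ := Ideal.mem_span_singleton'.mp ha
      rw [LinearMap.mem_ker, LinearMap.toSpanSingleton_apply, smul_eq_mul, mul_assoc, hxy, mul_zero])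
  let π : A →ₗ[A] (A ⧸ Ideal.span {y}) := Submodule.mkQ (Ideal.span {y})
  have hι : ∀ a : A, ι (Submodule.Quotient.mk a) = a * y := fun a => rfl
  let S : ShortComplex (ModuleCat.{u} A) := ShortComplex.mk (ModuleCat.ofHom ι) (ModuleCat.ofHom π)
    (by
      refine ModuleCat.hom_ext (LinearMap.ext fun a => ?_)
      obtain ⟨a, rfl⟩ := Submodule.Quotient.mk_surjective _ a
      exact (Submodule.Quotient.mk_eq_zero _).mpr (Ideal.mem_span_singleton'.mpr ⟨a, rfl⟩))
  have hS : S.ShortExact :=
    { exact := by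
        rw [ShortComplex.moduleCat_exact_iff]
        intro b hb
        obtain ⟨a, ha⟩ := Ideal.mem_span_singleton'.mp ((Submodule.Quotient.mk_eq_zero _).mp hb)
        exact ⟨Submodule.Quotient.mk a, (hι a).trans ha⟩
      mono_f := (ModuleCat.mono_iff_injective _).mpr (by
        rw [← LinearMap.ker_eq_bot]
        rw [Submodule.eq_bot_iff]
        intro a ha
        obtain ⟨a, rfl⟩ := Submodule.Quotient.mk_surjective _ a
        exact (Submodule.Quotient.mk_eq_zero _).mpr (hann a ((hι a).symm.trans ha)))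
      epi_g := (ModuleCat.epi_iff_surjective _).mpr (Submodule.mkQ_surjective _) }
  have : Projective S.X₂ := ModuleCat.projective_of_free (M := S.X₂) (Module.Basis.singleton Unit A)
  refine finrank_eq_one hS.extClass ?_ ?_
  · intro h0
    obtain ⟨x₂, hx₂⟩ := Ext.contravariant_sequence_exact₁ hS (ModuleCat.of A (A ⧸ Ideal.span {x}))
      (Ext.mk₀ (𝟙 _)) (add_zero 1) (by rw [Ext.comp_mk₀_id]; exact h0)
    obtain ⟨g, rfl⟩ := (Ext.mk₀_bijective _ _).2 x₂
    rw [Ext.mk₀_comp_mk₀] at hx₂
    replace hx₂ := (Ext.mk₀_bijective _ _).1 hx₂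
    have h1 : g (y : A) = Submodule.Quotient.mk (1 : A) := by
      have h := LinearMap.congr_fun (congrArg ModuleCat.Hom.hom hx₂) (Submodule.Quotient.mk (1 : A))
      change g (ι (Submodule.Quotient.mk 1)) = Submodule.Quotient.mk 1 at h
      rwa [hι, one_mul] at h
    obtain ⟨q, hq⟩ := Submodule.Quotient.mk_surjective _ (g (1 : A))
    have h2 : g (y : A) = y • g (1 : A) := by
      rw [← map_smul]; congr 1; exact (mul_one y).symm
    rw [h2, ← hq, ← Submodule.Quotient.mk_smul, eq_comm, Submodule.Quotient.eq, smul_eq_mul,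
      mul_comm] at h1
    exact hunit q h1
  · intro ξ
    obtain ⟨x₁, hx₁⟩ := Ext.contravariant_sequence_exact₃ hS (ModuleCat.of A (A ⧸ Ideal.span {x})) ξ
      (Ext.eq_zero_of_projective _) (add_zero 1)
    obtain ⟨f, rfl⟩ := (Ext.mk₀_bijective _ _).2 x₁
    obtain ⟨a, ha⟩ := Submodule.Quotient.mk_surjective _ (f (Submodule.Quotient.mk (1 : A)))
    obtain ⟨c, p, q, rfl⟩ := hdec a
    let g : S.X₂ ⟶ ModuleCat.of A (A ⧸ Ideal.span {x}) :=
      ModuleCat.ofHom (LinearMap.toSpanSingleton A (A ⧸ Ideal.span {x}) (Submodule.Quotient.mk q))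
    have hf : f = algebraMap k A c • 𝟙 S.X₁ + S.f ≫ g := by
      refine ModuleCat.hom_ext (LinearMap.ext fun b => ?_)
      obtain ⟨b, rfl⟩ := Submodule.Quotient.mk_surjective _ b
      have hb : f (Submodule.Quotient.mk b) = b • f (Submodule.Quotient.mk (1 : A)) := by
        rw [← map_smul]
        congr 1
        rw [← Submodule.Quotient.mk_smul, smul_eq_mul, mul_one]
      rw [ModuleCat.hom_add, LinearMap.add_apply]
      have e1 : (ModuleCat.Hom.hom (algebraMap k A c • 𝟙 S.X₁)) (Submodule.Quotient.mk b) =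
        algebraMap k A c • (Submodule.Quotient.mk b : A ⧸ Ideal.span {x}) := rfl
      have e2 : (ModuleCat.Hom.hom (S.f ≫ g)) (Submodule.Quotient.mk b) =
        (b * y) • (Submodule.Quotient.mk q : A ⧸ Ideal.span {x}) := rfl
      rw [e1, e2]
      change f (Submodule.Quotient.mk b) =
        algebraMap k A c • (Submodule.Quotient.mk b : A ⧸ Ideal.span {x}) +
          (b * y) • (Submodule.Quotient.mk q : A ⧸ Ideal.span {x})
      rw [hb, ← ha, ← Submodule.Quotient.mk_smul, ← Submodule.Quotient.mk_smul,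
        ← Submodule.Quotient.mk_smul, ← Submodule.Quotient.mk_add, Submodule.Quotient.eq]
      refine Ideal.mem_span_singleton'.mpr ⟨b * p, ?_⟩
      simp only [smul_eq_mul]
      ring
    refine ⟨c, ?_⟩
    rw [← hx₁, hf, Ext.mk₀_add, Ext.comp_add, ← Ext.mk₀_comp_mk₀, hS.extClass_comp_assoc, add_zero]
    exact (extClass_comp_mk₀_smul_id hS.extClass c).symm

/-- The decomposition `F = F(0) + X₀ p + X₁ q` of a power series in two variables. -/
theorem mvPowerSeries_decomp {k : Type u} [Field k] (F : MvPowerSeries (Fin 2) k) :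
    ∃ p q, F = MvPowerSeries.C (MvPowerSeries.constantCoeff F) + MvPowerSeries.X 0 * p +
      MvPowerSeries.X 1 * q := by
  classical
  let q : MvPowerSeries (Fin 2) k := fun m =>
    if m 0 = 0 then MvPowerSeries.coeff (m + Finsupp.single 1 1) F else 0
  obtain ⟨p, hp⟩ : MvPowerSeries.X 0 ∣
      F - MvPowerSeries.C (MvPowerSeries.constantCoeff F) - MvPowerSeries.X 1 * q := by
    rw [MvPowerSeries.X_dvd_iff]
    intro m hm
    rw [map_sub, map_sub, MvPowerSeries.coeff_C, MvPowerSeries.X_def, MvPowerSeries.coeff_monomial_mul,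
      one_mul]
    by_cases h : m = 0
    · subst h
      simp
    · rw [if_neg h]
      have h1 : Finsupp.single (1 : Fin 2) 1 ≤ m := by
        intro i
        rw [Finsupp.single_apply]
        split_ifs with hi
        · subst hi
          rw [Nat.one_le_iff_ne_zero]
          intro h0
          exact h (Finsupp.ext fun i => by fin_cases i <;> assumption)
        · exact Nat.zero_le _
      have h2 : MvPowerSeries.coeff (m - Finsupp.single (1 : Fin 2) 1) q = MvPowerSeries.coeff m F := by
        change (if ((m - Finsupp.single (1 : Fin 2) 1 : Fin 2 →₀ ℕ)) 0 = 0 then _ else 0) = _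
        rw [if_pos (by simp [Finsupp.coe_tsub, hm]), tsub_add_cancel_of_le h1]
      rw [if_pos h1, h2, sub_zero, sub_self]
  exact ⟨p, q, by rw [← hp]; ring⟩

end Groth.Agent.H3CAlg.ExtBranches
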