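import Mathlib.Algebra.Category.ModuleCat.Localization
import Mathlib.Algebra.Homology.DerivedCategory.Ext.Map
import Mathlib.Algebra.Homology.DerivedCategory.Ext.ExactSequences
import Mathlib.Algebra.Homology.DerivedCategory.Ext.EnoughProjectives
import Mathlib.Algebra.Module.FinitePresentation
import Mathlib.Algebra.Category.ModuleCat.Projective
import Mathlib.Algebra.Category.ModuleCat.Ext.HasExt
import Mathlib.RingTheory.Localization.BaseChange
import Mathlib.Algebra.Homology.DerivedCategory.Ext.Linear
import Mathlib.RingTheory.Noetherian.Basic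

/-!
`Ext` of finitely generated modules over a Noetherian ring commutes with localisation.
-/

universe u w v v'

open CategoryTheory CategoryTheory.Abelian

namespace Groth.Agent.H3CAlg

variable {R : Type u} [CommRing R] (S : Submonoid R)

lemma localizedModuleMap_apply_mk {M N : ModuleCat.{u} R} (φ : M ⟶ N) (m : M) :
    (ModuleCat.localizedModuleMap S φ).hom (M.localizedModuleMkLinearMap S m) =
      N.localizedModuleMkLinearMap S (φ.hom m) := by
  simp only [ModuleCat.localizedModuleMap, ModuleCat.hom_ofHom]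
  erw [IsLocalizedModule.mapExtendScalars_apply_apply, IsLocalizedModule.map_apply]

/-- Maps between localised modules agree if they agree on the original module. -/
lemma localized_hom_ext {M N : ModuleCat.{u} R} {f g : M.localizedModule S ⟶ N.localizedModule S}
    (h : ∀ m, f.hom (M.localizedModuleMkLinearMap S m) = g.hom (M.localizedModuleMkLinearMap S m)) :
    f = g := by
  refine ModuleCat.hom_ext (LinearMap.ext fun z => ?_)
  obtain ⟨⟨m, s⟩, hz⟩ := IsLocalizedModule.surj S (M.localizedModuleMkLinearMap S) z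
  refine (IsLocalization.map_units (Localization S) s).smul_left_cancel.mp ?_
  have hz' : algebraMap R (Localization S) (s : R) • z = M.localizedModuleMkLinearMap S m := by
    rw [algebraMap_smul]; exact hz
  rw [← map_smul, ← map_smul, hz']
  exact h m

lemma localizedModuleMap_smul_id (r : R) (Y : ModuleCat.{u} R) :
    (ModuleCat.localizedModuleFunctor.{u} S).map (r • 𝟙 Y) =
      algebraMap R (Localization S) r • 𝟙 ((ModuleCat.localizedModuleFunctor.{u} S).obj Y) := by
  change ModuleCat.localizedModuleMap S (r • 𝟙 Y) = algebraMap R (Localization S) r • 𝟙 (Y.localizedModule S)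
  refine localized_hom_ext S fun m => ?_
  rw [localizedModuleMap_apply_mk]
  change Y.localizedModuleMkLinearMap S (r • m) = algebraMap R (Localization S) r • Y.localizedModuleMkLinearMap S m
  rw [map_smul, algebraMap_smul]

lemma exists_smul_eq_map {M N : ModuleCat.{u} R} [Module.FinitePresentation R M]
    (φ : (ModuleCat.localizedModuleFunctor.{u} S).obj M ⟶ (ModuleCat.localizedModuleFunctor.{u} S).obj N) :
    ∃ (h : M ⟶ N) (s : S),
      algebraMap R (Localization S) (s : R) • φ = (ModuleCat.localizedModuleFunctor.{u} S).map h := by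
  let φ' : M.localizedModule S ⟶ N.localizedModule S := φ
  let ψ : M →ₗ[R] N.localizedModule S :=
    { toFun := fun m => φ'.hom (M.localizedModuleMkLinearMap S m)
      map_add' := fun a b => by rw [map_add, map_add]
      map_smul' := fun r a => by
        rw [RingHom.id_apply, map_smul, ← algebraMap_smul (Localization S) r (M.localizedModuleMkLinearMap S a),
          map_smul, algebraMap_smul] }
  obtain ⟨h, s, hs⟩ := Module.FinitePresentation.exists_lift_of_isLocalizedModule S
    (N.localizedModuleMkLinearMap S) ψ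
  refine ⟨ModuleCat.ofHom h, s, ?_⟩
  change algebraMap R (Localization S) (s : R) • φ' = ModuleCat.localizedModuleMap S (ModuleCat.ofHom h)
  refine localized_hom_ext S fun m => ?_
  rw [localizedModuleMap_apply_mk]
  change algebraMap R (Localization S) (s : R) • φ'.hom (M.localizedModuleMkLinearMap S m) =
    N.localizedModuleMkLinearMap S (h m)
  rw [algebraMap_smul]
  exact (LinearMap.congr_fun hs m).symm

lemma exists_smul_eq_zero_of_map_eq_zero {M N : ModuleCat.{u} R} [Module.Finite R M] (f : M ⟶ N)
    (hf : (ModuleCat.localizedModuleFunctor.{u} S).map f = 0) : ∃ s : S, (s : R) • f = 0 := by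
  classical
  have hz : ∀ m : M, ∃ s : S, s • f.hom m = 0 := fun m => by
    refine (IsLocalizedModule.eq_zero_iff S (N.localizedModuleMkLinearMap S)).mp ?_
    rw [← localizedModuleMap_apply_mk, show ModuleCat.localizedModuleMap S f = 0 from hf]
    rfl
  choose t ht using hz
  obtain ⟨G, hG⟩ := (Module.Finite.fg_top : (⊤ : Submodule R M).FG)
  refine ⟨∏ g ∈ G, t g, ModuleCat.hom_ext (LinearMap.ext_on hG fun g hg => ?_)⟩
  change ((∏ x ∈ G, t x : S) : R) • f.hom g = 0
  rw [← Finset.prod_erase_mul G t hg, Submonoid.coe_mul, mul_smul]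
  erw [ht g, smul_zero]

lemma projective_localized_obj (F : ModuleCat.{u} R) [Module.Projective R F] :
    Projective ((ModuleCat.localizedModuleFunctor.{u} S).obj F) := by
  change Projective (F.localizedModule S)
  have hp : Module.Projective (Localization S) (F.localizedModule S) := Module.Projective.of_equiv
    ((isLocalizedModule_iff_isBaseChange S (Localization S) (F.localizedModuleMkLinearMap S)).mp
      inferInstance).equiv
  exact (IsProjective.iff_projective (F.localizedModule S)).mp hp

/-- Abstract dimension shifting step. -/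
lemma ext_step {C : Type*} [Category.{v} C] [Abelian C] [CategoryTheory.Linear R C] [HasExt.{w} C]
    {L : Type*} [CommRing L] (al : R →+* L)
    {D : Type*} [Category.{v'} D] [Abelian D] [CategoryTheory.Linear L D] [HasExt.{w} D]
    (G : C ⥤ D) [G.Additive] [Limits.PreservesFiniteLimits G] [Limits.PreservesFiniteColimits G]
    (hlin : ∀ (r : R) (Y : C), G.map (r • 𝟙 Y) = al r • 𝟙 (G.obj Y))
    {T : ShortComplex C} (hT : T.ShortExact) [Projective T.X₂] [Projective (G.obj T.X₂)] (N : C) (i : ℕ)
    (hs₁ : ∀ y : Ext (G.obj T.X₁) (G.obj N) i,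
      ∃ (e : Ext T.X₁ N i) (s : S), al (s : R) • y = G.mapExtAddHom T.X₁ N i e)
    (hi₁ : ∀ e : Ext T.X₁ N i, G.mapExtAddHom T.X₁ N i e = 0 → ∃ s : S, (s : R) • e = 0)
    (hs₂ : ∀ y : Ext (G.obj T.X₂) (G.obj N) i,
      ∃ (e : Ext T.X₂ N i) (s : S), al (s : R) • y = G.mapExtAddHom T.X₂ N i e) :
    (∀ y : Ext (G.obj T.X₃) (G.obj N) (i + 1),
      ∃ (e : Ext T.X₃ N (i + 1)) (s : S), al (s : R) • y = G.mapExtAddHom T.X₃ N (i + 1) e) ∧
    (∀ e : Ext T.X₃ N (i + 1), G.mapExtAddHom T.X₃ N (i + 1) e = 0 → ∃ s : S, (s : R) • e = 0) := by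
  have hT' := hT.map_of_exact G
  haveI : Projective (T.map G).X₂ := inferInstanceAs (Projective (G.obj T.X₂))
  have hsmul : ∀ (r : R) {X Y : C} {n : ℕ} (e : Ext X Y n),
      Ext.mapExactFunctor G (r • e) = al r • Ext.mapExactFunctor G e := by
    intro r X Y n e
    rw [Ext.smul_eq_comp_mk₀, Ext.mapExactFunctor_comp, Ext.mapExactFunctor_mk₀, hlin,
      ← Ext.smul_eq_comp_mk₀]
  simp only [Functor.mapExtAddHom_coe] at hs₁ hi₁ hs₂ ⊢
  constructor
  · intro y
    obtain ⟨z, hz⟩ := Ext.contravariant_sequence_exact₃ hT' _ (y : Ext (T.map G).X₃ (G.obj N) (i + 1))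
      (Ext.eq_zero_of_projective _) (add_comm 1 i)
    obtain ⟨e, s, hes⟩ := hs₁ z
    refine ⟨hT.extClass.comp e (add_comm 1 i), s, ?_⟩
    rw [Ext.mapExactFunctor_comp, Ext.mapExactFunctor_extClass, ← hz]
    exact (Ext.comp_smul hT'.extClass z (add_comm 1 i) (al (s : R))).symm.trans
      (congrArg (fun q => hT'.extClass.comp q (add_comm 1 i)) hes)
  · intro e he
    obtain ⟨e', rfl⟩ := Ext.contravariant_sequence_exact₃ hT _ e
      (Ext.eq_zero_of_projective _) (add_comm 1 i)
    rw [Ext.mapExactFunctor_comp, Ext.mapExactFunctor_extClass] at he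
    obtain ⟨w, hw⟩ := Ext.contravariant_sequence_exact₁ hT' _ _ (add_comm 1 i) he
    obtain ⟨f, t, hft⟩ := hs₂ w
    obtain ⟨s, hs⟩ := hi₁ ((t : R) • e' - (Ext.mk₀ T.f).comp f (zero_add i)) (by
      have h3 : Ext.mapExactFunctor G ((t : R) • e' - (Ext.mk₀ T.f).comp f (zero_add i)) =
          Ext.mapExactFunctor G ((t : R) • e') - Ext.mapExactFunctor G ((Ext.mk₀ T.f).comp f (zero_add i)) :=
        (G.mapExtAddHom T.X₁ N i).map_sub _ _
      rw [h3, hsmul, Ext.mapExactFunctor_comp, Ext.mapExactFunctor_mk₀, sub_eq_zero, ← hft, ← hw]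
      exact (Ext.comp_smul (Ext.mk₀ (T.map G).f) w (zero_add i) (al (t : R))).symm)
    refine ⟨s * t, ?_⟩
    have h1 : ((s * t : S) : R) • e' = (Ext.mk₀ T.f).comp ((s : R) • f) (zero_add i) := by
      rw [Submonoid.coe_mul, mul_smul, Ext.comp_smul, ← sub_eq_zero, ← smul_sub]
      exact hs
    rw [← Ext.comp_smul, h1, hT.extClass_comp_assoc]

theorem ext_localization [IsNoetherianRing R] (N : ModuleCat.{u} R) : ∀ (i : ℕ) (M : ModuleCat.{u} R),
    Module.Finite R M →
    (∀ y : Ext ((ModuleCat.localizedModuleFunctor.{u} S).obj M) ((ModuleCat.localizedModuleFunctor.{u} S).obj N) i,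
        ∃ (e : Ext M N i) (s : S),
          algebraMap R (Localization S) (s : R) • y = (ModuleCat.localizedModuleFunctor.{u} S).mapExtAddHom M N i e) ∧
      (∀ e : Ext M N i,
        (ModuleCat.localizedModuleFunctor.{u} S).mapExtAddHom M N i e = 0 → ∃ s : S, (s : R) • e = 0) := by
  intro i
  induction i with
  | zero =>
    intro M hM
    haveI : Module.FinitePresentation R M := Module.finitePresentation_of_finite R M
    constructor
    · intro y
      obtain ⟨φ, rfl⟩ := (Ext.mk₀_bijective _ _).2 y
      obtain ⟨h, s, hs⟩ := exists_smul_eq_map S φ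
      exact ⟨Ext.mk₀ h, s, by rw [Functor.mapExtAddHom_coe, Ext.mapExactFunctor_mk₀, ← Ext.mk₀_smul, hs]⟩
    · intro e he
      obtain ⟨f, rfl⟩ := (Ext.mk₀_bijective _ _).2 e
      rw [Functor.mapExtAddHom_coe, Ext.mapExactFunctor_mk₀, ← Ext.mk₀_zero] at he
      obtain ⟨s, hs⟩ := exists_smul_eq_zero_of_map_eq_zero S f ((Ext.mk₀_bijective _ _).1 he)
      exact ⟨s, by rw [← Ext.mk₀_smul, hs, Ext.mk₀_zero]⟩
  | succ i ih =>
    intro M hM
    obtain ⟨n, p, hp⟩ := Module.Finite.exists_fin' R M
    let T : ShortComplex (ModuleCat.{u} R) :=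
      ShortComplex.mk (ModuleCat.ofHom (LinearMap.ker p).subtype) (ModuleCat.ofHom p)
        (ModuleCat.hom_ext (LinearMap.ext fun x => x.2))
    have hT : T.ShortExact :=
      { exact := (ShortComplex.moduleCat_exact_iff _).mpr fun x hx => ⟨⟨x, hx⟩, rfl⟩
        mono_f := (ModuleCat.mono_iff_injective _).mpr Subtype.val_injective
        epi_g := (ModuleCat.epi_iff_surjective _).mpr hp }
    haveI : Projective T.X₂ := ModuleCat.projective_of_categoryTheory_projective (ModuleCat.of R (Fin n → R))
    haveI : Module.Projective R T.X₂ := inferInstanceAs (Module.Projective R (Fin n → R))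
    haveI := projective_localized_obj S T.X₂
    have ih₁ := ih T.X₁ (inferInstanceAs (Module.Finite R (LinearMap.ker p)))
    have ih₂ := ih T.X₂ (inferInstanceAs (Module.Finite R (Fin n → R)))
    exact ext_step S (algebraMap R (Localization S)) (ModuleCat.localizedModuleFunctor.{u} S)
      (localizedModuleMap_smul_id S) hT N i ih₁.1 ih₁.2 ih₂.1

theorem ext_localization_zero_iff [IsNoetherianRing R] (M N : ModuleCat.{u} R) [Module.Finite R M] (i : ℕ)
    (e : Ext M N i) :
    (ModuleCat.localizedModuleFunctor.{u} S).mapExtAddHom M N i e = 0 ↔ ∃ s : S, (s : R) • e = 0 := by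
  refine ⟨(ext_localization S N i M inferInstance).2 e, ?_⟩
  rintro ⟨s, hs⟩
  have h := congrArg ((ModuleCat.localizedModuleFunctor.{u} S).mapExtAddHom M N i) hs
  rw [map_zero, Functor.mapExtAddHom_coe, Ext.smul_eq_comp_mk₀, Ext.mapExactFunctor_comp,
    Ext.mapExactFunctor_mk₀, localizedModuleMap_smul_id, ← Ext.smul_eq_comp_mk₀] at h
  exact (IsLocalization.map_units (Localization S) s).smul_eq_zero.mp h

end Groth.Agent.H3CAlg
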