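import Groth.Agent.H7Flat.ValFibre
import Groth.Agent.H8Props.FieldDimSmooth
import Mathlib

/-!
# Fibre rings of a flat algebra over a valuation ring and their dimensions
-/

set_option autoImplicit false
set_option linter.style.haveILetI false
universe u

open TensorProduct AlgebraicGeometry CategoryTheory Topology

namespace Groth.Agent.H3CAlg.FibreDimDVR

theorem topologicalKrullDim_fiber_eq (V R : Type u) [CommRing V] [CommRing R] [Algebra V R]
    (F : Type u) [Field F] [Algebra V F] (p : PrimeSpectrum V) (e : p.asIdeal.ResidueField ≃ₐ[V] F) :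
    topologicalKrullDim ((Spec.map (CommRingCat.ofHom (algebraMap V R))).fiber p) =
      ringKrullDim (F ⊗[V] R) := by
  rw [← PrimeSpectrum.topologicalKrullDim_eq_ringKrullDim]
  let h1 := (Spec.map (CommRingCat.ofHom (algebraMap V R))).fiberHomeo p
  let h2 := PrimeSpectrum.preimageHomeomorphFiber V R p
  let h3 := PrimeSpectrum.homeomorphOfRingEquiv
    (Algebra.TensorProduct.congr e (AlgEquiv.refl : R ≃ₐ[V] R)).toRingEquiv
  exact (h1.isHomeomorph.topologicalKrullDim_eq _).trans
    ((h2.isHomeomorph.topologicalKrullDim_eq _).trans (h3.isHomeomorph.topologicalKrullDim_eq _))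

theorem ringKrullDim_special_le (V R : Type u) [CommRing V] [IsDomain V] [ValuationRing V]
    [CommRing R] [Algebra V R] [Module.Flat V R] [Algebra.FiniteType V R] :
    ringKrullDim (IsLocalRing.ResidueField V ⊗[V] R) ≤ ringKrullDim (FractionRing V ⊗[V] R) := by
  let f := Spec.map (CommRingCat.ofHom (algebraMap V R))
  haveI : LocallyOfFiniteType f := (HasRingHomProperty.Spec_iff (P := @LocallyOfFiniteType)).mpr
    (RingHom.finiteType_algebraMap.mpr inferInstance)
  haveI : Flat f := (HasRingHomProperty.Spec_iff (P := @Flat)).mpr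
    (RingHom.flat_algebraMap_iff.mpr inferInstance)
  have h := H7Flat.dim_closed_le_dim_generic f
  rw [genericPoint_eq_bot_of_affine] at h
  have hk := topologicalKrullDim_fiber_eq V R (IsLocalRing.ResidueField V) (IsLocalRing.closedPoint V)
    ((AlgEquiv.ofBijective (IsScalarTower.toAlgHom V (V ⧸ IsLocalRing.maximalIdeal V)
      (IsLocalRing.maximalIdeal V).ResidueField)
        (IsLocalRing.maximalIdeal V).bijective_algebraMap_quotient_residueField).symm :
      (IsLocalRing.maximalIdeal V).ResidueField ≃ₐ[V] IsLocalRing.ResidueField V)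
  have hK := topologicalKrullDim_fiber_eq V R (FractionRing V) (⊥ : PrimeSpectrum V)
    (IsLocalization.algEquiv (nonZeroDivisors V) (⊥ : Ideal V).ResidueField (FractionRing V))
  exact (hk.ge.trans h).trans hK.le

/-- A ring with smooth spectrum of relative dimension `d` over a field has dimension at most `d`. -/
theorem ringKrullDim_le_of_smooth (K B : Type u) [Field K] [CommRing B] [Algebra K B] (d : ℕ)
    (h : SmoothOfRelativeDimension d (Spec.map (CommRingCat.ofHom (algebraMap K B)))) :
    ringKrullDim B ≤ d := by
  haveI := h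
  haveI : Smooth (Spec.map (CommRingCat.ofHom (algebraMap K B))) := SmoothOfRelativeDimension.smooth d _
  rw [ringKrullDim_le_iff_isMaximal_height_le]
  intro m hm
  have h1 := H8Props.FieldDim.localDim_chart (Spec.map (CommRingCat.ofHom (algebraMap K B))) (A := B)
    (𝟙 _) ⟨m, hm.isPrime⟩
  have h2 := h1.symm.trans (H8Props.FieldDim.localDim_eq_of_smooth
    (Spec.map (CommRingCat.ofHom (algebraMap K B))) d _)
  rw [← h2]
  letI : Field (B ⧸ m) := Ideal.Quotient.field m
  rw [ringKrullDim_eq_zero_of_field, add_zero]

end Groth.Agent.H3CAlg.FibreDimDVR
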