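import Groth.Agent.H3CAlg.ValPd
import Groth.Agent.H06EGA11.KernelFP
import Groth.Agent.H8Props.FreeLocus.Fibrewise
import Groth.Agent.H24Def.BurchLift
import Groth.Agent.H05EGA4.FlatSk
import Mathlib.RingTheory.Spectrum.Prime.FreeLocus
import Mathlib.RingTheory.Support
import Mathlib.Topology.Semicontinuity.Basic

/-!
Semicontinuity of the projective dimension of the fibres of a flat finitely presented module.
-/

universe u

open CategoryTheory TensorProduct

namespace Groth.Agent.H3CAlg.FibrePd

set_option synthInstance.maxHeartbeats 400000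
set_option maxHeartbeats 1000000

variable {A B : Type u} [CommRing A] [CommRing B] [Algebra A B]

/-- The local ring at `P` of the fibre through `P`. -/
abbrev Fib (A : Type u) {B : Type u} [CommRing A] [CommRing B] [Algebra A B] (P : PrimeSpectrum B) : Type u :=
  Localization.AtPrime P.asIdeal ⧸ (P.asIdeal.under A).map (algebraMap A (Localization.AtPrime P.asIdeal))

variable (P : PrimeSpectrum B)

theorem map_le_maximalIdeal :
    (P.asIdeal.under A).map (algebraMap A (Localization.AtPrime P.asIdeal)) ≤
      IsLocalRing.maximalIdeal (Localization.AtPrime P.asIdeal) := by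
  rw [IsScalarTower.algebraMap_eq A B (Localization.AtPrime P.asIdeal), ← Ideal.map_map,
    ← Localization.AtPrime.map_eq_maximalIdeal]
  exact Ideal.map_mono Ideal.map_comap_le

theorem exists_mul_eq (t : Fib A P) :
    ∃ s ∉ P.asIdeal, ∃ b, algebraMap B (Fib A P) s * t = algebraMap B (Fib A P) b := by
  obtain ⟨l, rfl⟩ := Ideal.Quotient.mk_surjective t
  obtain ⟨b, s, rfl⟩ := IsLocalization.exists_mk'_eq P.asIdeal.primeCompl l
  refine ⟨s, s.2, b, ?_⟩
  rw [IsScalarTower.algebraMap_apply B (Localization.AtPrime P.asIdeal) (Fib A P) s,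
    IsScalarTower.algebraMap_apply B (Localization.AtPrime P.asIdeal) (Fib A P) b]
  show Ideal.Quotient.mk _ _ * _ = Ideal.Quotient.mk _ _
  rw [← map_mul, IsLocalization.mk'_spec']

theorem isUnit_algebraMap {s : B} (hs : s ∉ P.asIdeal) : IsUnit (algebraMap B (Fib A P) s) := by
  rw [IsScalarTower.algebraMap_apply B (Localization.AtPrime P.asIdeal) (Fib A P) s]
  exact (IsLocalization.map_units (M := P.asIdeal.primeCompl) (Localization.AtPrime P.asIdeal) ⟨s, hs⟩).map _

theorem exists_mul_mem {b : B} (hb : algebraMap B (Fib A P) b = 0) :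
    ∃ s ∉ P.asIdeal, s * b ∈ (P.asIdeal.under A).map (algebraMap A B) := by
  rw [IsScalarTower.algebraMap_apply B (Localization.AtPrime P.asIdeal) (Fib A P) b] at hb
  have hb' : algebraMap B (Localization.AtPrime P.asIdeal) b ∈
      ((P.asIdeal.under A).map (algebraMap A B)).map (algebraMap B (Localization.AtPrime P.asIdeal)) := by
    rw [Ideal.map_map, ← IsScalarTower.algebraMap_eq]
    exact Ideal.Quotient.eq_zero_iff_mem.mp hb
  obtain ⟨⟨⟨c, hc⟩, s⟩, hs⟩ := (IsLocalization.mem_map_algebraMap_iff P.asIdeal.primeCompl _).mp hb'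
  rw [← map_mul] at hs
  obtain ⟨t, ht⟩ := (IsLocalization.eq_iff_exists P.asIdeal.primeCompl (Localization.AtPrime P.asIdeal)).mp hs
  refine ⟨t * s, (t * s).2, ?_⟩
  rw [show (t : B) * s * b = t * (b * s) by ring, ht]
  exact Ideal.mul_mem_left _ _ hc

theorem algebraMap_eq_zero {b : B} (hb : b ∈ (P.asIdeal.under A).map (algebraMap A B)) :
    algebraMap B (Fib A P) b = 0 := by
  rw [IsScalarTower.algebraMap_apply B (Localization.AtPrime P.asIdeal) (Fib A P) b]
  refine Ideal.Quotient.eq_zero_iff_mem.mpr ?_
  rw [IsScalarTower.algebraMap_eq A B (Localization.AtPrime P.asIdeal), ← Ideal.map_map]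
  exact Ideal.mem_map_of_mem _ hb

theorem isLocalRing_fib : IsLocalRing (Fib A P) := by
  haveI : Nontrivial (Fib A P) := Ideal.Quotient.nontrivial_iff.mpr
    (ne_top_of_le_ne_top (IsLocalRing.maximalIdeal.isMaximal _).ne_top (map_le_maximalIdeal P))
  exact IsLocalRing.of_surjective' _ Ideal.Quotient.mk_surjective

variable {M : Type u} [AddCommGroup M] [Module B M]

theorem exists_smul_eq_one_tmul (z : Fib A P ⊗[B] M) :
    ∃ s ∉ P.asIdeal, ∃ m : M, s • z = (1 : Fib A P) ⊗ₜ m := by
  induction z with
  | zero => exact ⟨1, fun h => P.isPrime.ne_top ((Ideal.eq_top_iff_one _).mpr h), 0, by simp⟩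
  | tmul t m =>
    obtain ⟨s, hs, b, hb⟩ := exists_mul_eq P t
    exact ⟨s, hs, b • m, by
      rw [TensorProduct.smul_tmul', ← algebraMap_smul (Fib A P) s t, smul_eq_mul, hb, Algebra.algebraMap_eq_smul_one, TensorProduct.smul_tmul]⟩
  | add x y hx hy =>
    obtain ⟨s, hs, m, hm⟩ := hx
    obtain ⟨t, ht, n, hn⟩ := hy
    refine ⟨s * t, P.isPrime.mul_notMem hs ht, t • m + s • n, ?_⟩
    rw [smul_add, mul_comm s t, mul_smul, hm, mul_comm t s, mul_smul, hn, tmul_add, tmul_smul, tmul_smul]

theorem eq_zero_of_smul_eq_zero {s : B} (hs : s ∉ P.asIdeal) {z : Fib A P ⊗[B] M} (h : s • z = 0) :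
    z = 0 := by
  rw [← algebraMap_smul (Fib A P) s z] at h
  exact (isUnit_algebraMap P hs).smul_eq_zero.mp h

variable [Module A M] [IsScalarTower A B M] [Module.Flat A M]

theorem baseChange_subtype_injective {r : ℕ} (f : (Fin r → B) →ₗ[B] M) (hf : Function.Surjective f) :
    Function.Injective ((LinearMap.ker f).subtype.baseChange (Fib A P)) := by
  refine (injective_iff_map_eq_zero _).mpr fun z hz => ?_
  obtain ⟨s, hs, k, hk⟩ := exists_smul_eq_one_tmul P z
  have h0 : (1 : Fib A P) ⊗ₜ[B] (k : Fin r → B) = 0 := by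
    have h1 := LinearMap.map_smul_of_tower ((LinearMap.ker f).subtype.baseChange (Fib A P)) s z
    rw [hk, hz, smul_zero, LinearMap.baseChange_tmul] at h1
    exact h1
  have h1 : ∀ i, algebraMap B (Fib A P) ((k : Fin r → B) i) = 0 := fun i => by
    have h2 := congrArg ((TensorProduct.rid B (Fib A P)).toLinearMap ∘ₗ
      (LinearMap.proj i : (Fin r → B) →ₗ[B] B).lTensor (Fib A P)) h0
    rw [Algebra.algebraMap_eq_smul_one]
    simpa using h2
  choose t ht htk using fun i => exists_mul_mem P (h1 i)
  have hu : ∏ i, t i ∉ P.asIdeal := P.asIdeal.primeCompl.prod_mem fun i _ => ht i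
  have hk2 : ((∏ i, t i) • k : LinearMap.ker f).1 ∈
      (P.asIdeal.under A).map (algebraMap A B) • (⊤ : Submodule B (Fin r → B)) := by
    rw [pi_eq_sum_univ' ((∏ i, t i) • k : LinearMap.ker f).1]
    refine Submodule.sum_mem _ fun i _ => Submodule.smul_mem_smul ?_ trivial
    show (∏ j, t j) * (k : Fin r → B) i ∈ _
    rw [← Finset.prod_erase_mul _ _ (Finset.mem_univ i), mul_assoc]
    exact Ideal.mul_mem_left _ _ (htk i)
  have hk3 := Groth.Agent.H24Def.mem_smul_ker (P.asIdeal.under A) f hf hk2
    (LinearMap.mem_ker.mp ((∏ i, t i) • k : LinearMap.ker f).2)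
  have hk4 : ((∏ i, t i) • k : LinearMap.ker f) ∈
      (P.asIdeal.under A).map (algebraMap A B) • (⊤ : Submodule B (LinearMap.ker f)) := by
    rw [← Submodule.comap_map_eq_of_injective (LinearMap.ker f).injective_subtype (_ • ⊤),
      Submodule.map_smul'', Submodule.map_top, Submodule.range_subtype]
    exact hk3
  have hk5 : (1 : Fib A P) ⊗ₜ[B] ((∏ i, t i) • k) = 0 := by
    refine Submodule.smul_induction_on hk4 (fun b hb x _ => ?_) fun x y hx hy => by rw [tmul_add, hx, hy, add_zero]
    rw [← smul_tmul, ← Algebra.algebraMap_eq_smul_one, algebraMap_eq_zero P hb, zero_tmul]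
  refine eq_zero_of_smul_eq_zero P (P.isPrime.mul_notMem hu hs) ?_
  rw [mul_smul, hk, ← tmul_smul, hk5]

theorem pd_fibre_succ_iff {r : ℕ} (f : (Fin r → B) →ₗ[B] M) (hf : Function.Surjective f) (d : ℕ) :
    HasProjectiveDimensionLE (ModuleCat.of (Fib A P) (Fib A P ⊗[B] M)) (d + 1) ↔
      HasProjectiveDimensionLE (ModuleCat.of (Fib A P) (Fib A P ⊗[B] LinearMap.ker f)) d := by
  haveI : Module.Projective (Fib A P) (Fib A P ⊗[B] (Fin r → B)) := inferInstance
  have hs : Function.Surjective (f.baseChange (Fib A P)) := f.lTensor_surjective (Fib A P) hf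
  let j : Fib A P ⊗[B] LinearMap.ker f →ₗ[Fib A P] LinearMap.ker (f.baseChange (Fib A P)) :=
    ((LinearMap.ker f).subtype.baseChange (Fib A P)).codRestrict _ fun z => by
      rw [LinearMap.mem_ker, ← LinearMap.comp_apply, ← LinearMap.baseChange_comp, LinearMap.comp_ker_subtype,
        LinearMap.baseChange_zero, LinearMap.zero_apply]
  have hj : Function.Bijective j := by
    refine ⟨fun a b h => baseChange_subtype_injective P f hf (congrArg Subtype.val h), fun z => ?_⟩
    obtain ⟨w, hw⟩ := ((lTensor_exact (Fib A P) (LinearMap.exact_subtype_ker_map f) hf) z.1).mp z.2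
    exact ⟨w, Subtype.ext hw⟩
  let e : ModuleCat.of (Fib A P) (Fib A P ⊗[B] LinearMap.ker f) ≅
      ModuleCat.of (Fib A P) (LinearMap.ker (f.baseChange (Fib A P))) :=
    LinearEquiv.toModuleIso (LinearEquiv.ofBijective j hj)
  constructor
  · intro h
    haveI := ValPd.pd_ker_of_surjective' _ hs d h
    exact hasProjectiveDimensionLT_of_iso e.symm (d + 1)
  · intro h
    haveI := h
    exact ValPd.pd_ker_of_surjective _ hs d (hasProjectiveDimensionLT_of_iso e (d + 1))

omit [Module A M] [IsScalarTower A B M] [Module.Flat A M] in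
theorem one_tmul_eq_zero_iff (n : Localization.AtPrime P.asIdeal ⊗[B] M) :
    (1 : Fib A P) ⊗ₜ[Localization.AtPrime P.asIdeal] n = 0 ↔
      n ∈ (P.asIdeal.under A).map (algebraMap A (Localization.AtPrime P.asIdeal)) •
        (⊤ : Submodule (Localization.AtPrime P.asIdeal) (Localization.AtPrime P.asIdeal ⊗[B] M)) := by
  let J := (P.asIdeal.under A).map (algebraMap A (Localization.AtPrime P.asIdeal))
  have h1 : TensorProduct.quotTensorEquivQuotSMul (Localization.AtPrime P.asIdeal ⊗[B] M) J
      ((Ideal.Quotient.mk J 1) ⊗ₜ n) = Submodule.Quotient.mk n := by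
    rw [TensorProduct.quotTensorEquivQuotSMul_mk_tmul, one_smul]
  rw [← Submodule.Quotient.mk_eq_zero, ← h1, LinearEquiv.map_eq_zero_iff]
  rfl

/-- The fibre as a tensor product with the localised module. -/
noncomputable def fibEquiv : Fib A P ⊗[Localization.AtPrime P.asIdeal] (Localization.AtPrime P.asIdeal ⊗[B] M)
    ≃ₗ[Fib A P] Fib A P ⊗[B] M :=
  AlgebraTensorModule.cancelBaseChange B (Localization.AtPrime P.asIdeal) (Fib A P) (Fib A P) M

variable [Module.FinitePresentation B M]

theorem pd_fibre_zero_iff :
    HasProjectiveDimensionLE (ModuleCat.of (Fib A P) (Fib A P ⊗[B] M)) 0 ↔ P ∈ Module.freeLocus B M := by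
  constructor
  · intro h
    haveI := isLocalRing_fib (A := A) P
    haveI : Projective (ModuleCat.of (Fib A P) (Fib A P ⊗[B] M)) :=
      projective_iff_hasProjectiveDimensionLT_one.mpr h
    haveI : Module.Projective (Fib A P) (Fib A P ⊗[B] M) := (IsProjective.iff_projective _).mpr inferInstance
    haveI : Module.Free (Fib A P) (Fib A P ⊗[B] M) := Module.free_of_flat_of_isLocalRing
    let b := (Module.finBasis (Fib A P) (Fib A P ⊗[B] M)).map (fibEquiv (A := A) P).symm
    have hsurj : ∀ z : Fib A P ⊗[Localization.AtPrime P.asIdeal] (Localization.AtPrime P.asIdeal ⊗[B] M),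
        ∃ n, (1 : Fib A P) ⊗ₜ n = z := fun z => by
      induction z with
      | zero => exact ⟨0, tmul_zero _ _⟩
      | tmul t n =>
        obtain ⟨l, rfl⟩ := Ideal.Quotient.mk_surjective t
        refine ⟨l • n, ?_⟩
        rw [← smul_tmul]
        congr 1
        exact (Algebra.algebraMap_eq_smul_one (A := Fib A P) l).symm
      | add x y hx hy =>
        obtain ⟨a, rfl⟩ := hx; obtain ⟨c, rfl⟩ := hy
        exact ⟨a + c, tmul_add _ _ _⟩
    choose v hv using fun i => hsurj (b i)
    haveI : Module.Flat A (Localization.AtPrime P.asIdeal ⊗[B] M) := H05EGA4.FlatSk.flat_tensor_flat M _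
    have hsum : ∀ c : Fin _ → Localization.AtPrime P.asIdeal,
        (1 : Fib A P) ⊗ₜ[Localization.AtPrime P.asIdeal] (∑ j, c j • v j) =
          ∑ j, (Ideal.Quotient.mk _ (c j) : Fib A P) • b j := fun c => by
      rw [tmul_sum]
      refine Finset.sum_congr rfl fun j _ => ?_
      rw [tmul_smul, ← hv j]
      exact (algebraMap_smul (Fib A P) (c j) _).symm
    have hmem : ∀ n : Localization.AtPrime P.asIdeal ⊗[B] M,
        n ∈ P.asIdeal.under A • (⊤ : Submodule A (Localization.AtPrime P.asIdeal ⊗[B] M)) ↔
          (1 : Fib A P) ⊗ₜ[Localization.AtPrime P.asIdeal] n = 0 := fun n => by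
      rw [one_tmul_eq_zero_iff, Groth.Agent.H24Def.smul_top_eq_restrictScalars
        (A := Localization.AtPrime P.asIdeal), Submodule.restrictScalars_mem]
    obtain ⟨bb⟩ := H8Props.FreeLocus.nonempty_basis (N := Localization.AtPrime P.asIdeal ⊗[B] M)
      (P.asIdeal.under A) (map_le_maximalIdeal P) v
      (fun n => by
        choose c hc using fun j => Ideal.Quotient.mk_surjective (b.repr ((1 : Fib A P) ⊗ₜ n) j)
        refine ⟨c, (hmem _).mpr ?_⟩
        rw [tmul_sub, hsum]
        simp only [hc]
        rw [b.sum_repr, sub_self])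
      (fun c hc j => by
        have h0 := (hmem _).mp hc
        rw [hsum] at h0
        exact Ideal.Quotient.eq_zero_iff_mem.mp (Fintype.linearIndependent_iff.mp b.linearIndependent _ h0 j))
    rw [Module.mem_freeLocus_iff_tensor P (Localization.AtPrime P.asIdeal)]
    exact Module.Free.of_basis bb
  · intro h
    rw [Module.mem_freeLocus_iff_tensor P (Localization.AtPrime P.asIdeal)] at h
    haveI : Module.Projective (Fib A P) (Fib A P ⊗[B] M) := Module.Projective.of_equiv (fibEquiv P)
    exact projective_iff_hasProjectiveDimensionLT_one.mp ((IsProjective.iff_projective _).mp inferInstance)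

omit [Module A M] [IsScalarTower A B M] [Module.Flat A M] in
theorem subsingleton_fibre_iff : Subsingleton (Fib A P ⊗[B] M) ↔ P ∉ Module.support B M := by
  haveI : Module.Finite B M := inferInstance
  rw [Module.notMem_support_iff, (LocalizedModule.equivTensorProduct P.asIdeal.primeCompl M).toEquiv.subsingleton_congr]
  constructor
  · intro h
    have htop : (⊤ : Submodule (Localization.AtPrime P.asIdeal) (Localization.AtPrime P.asIdeal ⊗[B] M)) ≤
        (P.asIdeal.under A).map (algebraMap A (Localization.AtPrime P.asIdeal)) • ⊤ := fun n _ =>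
      (one_tmul_eq_zero_iff P n).mp ((fibEquiv P).toEquiv.subsingleton.elim _ _)
    have := Submodule.eq_bot_of_le_smul_of_le_jacobson_bot _ _ Module.Finite.fg_top htop
      (by rw [IsLocalRing.jacobson_eq_maximalIdeal ⊥ bot_ne_top]; exact map_le_maximalIdeal P)
    exact ⟨fun x y => ((Submodule.mem_bot _).mp (this ▸ Submodule.mem_top)).trans
      ((Submodule.mem_bot _).mp (this ▸ Submodule.mem_top)).symm⟩
  · intro h
    exact (fibEquiv P).symm.toEquiv.subsingleton

theorem isOpen_pd_le [Algebra.FinitePresentation A B] [Module.Flat A B] :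
    ∀ (d : ℕ) (M : Type u) [AddCommGroup M] [Module B M] [Module A M] [IsScalarTower A B M]
      [Module.FinitePresentation B M] [Module.Flat A M],
      IsOpen {P : PrimeSpectrum B | HasProjectiveDimensionLE (ModuleCat.of (Fib A P) (Fib A P ⊗[B] M)) d} := by
  intro d
  induction d with
  | zero =>
    intro M _ _ _ _ _ _
    simp only [pd_fibre_zero_iff]
    exact Module.isOpen_freeLocus
  | succ d ih =>
    intro M _ _ _ _ _ _
    obtain ⟨r, f, hf⟩ := Module.Finite.exists_fin' B M
    haveI : Module.Flat A (Fin r → B) := Module.Flat.trans A B _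
    haveI : Module.FinitePresentation B (LinearMap.ker f) := H06EGA11.finitePresentation_ker (A := A) f hf
    haveI : Module.Flat A (LinearMap.ker f) := by
      haveI := Groth.Agent.H24Def.flat_ker (f.restrictScalars A) hf
      exact Module.Flat.of_linearEquiv (R := A) (M := LinearMap.ker (f.restrictScalars A)) (N := LinearMap.ker f)
        { toFun := fun x => ⟨x.1, x.2⟩, invFun := fun x => ⟨x.1, x.2⟩, map_add' := fun _ _ => rfl,
          map_smul' := fun _ _ => rfl, left_inv := fun _ => rfl, right_inv := fun _ => rfl }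
    simp only [pd_fibre_succ_iff _ f hf d]
    exact ih (LinearMap.ker f)

theorem upperSemicontinuous [Algebra.FinitePresentation A B] [Module.Flat A B] :
    UpperSemicontinuous fun P : PrimeSpectrum B =>
      projectiveDimension (ModuleCat.of (Fib A P) (Fib A P ⊗[B] M)) := by
  have hbot : IsOpen {P : PrimeSpectrum B | projectiveDimension (ModuleCat.of (Fib A P) (Fib A P ⊗[B] M)) = ⊥} := by
    simp only [projectiveDimension_eq_bot_iff, ModuleCat.isZero_iff_subsingleton, subsingleton_fibre_iff]
    rw [show {P : PrimeSpectrum B | P ∉ Module.support B M} = (Module.support B M)ᶜ from rfl,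
      isOpen_compl_iff, Module.support_eq_zeroLocus]
    exact PrimeSpectrum.isClosed_zeroLocus _
  have hle : ∀ d : ℕ, IsOpen {P : PrimeSpectrum B |
      projectiveDimension (ModuleCat.of (Fib A P) (Fib A P ⊗[B] M)) ≤ d} := fun d => by
    simp only [projectiveDimension_le_iff]
    exact isOpen_pd_le d M
  rw [upperSemicontinuous_iff_isOpen_preimage]
  intro y
  induction y with
  | bot => simp
  | coe y =>
    induction y with
    | top =>
      convert (isOpen_iUnion hle).union hbot using 1
      ext P
      simp only [Set.mem_preimage, Set.mem_Iio, Set.mem_union, Set.mem_iUnion, Set.mem_setOf_eq]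
      generalize projectiveDimension (ModuleCat.of (Fib A P) (Fib A P ⊗[B] M)) = z
      induction z with
      | bot => simp
      | coe z =>
        induction z with
        | top =>
          simp
          exact fun n => (WithBot.coe_lt_coe.mpr (ENat.natCast_lt_top n)).ne
        | coe n => exact iff_of_true (WithBot.coe_lt_coe.mpr (ENat.natCast_lt_top n)) (Or.inl ⟨n, le_refl _⟩)
    | coe n =>
      cases n with
      | zero =>
        convert hbot using 1
        ext P
        simp only [Set.mem_preimage, Set.mem_Iio, Set.mem_setOf_eq]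
        generalize projectiveDimension (ModuleCat.of (Fib A P) (Fib A P ⊗[B] M)) = z
        induction z with
        | bot => simp
        | coe z => simp
      | succ n =>
        convert hle n using 1
        ext P
        simp only [Set.mem_preimage, Set.mem_Iio, Set.mem_setOf_eq]
        generalize projectiveDimension (ModuleCat.of (Fib A P) (Fib A P ⊗[B] M)) = z
        induction z with
        | bot => simp
        | coe z =>
          induction z with
          | top =>
            simp
            exact (WithBot.coe_lt_coe.mpr (ENat.natCast_lt_top _)).ne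
          | coe m => norm_cast; omega

end Groth.Agent.H3CAlg.FibrePd
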