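import Groth.Agent.H29Slice.Core
import Mathlib

/-!
# An element regular on the fibres of a flat finitely presented module is regular (EGA IV 11.3.7)
-/

universe u

namespace Groth.Agent.H3CAlg.FibreRegular

open TensorProduct Polynomial

/-- A fibrewise regular element of a flat finitely presented algebra is a nonzerodivisor. -/
theorem mem_nonZeroDivisors_of_fibre {A B : Type u} [CommRing A] [CommRing B] [Algebra A B]
    [Algebra.FinitePresentation A B] [Module.Flat A B] (h : B)
    (hreg : ∀ (p : Ideal A) [p.IsPrime] (c : B), h * c ∈ p.map (algebraMap A B) →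
      ∃ s ∉ p, algebraMap A B s * c ∈ p.map (algebraMap A B)) :
    h ∈ nonZeroDivisors B := by
  rw [mem_nonZeroDivisors_iff_right]
  intro c hc
  by_contra hne
  obtain ⟨q, hq, hle⟩ := Ideal.exists_le_maximal ((⊥ : Ideal B).colon {c})
    (fun htop => hne (by
      have : (1 : B) ∈ (⊥ : Ideal B).colon {c} := htop ▸ Submodule.mem_top
      rwa [Submodule.mem_colon_singleton, one_smul, Submodule.mem_bot] at this))
  have hmem : ∀ x : B, x * c = 0 → x ∈ q := fun x hx =>
    hle (by rw [Submodule.mem_colon_singleton, Submodule.mem_bot, smul_eq_mul, hx])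
  have hhq : h ∈ q := hmem h (by rw [mul_comm]; exact hc)
  obtain ⟨b, hb, hloc⟩ := H29Slice.exists_slice h ⟨q, hq.isPrime⟩ hhq (fun c t ht htc => by
    obtain ⟨s, hs, hsc⟩ := hreg (q.comap (algebraMap A B)) (t * c) (by rwa [mul_left_comm])
    refine ⟨algebraMap A B s * t, fun hst => ?_, by rwa [mul_assoc]⟩
    exact (hq.isPrime.mem_or_mem hst).elim (fun h' => hs h') ht)
  have hnz := (hloc (Localization.Away b)).1
  have h0 : algebraMap B (Localization.Away b) c = 0 :=
    (mem_nonZeroDivisors_iff_right.mp hnz) _ (by rw [← map_mul, hc, map_zero])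
  obtain ⟨⟨-, n, rfl⟩, hn⟩ := (IsLocalization.map_eq_zero_iff (Submonoid.powers b) _ _).mp h0
  exact hb (hq.isPrime.mem_of_pow_mem n (hmem _ hn))

theorem flat_prod (R M N : Type u) [CommRing R] [AddCommGroup M] [Module R M] [AddCommGroup N]
    [Module R N] [Module.Flat R M] [Module.Flat R N] : Module.Flat R (M × N) := by
  refine Module.Flat.iff_rTensor_injective'.mpr fun I => ?_
  have hM := Module.Flat.rTensor_preserves_injective_linearMap (M := M) I.subtype Subtype.val_injective
  have hN := Module.Flat.rTensor_preserves_injective_linearMap (M := N) I.subtype Subtype.val_injective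
  have key : ∀ z : (I : Ideal R) ⊗[R] (M × N), TensorProduct.prodRight R R R M N (I.subtype.rTensor (M × N) z) =
      ((I.subtype.rTensor M (TensorProduct.prodRight R R I M N z).1),
        (I.subtype.rTensor N (TensorProduct.prodRight R R I M N z).2)) := by
    intro z
    induction z with
    | zero => ext <;> simp
    | tmul i x => simp
    | add x y hx hy => simp [map_add, hx, hy]
  rw [injective_iff_map_eq_zero]
  intro z hz
  have h := key z
  rw [hz, map_zero, Prod.ext_iff] at h
  refine (TensorProduct.prodRight R R I M N).map_eq_zero_iff.mp (Prod.ext ?_ ?_)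
  · exact hM (h.1.symm.trans (map_zero _).symm)
  · exact hN (h.2.symm.trans (map_zero _).symm)

/-- Finite presentation of products. -/
theorem finitePresentation_prod (R M N : Type u) [CommRing R] [AddCommGroup M] [Module R M]
    [AddCommGroup N] [Module R N] [Module.FinitePresentation R M] [Module.FinitePresentation R N] :
    Module.FinitePresentation R (M × N) := by
  haveI : Module.FinitePresentation R (LinearMap.ker (LinearMap.fst R M N)) := by
    refine Module.finitePresentation_of_surjective ((LinearMap.inr R M N).codRestrict _ fun n => LinearMap.mem_ker.mpr rfl) ?_ ?_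
    · rintro ⟨⟨m, n⟩, hm⟩
      obtain rfl : m = 0 := hm
      exact ⟨n, rfl⟩
    · rw [LinearMap.ker_codRestrict, LinearMap.ker_eq_bot.mpr LinearMap.inr_injective]
      exact Submodule.fg_bot
  exact Module.finitePresentation_of_ker (LinearMap.fst R M N) Prod.fst_surjective

/-- Fibrewise regularity of an element on a flat finitely presented module. -/
theorem isSMulRegular_of_fibre {A B M : Type u} [CommRing A] [CommRing B] [Algebra A B]
    [Algebra.FinitePresentation A B] [AddCommGroup M] [Module B M] [Module A M] [IsScalarTower A B M]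
    [Module.FinitePresentation B M] [Module.Flat A M] (a : B)
    (hreg : ∀ (p : Ideal A) [p.IsPrime] (m : M), a • m ∈ p • (⊤ : Submodule A M) →
      ∃ s ∉ p, s • m ∈ p • (⊤ : Submodule A M)) :
    IsSMulRegular M a := by
  classical
  obtain ⟨n, f, hf⟩ := Algebra.FiniteType.iff_quotient_mvPolynomial''.mp
    (inferInstance : Algebra.FiniteType A B)
  let ψ : Polynomial (MvPolynomial (Fin n) A) →ₐ[A] B := Polynomial.aevalTower f a
  have hψ : Function.Surjective ψ := fun b => by
    obtain ⟨p, rfl⟩ := hf b
    exact ⟨Polynomial.C p, by simp [ψ]⟩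
  let P := Polynomial (MvPolynomial (Fin n) A)
  haveI : Algebra.FinitePresentation A P :=
    Algebra.FinitePresentation.trans A (MvPolynomial (Fin n) A) P
  letI : Algebra P B := ψ.toRingHom.toAlgebra
  haveI : IsScalarTower A P B := IsScalarTower.of_algebraMap_eq fun r => (ψ.commutes r).symm
  haveI : Module.FinitePresentation P B := by
    refine Module.finitePresentation_of_surjective (Algebra.linearMap P B) hψ ?_
    exact Algebra.FinitePresentation.ker_fG_of_surjective ψ hψ
  letI : Module P M := Module.compHom M ψ.toRingHom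
  haveI : IsScalarTower P B M := IsScalarTower.of_algebraMap_smul fun _ _ => rfl
  haveI : Module.FinitePresentation P M := Module.FinitePresentation.trans P M B
  haveI : IsScalarTower A P M := IsScalarTower.of_algebraMap_smul fun r m => by
    change ψ (algebraMap A P r) • m = r • m
    rw [ψ.commutes, algebraMap_smul]
  letI : Module Pᵐᵒᵖ M := Module.compHom M ((RingHom.id P).fromOpposite mul_comm)
  haveI : IsCentralScalar P M := ⟨fun r m => rfl⟩
  haveI : IsScalarTower A Pᵐᵒᵖ M := ⟨fun r x m => smul_assoc r x.unop m⟩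
  haveI : Module.FinitePresentation P (TrivSqZeroExt P M) := finitePresentation_prod P P M
  haveI : Algebra.FinitePresentation P (TrivSqZeroExt P M) := Algebra.FinitePresentation.of_finitePresentation P (TrivSqZeroExt P M)
  haveI : IsScalarTower A P (TrivSqZeroExt P M) := IsScalarTower.of_algebraMap_smul fun r x =>
    TrivSqZeroExt.ext (algebraMap_smul P r x.fst) (algebraMap_smul P r x.snd)
  haveI : Algebra.FinitePresentation A (TrivSqZeroExt P M) := Algebra.FinitePresentation.trans A P (TrivSqZeroExt P M)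
  haveI : Module.Flat A P := Module.Flat.trans A (MvPolynomial (Fin n) A) P
  haveI : Module.Flat A (TrivSqZeroExt P M) := flat_prod A P M
  let y : (TrivSqZeroExt P M) := TrivSqZeroExt.inl (Polynomial.X : P)
  have hXm : ∀ m : M, (Polynomial.X : P) • m = a • m := fun m => by
    change ψ Polynomial.X • m = _
    simp [ψ]
  haveI : IsScalarTower A (TrivSqZeroExt P M) (TrivSqZeroExt P M) := ⟨fun r x y =>
    TrivSqZeroExt.ext (smul_mul_assoc r x.fst y.fst) (by
      simp only [smul_eq_mul, TrivSqZeroExt.snd_mul, TrivSqZeroExt.fst_smul, TrivSqZeroExt.snd_smul, op_smul_eq_smul,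
        smul_add, smul_assoc, smul_comm r])⟩
  have hy : y ∈ nonZeroDivisors (TrivSqZeroExt P M) := by
    refine mem_nonZeroDivisors_of_fibre (A := A) y fun p _ c hc => ?_
    have hmap : ∀ x : (TrivSqZeroExt P M), x ∈ p.map (algebraMap A (TrivSqZeroExt P M)) ↔
        x.fst ∈ p.map (algebraMap A P) ∧ x.snd ∈ p • (⊤ : Submodule A M) := by
      intro x
      rw [← Submodule.restrictScalars_mem A, ← Ideal.smul_top_eq_map]
      constructor
      · intro hx
        refine ⟨?_, ?_⟩
        · rw [← Submodule.restrictScalars_mem A, ← Ideal.smul_top_eq_map]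
          exact Submodule.smul_mono le_rfl le_top (Submodule.map_smul'' p ⊤
            (LinearMap.fst A P M : (TrivSqZeroExt P M) →ₗ[A] P) ▸ Submodule.mem_map_of_mem hx)
        · exact Submodule.smul_mono le_rfl le_top (Submodule.map_smul'' p ⊤
            (LinearMap.snd A P M : (TrivSqZeroExt P M) →ₗ[A] M) ▸ Submodule.mem_map_of_mem hx)
      · rintro ⟨h1, h2⟩
        rw [← TrivSqZeroExt.inl_fst_add_inr_snd_eq x]
        rw [← Submodule.restrictScalars_mem A, ← Ideal.smul_top_eq_map] at h1
        refine add_mem ?_ ?_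
        · exact Submodule.smul_mono le_rfl le_top (Submodule.map_smul'' p ⊤
            (LinearMap.inl A P M : P →ₗ[A] (TrivSqZeroExt P M)) ▸ Submodule.mem_map_of_mem h1)
        · exact Submodule.smul_mono le_rfl le_top (Submodule.map_smul'' p ⊤
            (LinearMap.inr A P M : M →ₗ[A] (TrivSqZeroExt P M)) ▸ Submodule.mem_map_of_mem h2)
    obtain ⟨h1, h2⟩ := (hmap _).mp hc
    simp only [y, TrivSqZeroExt.fst_mul, TrivSqZeroExt.snd_mul, TrivSqZeroExt.fst_inl,
      TrivSqZeroExt.snd_inl, smul_zero, add_zero] at h1 h2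
    rw [hXm] at h2
    obtain ⟨s, hs, hsm⟩ := hreg p c.snd h2
    refine ⟨s, hs, (hmap _).mpr ?_⟩
    rw [← Algebra.smul_def]
    refine ⟨?_, hsm⟩
    change s • c.fst ∈ _
    rw [Algebra.smul_def]
    refine Ideal.mul_mem_left _ _ ?_
    have hC : p.map (algebraMap A P) = (p.map (algebraMap A (MvPolynomial (Fin n) A))).map Polynomial.C := by
      rw [Ideal.map_map]; rfl
    rw [hC, Ideal.mem_map_C_iff] at h1 ⊢
    intro i
    exact Polynomial.coeff_X_mul (c.fst : P) i ▸ h1 (i + 1)
  refine fun u v huv => sub_eq_zero.mp ?_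
  have h0 : (TrivSqZeroExt.inr (u - v) : (TrivSqZeroExt P M)) * y = 0 := by
    refine TrivSqZeroExt.ext ?_ ?_
    · simp [y]
    · simp only [y, TrivSqZeroExt.snd_mul, TrivSqZeroExt.fst_inr, TrivSqZeroExt.snd_inl, TrivSqZeroExt.snd_inr,
        TrivSqZeroExt.fst_inl, TrivSqZeroExt.snd_zero, smul_zero, zero_add, op_smul_eq_smul, hXm, smul_sub]
      exact sub_eq_zero.mpr huv
  exact congrArg TrivSqZeroExt.snd ((mem_nonZeroDivisors_iff_right.mp hy) _ h0)

/-- **S19195**. -/
theorem isSMulRegular_of_associatedPrimes {A B M : Type u} [CommRing A] [CommRing B] [Algebra A B]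
    [Algebra.FinitePresentation A B] [AddCommGroup M] [Module B M] [Module A M]
    [IsScalarTower A B M] [Module.FinitePresentation B M] [Module.Flat A M]
    (hS1 : ∀ (p : Ideal A) [p.IsPrime],
      associatedPrimes (B ⊗[A] p.ResidueField) ((B ⊗[A] p.ResidueField) ⊗[B] M) ⊆
        (Module.annihilator (B ⊗[A] p.ResidueField) ((B ⊗[A] p.ResidueField) ⊗[B] M)).minimalPrimes)
    (a : B)
    (ha : ∀ (p : Ideal A) [p.IsPrime],
      ∀ P ∈ (Module.annihilator (B ⊗[A] p.ResidueField) ((B ⊗[A] p.ResidueField) ⊗[B] M)).minimalPrimes,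
        a ⊗ₜ[A] (1 : p.ResidueField) ∉ P) :
    IsSMulRegular M a := by
  refine isSMulRegular_of_fibre (A := A) (B := B) (M := M) a fun p _ m hm => ?_
  let Bk := B ⊗[A] p.ResidueField
  haveI : Algebra.FiniteType p.ResidueField (p.ResidueField ⊗[A] B) := inferInstance
  haveI : IsNoetherianRing (p.ResidueField ⊗[A] B) := Algebra.FiniteType.isNoetherianRing p.ResidueField _
  haveI : IsNoetherianRing Bk := isNoetherianRing_of_ringEquiv _
    (Algebra.TensorProduct.comm A p.ResidueField B).toRingEquiv
  have hzero : ∀ s ∈ p, ∀ m : M, ((1 : Bk) ⊗ₜ[B] (s • m) : Bk ⊗[B] M) = 0 := by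
    intro s hs m
    rw [← algebraMap_smul B s m, TensorProduct.tmul_smul, TensorProduct.smul_tmul', Algebra.smul_def,
      mul_one, ← IsScalarTower.algebraMap_apply A B Bk, Algebra.TensorProduct.algebraMap_apply,
      IsScalarTower.algebraMap_apply A B B]
    rw [show (algebraMap B B (algebraMap A B s)) = s • (1 : B) from Algebra.algebraMap_eq_smul_one s,
      TensorProduct.smul_tmul, ← Algebra.algebraMap_eq_smul_one,
      Ideal.algebraMap_residueField_eq_zero.mpr hs, TensorProduct.tmul_zero, TensorProduct.zero_tmul]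
  have h1 : ((1 : Bk) ⊗ₜ[B] (a • m) : Bk ⊗[B] M) = 0 := by
    refine Submodule.smul_induction_on hm (fun s hs m' _ => hzero s hs m') fun x y hx hy => ?_
    rw [TensorProduct.tmul_add, hx, hy, add_zero]
  have h2 : ((1 : Bk) ⊗ₜ[B] m : Bk ⊗[B] M) = 0 := by
    by_contra hne
    obtain ⟨Q, hQ, hle⟩ := exists_le_isAssociatedPrime_of_isNoetherianRing Bk
      ((1 : Bk) ⊗ₜ[B] m : Bk ⊗[B] M) hne
    refine ha p Q (hS1 p hQ) (hle ?_)
    rw [Submodule.mem_colon_singleton, Submodule.mem_bot]
    rw [TensorProduct.smul_tmul', smul_eq_mul, mul_one,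
      show a ⊗ₜ[A] (1 : p.ResidueField) = a • (1 : Bk) by
        rw [Algebra.TensorProduct.one_def, TensorProduct.smul_tmul', smul_eq_mul, mul_one],
      TensorProduct.smul_tmul]
    exact h1
  have h3 : m ⊗ₜ[A] (1 : p.ResidueField) = 0 := by
    have := congrArg (fun z => TensorProduct.AlgebraTensorModule.cancelBaseChange A B B M p.ResidueField
      (TensorProduct.comm B Bk M z)) h2
    simpa [Bk, Algebra.TensorProduct.one_def] using this
  have h4 : (1 : p.ResidueField) ⊗ₜ[A ⧸ p] ((1 : A ⧸ p) ⊗ₜ[A] m) = 0 := by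
    apply (TensorProduct.AlgebraTensorModule.cancelBaseChange A (A ⧸ p) (A ⧸ p) p.ResidueField M).injective
    rw [TensorProduct.AlgebraTensorModule.cancelBaseChange_tmul, map_zero, one_smul]
    have := congrArg (TensorProduct.comm A M p.ResidueField) h3
    simpa using this
  haveI hl : IsLocalizedModule (nonZeroDivisors (A ⧸ p))
      (TensorProduct.mk (A ⧸ p) p.ResidueField ((A ⧸ p) ⊗[A] M) 1) :=
    (isLocalizedModule_iff_isBaseChange _ p.ResidueField _).mpr (TensorProduct.isBaseChange _ _ _)
  obtain ⟨⟨sb, hsb⟩, hs0⟩ := (IsLocalizedModule.eq_zero_iff (nonZeroDivisors (A ⧸ p))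
    (TensorProduct.mk (A ⧸ p) p.ResidueField ((A ⧸ p) ⊗[A] M) 1)).mp h4
  obtain ⟨s, rfl⟩ := Ideal.Quotient.mk_surjective sb
  refine ⟨s, fun hsp => nonZeroDivisors.ne_zero hsb (Ideal.Quotient.eq_zero_iff_mem.mpr hsp), ?_⟩
  rw [← Submodule.Quotient.mk_eq_zero]
  have h5 := congrArg (TensorProduct.quotTensorEquivQuotSMul M p) hs0
  rw [Submonoid.mk_smul, ← Ideal.Quotient.algebraMap_eq, algebraMap_smul, map_smul, map_zero] at h5
  rw [Submodule.Quotient.mk_smul]
  refine Eq.trans ?_ h5
  rw [show (1 : A ⧸ p) = Ideal.Quotient.mk p 1 from rfl, TensorProduct.quotTensorEquivQuotSMul_mk_tmul,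
    one_smul]

end Groth.Agent.H3CAlg.FibreRegular
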