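import Groth.Agent.H19Grp.AlgClosedGeom
import Mathlib.RingTheory.Filtration
import Mathlib.RingTheory.LocalRing.ResidueField.Basic

/-!
# Fibrewise nonzero elements of `R ⊗ A` are regular
-/

open TensorProduct

universe u

namespace Groth.Agent.H3CAlg.FibrewiseNonzero

variable {k : Type u} [Field k] {A : Type u} [CommRing A] [Algebra k A] {ι : Type u}
  (b : Module.Basis ι k A)

/-- The coordinates of an element of `L ⊗ A`. -/
noncomputable def coord (L : Type u) [CommRing L] [Algebra k L] (z : L ⊗[k] A) : ι →₀ L :=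
  (Algebra.TensorProduct.basis L b).repr z

lemma coord_tmul {L : Type u} [CommRing L] [Algebra k L] (l : L) (a : A) (i : ι) :
    coord b L (l ⊗ₜ a) i = b.repr a i • l := by
  rw [coord, Algebra.TensorProduct.basis_repr_tmul]
  simp [Finsupp.mapRange_apply, Algebra.smul_def, mul_comm]

lemma coord_rTensor {M L : Type u} [AddCommGroup M] [Module k M] [CommRing L] [Algebra k L]
    (φ : M →ₗ[k] L) (x : M) (a : A) (i : ι) :
    coord b L (φ.rTensor A (x ⊗ₜ a)) i = φ (b.repr a i • x) := by
  rw [LinearMap.rTensor_tmul, coord_tmul, map_smul]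

lemma eq_zero_of_coord {L : Type u} [CommRing L] [Algebra k L] {z : L ⊗[k] A}
    (h : ∀ i, coord b L z i = 0) : z = 0 :=
  (Algebra.TensorProduct.basis L b).repr.map_eq_zero_iff.mp (Finsupp.ext h)

lemma coord_zero (L : Type u) [CommRing L] [Algebra k L] (i : ι) :
    coord b L (0 : L ⊗[k] A) i = 0 := by simp [coord]

lemma coord_map {L L' : Type u} [CommRing L] [Algebra k L] [CommRing L'] [Algebra k L']
    (φ : L →ₐ[k] L') (z : L ⊗[k] A) (i : ι) :
    coord b L' (Algebra.TensorProduct.map φ (AlgHom.id k A) z) i = φ (coord b L z i) := by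
  induction z with
  | zero => simp [coord]
  | tmul l a => rw [Algebra.TensorProduct.map_tmul, coord_tmul, coord_tmul, map_smul, AlgHom.id_apply]
  | add x y hx hy =>
    simp only [coord, map_add, Finsupp.add_apply] at hx hy ⊢
    rw [hx, hy]

/-- An element of `L ⊗ A` with a unit coordinate is regular, for `L` noetherian local and `A` a
domain over the algebraically closed field `k`. -/
theorem eq_zero_of_mul_eq_zero [IsAlgClosed k] [IsDomain A] {L : Type u} [CommRing L] [Algebra k L]
    [IsLocalRing L] [IsNoetherianRing L] {G F : L ⊗[k] A} {i₀ : ι}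
    (hG : coord b L G i₀ ∉ IsLocalRing.maximalIdeal L) (h : G * F = 0) : F = 0 := by
  classical
  set m := IsLocalRing.maximalIdeal L with hm
  suffices ∀ n i, coord b L F i ∈ m ^ n by
    refine eq_zero_of_coord b fun i ↦ ?_
    have hi : coord b L F i ∈ ⨅ n, m ^ n := Submodule.mem_iInf _ |>.mpr fun n ↦ this n i
    rwa [Ideal.iInf_pow_eq_bot_of_isLocalRing _ (IsLocalRing.maximalIdeal.isMaximal L).ne_top,
      Ideal.mem_bot] at hi
  intro n
  induction n with
  | zero => simp
  | succ n ih =>
  intro i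
  by_contra hi
  let N := (m ^ n : Ideal L)
  letI : Field (L ⧸ m) := Ideal.Quotient.field m
  let x : N := ⟨coord b L F i, ih i⟩
  have hx : (Submodule.Quotient.mk x : N ⧸ (m • ⊤ : Submodule L N)) ≠ 0 := by
    rw [Ne, Submodule.Quotient.mk_eq_zero]
    intro hx
    apply hi
    have := Submodule.mem_map_of_mem (f := N.subtype) hx
    rw [Submodule.map_smul'', Submodule.map_subtype_top, smul_eq_mul, ← pow_succ'] at this
    exact this
  obtain ⟨δ, hδ⟩ : ∃ δ : Module.Dual (L ⧸ m) (N ⧸ (m • ⊤ : Submodule L N)),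
      δ (Submodule.Quotient.mk x) ≠ 0 := by
    by_contra hall
    exact hx ((Module.forall_dual_apply_eq_zero_iff (L ⧸ m) _).mp fun f ↦
      not_not.mp fun hf ↦ hall ⟨f, hf⟩)
  let ψ : N →ₗ[L] L ⧸ m := (δ.restrictScalars L).comp (Submodule.mkQ _)
  let inc : N ⊗[k] A →ₗ[k] L ⊗[k] A := (N.subtype.restrictScalars k).rTensor A
  let Ψ : N ⊗[k] A →ₗ[k] (L ⧸ m) ⊗[k] A := (ψ.restrictScalars k).rTensor A
  let π : L ⊗[k] A →ₐ[k] (L ⧸ m) ⊗[k] A :=
    Algebra.TensorProduct.map (Ideal.Quotient.mkₐ k m) (AlgHom.id k A)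
  have hinc : Function.Injective inc :=
    Module.Flat.rTensor_preserves_injective_linearMap (N.subtype.restrictScalars k)
      N.subtype_injective
  have key : ∀ (z : L ⊗[k] A) (w : N ⊗[k] A), ∃ y, inc y = z * inc w ∧ Ψ y = π z * Ψ w := by
    intro z
    induction z with
    | zero => exact fun w ↦ ⟨0, by simp⟩
    | add p q hp hq =>
      intro w
      obtain ⟨y, h1, h2⟩ := hp w
      obtain ⟨y', h1', h2'⟩ := hq w
      exact ⟨y + y', by rw [map_add, h1, h1', add_mul], by rw [map_add, h2, h2', map_add, add_mul]⟩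
    | tmul l a =>
      intro w
      induction w with
      | zero => exact ⟨0, by simp⟩
      | add p q hp hq =>
        obtain ⟨y, h1, h2⟩ := hp
        obtain ⟨y', h1', h2'⟩ := hq
        exact ⟨y + y', by simp only [map_add, h1, h1', mul_add], by simp only [map_add, h2, h2', mul_add]⟩
      | tmul v c =>
        refine ⟨(l • v) ⊗ₜ (a * c), ?_, ?_⟩
        · simp [inc]
        · simp only [Ψ, π, LinearMap.rTensor_tmul, LinearMap.restrictScalars_apply, map_smul,
            Algebra.TensorProduct.map_tmul, AlgHom.id_apply, Algebra.TensorProduct.tmul_mul_tmul,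
            Ideal.Quotient.mkₐ_eq_mk]
          rw [Algebra.smul_def, Ideal.Quotient.algebraMap_eq]
  -- lift `F` to `N ⊗ A`
  let F' : N ⊗[k] A := ∑ j ∈ (coord b L F).support, (⟨coord b L F j, ih j⟩ : N) ⊗ₜ[k] b j
  have hF' : inc F' = F := by
    simp only [F', inc, map_sum, LinearMap.rTensor_tmul, LinearMap.restrictScalars_apply,
      Submodule.subtype_apply]
    conv_rhs => rw [← (Algebra.TensorProduct.basis L b).linearCombination_repr F,
      Finsupp.linearCombination_apply, Finsupp.sum]
    refine Finset.sum_congr rfl fun j _ ↦ ?_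
    rw [Algebra.TensorProduct.basis_apply, TensorProduct.smul_tmul', smul_eq_mul, mul_one]
    rfl
  obtain ⟨y, hy1, hy2⟩ := key G F'
  rw [hF', h] at hy1
  rw [(injective_iff_map_eq_zero inc).mp hinc y hy1, map_zero] at hy2
  haveI : IsDomain ((L ⧸ m) ⊗[k] A) := H19Grp.isDomain_tensorProduct (L ⧸ m) A
  rcases mul_eq_zero.mp hy2.symm with h1 | h1
  · apply hG
    have := coord_map b (Ideal.Quotient.mkₐ k m) G i₀
    rw [show Algebra.TensorProduct.map (Ideal.Quotient.mkₐ k m) (AlgHom.id k A) G = 0 from h1] at this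
    simp only [coord, map_zero, Finsupp.zero_apply] at this
    exact Ideal.Quotient.eq_zero_iff_mem.mp this.symm
  · apply hδ
    have h2 : coord b (L ⧸ m) (Ψ F') i = ψ x := by
      have hs : coord b (L ⧸ m) (Ψ F') i = ∑ j ∈ (coord b L F).support,
          (ψ.restrictScalars k) (b.repr (b j) i • (⟨coord b L F j, ih j⟩ : N)) := by
        simp only [F', map_sum]
        rw [show coord b (L ⧸ m) (∑ j ∈ (coord b L F).support,
          Ψ ((⟨coord b L F j, ih j⟩ : N) ⊗ₜ[k] b j)) = ∑ j ∈ (coord b L F).support,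
          coord b (L ⧸ m) (Ψ ((⟨coord b L F j, ih j⟩ : N) ⊗ₜ[k] b j)) from map_sum _ _ _,
          Finsupp.finsetSum_apply]
        exact Finset.sum_congr rfl fun j _ ↦ coord_rTensor b (ψ.restrictScalars k) _ (b j) i
      rw [hs, Finset.sum_eq_single i]
      · simp [x]
      · intro j _ hj; simp [hj]
      · intro hsupp
        have : x = 0 := Subtype.ext (Finsupp.notMem_support_iff.mp hsupp)
        simp only [x] at this
        simp [this]
    rw [h1] at h2
    simpa [coord, ψ] using h2.symm

end Groth.Agent.H3CAlg.FibrewiseNonzero
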