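import Mathlib.RingTheory.TensorProduct.Free
import Mathlib.RingTheory.Flat.Tensor
import Mathlib.Algebra.Module.Torsion.Basic
import Mathlib.RingTheory.Nakayama
import Mathlib.LinearAlgebra.TensorProduct.RightExactness
import Mathlib.LinearAlgebra.Basis.VectorSpace
import Mathlib.Algebra.Algebra.Tower

/-! Elements of `R ⊗[k] A` which are fibrewise nonzero, for a geometrically integral `A`. -/

set_option autoImplicit false
set_option maxHeartbeats 1000000
universe u

open TensorProduct

namespace Groth.Agent.H3CAlg.FibrewiseRegular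

variable {k : Type u} [Field k] {A : Type u} [CommRing A] [Algebra k A]
  {R : Type u} [CommRing R] [Algebra k R]

/-- base change of the tensor product -/
noncomputable def bc {S : Type u} [CommRing S] [Algebra k S] (g : R →ₐ[k] S) : R ⊗[k] A →ₐ[k] S ⊗[k] A :=
  Algebra.TensorProduct.map g (AlgHom.id k A)

theorem repr_bc {S : Type u} [CommRing S] [Algebra k S] (g : R →ₐ[k] S) {ι : Type u} (b : Module.Basis ι k A)
    (t : R ⊗[k] A) (i : ι) :
    (Algebra.TensorProduct.basis S b).repr (bc g t) i = g ((Algebra.TensorProduct.basis R b).repr t i) := by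
  induction t using TensorProduct.induction_on with
  | zero => simp
  | tmul r a => simp [bc, Finsupp.mapRange_apply]
  | add x y hx hy => simp [hx, hy]

theorem bc_comp {S T : Type u} [CommRing S] [Algebra k S] [CommRing T] [Algebra k T] (g : R →ₐ[k] S)
    (g' : S →ₐ[k] T) (t : R ⊗[k] A) : bc g' (bc g t) = bc (g'.comp g) t := by
  induction t using TensorProduct.induction_on with
  | zero => simp
  | tmul r a => rfl
  | add x y hx hy => simp [hx, hy]

theorem bc_smul {S : Type u} [CommRing S] [Algebra k S] (g : R →ₐ[k] S) (r : R) (t : R ⊗[k] A) :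
    bc g (r • t) = g r • bc g t := by
  induction t using TensorProduct.induction_on with
  | zero => simp
  | tmul r' a => simp [bc, TensorProduct.smul_tmul']
  | add x y hx hy => simp [hx, hy]

/-- fibrewise nonzero elements -/
def IsFibNonzero (f : R ⊗[k] A) : Prop :=
  ∀ (κ : Type u) [Field κ] [Algebra k κ] (g : R →ₐ[k] κ), bc g f ≠ 0

theorem IsFibNonzero.bc {f : R ⊗[k] A} (hf : IsFibNonzero f) {S : Type u} [CommRing S] [Algebra k S]
    (g : R →ₐ[k] S) : IsFibNonzero (bc g f) := fun κ _ _ g' => by
  rw [bc_comp]; exact hf κ _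

theorem eq_zero_of_mul_eq_zero (hdom : ∀ (κ : Type u) [Field κ] [Algebra k κ], IsDomain (κ ⊗[k] A))
    {f g : R ⊗[k] A} (hf : IsFibNonzero f) (h : f * g = 0) : g = 0 := by
  classical
  let b := Module.Basis.ofVectorSpace k A
  let B := Algebra.TensorProduct.basis R b
  let G : Ideal R := Ideal.span ((B.repr g).support.image (fun i => B.repr g i) : Set R)
  have hG : G.FG := ⟨_, rfl⟩
  have hmem : ∀ i, B.repr g i ∈ G := fun i => by
    by_cases hi : i ∈ (B.repr g).support
    · exact Ideal.subset_span (by simp only [Finset.coe_image]; exact ⟨i, hi, rfl⟩)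
    · rw [Finsupp.notMem_support_iff.1 hi]; exact G.zero_mem
  suffices Module.annihilator R G = ⊤ by
    have hG0 : G = ⊥ := by
      rw [eq_bot_iff]
      intro x hx
      have h1 : (1 : R) ∈ Module.annihilator R G := this ▸ Submodule.mem_top
      have := congr_arg Subtype.val (Module.mem_annihilator.1 h1 ⟨x, hx⟩)
      simpa using this
    refine B.repr.map_eq_zero_iff.1 (Finsupp.ext fun i => ?_)
    simpa [hG0] using hmem i
  by_contra hne
  obtain ⟨m, hm, hle⟩ := Ideal.exists_le_maximal _ hne
  haveI := hm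
  letI := Ideal.Quotient.field m
  -- coordinates of `g` vanish against every functional on `G/mG`
  have key : (G : Submodule R R) ≤ m • (G : Submodule R R) := by
    by_contra hnot
    let Q := (G : Submodule R R) ⧸ (m • ⊤ : Submodule R (G : Submodule R R))
    obtain ⟨x, hx, hxm⟩ := SetLike.not_le_iff_exists.1 hnot
    have hx0 : (Submodule.Quotient.mk ⟨x, hx⟩ : Q) ≠ 0 := fun e => hxm (by
      have h1 : (⟨x, hx⟩ : (G : Submodule R R)) ∈ (m • ⊤ : Submodule R (G : Submodule R R)) :=
        (Submodule.Quotient.mk_eq_zero _).1 e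
      have h2 := Submodule.mem_map_of_mem (f := (G : Submodule R R).subtype) h1
      rwa [Submodule.map_smul'', Submodule.map_subtype_top] at h2)
    let bQ := Module.Basis.ofVectorSpace (R ⧸ m) Q
    obtain ⟨i₁, hi₁⟩ : ∃ i, bQ.coord i (Submodule.Quotient.mk ⟨x, hx⟩) ≠ 0 := by
      by_contra hh
      push Not at hh
      exact hx0 (bQ.repr.map_eq_zero_iff.1 (Finsupp.ext fun i => hh i))
    let q : R →ₐ[k] R ⧸ m := Ideal.Quotient.mkₐ k m
    let ψ : (G : Submodule R R) →ₗ[R] R ⧸ m := ((bQ.coord i₁).restrictScalars R).comp (Submodule.mkQ _)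
    let gs := (B.repr g).support
    let c : Module.Basis.ofVectorSpaceIndex k A → R ⧸ m := fun j => ψ ⟨B.repr g j, hmem j⟩
    let Bκ := Algebra.TensorProduct.basis (R ⧸ m) b
    let gκ : (R ⧸ m) ⊗[k] A := ∑ j ∈ gs, c j • Bκ j
    haveI := hdom (R ⧸ m)
    have hgκ : gκ = 0 := by
      refine (mul_eq_zero.1 (?_ : bc q f * gκ = 0)).resolve_left (hf _ q)
      refine Bκ.repr.map_eq_zero_iff.1 (Finsupp.ext fun i => ?_)
      have e1 : ∀ j, bc q f * Bκ j = bc q (f * B j) := fun j => by
        rw [bc, map_mul]
        simp [B, Bκ, q]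
      have h0 : ∑ j ∈ gs, B.repr g j • B.repr (f * B j) i = 0 := by
        have := congr_arg (fun t => B.repr t i) h
        simp only [map_zero, Finsupp.coe_zero, Pi.zero_apply] at this
        rw [← this]
        conv_rhs => rw [← B.linearCombination_repr g, Finsupp.linearCombination_apply, Finsupp.sum,
          Finset.mul_sum]
        simp [gs, map_sum, mul_smul_comm, Finsupp.finsetSum_apply]
      have h1 : ψ ⟨∑ j ∈ gs, B.repr g j • B.repr (f * B j) i,
          Submodule.sum_mem _ fun j _ => by rw [smul_eq_mul]; exact G.mul_mem_right _ (hmem j)⟩ = 0 := by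
        simp only [h0]
        exact map_zero ψ
      simp only [gκ, Finset.mul_sum, mul_smul_comm, map_sum, map_smul, Finsupp.finsetSum_apply,
        Finsupp.smul_apply, e1, Bκ, repr_bc, map_zero, Finsupp.coe_zero, Pi.zero_apply]
      rw [← h1, show (⟨∑ j ∈ gs, B.repr g j • B.repr (f * B j) i, _⟩ : (G : Submodule R R)) =
        ∑ j ∈ gs, B.repr (f * B j) i • (⟨B.repr g j, hmem j⟩ : (G : Submodule R R)) from Subtype.ext (by
          simp [mul_comm]), map_sum]
      refine Finset.sum_congr rfl fun j _ => ?_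
      rw [map_smul, smul_eq_mul, Algebra.smul_def, mul_comm]
      rfl
    have hc : ∀ j, ψ ⟨B.repr g j, hmem j⟩ = 0 := fun j => by
      by_cases hj : j ∈ gs
      · have := congr_arg (fun t => Bκ.repr t j) hgκ
        simpa [gκ, c, map_sum, Finsupp.finsetSum_apply, Finsupp.single_apply, hj] using this
      · have e : (⟨B.repr g j, hmem j⟩ : (G : Submodule R R)) = 0 :=
          Subtype.ext (Finsupp.notMem_support_iff.1 hj)
        rw [e, map_zero]
    have hall : ∀ y (hy : y ∈ (G : Submodule R R)), ψ ⟨y, hy⟩ = 0 := by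
      intro y hy
      induction hy using Submodule.span_induction with
      | mem y hy =>
        simp only [Finset.coe_image] at hy
        obtain ⟨j, -, rfl⟩ := hy
        exact hc j
      | zero => exact map_zero ψ
      | add y z hy hz ihy ihz =>
        exact (map_add ψ (⟨y, hy⟩ : (G : Submodule R R)) ⟨z, hz⟩).trans (by rw [ihy, ihz, add_zero])
      | smul a y hy ihy => exact (map_smul ψ a (⟨y, hy⟩ : (G : Submodule R R))).trans (by rw [ihy, smul_zero])
    exact hi₁ (hall x hx)
  obtain ⟨r, hr, hr0⟩ := Submodule.exists_sub_one_mem_and_smul_eq_zero_of_fg_of_le_smul m G hG key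
  refine hm.ne_top ((Ideal.eq_top_iff_one _).2 ?_)
  have hrm : r ∈ m := hle (Module.mem_annihilator.2 fun x => Subtype.ext (hr0 x.1 x.2))
  have := m.sub_mem hrm hr
  rwa [sub_sub_cancel] at this

theorem mem_smul_top_of_bc_eq_zero (I : Ideal R) {t : R ⊗[k] A}
    (h : bc (Ideal.Quotient.mkₐ k I) t = 0) : t ∈ I • (⊤ : Submodule R (R ⊗[k] A)) := by
  classical
  let b := Module.Basis.ofVectorSpace k A
  rw [← (Algebra.TensorProduct.basis R b).linearCombination_repr t, Finsupp.linearCombination_apply]
  refine Submodule.sum_mem _ fun i _ => Submodule.smul_mem_smul ?_ Submodule.mem_top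
  have := repr_bc (Ideal.Quotient.mkₐ k I) b t i
  rw [h, map_zero, Finsupp.zero_apply] at this
  exact Ideal.Quotient.eq_zero_iff_mem.1 this.symm

theorem flat_quotient (hdom : ∀ (κ : Type u) [Field κ] [Algebra k κ], IsDomain (κ ⊗[k] A))
    {f : R ⊗[k] A} (hf : IsFibNonzero f) :
    Module.Flat R ((R ⊗[k] A) ⧸ Ideal.span {f}) := by
  let F := R ⊗[k] A
  haveI : Module.Free R F := Module.Free.of_basis (Algebra.TensorProduct.basis R (Module.Basis.ofVectorSpace k A))
  haveI : Module.Flat R F := inferInstance
  let q : F →ₗ[R] F ⧸ Ideal.span {f} := (Ideal.Quotient.mkₐ R (Ideal.span {f})).toLinearMap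
  let μ : F →ₗ[R] F := (LinearMap.mulLeft R f)
  refine Module.Flat.iff_rTensor_injective'.2 fun I => (injective_iff_map_eq_zero _).2 fun z hz => ?_
  obtain ⟨w, rfl⟩ := LinearMap.lTensor_surjective I (g := q) Ideal.Quotient.mk_surjective z
  have hnat : ∀ w', (TensorProduct.lid R (F ⧸ Ideal.span {f})) (I.subtype.rTensor _ (q.lTensor I w')) =
      q (TensorProduct.lid R F (I.subtype.rTensor F w')) := fun w' => by
    induction w' using TensorProduct.induction_on with
    | zero => simp
    | tmul r x => simp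
    | add a b ha hb => simp [ha, hb]
  have hμ : ∀ w', TensorProduct.lid R F (I.subtype.rTensor F (μ.lTensor I w')) =
      f * TensorProduct.lid R F (I.subtype.rTensor F w') := fun w' => by
    induction w' using TensorProduct.induction_on with
    | zero => simp
    | tmul r x => simp [μ, mul_smul_comm]
    | add a b ha hb => simp [ha, hb, mul_add]
  have hrange : ∀ t : F, t ∈ I • (⊤ : Submodule R F) → ∃ w', TensorProduct.lid R F (I.subtype.rTensor F w') = t :=
    fun t ht => by
      refine Submodule.smul_induction_on ht (fun r hr x _ => ⟨⟨r, hr⟩ ⊗ₜ x, by simp⟩) ?_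
      rintro a b ⟨wa, rfl⟩ ⟨wb, rfl⟩
      exact ⟨wa + wb, by simp⟩
  have hq : q (TensorProduct.lid R F (I.subtype.rTensor F w)) = 0 := by rw [← hnat, hz, map_zero]
  obtain ⟨g, hg⟩ := Ideal.mem_span_singleton.1 (Ideal.Quotient.eq_zero_iff_mem.1 hq)
  let qI := Ideal.Quotient.mkₐ k I
  have hu : bc qI (TensorProduct.lid R F (I.subtype.rTensor F w)) = 0 := by
    clear hq hg hz
    induction w using TensorProduct.induction_on with
    | zero => simp
    | tmul r x =>
      rw [LinearMap.rTensor_tmul, TensorProduct.lid_tmul, bc_smul]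
      simp [qI, Ideal.Quotient.eq_zero_iff_mem.2 r.2]
    | add a b ha hb => rw [map_add, map_add, map_add, ha, hb, add_zero]
  have hgI : bc qI g = 0 := by
    rw [hg, bc, map_mul] at hu
    exact eq_zero_of_mul_eq_zero hdom (hf.bc qI) hu
  obtain ⟨w', hw'⟩ := hrange g (mem_smul_top_of_bc_eq_zero I hgI)
  have hinj : Function.Injective (TensorProduct.lid R F ∘ I.subtype.rTensor F) :=
    (TensorProduct.lid R F).injective.comp (Module.Flat.rTensor_preserves_injective_linearMap _ Subtype.val_injective)
  rw [hinj (a₁ := w) (a₂ := μ.lTensor I w') (by simp only [Function.comp_apply, hμ, hw']; exact hg)]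
  have hqμ : q.comp μ = 0 := LinearMap.ext fun x =>
    Ideal.Quotient.eq_zero_iff_mem.2 (Ideal.mem_span_singleton.2 (dvd_mul_right f x))
  rw [← LinearMap.comp_apply, ← LinearMap.lTensor_comp, hqμ, LinearMap.lTensor_zero, LinearMap.zero_apply]

end Groth.Agent.H3CAlg.FibrewiseRegular
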