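import Groth.Agent.H3CAlg.PropertyP
import Groth.Agent.S9285
import Mathlib.RingTheory.Localization.FractionRing
import Mathlib.RingTheory.Localization.Integer
import Mathlib.RingTheory.Ideal.AssociatedPrime.Finiteness
import Mathlib.LinearAlgebra.Matrix.ToLin
import Mathlib.RingTheory.Localization.Ideal
import Mathlib.LinearAlgebra.Dimension.StrongRankCondition

/-!
Ideals with a finite free resolution contain a non-zero-divisor.
-/

namespace Groth.Agent.H3CAlg.FiniteFreeRes

universe u

variable {Q : Type u} [CommRing Q]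

/-- `M` is stably free. -/
def StablyFree (M : Type u) [AddCommGroup M] [Module Q M] : Prop :=
  ∃ a b : ℕ, Nonempty ((M × (Fin a → Q)) ≃ₗ[Q] (Fin b → Q))

section

variable (hsp : ∀ (n : ℕ) (u : Q →ₗ[Q] (Fin n → Q)), Function.Injective u →
        ∃ v : (Fin n → Q) →ₗ[Q] Q, v.comp u = LinearMap.id)

include hsp in
theorem exists_isCompl {n : ℕ} (S : Submodule Q (Fin n → Q)) (hS : StablyFree (Q := Q) S) :
    ∃ T, IsCompl S T := by
  obtain ⟨a, b, ⟨e⟩⟩ := hS
  let u : (Fin b → Q) →ₗ[Q] ((Fin n → Q) × (Fin a → Q)) := (S.subtype.prodMap LinearMap.id).comp e.symm.toLinearMap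
  have hu : Function.Injective u :=
    (Prod.map_injective.mpr ⟨S.injective_subtype, fun x y h => h⟩).comp e.symm.injective
  obtain ⟨v, hv⟩ := PropertyP.exists_retraction hsp b _ u hu
  let r : (Fin n → Q) →ₗ[Q] S := (LinearMap.fst Q S (Fin a → Q)).comp
    (e.symm.toLinearMap.comp (v.comp (LinearMap.inl Q (Fin n → Q) (Fin a → Q))))
  refine ⟨LinearMap.ker r, LinearMap.isCompl_of_proj fun x => ?_⟩
  have h := LinearMap.congr_fun hv (e (x, 0))
  simp only [u, LinearMap.comp_apply, LinearEquiv.coe_coe, LinearEquiv.symm_apply_apply, LinearMap.prodMap_apply,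
    LinearMap.id_coe, id_eq] at h
  show (e.symm (v (((x : Fin n → Q)), (0 : Fin a → Q)))).1 = x
  rw [show v ((S.subtype x : Fin n → Q), (0 : Fin a → Q)) = v ((x : Fin n → Q), (0 : Fin a → Q)) from rfl] at h
  rw [h, e.symm_apply_apply]

theorem stablyFree_range {n : ℕ} {M : Type u} [AddCommGroup M] [Module Q M] (f : (Fin n → Q) →ₗ[Q] M)
    (hS : StablyFree (Q := Q) (LinearMap.ker f)) (hc : ∃ T, IsCompl (LinearMap.ker f) T) :
    StablyFree (Q := Q) (LinearMap.range f) := by
  obtain ⟨a, b, ⟨e⟩⟩ := hS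
  obtain ⟨T, hT⟩ := hc
  let e1 : LinearMap.range f ≃ₗ[Q] T := f.quotKerEquivRange.symm.trans (Submodule.quotientEquivOfIsCompl _ _ hT)
  let e2 : (Fin n → Q) ≃ₗ[Q] LinearMap.ker f × T := (Submodule.prodEquivOfIsCompl _ _ hT).symm
  refine ⟨b, n + a, ⟨?_⟩⟩
  exact ((LinearEquiv.prodCongr e1 e.symm).trans
    (((LinearEquiv.prodAssoc Q T (LinearMap.ker f) (Fin a → Q)).symm.trans
      (LinearEquiv.prodCongr ((LinearEquiv.prodComm Q T (LinearMap.ker f)).trans e2.symm) (LinearEquiv.refl Q _))).trans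
      ((LinearEquiv.sumArrowLequivProdArrow _ _ Q Q).symm.trans (LinearEquiv.funCongrLeft Q Q finSumFinEquiv.symm))))

include hsp in
theorem stablyFree_range_complex (e : ℕ) (n : ℕ → ℕ) (A : (i : ℕ) → (Fin (n (i + 1)) → Q) →ₗ[Q] (Fin (n i) → Q))
    (hA : ∀ i, i + 2 ≤ e → LinearMap.ker (A i) = LinearMap.range (A (i + 1)))
    (hlast : LinearMap.ker (A (e - 1)) = ⊥) :
    ∀ d i, i + d + 1 = e → StablyFree (Q := Q) (LinearMap.range (A i)) := by
  intro d
  induction d with
  | zero =>
    intro i hi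
    obtain rfl : i = e - 1 := by omega
    exact ⟨0, n (e - 1 + 1), ⟨(LinearEquiv.prodUnique).trans
      (LinearEquiv.ofInjective (A (e - 1)) (LinearMap.ker_eq_bot.mp hlast)).symm⟩⟩
  | succ d ih =>
    intro i hi
    have h := ih (i + 1) (by omega)
    have hsub : StablyFree (Q := Q) (LinearMap.ker (A i)) := by
      obtain ⟨a, b, ⟨f⟩⟩ := h
      exact ⟨a, b, ⟨((LinearEquiv.ofEq _ _ (hA i (by omega))).prodCongr (LinearEquiv.refl Q _)).trans f⟩⟩
    exact stablyFree_range (A i) hsub (exists_isCompl hsp _ hsub)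

/-- A stably free module killed by a nonzero element is zero. -/
theorem eq_zero_of_stablyFree {M : Type u} [AddCommGroup M] [Module Q M] (h : StablyFree (Q := Q) M)
    {x : Q} (hx : x ≠ 0) (hM : ∀ m : M, x • m = 0) : Subsingleton M := by
  classical
  obtain ⟨a, b, ⟨e⟩⟩ := h
  let s : (Fin a → Q) →ₗ[Q] (Fin b → Q) := e.toLinearMap.comp (LinearMap.inr Q M (Fin a → Q))
  let p : (Fin b → Q) →ₗ[Q] (Fin a → Q) := (LinearMap.snd Q M (Fin a → Q)).comp e.symm.toLinearMap
  have hps : p.comp s = LinearMap.id := LinearMap.ext fun v => by simp [p, s]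
  have hsp' : ∀ v, x • (v - s (p v)) = 0 := fun v => by
    have : v - s (p v) = e ((e.symm v).1, 0) := by
      rw [sub_eq_iff_eq_add]
      show v = e ((e.symm v).1, 0) + e (0, (e.symm v).2)
      rw [← map_add, Prod.mk_add_mk, add_zero, zero_add, Prod.mk.eta, e.apply_symm_apply]
    rw [this, ← map_smul, Prod.smul_mk, hM, smul_zero, show ((0 : M), (0 : Fin a → Q)) = 0 from rfl, map_zero]
  obtain ⟨m, hm, hle⟩ := Ideal.exists_le_maximal (LinearMap.ker (LinearMap.toSpanSingleton Q Q x) : Ideal Q)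
    fun htop => hx (by
      have : (1 : Q) ∈ (LinearMap.ker (LinearMap.toSpanSingleton Q Q x) : Ideal Q) := htop ▸ Submodule.mem_top
      simpa using this)
  letI := Ideal.Quotient.field m
  let φ : Q →+* Q ⧸ m := Ideal.Quotient.mk m
  let S := (LinearMap.toMatrix' s).map φ
  let P := (LinearMap.toMatrix' p).map φ
  have h1 : P * S = 1 := by
    simp only [P, S, ← Matrix.map_mul, ← LinearMap.toMatrix'_comp, hps, LinearMap.toMatrix'_id]
    exact Matrix.map_one φ (map_zero φ) (map_one φ)
  have h2 : S * P = 1 := by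
    simp only [P, S, ← Matrix.map_mul, ← LinearMap.toMatrix'_comp]
    ext i j
    rw [Matrix.map_apply, LinearMap.toMatrix'_apply, LinearMap.comp_apply, ← Matrix.map_one φ (map_zero φ) (map_one φ), Matrix.map_apply,
      ← sub_eq_zero, ← map_sub]
    refine Ideal.Quotient.eq_zero_iff_mem.mpr (hle ?_)
    have h3 := congrFun (hsp' (Pi.single j 1)) i
    simp only [Pi.smul_apply, Pi.sub_apply, smul_eq_mul, Pi.zero_apply, Pi.single_apply] at h3
    rw [LinearMap.mem_ker, LinearMap.toSpanSingleton_apply, smul_eq_mul, Matrix.one_apply]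
    linear_combination -h3
  have hab : a = b := le_antisymm
    (by
      have := LinearMap.finrank_le_finrank_of_injective (f := Matrix.mulVecLin S) (fun v w hvw => by
        have := congrArg (Matrix.mulVec P) hvw
        simpa [Matrix.mulVec_mulVec, h1] using this)
      simpa using this)
    (by
      have := LinearMap.finrank_le_finrank_of_injective (f := Matrix.mulVecLin P) (fun v w hvw => by
        have := congrArg (Matrix.mulVec S) hvw
        simpa [Matrix.mulVec_mulVec, h2] using this)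
      simpa using this)
  subst hab
  have hinj : Function.Injective p :=
    OrzechProperty.injective_of_surjective_endomorphism p fun v => ⟨s v, LinearMap.congr_fun hps v⟩
  refine subsingleton_of_forall_eq 0 fun y => ?_
  have := hinj (show p (e (y, 0)) = p 0 by simp [p])
  have := congrArg (fun v => (e.symm v).1) this
  simpa using this

end

/-- An ideal with a finite free resolution contains a non-zero-divisor. -/
theorem exists_nonZeroDivisor {R : Type u} [CommRing R] [IsNoetherianRing R]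
    (e : ℕ) (he : 1 ≤ e) (n : ℕ → ℕ) (A : (i : ℕ) → Matrix (Fin (n i)) (Fin (n (i + 1))) R)
    (π : (Fin (n 0) → R) →ₗ[R] R) (hI : LinearMap.range π ≠ ⊥)
    (h0 : LinearMap.ker π = LinearMap.range (A 0).mulVecLin)
    (hA : ∀ i, i + 2 ≤ e → LinearMap.ker (A i).mulVecLin = LinearMap.range (A (i + 1)).mulVecLin)
    (hlast : LinearMap.ker (A (e - 1)).mulVecLin = ⊥) :
    ∃ x : R, x ∈ LinearMap.range π ∧ x ∈ nonZeroDivisors R := by
  classical
  let K := FractionRing R
  let φ := algebraMap R K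
  have hφ : Function.Injective φ := IsFractionRing.injective R K
  haveI : IsNoetherianRing K := IsLocalization.isNoetherianRing (nonZeroDivisors R) K inferInstance
  have hprop : ∀ I : Ideal K, I.FG → I ≠ ⊤ → I.annihilator ≠ ⊥ := fun I _ hne => by
    refine (Ideal.bot_lt_annihilator_of_disjoint_nonZeroDivisors ?_).ne'
    rw [Set.disjoint_left]
    intro z hz hz'
    obtain ⟨⟨r, s⟩, hrs⟩ := IsLocalization.surj (nonZeroDivisors R) z
    have hs : IsUnit (φ s) := IsLocalization.map_units K s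
    refine hne (Ideal.eq_top_of_isUnit_mem _ hz ?_)
    have hr : r ∈ nonZeroDivisors R := by
      rw [← isRegular_iff_mem_nonZeroDivisors, ← isLeftRegular_iff_isRegular, isLeftRegular_iff_right_eq_zero_of_mul]
      intro c hc
      apply hφ
      rw [map_zero]
      have : z * φ s * φ c = 0 := by rw [hrs, ← map_mul, hc, map_zero]
      rw [mul_assoc] at this
      exact (hs.mul_right_eq_zero).mp ((mul_right_mem_nonZeroDivisors_eq_zero_iff hz').mp (by rwa [mul_comm] at this))
    exact isUnit_of_mul_isUnit_left (hrs ▸ IsLocalization.map_units K (⟨r, hr⟩ : nonZeroDivisors R))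
  have hsp := (Groth.Agent.S9285.result K).mp hprop
  -- clearing denominators
  have hclear : ∀ {m : ℕ} (x : Fin m → K), ∃ (s : nonZeroDivisors R) (y : Fin m → R), φ s • x = φ ∘ y := by
    intro m x
    obtain ⟨s, hs⟩ := IsLocalization.exist_integer_multiples_of_finite (nonZeroDivisors R) x
    choose y hy using hs
    exact ⟨s, y, funext fun i => by rw [Pi.smul_apply, Function.comp_apply, smul_eq_mul, hy i, Algebra.smul_def]⟩
  have hmap : ∀ {a c : ℕ} (M : Matrix (Fin a) (Fin c) R) (y : Fin c → R),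
      (M.map φ).mulVecLin (φ ∘ y) = φ ∘ M.mulVecLin y := fun M y => funext fun i => (RingHom.map_mulVec φ M y i).symm
  let A' : (i : ℕ) → (Fin (n (i + 1)) → K) →ₗ[K] (Fin (n i) → K) := fun i => ((A i).map φ).mulVecLin
  let b : Fin (n 0) → K := fun i => φ (π (Pi.single i 1))
  let π' : (Fin (n 0) → K) →ₗ[K] K := Fintype.linearCombination K b
  have hπ : ∀ y, π' (φ ∘ y) = φ (π y) := fun y => by
    rw [Fintype.linearCombination_apply]
    conv_rhs => rw [pi_eq_sum_univ' y, map_sum, map_sum]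
    exact Finset.sum_congr rfl fun i _ => by simp [b, map_smul]
  have hlift : ∀ {a c : ℕ} (f : (Fin c → K) →ₗ[K] (Fin a → K)) (g : (Fin c → R) →ₗ[R] (Fin a → R))
      (hfg : ∀ y, f (φ ∘ y) = φ ∘ g y) (x : Fin c → K) (hx : f x = 0), ∃ (s : nonZeroDivisors R) (y : Fin c → R),
        φ s • x = φ ∘ y ∧ g y = 0 := by
    intro a c f g hfg x hx
    obtain ⟨s, y, hy⟩ := hclear x
    refine ⟨s, y, hy, funext fun i => hφ ?_⟩
    have := congrFun (congrArg f hy) i
    rw [map_smul, hx, smul_zero, hfg] at this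
    simpa using this.symm
  have hlift' : ∀ {a c : ℕ} (M : Matrix (Fin a) (Fin c) R) (x : Fin a → K) (s : nonZeroDivisors R) (y : Fin c → R),
      φ s • x = φ ∘ M.mulVecLin y → x ∈ LinearMap.range (M.map φ).mulVecLin := by
    intro a c M x s y h
    obtain ⟨u, hu⟩ := IsLocalization.map_units K s
    refine ⟨(↑u⁻¹ : K) • (φ ∘ y), ?_⟩
    rw [map_smul, hmap, ← h, ← hu, smul_smul, Units.inv_mul, one_smul]
  have hA' : ∀ i, i + 2 ≤ e → LinearMap.ker (A' i) = LinearMap.range (A' (i + 1)) := by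
    intro i hi
    apply le_antisymm
    · intro x hx
      obtain ⟨s, y, hy, hgy⟩ := hlift (A' i) (A i).mulVecLin (hmap (A i)) x hx
      obtain ⟨w, hw⟩ : y ∈ LinearMap.range (A (i + 1)).mulVecLin := hA i hi ▸ hgy
      exact hlift' _ x s w (by rw [hy, hw])
    · rintro _ ⟨x, rfl⟩
      obtain ⟨s, y, hy⟩ := hclear x
      have h1 := congrArg (fun v => A' i (A' (i + 1) v)) hy
      simp only [map_smul] at h1
      rw [show A' i (A' (i + 1) (φ ∘ y)) = φ ∘ ((A i).mulVecLin ((A (i + 1)).mulVecLin y)) by simp only [A', hmap]] at h1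
      rw [LinearMap.mem_ker.mp (hA i hi ▸ ⟨y, rfl⟩ : (A (i + 1)).mulVecLin y ∈ LinearMap.ker (A i).mulVecLin)] at h1
      refine LinearMap.mem_ker.mpr (((IsLocalization.map_units K s).smul_eq_zero).mp (h1.trans ?_))
      funext k; simp
  have hlast' : LinearMap.ker (A' (e - 1)) = ⊥ := by
    rw [LinearMap.ker_eq_bot']
    intro x hx
    obtain ⟨s, y, hy, hgy⟩ := hlift (A' (e - 1)) (A (e - 1)).mulVecLin (hmap (A (e - 1))) x hx
    have : y = 0 := (LinearMap.ker_eq_bot'.mp hlast) y hgy
    rw [this] at hy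
    exact ((IsLocalization.map_units K s).smul_eq_zero).mp (hy.trans (funext fun k => by simp))
  have h0' : LinearMap.ker π' = LinearMap.range (A' 0) := by
    apply le_antisymm
    · intro x hx
      obtain ⟨s, y, hy⟩ := hclear x
      have : π y = 0 := hφ (by rw [← hπ, ← hy, map_smul, LinearMap.mem_ker.mp hx, smul_zero, map_zero])
      obtain ⟨w, hw⟩ : y ∈ LinearMap.range (A 0).mulVecLin := h0 ▸ this
      exact hlift' _ x s w (by rw [hy, hw])
    · rintro _ ⟨x, rfl⟩
      obtain ⟨s, y, hy⟩ := hclear x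
      have h1 := congrArg (fun v => π' (A' 0 v)) hy
      simp only [map_smul] at h1
      rw [show π' (A' 0 (φ ∘ y)) = φ (π ((A 0).mulVecLin y)) by simp only [A', hmap, hπ]] at h1
      rw [LinearMap.mem_ker.mp (h0 ▸ ⟨y, rfl⟩ : (A 0).mulVecLin y ∈ LinearMap.ker π), map_zero] at h1
      exact LinearMap.mem_ker.mpr (((IsLocalization.map_units K s).smul_eq_zero).mp h1)
  have hSF := stablyFree_range_complex hsp e n A' hA' hlast' (e - 1) 0 (by omega)
  have hker : StablyFree (Q := K) (LinearMap.ker π') := by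
    obtain ⟨a, c, ⟨f⟩⟩ := hSF
    exact ⟨a, c, ⟨((LinearEquiv.ofEq _ _ h0').prodCongr (LinearEquiv.refl K _)).trans f⟩⟩
  have hJ : StablyFree (Q := K) (LinearMap.range π') := stablyFree_range π' hker (exists_isCompl hsp _ hker)
  have htop : LinearMap.range π' = ⊤ := by
    by_contra hne
    obtain ⟨x, hx, hx0⟩ := Submodule.exists_mem_ne_zero_of_ne_bot
      (hprop _ (IsNoetherian.noetherian (LinearMap.range π' : Ideal K)) hne)
    have hsub := eq_zero_of_stablyFree hJ hx0 fun z => Subtype.ext (Submodule.mem_annihilator.mp hx z.1 z.2)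
    apply hI
    rw [LinearMap.range_eq_bot]
    refine LinearMap.ext fun y => hφ ?_
    rw [← hπ, LinearMap.zero_apply, map_zero]
    exact congrArg Subtype.val (Subsingleton.elim (⟨_, ⟨φ ∘ y, rfl⟩⟩ : LinearMap.range π') 0)
  obtain ⟨c, hc⟩ : (1 : K) ∈ LinearMap.range π' := htop ▸ trivial
  obtain ⟨s, y, hy⟩ := hclear c
  refine ⟨s, ⟨y, hφ ?_⟩, s.2⟩
  rw [← hπ, ← hy, map_smul, hc, smul_eq_mul, mul_one]

end Groth.Agent.H3CAlg.FiniteFreeRes
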