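import Mathlib.RingTheory.Spectrum.Prime.Basic
import Mathlib.RingTheory.Localization.AtPrime.Basic
import Mathlib.RingTheory.Localization.Away.Basic
import Mathlib.RingTheory.Nilpotent.Lemmas

/-!
Localizations at primes of rings with finite spectrum are basic open localizations.
-/

universe u v

namespace Groth.Agent.H3CAlg.FiniteSpecLocal

theorem exists_away {B : Type u} [CommRing B] [Finite (PrimeSpectrum B)] (P : Ideal B) [P.IsPrime]
    (L : Type v) [CommRing L] [Algebra B L] [IsLocalization.AtPrime L P] :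
    ∃ f : B, f ∉ P ∧ IsLocalization.Away f L := by
  classical
  cases nonempty_fintype (PrimeSpectrum B)
  have hex : ∀ Q : PrimeSpectrum B, ∃ a, a ∉ P ∧ (¬ Q.asIdeal ≤ P → a ∈ Q.asIdeal) := by
    intro Q
    by_cases h : Q.asIdeal ≤ P
    · exact ⟨1, fun h1 => ‹P.IsPrime›.ne_top ((Ideal.eq_top_iff_one P).mpr h1), fun h' => absurd h h'⟩
    · obtain ⟨a, ha, haP⟩ := Set.not_subset.mp h
      exact ⟨a, haP, fun _ => ha⟩
  choose a haP haQ using hex
  let f := ∏ Q, a Q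
  have hf : f ∉ P := fun h => by
    obtain ⟨Q, -, hQ⟩ := (Ideal.IsPrime.prod_mem_iff).mp h
    exact haP Q hQ
  have hdiv : ∀ b : B, b ∉ P → ∃ n : ℕ, ∃ r : B, f ^ n = r * b := by
    intro b hb
    have : f ∈ (Ideal.span {b}).radical := by
      rw [Ideal.radical_eq_sInf, Submodule.mem_sInf]
      rintro J ⟨hbJ, hJ⟩
      refine Ideal.mem_of_dvd J (Finset.dvd_prod_of_mem a (Finset.mem_univ (⟨J, hJ⟩ : PrimeSpectrum B))) (haQ ⟨J, hJ⟩ fun hle => hb (hle (hbJ (Ideal.mem_span_singleton_self b))))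
    obtain ⟨n, hn⟩ := this
    obtain ⟨r, hr⟩ := Ideal.mem_span_singleton'.mp hn
    exact ⟨n, r, hr.symm⟩
  refine ⟨f, hf, ?_, ?_, ?_⟩
  · rintro ⟨_, n, rfl⟩
    exact IsLocalization.map_units L (⟨f ^ n, P.primeCompl.pow_mem hf n⟩ : P.primeCompl)
  · intro z
    obtain ⟨⟨x, b, hb⟩, hz⟩ := IsLocalization.surj P.primeCompl z
    obtain ⟨n, r, hr⟩ := hdiv b hb
    refine ⟨⟨r * x, ⟨f ^ n, n, rfl⟩⟩, ?_⟩
    simp only [hr, map_mul]
    rw [← hz]
    ring
  · intro x y h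
    obtain ⟨⟨b, hb⟩, hbxy⟩ := IsLocalization.exists_of_eq (M := P.primeCompl) h
    obtain ⟨n, r, hr⟩ := hdiv b hb
    exact ⟨⟨f ^ n, n, rfl⟩, by simp only [hr, mul_assoc]; exact congrArg (r * ·) hbxy⟩

end Groth.Agent.H3CAlg.FiniteSpecLocal
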