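import Groth.Agent.H29Fitt.Rank
import Groth.Agent.H3CAlg.FittPrincipal
import Groth.Agent.S6896
import Groth.Prelude.Def_FlatCA
import Groth.Prelude.Def_BlowUp2
import Mathlib.RingTheory.LocalProperties.Submodule

/-!
# Strict transforms of modules on the blowup of a Fitting ideal
-/

set_option autoImplicit false
universe u

open TensorProduct

namespace Groth.Agent.H3CAlg.FittBlowup

variable {R : Type u} [CommRing R]

theorem mem_powTorsion_iff {M : Type u} [AddCommGroup M] [Module R M] (f : R) (m : M) :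
    m ∈ FlatCA.powTorsion R f M ↔ ∃ n : ℕ, f ^ n • m = 0 := by
  have hdir : Directed (· ≤ ·) fun n : ℕ => Submodule.torsionBy R M (f ^ n) :=
    Monotone.directed_le fun i j hij x hx => by
      rw [Submodule.mem_torsionBy_iff] at hx ⊢
      obtain ⟨l, rfl⟩ := Nat.exists_eq_add_of_le hij
      rw [add_comm, pow_add, mul_smul, hx, smul_zero]
  rw [FlatCA.powTorsion, Submodule.mem_iSup_of_directed _ hdir]
  simp [Submodule.mem_torsionBy_iff]

/-- On the blowup chart the element is a nonzerodivisor and generates the ideal. -/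
theorem chart (I : Ideal R) (a : R) (ha : a ∈ I) (R₁ : Type u) [CommRing R₁] [Algebra R R₁]
    (e : R₁ ≃ₐ[R] ↥(BlowUp.affineAlgebra R I a)) :
    algebraMap R R₁ a ∈ nonZeroDivisors R₁ ∧
      I.map (algebraMap R R₁) = Ideal.span {algebraMap R R₁ a} := by
  refine ⟨mem_nonZeroDivisors_iff_right.mpr fun z hz => ?_, le_antisymm ?_ ?_⟩
  · have h := congrArg (fun w => (e w : Localization.Away a)) hz
    simp only [map_mul, map_zero, AlgEquiv.commutes, MulMemClass.coe_mul, ZeroMemClass.coe_zero,
      Subalgebra.coe_algebraMap] at h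
    refine e.injective (Subtype.ext ?_)
    rw [map_zero, ZeroMemClass.coe_zero]
    exact (IsLocalization.Away.algebraMap_isUnit a).mul_left_eq_zero.mp h
  · rw [Ideal.map_le_iff_le_comap]
    intro x hx
    have hq : IsLocalization.mk' (Localization.Away a) x (⟨a, Submonoid.mem_powers a⟩ : Submonoid.powers a) ∈
        BlowUp.affineAlgebra R I a := Algebra.subset_adjoin ⟨x, hx, rfl⟩
    rw [Ideal.mem_comap, Ideal.mem_span_singleton']
    refine ⟨e.symm ⟨_, hq⟩, e.injective (Subtype.ext ?_)⟩
    simp only [map_mul, AlgEquiv.apply_symm_apply, AlgEquiv.commutes, MulMemClass.coe_mul,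
      Subalgebra.coe_algebraMap]
    exact IsLocalization.mk'_spec _ x (⟨a, Submonoid.mem_powers a⟩ : Submonoid.powers a)
  · rw [Ideal.span_le, Set.singleton_subset_iff]
    exact Ideal.mem_map_of_mem _ ha

/-- The quotient by the torsion is locally generated by `k` elements. -/
theorem ideal_quotient_powTorsion_eq_top {M : Type u} [AddCommGroup M] [Module R M] [Module.Finite R M]
    (k : ℕ) (f : R) (hf : Fitt.ideal R M k = Ideal.span {f}) :
    Fitt.ideal R (M ⧸ FlatCA.powTorsion R f M) k = ⊤ := by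
  by_contra hne
  obtain ⟨p, hp, hle⟩ := Ideal.exists_le_maximal _ hne
  set T := FlatCA.powTorsion R f M
  let Rp := Localization.AtPrime p
  have hfp : Fitt.ideal Rp (Rp ⊗[R] M) k = Ideal.span {algebraMap R Rp f} := by
    rw [H29Fitt.ideal_baseChange, hf, Ideal.map_span, Set.image_singleton]
  obtain ⟨g, hg⟩ := S6896.result (R := Rp) (Rp ⊗[R] M) k _ hfp
  let π : (Rp ⊗[R] M) →ₗ[Rp] Rp ⊗[R] (M ⧸ T) := T.mkQ.baseChange Rp
  have hπ : Function.Surjective π := LinearMap.lTensor_surjective Rp T.mkQ_surjective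
  have hker : LinearMap.ker (algebraMap R Rp f • (LinearMap.id : (Rp ⊗[R] M) →ₗ[Rp] Rp ⊗[R] M)) ≤
      LinearMap.ker π := by
    intro z hz
    rw [LinearMap.mem_ker, LinearMap.smul_apply, LinearMap.id_apply] at hz
    obtain ⟨⟨m, s⟩, hms⟩ := IsLocalizedModule.mk'_surjective p.primeCompl
      (TensorProduct.mk R Rp M 1) z
    simp only [Function.uncurry_apply_pair] at hms
    have hsz : (s : R) • z = (1 : Rp) ⊗ₜ[R] m := by
      rw [← hms, ← Submonoid.smul_def, IsLocalizedModule.mk'_cancel']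
      rfl
    have hfm : TensorProduct.mk R Rp M 1 (f • m) = 0 := by
      rw [map_smul, TensorProduct.mk_apply, ← hsz, smul_comm]
      rw [← algebraMap_smul Rp f z, hz, smul_zero]
    obtain ⟨u, hu⟩ := (IsLocalizedModule.eq_zero_iff p.primeCompl _).mp hfm
    have hum : (u : R) • m ∈ T :=
      (mem_powTorsion_iff f _).mpr ⟨1, by rw [pow_one, smul_comm]; exact hu⟩
    rw [LinearMap.mem_ker]
    have h0 : ((u : R) * s) • π z = 0 := by
      rw [mul_smul, ← LinearMap.map_smul_of_tower, hsz, ← LinearMap.map_smul_of_tower,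
        ← TensorProduct.tmul_smul]
      simp only [π, LinearMap.baseChange_tmul, Submodule.mkQ_apply,
        (Submodule.Quotient.mk_eq_zero T).mpr hum, TensorProduct.tmul_zero]
    rw [← algebraMap_smul Rp ((u : R) * s) (π z)] at h0
    exact (IsLocalization.map_units Rp (u * s : p.primeCompl)).smul_eq_zero.mp h0
  let π' := (LinearMap.ker (algebraMap R Rp f • (LinearMap.id : (Rp ⊗[R] M) →ₗ[Rp] Rp ⊗[R] M))).liftQ π hker
  have hπ' : Function.Surjective π' := fun w => by
    obtain ⟨z, rfl⟩ := hπ w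
    exact ⟨Submodule.Quotient.mk z, rfl⟩
  have hgen : Submodule.span Rp (Set.range (π' ∘ g)) = ⊤ := by
    rw [Set.range_comp, ← Submodule.map_span, hg, Submodule.map_top, LinearMap.range_eq_top.mpr hπ']
  have htop := H29Fitt.ideal_eq_top_of_span (π' ∘ g) hgen (le_refl k)
  rw [H29Fitt.ideal_baseChange] at htop
  have := Ideal.map_mono (f := algebraMap R Rp) hle
  rw [htop, Localization.AtPrime.map_eq_maximalIdeal] at this
  exact (IsLocalRing.maximalIdeal.isMaximal Rp).ne_top (top_le_iff.mp this)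

/-- A Fitting ideal below the rank of a module free on `D(a)` is killed by a power of `a`. -/
theorem exists_pow_mul_eq_zero {M : Type u} [AddCommGroup M] [Module R M] [Module.Finite R M]
    (k j : ℕ) (hj : j < k) (a : R)
    (hfree : ∀ (p : Ideal R) [p.IsPrime], a ∉ p →
      Module.Free (Localization.AtPrime p) (LocalizedModule p.primeCompl M) ∧
        Module.finrank (Localization.AtPrime p) (LocalizedModule p.primeCompl M) = k)
    (x : R) (hx : x ∈ Fitt.ideal R M j) : ∃ n : ℕ, a ^ n * x = 0 := by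
  have key : ∀ (p : Ideal R) [p.IsPrime], a ∉ p → ∃ u : R, u ∉ p ∧ u * x = 0 := by
    intro p _ hap
    obtain ⟨hfr, hrk⟩ := hfree p hap
    let Rp := Localization.AtPrime p
    let e : (Rp ⊗[R] M) ≃ₗ[Rp] LocalizedModule p.primeCompl M :=
      (IsLocalizedModule.isBaseChange p.primeCompl Rp
        (LocalizedModule.mkLinearMap p.primeCompl M)).equiv
    have : Module.Free Rp (Rp ⊗[R] M) := Module.Free.of_equiv e.symm
    let b : Module.Basis (Fin k) Rp (Rp ⊗[R] M) :=
      Module.finBasisOfFinrankEq Rp _ (by rw [e.finrank_eq, hrk])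
    have hbot : Fitt.ideal Rp (Rp ⊗[R] M) j = ⊥ := by
      rw [H29Fitt.ideal_eq b b.span_eq, eq_bot_iff]
      refine H29Fitt.J_le fun z e hz => ?_
      haveI : Nonempty (Fin (k - j)) := ⟨⟨0, by omega⟩⟩
      rw [Matrix.det_eq_zero_of_column_eq_zero (Classical.arbitrary _) fun i =>
        Fintype.linearIndependent_iff.mp b.linearIndependent (z _) (hz _) (e i)]
      exact Submodule.zero_mem _
    have h0 : algebraMap R Rp x = 0 := by
      have : algebraMap R Rp x ∈ (Fitt.ideal R M j).map (algebraMap R Rp) := Ideal.mem_map_of_mem _ hx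
      rwa [← H29Fitt.ideal_baseChange, hbot, Ideal.mem_bot] at this
    obtain ⟨⟨u, hu⟩, hux⟩ := (IsLocalization.map_eq_zero_iff p.primeCompl Rp x).mp h0
    exact ⟨u, hu, hux⟩
  have : a ∈ Ideal.radical (LinearMap.ker (LinearMap.toSpanSingleton R R x) : Ideal R) := by
    rw [Ideal.radical_eq_sInf, Ideal.mem_sInf]
    rintro p ⟨hle, hp⟩
    by_contra hap
    obtain ⟨u, hu, hux⟩ := key p hap
    exact hu (hle (by rw [LinearMap.mem_ker, LinearMap.toSpanSingleton_apply, smul_eq_mul, hux]))
  obtain ⟨n, hn⟩ := this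
  exact ⟨n, by simpa [LinearMap.mem_ker, LinearMap.toSpanSingleton_apply] using hn⟩

/-- Nonzerodivisors act injectively on the quotient by the `f`-torsion. -/
theorem eq_zero_of_smul_eq_zero {M : Type u} [AddCommGroup M] [Module R M] [Module.Finite R M]
    (k : ℕ) (f : R) (hf0 : f ∈ nonZeroDivisors R) (hf : Fitt.ideal R M k = Ideal.span {f})
    (hk : k = 0 ∨ Fitt.ideal R M (k - 1) = ⊥) {h : R} (hh : h ∈ nonZeroDivisors R)
    (q : M ⧸ LinearMap.ker (f • (LinearMap.id : M →ₗ[R] M))) (hq : h • q = 0) : q = 0 := by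
  obtain ⟨n, x, hx⟩ := Module.Finite.exists_fin (R := R) (M := M)
  revert hq q
  set T := LinearMap.ker (f • (LinearMap.id : M →ₗ[R] M)) with hT
  intro q hq
  by_contra hq0
  obtain ⟨P, hP, hle⟩ := Ideal.exists_le_maximal (LinearMap.ker (LinearMap.toSpanSingleton R (M ⧸ T) q))
    (fun h0 => hq0 (by
      simpa [LinearMap.mem_ker] using (Ideal.eq_top_iff_one _).mp h0))
  obtain ⟨c, hc, ⟨y, hy1, hy2⟩, -⟩ := FittPrincipal.exists_local_data k f hf0 hf hk x hx P
  obtain ⟨s, hs⟩ := hy1 q
  obtain ⟨b, hb⟩ := (Submodule.mem_span_range_iff_exists_fun R).mp hs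
  have hfb : ∑ i, (h * b i) • y i = 0 := by
    simp only [mul_smul, ← Finset.smul_sum, hb]
    rw [smul_comm, hq, smul_zero]
  obtain ⟨s', hs'⟩ := hy2 _ hfb
  have hb0 : ∀ i, c ^ s' * b i = 0 := fun i =>
    mem_nonZeroDivisors_iff_right.mp hh _ (by
      have := congrFun hs' i
      simp only [Pi.smul_apply, smul_eq_mul, Pi.zero_apply] at this
      linear_combination this)
  refine hP.isPrime.mul_notMem (fun h0 => hc (hP.isPrime.mem_of_pow_mem s' h0))
    (fun h0 => hc (hP.isPrime.mem_of_pow_mem s h0)) (hle ?_)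
  rw [LinearMap.mem_ker, LinearMap.toSpanSingleton_apply, mul_smul, ← hb, Finset.smul_sum]
  refine Finset.sum_eq_zero fun i _ => ?_
  rw [smul_smul, hb0, zero_smul]

/-- With a principal Fitting ideal the quotient by the torsion is locally free. -/
theorem locallyFree_quotient_powTorsion {M : Type u} [AddCommGroup M] [Module R M] [Module.Finite R M]
    (k : ℕ) (f : R) (hf0 : f ∈ nonZeroDivisors R) (hf : Fitt.ideal R M k = Ideal.span {f})
    (hk : k = 0 ∨ Fitt.ideal R M (k - 1) = ⊥) (p : Ideal R) [p.IsPrime] :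
    ∃ g : R, g ∉ p ∧
      Module.Free (Localization.Away g) (LocalizedModule (Submonoid.powers g) (M ⧸ FlatCA.powTorsion R f M)) ∧
      Module.finrank (Localization.Away g) (LocalizedModule (Submonoid.powers g) (M ⧸ FlatCA.powTorsion R f M)) = k := by
  obtain ⟨n, x, hx⟩ := Module.Finite.exists_fin (R := R) (M := M)
  set T := LinearMap.ker (f • (LinearMap.id : M →ₗ[R] M)) with hT
  have hinj : ∀ q : M ⧸ T, f • q = 0 → q = 0 := eq_zero_of_smul_eq_zero k f hf0 hf hk hf0
  have hpow : FlatCA.powTorsion R f M = T := by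
    refine le_antisymm (fun m hm => ?_) fun m hm => (mem_powTorsion_iff f m).mpr ⟨1, ?_⟩
    · obtain ⟨j, hj⟩ := (mem_powTorsion_iff f m).mp hm
      rw [← Submodule.Quotient.mk_eq_zero]
      have hjq : f ^ j • (Submodule.Quotient.mk m : M ⧸ T) = 0 := by
        rw [← Submodule.Quotient.mk_smul, hj, Submodule.Quotient.mk_zero]
      clear hj
      induction j with
      | zero => simpa using hjq
      | succ j ih => exact ih (hinj _ (by rwa [pow_succ', mul_smul] at hjq))
    · rw [pow_one]
      simpa [hT] using hm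
  rw [hpow]
  obtain ⟨c, hc, ⟨y, hy⟩, -⟩ := FittPrincipal.exists_local_data k f hf0 hf hk x hx p
  obtain ⟨b⟩ := FittPrincipal.nonempty_basis hy
  have : Nontrivial (Localization.Away c) := by
    refine ⟨1, 0, fun h => ?_⟩
    rw [← map_one (algebraMap R (Localization.Away c)), IsLocalization.map_eq_zero_iff (Submonoid.powers c)] at h
    obtain ⟨⟨_, j, rfl⟩, hj⟩ := h
    simp only [mul_one] at hj
    exact hc (‹p.IsPrime›.mem_of_pow_mem j (hj ▸ p.zero_mem))
  exact ⟨c, hc, Module.Free.of_basis b, by rw [Module.finrank_eq_card_basis b, Fintype.card_fin]⟩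

/-- The strict transform of a module free off the Fitting ideal, on the chart of `a`. -/
theorem strictTransform_locallyFree {M : Type u} [AddCommGroup M] [Module R M] [Module.Finite R M]
    (k : ℕ) (I : Ideal R) (a : R) (ha : a ∈ I)
    (hfree : ∀ (p : Ideal R) [p.IsPrime], a ∉ p →
      Module.Free (Localization.AtPrime p) (LocalizedModule p.primeCompl M) ∧
        Module.finrank (Localization.AtPrime p) (LocalizedModule p.primeCompl M) = k)
    (R₁ : Type u) [CommRing R₁] [Algebra R R₁] (e : R₁ ≃ₐ[R] ↥(BlowUp.affineAlgebra R I a))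
    (hI : (Fitt.ideal R M k).map (algebraMap R R₁) = I.map (algebraMap R R₁))
    (p' : Ideal R₁) [p'.IsPrime] :
    ∃ g : R₁, g ∉ p' ∧
      Module.Free (Localization.Away g) (LocalizedModule (Submonoid.powers g)
        ((R₁ ⊗[R] M) ⧸ FlatCA.powTorsion R₁ (algebraMap R R₁ a) (R₁ ⊗[R] M))) ∧
      Module.finrank (Localization.Away g) (LocalizedModule (Submonoid.powers g)
        ((R₁ ⊗[R] M) ⧸ FlatCA.powTorsion R₁ (algebraMap R R₁ a) (R₁ ⊗[R] M))) = k := by
  obtain ⟨hnzd, hspan⟩ := chart I a ha R₁ e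
  refine locallyFree_quotient_powTorsion k _ hnzd (by rw [H29Fitt.ideal_baseChange, hI, hspan]) ?_ p'
  rcases Nat.eq_zero_or_pos k with h | h
  · exact Or.inl h
  · refine Or.inr ?_
    rw [H29Fitt.ideal_baseChange, Ideal.map_eq_bot_iff_le_ker]
    intro x hx
    obtain ⟨n, hn⟩ := exists_pow_mul_eq_zero k (k - 1) (by omega) a hfree x hx
    rw [RingHom.mem_ker]
    refine mem_nonZeroDivisors_iff_right.mp (pow_mem hnzd n) _ ?_
    rw [← map_pow, ← map_mul, mul_comm, hn, map_zero]

end Groth.Agent.H3CAlg.FittBlowup
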