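import Groth.Agent.H3CAlg.FittBlowup

/-!
# A blowup making the strict transform locally free
-/

set_option autoImplicit false
universe u

open TensorProduct

namespace Groth.Agent.H3CAlg.FittBlowup

variable {R : Type u} [CommRing R]

/-- A free localization provides a family which is a basis up to powers. -/
theorem exists_isBasisUpTo {M : Type u} [AddCommGroup M] [Module R M] (g : R) (r : ℕ)
    (b : Module.Basis (Fin r) (Localization.Away g) (LocalizedModule (Submonoid.powers g) M)) :
    ∃ y : Fin r → M, FittPrincipal.IsBasisUpTo g y := by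
  classical
  set F := LocalizedModule.mkLinearMap (Submonoid.powers g) M with hF
  choose ms hms using fun i => IsLocalizedModule.mk'_surjective (Submonoid.powers g) F (b i)
  refine ⟨fun i => (ms i).1, fun x => ?_, fun a ha => ?_⟩
  · have hy : ∀ i, F ((ms i).1) = algebraMap R (Localization.Away g) ((ms i).2 : R) • b i := fun i => by
      rw [← hms i, algebraMap_smul, ← Submonoid.smul_def]
      exact (IsLocalizedModule.mk'_cancel' F (ms i).1 (ms i).2).symm
    obtain ⟨t, ht⟩ := IsLocalization.exist_integer_multiples_of_finite (Submonoid.powers g)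
      fun i => b.repr (F x) i *
        (↑(IsLocalization.map_units (Localization.Away g) (ms i).2).unit⁻¹ : Localization.Away g)
    choose a ha using ht
    have h0 : F ((t : R) • x - ∑ i, a i • (ms i).1) = 0 := by
      rw [map_sub, map_sum, sub_eq_zero]
      conv_lhs => rw [map_smul, ← b.sum_repr (F x), Finset.smul_sum]
      refine Finset.sum_congr rfl fun i _ => ?_
      rw [map_smul, hy i, ← algebraMap_smul (Localization.Away g) (a i), ha i, smul_smul,
        smul_mul_assoc, mul_assoc, IsUnit.val_inv_mul, mul_one, smul_assoc]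
    obtain ⟨⟨_, l, rfl⟩, hl⟩ := (IsLocalizedModule.eq_zero_iff (Submonoid.powers g) F).mp h0
    obtain ⟨j, hj⟩ := t.2
    refine ⟨l + j, ?_⟩
    rw [Submonoid.smul_def, smul_sub, sub_eq_zero] at hl
    rw [pow_add, mul_smul, show g ^ j = (t : R) from hj, hl]
    exact Submodule.smul_mem _ _ (Submodule.sum_mem _ fun i _ =>
      Submodule.smul_mem _ _ (Submodule.subset_span ⟨i, rfl⟩))
  · have h0 : ∑ i, (algebraMap R (Localization.Away g) (a i * ((ms i).2 : R))) • b i = 0 := by
      have := congrArg F ha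
      rw [map_sum, map_zero] at this
      rw [← this]
      refine Finset.sum_congr rfl fun i _ => ?_
      rw [map_smul, map_mul, mul_smul, algebraMap_smul, algebraMap_smul]
      congr 1
      rw [← hms i, ← Submonoid.smul_def]
      exact IsLocalizedModule.mk'_cancel' F (ms i).1 (ms i).2
    have hz := Fintype.linearIndependent_iff.mp b.linearIndependent _ h0
    have : ∀ i, ∃ s : ℕ, g ^ s * a i = 0 := fun i => by
      obtain ⟨⟨_, l, rfl⟩, hl⟩ :=
        (IsLocalization.map_eq_zero_iff (Submonoid.powers g) (Localization.Away g) _).mp (hz i)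
      obtain ⟨j, hj⟩ := (ms i).2.2
      exact ⟨l + j, by rw [pow_add, mul_assoc, mul_comm (g ^ j), show g ^ j = ((ms i).2 : R) from hj, hl]⟩
    choose s hs using this
    refine ⟨Finset.univ.sup s, funext fun i => ?_⟩
    obtain ⟨l, hl⟩ := Nat.exists_eq_add_of_le (Finset.le_sup (f := s) (Finset.mem_univ i))
    rw [Pi.smul_apply, smul_eq_mul, hl, add_comm, pow_add, mul_assoc, hs i, mul_zero, Pi.zero_apply]

/-- Relations of a module free near `g` are finitely generated up to powers of `g`. -/
theorem exists_relations {N : Type u} [AddCommGroup N] [Module R N] {n k : ℕ} (x : Fin n → N)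
    (hx : Submodule.span R (Set.range x) = ⊤) (g : R) (y : Fin k → N) (hy : FittPrincipal.IsBasisUpTo g y) :
    ∃ S : Finset (Fin n → R), (∀ z ∈ S, z ∈ LinearMap.ker (Fintype.linearCombination R x)) ∧
      ∀ w ∈ LinearMap.ker (Fintype.linearCombination R x),
        ∃ s : ℕ, g ^ s • w ∈ Submodule.span R (S : Set (Fin n → R)) := by
  classical
  let π : (Fin n → R) →ₗ[R] N := Fintype.linearCombination R x
  have hπ : Function.Surjective π :=
    LinearMap.range_eq_top.mp (by rw [Fintype.range_linearCombination, hx])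
  obtain ⟨hy1, hy2⟩ := hy
  choose l hl using fun t => hπ (y t)
  choose s hs using fun j => hy1 (x j)
  have hb : ∀ j, ∃ b : Fin k → R, ∑ t, b t • y t = g ^ s j • x j := fun j =>
    (Submodule.mem_span_range_iff_exists_fun R).mp (hs j)
  choose b hb using hb
  let r : Fin n → (Fin n → R) := fun j => g ^ s j • Pi.single j 1 - ∑ t, b j t • l t
  refine ⟨Finset.univ.image r, ?_, ?_⟩
  · intro z hz
    obtain ⟨j, -, rfl⟩ := Finset.mem_image.mp hz
    rw [LinearMap.mem_ker]
    simp only [r, map_sub, map_smul, map_sum, hl, hb, π,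
      Fintype.linearCombination_apply_single, one_smul, sub_self]
  · intro w hw
    let N₀ := Finset.univ.sup s
    let e : Fin n → R := fun j => g ^ (N₀ - s j) * w j
    have hsplit : g ^ N₀ • w = ∑ j, e j • r j + ∑ t, (∑ j, e j * b j t) • l t := by
      have h1 : ∀ j, e j • (g ^ s j • (Pi.single j (1 : R) : Fin n → R)) = g ^ N₀ • Pi.single j (w j) := by
        intro j
        rw [smul_smul, show e j * g ^ s j = g ^ N₀ * w j by
          rw [mul_right_comm, ← pow_add, Nat.sub_add_cancel (Finset.le_sup (Finset.mem_univ j))]]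
        rw [mul_smul, ← Pi.single_smul, smul_eq_mul, mul_one]
      simp only [r, smul_sub, Finset.sum_sub_distrib, h1, ← Finset.smul_sum,
        Finset.univ_sum_single]
      simp only [Finset.smul_sum, smul_smul, Finset.sum_smul]
      rw [Finset.sum_comm (γ := Fin n), sub_add_cancel]
    have hr : π (∑ j, e j • r j) = 0 := by
      simp only [map_sum, map_smul]
      refine Finset.sum_eq_zero fun j _ => ?_
      simp only [r, map_sub, map_smul, map_sum, hl, hb, π,
        Fintype.linearCombination_apply_single, one_smul, sub_self, smul_zero]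
    have ha : ∑ t, (∑ j, e j * b j t) • y t = 0 := by
      have := congrArg π hsplit
      simp only [map_add, hr, zero_add, map_sum, map_smul, hl, (show π w = 0 from LinearMap.mem_ker.mp hw),
        smul_zero] at this
      exact this.symm
    obtain ⟨u, hu⟩ := hy2 _ ha
    refine ⟨u + N₀, ?_⟩
    rw [pow_add, mul_smul, hsplit, smul_add]
    refine Submodule.add_mem _ (Submodule.smul_mem _ _ (Submodule.sum_mem _ fun j _ =>
      Submodule.smul_mem _ _ (Submodule.subset_span (Finset.mem_coe.mpr
        (Finset.mem_image_of_mem r (Finset.mem_univ j)))))) ?_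
    rw [Finset.smul_sum]
    refine Submodule.sum_mem _ fun t _ => ?_
    rw [smul_smul, show g ^ u * ∑ j, e j * b j t = 0 from congrFun hu t, zero_smul]
    exact zero_mem _

/-- A basis up to powers of `g ∉ p` gives a basis at `p`. -/
theorem nonempty_basis_atPrime {M : Type u} [AddCommGroup M] [Module R M] {g : R} {p : Ideal R} [p.IsPrime]
    (hg : g ∉ p) {r : ℕ} {y : Fin r → M} (hy : FittPrincipal.IsBasisUpTo g y) :
    Nonempty (Module.Basis (Fin r) (Localization.AtPrime p) (LocalizedModule p.primeCompl M)) := by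
  classical
  let F := LocalizedModule.mkLinearMap p.primeCompl M
  refine ⟨Module.Basis.mk (v := fun i => F (y i)) ?_ ?_⟩
  · rw [Fintype.linearIndependent_iff]
    intro c hc
    obtain ⟨t, ht⟩ := IsLocalization.exist_integer_multiples_of_finite p.primeCompl c
    choose a ha using ht
    have h0 : F (∑ i, a i • y i) = 0 := by
      rw [map_sum, Finset.sum_congr rfl fun i _ =>
        (show F (a i • y i) = ((t : R) • c i) • F (y i) by
          rw [map_smul, ← algebraMap_smul (Localization.AtPrime p) (a i), ha i])]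
      simp only [smul_assoc, ← Finset.smul_sum, hc, smul_zero]
    obtain ⟨⟨u, hu⟩, hua⟩ := (IsLocalizedModule.eq_zero_iff p.primeCompl F).mp h0
    obtain ⟨s, hs⟩ := hy.2 (u • a) (by
      simp only [Pi.smul_apply, smul_eq_mul, mul_smul, ← Finset.smul_sum]
      exact hua)
    intro i
    have hunit : IsUnit (algebraMap R (Localization.AtPrime p) (g ^ s * u * t)) :=
      IsLocalization.map_units _ (⟨g ^ s * u * t,
        mul_mem (mul_mem (pow_mem (show g ∈ p.primeCompl from hg) s) hu) t.2⟩ : p.primeCompl)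
    refine hunit.mul_right_eq_zero.mp ?_
    have h1 : g ^ s * (u * a i) = 0 := congrFun hs i
    rw [map_mul, mul_assoc, ← Algebra.smul_def (t : R) (c i), ← ha i, ← map_mul, mul_assoc, h1,
      map_zero]
  · intro x _
    obtain ⟨⟨m, t⟩, rfl⟩ := IsLocalizedModule.mk'_surjective p.primeCompl F x
    obtain ⟨s, hs⟩ := hy.1 m
    have hsu : IsUnit (algebraMap R (Localization.AtPrime p) (g ^ s * t)) :=
      IsLocalization.map_units _ (⟨g ^ s * t,
        mul_mem (pow_mem (show g ∈ p.primeCompl from hg) s) t.2⟩ : p.primeCompl)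
    refine (Submodule.smul_mem_iff_of_isUnit _ hsu).mp ?_
    simp only [Function.uncurry_apply_pair]
    rw [algebraMap_smul, mul_smul, ← Submonoid.smul_def, IsLocalizedModule.mk'_cancel', ← map_smul]
    obtain ⟨a, ha⟩ := (Submodule.mem_span_range_iff_exists_fun R).mp hs
    rw [← ha, map_sum]
    refine Submodule.sum_mem _ fun i _ => ?_
    rw [map_smul]
    exact Submodule.smul_of_tower_mem _ _ (Submodule.subset_span ⟨i, rfl⟩)

theorem q₁_lTensor {M N : Type u} [AddCommGroup M] [Module R M] [AddCommGroup N] [Module R N]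
    {R₁ : Type u} [CommRing R₁] [Algebra R R₁] (q : M →ₗ[R] N) (w : R₁ ⊗[R] LinearMap.ker q) :
    q.baseChange R₁ ((LinearMap.ker q).subtype.lTensor R₁ w) = 0 := by
  change q.lTensor R₁ ((LinearMap.ker q).subtype.lTensor R₁ w) = 0
  rw [← LinearMap.comp_apply, ← LinearMap.lTensor_comp, LinearMap.comp_ker_subtype,
    LinearMap.lTensor_zero, LinearMap.zero_apply]

/-- Localization of a linear equivalence. -/
noncomputable def localizedEquiv {S : Type u} [CommRing S] {M N : Type u} [AddCommGroup M] [Module S M]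
    [AddCommGroup N] [Module S N] (g : S) (E : M ≃ₗ[S] N) :
    LocalizedModule (Submonoid.powers g) M ≃ₗ[Localization.Away g] LocalizedModule (Submonoid.powers g) N :=
  LinearEquiv.ofBijective
    (IsLocalizedModule.mapExtendScalars (Submonoid.powers g) (LocalizedModule.mkLinearMap (Submonoid.powers g) M)
      (LocalizedModule.mkLinearMap (Submonoid.powers g) N) (Localization.Away g) E.toLinearMap)
    ⟨IsLocalizedModule.map_injective (Submonoid.powers g) _ _ _ E.injective,
      IsLocalizedModule.map_surjective (Submonoid.powers g) _ _ _ E.surjective⟩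

theorem exists_ideal {M : Type u} [AddCommGroup M] [Module R M] [Module.Finite R M] (f : R) (r : ℕ)
    (hf : ∀ (p : Ideal R) [p.IsPrime], f ∉ p → ∃ g : R, g ∉ p ∧
      Module.Free (Localization.Away g) (LocalizedModule (Submonoid.powers g) M) ∧
        Module.finrank (Localization.Away g) (LocalizedModule (Submonoid.powers g) M) = r) :
    ∃ I : Ideal R, I.FG ∧ I.radical = (Ideal.span {f}).radical ∧ ∀ a ∈ I, ∀ (R₁ : Type u) [CommRing R₁]
      [Algebra R R₁] (e : R₁ ≃ₐ[R] ↥(BlowUp.affineAlgebra R I a)) (p' : Ideal R₁) [p'.IsPrime],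
      ∃ g : R₁, g ∉ p' ∧
        Module.Free (Localization.Away g) (LocalizedModule (Submonoid.powers g)
          ((R₁ ⊗[R] M) ⧸ FlatCA.powTorsion R₁ (algebraMap R R₁ a) (R₁ ⊗[R] M))) ∧
        Module.finrank (Localization.Away g) (LocalizedModule (Submonoid.powers g)
          ((R₁ ⊗[R] M) ⧸ FlatCA.powTorsion R₁ (algebraMap R R₁ a) (R₁ ⊗[R] M))) = r := by
  classical
  obtain ⟨n, x, hx⟩ := Module.Finite.exists_fin (R := R) (M := M)
  let π : (Fin n → R) →ₗ[R] M := Fintype.linearCombination R x
  have hπ : Function.Surjective π :=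
    LinearMap.range_eq_top.mp (by rw [Fintype.range_linearCombination, hx])
  have hloc : ∀ p : {p : PrimeSpectrum R // f ∉ p.asIdeal}, ∃ (g : R) (y : Fin r → M),
      g ∉ p.1.asIdeal ∧ FittPrincipal.IsBasisUpTo g y := by
    rintro ⟨p, hp⟩
    obtain ⟨g, hg, hfr, hrk⟩ := hf p.asIdeal hp
    have : Nontrivial (Localization.Away g) := by
      refine ⟨1, 0, fun h => ?_⟩
      rw [← map_one (algebraMap R (Localization.Away g)),
        IsLocalization.map_eq_zero_iff (Submonoid.powers g)] at h
      obtain ⟨⟨_, j, rfl⟩, hj⟩ := h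
      simp only [mul_one] at hj
      exact hg (p.isPrime.mem_of_pow_mem j (hj ▸ p.asIdeal.zero_mem))
    have : Module.Finite (Localization.Away g) (LocalizedModule (Submonoid.powers g) M) :=
      Module.Finite.of_isLocalizedModule (Submonoid.powers g) (LocalizedModule.mkLinearMap (Submonoid.powers g) M)
    obtain ⟨y, hy⟩ := exists_isBasisUpTo g r (Module.finBasisOfFinrankEq _ _ hrk)
    exact ⟨g, y, hg, hy⟩
  choose g y hg hy using hloc
  choose S hS1 hS2 using fun p => exists_relations x hx (g p) (y p) (hy p)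
  have hcover : f ∈ (Ideal.span (Set.range g)).radical := by
    rw [Ideal.radical_eq_sInf, Ideal.mem_sInf]
    rintro p ⟨hle, hp⟩
    by_contra hfp
    exact hg ⟨⟨p, hp⟩, hfp⟩ (hle (Ideal.subset_span ⟨_, rfl⟩))
  obtain ⟨N, hN⟩ := hcover
  obtain ⟨T, hT, hNT⟩ := Submodule.mem_span_finite_of_mem_span hN
  obtain ⟨P, -, rfl⟩ := Finset.subset_set_image_iff.mp (Set.image_univ.symm ▸ hT)
  let S₀ : Finset (Fin n → R) := P.biUnion S
  let K : Submodule R (Fin n → R) := Submodule.span R (S₀ : Set (Fin n → R))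
  have hK : K ≤ LinearMap.ker π := by
    rw [Submodule.span_le]
    intro z hz
    obtain ⟨p, -, hzp⟩ := Finset.mem_biUnion.mp hz
    exact hS1 p z hzp
  have hkill : ∀ w ∈ LinearMap.ker π, ∃ s : ℕ, f ^ s • w ∈ K := by
    intro w hw
    let J : Ideal R := K.comap (LinearMap.toSpanSingleton R _ w)
    have hrad : Ideal.span ↑(P.image g) ≤ J.radical := by
      rw [Ideal.span_le, Finset.coe_image]
      rintro _ ⟨p, hp, rfl⟩
      obtain ⟨s, hs⟩ := hS2 p w hw
      exact ⟨s, Submodule.span_mono (Finset.coe_subset.mpr (Finset.subset_biUnion_of_mem S hp)) hs⟩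
    obtain ⟨s, hs⟩ := hrad hNT
    exact ⟨N * s, by rw [pow_mul]; exact hs⟩
  let M₀ := (Fin n → R) ⧸ K
  have : Module.FinitePresentation R M₀ :=
    Module.finitePresentation_of_surjective K.mkQ K.mkQ_surjective (by rw [Submodule.ker_mkQ]; exact ⟨S₀, rfl⟩)
  let q : M₀ →ₗ[R] M := K.liftQ π hK
  have hq : Function.Surjective q := fun m => by
    obtain ⟨w, rfl⟩ := hπ m
    exact ⟨Submodule.Quotient.mk w, rfl⟩
  have hq0 : ∀ z ∈ LinearMap.ker q, ∃ s : ℕ, f ^ s • z = 0 := by
    intro z hz
    obtain ⟨w, rfl⟩ := Submodule.Quotient.mk_surjective K z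
    obtain ⟨s, hs⟩ := hkill w hz
    exact ⟨s, by rwa [← Submodule.Quotient.mk_smul, Submodule.Quotient.mk_eq_zero]⟩
  have hfree : ∀ (p : Ideal R) [p.IsPrime], f ∉ p →
      Module.Free (Localization.AtPrime p) (LocalizedModule p.primeCompl M₀) ∧
        Module.finrank (Localization.AtPrime p) (LocalizedModule p.primeCompl M₀) = r := by
    intro p hp hfp
    let qp := IsLocalizedModule.mapExtendScalars p.primeCompl (LocalizedModule.mkLinearMap p.primeCompl M₀)
      (LocalizedModule.mkLinearMap p.primeCompl M) (Localization.AtPrime p) q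
    have hqp : Function.Bijective qp := by
      refine ⟨?_, IsLocalizedModule.map_surjective p.primeCompl
        (LocalizedModule.mkLinearMap p.primeCompl M₀) (LocalizedModule.mkLinearMap p.primeCompl M) q hq⟩
      rw [← LinearMap.ker_eq_bot, eq_bot_iff]
      intro z hz
      obtain ⟨⟨m, s⟩, rfl⟩ := IsLocalizedModule.mk'_surjective p.primeCompl
        (LocalizedModule.mkLinearMap p.primeCompl M₀) z
      simp only [Function.uncurry_apply_pair, LinearMap.mem_ker, qp,
        IsLocalizedModule.mapExtendScalars_apply_apply, IsLocalizedModule.map_mk',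
        IsLocalizedModule.mk'_eq_zero'] at hz
      obtain ⟨⟨u, hu⟩, hum⟩ := hz
      obtain ⟨l, hl⟩ := hq0 (u • m) (by rw [LinearMap.mem_ker, map_smul]; exact hum)
      simp only [Function.uncurry_apply_pair, Submodule.mem_bot, IsLocalizedModule.mk'_eq_zero']
      exact ⟨⟨f ^ l * u, mul_mem (pow_mem (show f ∈ p.primeCompl from hfp) l) hu⟩, by
        rw [Submonoid.smul_def]; rw [mul_smul, hl]⟩
    let e := LinearEquiv.ofBijective qp hqp
    have hMfree : Module.Free (Localization.AtPrime p) (LocalizedModule p.primeCompl M) ∧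
        Module.finrank (Localization.AtPrime p) (LocalizedModule p.primeCompl M) = r := by
      have hb' : Nonempty (Module.Basis (Fin r) (Localization.AtPrime p) (LocalizedModule p.primeCompl M)) :=
        nonempty_basis_atPrime (hg ⟨⟨p, hp⟩, hfp⟩) (hy ⟨⟨p, hp⟩, hfp⟩)
      obtain ⟨b'⟩ := hb'
      exact ⟨Module.Free.of_basis b', by rw [Module.finrank_eq_card_basis b', Fintype.card_fin]⟩
    haveI := hMfree.1
    exact ⟨Module.Free.of_equiv e.symm, by rw [e.finrank_eq, hMfree.2]⟩
  set F := Fitt.ideal R M₀ r with hFdef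
  have hFtop : ∀ (p : Ideal R) [p.IsPrime], f ∉ p → ¬ F ≤ p := by
    intro p hp hfp hle
    obtain ⟨hfr, hrk⟩ := hfree p hfp
    let Rp := Localization.AtPrime p
    let e : (Rp ⊗[R] M₀) ≃ₗ[Rp] LocalizedModule p.primeCompl M₀ :=
      (IsLocalizedModule.isBaseChange p.primeCompl Rp
        (LocalizedModule.mkLinearMap p.primeCompl M₀)).equiv
    have : Module.Free Rp (Rp ⊗[R] M₀) := Module.Free.of_equiv e.symm
    let b : Module.Basis (Fin r) Rp (Rp ⊗[R] M₀) :=
      Module.finBasisOfFinrankEq Rp _ (by rw [e.finrank_eq, hrk])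
    have htop := H29Fitt.ideal_eq_top_of_span b b.span_eq (le_refl r)
    rw [H29Fitt.ideal_baseChange] at htop
    have := Ideal.map_mono (f := algebraMap R Rp) hle
    rw [htop, Localization.AtPrime.map_eq_maximalIdeal] at this
    exact (IsLocalRing.maximalIdeal.isMaximal Rp).ne_top (top_le_iff.mp this)
  refine ⟨Ideal.span {f} * F, (Submodule.fg_span_singleton f).mul (H29Fitt.ideal_fg r), ?_, ?_⟩
  · refine le_antisymm (Ideal.radical_mono Ideal.mul_le_left) ?_
    rw [Ideal.radical_le_radical_iff, Ideal.span_le, Set.singleton_subset_iff, SetLike.mem_coe,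
      Ideal.radical_eq_sInf, Ideal.mem_sInf]
    rintro p ⟨hle, hp⟩
    by_contra hfp
    rcases (hp.mul_le.mp hle) with h | h
    · exact hfp (h (Ideal.mem_span_singleton_self f))
    · exact hFtop p hfp h
  intro a ha R₁ _ _ e p' _
  obtain ⟨hnzd, hspan⟩ := chart _ a ha R₁ e
  obtain ⟨c, hc, rfl⟩ := Ideal.mem_span_singleton_mul.mp ha
  set φ := algebraMap R R₁ with hφ
  rw [map_mul] at hnzd hspan
  obtain ⟨hf1, hc1⟩ := mul_mem_nonZeroDivisors.mp hnzd
  have hFc : F.map φ = Ideal.span {φ c} := by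
    refine le_antisymm ?_ (by
      rw [Ideal.span_le, Set.singleton_subset_iff]; exact Ideal.mem_map_of_mem _ hc)
    rw [Ideal.map_le_iff_le_comap]
    intro w hw
    have hmem : φ (f * w) ∈ (Ideal.span {f} * F).map φ :=
      Ideal.mem_map_of_mem _ (Ideal.mul_mem_mul (Ideal.mem_span_singleton_self f) hw)
    rw [hspan, Ideal.mem_span_singleton'] at hmem
    obtain ⟨t, ht⟩ := hmem
    rw [Ideal.mem_comap, Ideal.mem_span_singleton']
    refine ⟨t, sub_eq_zero.mp (mem_nonZeroDivisors_iff_right.mp hf1 _ ?_)⟩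
    rw [map_mul] at ht
    linear_combination ht
  have hM₁ : Fitt.ideal R₁ (R₁ ⊗[R] M₀) r = Ideal.span {φ c} := by
    rw [H29Fitt.ideal_baseChange, hFc]
  have hk : r = 0 ∨ Fitt.ideal R₁ (R₁ ⊗[R] M₀) (r - 1) = ⊥ := by
    rcases Nat.eq_zero_or_pos r with h | h
    · exact Or.inl h
    · refine Or.inr ?_
      rw [H29Fitt.ideal_baseChange, Ideal.map_eq_bot_iff_le_ker]
      intro w hw
      obtain ⟨j, hj⟩ := exists_pow_mul_eq_zero r (r - 1) (by omega) f hfree w hw
      rw [RingHom.mem_ker]
      refine mem_nonZeroDivisors_iff_right.mp (pow_mem hf1 j) _ ?_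
      rw [← map_pow, ← map_mul, mul_comm, hj, map_zero]
  obtain ⟨g', hg', hfree', hrk'⟩ := locallyFree_quotient_powTorsion r (φ c) hc1 hM₁ hk p'
  rw [map_mul]
  -- the two quotients agree
  let q₁ : (R₁ ⊗[R] M₀) →ₗ[R₁] R₁ ⊗[R] M := q.baseChange R₁
  have hq₁ : Function.Surjective q₁ := LinearMap.lTensor_surjective R₁ hq
  have hq₁0 : ∀ z, q₁ z = 0 → ∃ s : ℕ, φ f ^ s • z = 0 := by
    intro z hz
    have hz' : z ∈ LinearMap.range ((LinearMap.ker q).subtype.lTensor R₁) :=
      LinearMap.exact_iff.mp (lTensor_exact R₁ (LinearMap.exact_subtype_ker_map q) hq) ▸ hz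
    obtain ⟨w, rfl⟩ := hz'
    induction w using TensorProduct.induction_on with
    | zero => exact ⟨0, by simp⟩
    | tmul t m =>
      obtain ⟨s, hs⟩ := hq0 m m.2
      refine ⟨s, ?_⟩
      rw [LinearMap.lTensor_tmul, ← map_pow, hφ, algebraMap_smul, ← TensorProduct.tmul_smul]
      simp [hs]
    | add w₁ w₂ h₁ h₂ =>
      obtain ⟨s₁, hs₁⟩ := h₁ (q₁_lTensor q w₁)
      obtain ⟨s₂, hs₂⟩ := h₂ (q₁_lTensor q w₂)
      exact ⟨s₁ + s₂, by rw [map_add, smul_add, pow_add, mul_smul, mul_smul, hs₂, smul_comm, hs₁, smul_zero, smul_zero, add_zero]⟩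
  have hkey : ∀ z, q₁ z ∈ FlatCA.powTorsion R₁ (φ f * φ c) (R₁ ⊗[R] M) ↔
      z ∈ FlatCA.powTorsion R₁ (φ c) (R₁ ⊗[R] M₀) := by
    intro z
    rw [mem_powTorsion_iff, mem_powTorsion_iff]
    constructor
    · rintro ⟨j, hj⟩
      rw [← map_smul] at hj
      obtain ⟨s, hs⟩ := hq₁0 _ hj
      rw [← mem_powTorsion_iff]
      have hT : FlatCA.powTorsion R₁ (φ c) (R₁ ⊗[R] M₀) ≥
          LinearMap.ker (φ c • (LinearMap.id : (R₁ ⊗[R] M₀) →ₗ[R₁] R₁ ⊗[R] M₀)) := fun m hm =>
        (mem_powTorsion_iff _ m).mpr ⟨1, by simpa using hm⟩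
      refine hT ?_
      rw [← Submodule.Quotient.mk_eq_zero]
      refine eq_zero_of_smul_eq_zero r (φ c) hc1 hM₁ hk
        (mul_mem (pow_mem hf1 s) (pow_mem hnzd j)) _ ?_
      rw [← Submodule.Quotient.mk_smul, mul_smul, hs, Submodule.Quotient.mk_zero]
    · rintro ⟨j, hj⟩
      exact ⟨j, by rw [← map_smul, mul_pow, mul_smul, hj, smul_zero, map_zero]⟩
  let E : ((R₁ ⊗[R] M₀) ⧸ FlatCA.powTorsion R₁ (φ c) (R₁ ⊗[R] M₀)) ≃ₗ[R₁]
      ((R₁ ⊗[R] M) ⧸ FlatCA.powTorsion R₁ (φ f * φ c) (R₁ ⊗[R] M)) :=
    LinearEquiv.ofBijective (Submodule.liftQ _ ((FlatCA.powTorsion R₁ (φ f * φ c) _).mkQ ∘ₗ q₁)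
      (fun z hz => by
        rw [LinearMap.mem_ker, LinearMap.comp_apply, Submodule.mkQ_apply, Submodule.Quotient.mk_eq_zero]
        exact (hkey z).mpr hz))
      ⟨by
        rw [← LinearMap.ker_eq_bot, eq_bot_iff]
        intro w hw
        obtain ⟨z, rfl⟩ := Submodule.Quotient.mk_surjective _ w
        rw [LinearMap.mem_ker, Submodule.liftQ_apply, LinearMap.comp_apply, Submodule.mkQ_apply,
          Submodule.Quotient.mk_eq_zero] at hw
        rw [Submodule.mem_bot, Submodule.Quotient.mk_eq_zero]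
        exact (hkey z).mp hw,
      fun w => by
        obtain ⟨m, rfl⟩ := Submodule.Quotient.mk_surjective _ w
        obtain ⟨z, rfl⟩ := hq₁ m
        exact ⟨Submodule.Quotient.mk z, rfl⟩⟩
  have E' := localizedEquiv g' E
  haveI := hfree'
  exact ⟨g', hg', Module.Free.of_equiv E', by rw [← E'.finrank_eq, hrk']⟩

end Groth.Agent.H3CAlg.FittBlowup
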