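import Groth.Agent.H26Tor.Balance

/-!
`Tor` computed by a flat resolution in the first variable (after `H26Tor.Balance`).
-/

set_option autoImplicit false

universe u

open CategoryTheory CategoryTheory.Limits MonoidalCategory

namespace Groth.Agent.H3CAlg.FlatBalance

open Groth.Agent.H26Tor (isIso_of_isKernel_maps isIso_desc_of_rightExact)

variable {R : Type u} [CommRing R]

/-- A flat resolution of a module. -/
structure FlatResolution (M : ModuleCat.{u} R) where
  complex : ChainComplex (ModuleCat.{u} R) ℕ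
  flat : ∀ i, Module.Flat R (complex.X i)
  π : complex ⟶ (ChainComplex.single₀ (ModuleCat.{u} R)).obj M
  [quasiIso : QuasiIso π]

attribute [instance] FlatResolution.quasiIso

namespace FlatResolution

variable {M : ModuleCat.{u} R} (P : FlatResolution M)

lemma complex_exactAt_succ (n : ℕ) : P.complex.ExactAt (n + 1) := by
  rw [← quasiIsoAt_iff_exactAt' P.π (n + 1) (ChainComplex.exactAt_succ_single_obj _ _)]
  infer_instance

theorem complex_d_comp_π_f_zero : P.complex.d 1 0 ≫ P.π.f 0 = 0 := by
  rw [← P.π.comm 1 0, HomologicalComplex.single_obj_d, comp_zero]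

lemma exact_and_epi :
    (ShortComplex.mk (P.complex.d 1 0) (P.π.f 0) P.complex_d_comp_π_f_zero).Exact ∧ Epi (P.π.f 0) := by
  have h : QuasiIsoAt P.π 0 := inferInstance
  rw [ChainComplex.quasiIsoAt₀_iff, ShortComplex.quasiIso_iff_of_zeros'] at h
  · exact (ShortComplex.exact_and_epi_g_iff_of_iso (ShortComplex.isoMk (Iso.refl _) (Iso.refl _) (Iso.refl _)
      (by simp [HomologicalComplex.shortComplexFunctor']) ((Category.id_comp _).trans (Category.comp_id _).symm))).1 h
  all_goals first
    | rfl
    | (simp [HomologicalComplex.shortComplexFunctor']; rfl)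
    | simp [HomologicalComplex.shortComplexFunctor', HomologicalComplex.shape]

end FlatResolution

/-- Tensoring a resolution of `M` with a varying module. -/
noncomputable def leftRes {M : ModuleCat.{u} R} (P : FlatResolution M) :
    ModuleCat.{u} R ⥤ ChainComplex (ModuleCat.{u} R) ℕ where
  obj N := ((tensorRight N).mapHomologicalComplex _).obj P.complex
  map {N N'} f := (NatTrans.mapHomologicalComplex ((tensoringRight (ModuleCat.{u} R)).map f) _).app P.complex
  map_id N := by ext i : 1; exact whiskerLeft_id _ _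
  map_comp f g := by ext i : 1; exact whiskerLeft_comp _ _ _

variable {M : ModuleCat.{u} R} (P : FlatResolution M)

theorem leftRes_shortExact {S : ShortComplex (ModuleCat.{u} R)} (hS : S.ShortExact) :
    ∃ w : (leftRes P).map S.f ≫ (leftRes P).map S.g = 0,
      (ShortComplex.mk _ _ w).ShortExact := by
  have w : (leftRes P).map S.f ≫ (leftRes P).map S.g = 0 := by
    ext i : 1
    show P.complex.X i ◁ S.f ≫ P.complex.X i ◁ S.g = 0
    rw [← whiskerLeft_comp, S.zero, MonoidalPreadditive.whiskerLeft_zero]
  refine ⟨w, HomologicalComplex.shortExact_of_degreewise_shortExact _ fun i => ?_⟩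
  haveI : Module.Flat R (P.complex.X i) := P.flat i
  refine { exact := ?_, mono_f := ?_, epi_g := ?_ }
  · exact Module.Flat.lTensor_shortComplex_exact (P.complex.X i) S hS.exact
  · rw [ModuleCat.mono_iff_injective]
    exact Module.Flat.lTensor_preserves_injective_linearMap _ ((ModuleCat.mono_iff_injective _).mp hS.mono_f)
  · rw [ModuleCat.epi_iff_surjective]
    exact LinearMap.lTensor_surjective _ ((ModuleCat.epi_iff_surjective _).mp hS.epi_g)

theorem leftRes_homology_succ_isZero (N : ModuleCat.{u} R) [Projective N] (n : ℕ) :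
    IsZero (((leftRes P).obj N).homology (n + 1)) := by
  haveI : Module.Projective R N := N.projective_of_module_projective
  rw [← HomologicalComplex.exactAt_iff_isZero_homology]
  exact (Module.Flat.rTensor_shortComplex_exact N _ (P.complex_exactAt_succ n) :)

/-- The augmentation in degree zero. -/
noncomputable def leftResZero (N : ModuleCat.{u} R) : ((leftRes P).obj N).homology 0 ⟶ M ⊗ N :=
  ((leftRes P).obj N).homologyι 0 ≫ HomologicalComplex.descOpcycles ((leftRes P).obj N) (P.π.f 0 ▷ N) 1 (by simp) (by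
    show P.complex.d 1 0 ▷ N ≫ P.π.f 0 ▷ N = 0
    rw [← comp_whiskerRight]
    erw [P.complex_d_comp_π_f_zero]
    exact MonoidalPreadditive.zero_whiskerRight)

theorem leftResZero_naturality {N N' : ModuleCat.{u} R} (f : N ⟶ N') :
    HomologicalComplex.homologyMap ((leftRes P).map f) 0 ≫ leftResZero P N' = leftResZero P N ≫ M ◁ f := by
  simp only [leftResZero, HomologicalComplex.homologyι_naturality_assoc, Category.assoc]
  congr 1
  refine (cancel_epi (((leftRes P).obj N).pOpcycles 0)).1 ?_
  rw [HomologicalComplex.p_opcyclesMap_assoc]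
  erw [HomologicalComplex.p_descOpcycles, HomologicalComplex.p_descOpcycles_assoc]
  exact MonoidalCategory.whisker_exchange (C := ModuleCat.{u} R) _ _

theorem isIso_leftResZero (N : ModuleCat.{u} R) : IsIso (leftResZero P N) := by
  haveI : IsIso (((leftRes P).obj N).homologyι 0) :=
    HomologicalComplex.isIso_homologyι _ 0 0 (by simp) (HomologicalComplex.shape _ _ _ (by simp))
  refine @IsIso.comp_isIso _ _ _ _ _ _ _ inferInstance ?_
  haveI : PreservesFiniteColimits (tensorRight N) :=
    ⟨fun K _ _ => preservesColimitsOfShape_of_natIso (BraidedCategory.tensorLeftIsoTensorRight N)⟩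
  exact Groth.Agent.H26Tor.isIso_desc_of_rightExact (tensorRight N) (ShortComplex.mk (P.complex.d 1 0) (P.π.f 0) P.complex_d_comp_π_f_zero)
    P.exact_and_epi.1 P.exact_and_epi.2 (((leftRes P).obj N).pOpcycles 0) _
    (((leftRes P).obj N).opcyclesIsCokernel 1 0 (by simp)) _ (HomologicalComplex.p_descOpcycles _ _ _ _ _)

theorem balance : ∀ (n : ℕ) (N : ModuleCat.{u} R),
    Nonempty (((Tor (ModuleCat.{u} R) n).obj M).obj N ≅ ((leftRes P).obj N).homology n)
  | 0, N => by
    haveI := isIso_leftResZero P N
    exact ⟨(H3CAlg.Tor.zeroIso M).app N ≪≫ (asIso (leftResZero P N)).symm⟩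
  | 1, N => by
    obtain ⟨K, i, w, hS⟩ := H3CAlg.Tor.exists_presentation N
    obtain ⟨-, -, δ, w₁, w₂, h₁, h₂⟩ := H3CAlg.Tor.les₂ M _ hS 0
    haveI : Mono δ := h₁.mono_g ((isZero_Tor_succ_of_projective _ M _ 0).eq_of_src _ _)
    obtain ⟨wU, hU⟩ := leftRes_shortExact P hS
    haveI : Mono (hU.δ 1 0 rfl) :=
      (hU.homology_exact₃ 1 0 rfl).mono_g ((leftRes_homology_succ_isZero P (Projective.over N) 0).eq_of_src _ _)
    haveI := isIso_leftResZero P K
    haveI := isIso_leftResZero P (Projective.over N)
    refine isIso_of_isKernel_maps w₂ _ h₂ (hU.homology_exact₁ 1 0 rfl) ‹Mono δ› ‹Mono (hU.δ 1 0 rfl)›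
      ((H3CAlg.Tor.zeroIso M).app K ≪≫ (asIso (leftResZero P K)).symm)
      ((H3CAlg.Tor.zeroIso M).app (Projective.over N) ≪≫ (asIso (leftResZero P (Projective.over N))).symm) ?_
    show _ ≫ (_ ≫ inv (leftResZero P (Projective.over N))) =
      (_ ≫ inv (leftResZero P K)) ≫ HomologicalComplex.homologyMap ((leftRes P).map i) 0
    rw [← Category.assoc, IsIso.comp_inv_eq, Category.assoc, Category.assoc, leftResZero_naturality,
      IsIso.inv_hom_id_assoc]
    exact (H3CAlg.Tor.zeroIso M).hom.naturality i
  | n + 2, N => by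
    obtain ⟨K, i, w, hS⟩ := H3CAlg.Tor.exists_presentation N
    obtain ⟨-, -, δ, w₁, w₂, h₁, h₂⟩ := H3CAlg.Tor.les₂ M _ hS (n + 1)
    haveI : Mono δ := h₁.mono_g ((isZero_Tor_succ_of_projective _ M _ (n + 1)).eq_of_src _ _)
    haveI : Epi δ := h₂.epi_f ((isZero_Tor_succ_of_projective _ M _ n).eq_of_tgt _ _)
    haveI := isIso_of_mono_of_epi δ
    obtain ⟨wU, hU⟩ := leftRes_shortExact P hS
    haveI : IsIso (hU.δ (n + 2) (n + 1) rfl) :=
      hU.isIso_δ _ _ rfl (leftRes_homology_succ_isZero P (Projective.over N) (n + 1))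
        (leftRes_homology_succ_isZero P (Projective.over N) n)
    obtain ⟨e⟩ := balance (n + 1) K
    exact ⟨(asIso δ ≪≫ e ≪≫ (asIso (hU.δ (n + 2) (n + 1) rfl)).symm :)⟩

end Groth.Agent.H3CAlg.FlatBalance
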