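import Groth.Agent.H7Flat.LocalCriterion
import Mathlib

/-!
# Flatness of a base change from flatness modulo an ideal and vanishing of a map on `Tor₁`
-/

universe u

namespace Groth.Agent.H3CAlg.FlatBaseChange

open TensorProduct

variable {R R' : Type u} [CommRing R] [CommRing R'] [Algebra R R']

/-- `I ⊗ P → I P`. -/
noncomputable def mulMap (I : Ideal R) (P : Type u) [AddCommGroup P] [Module R P] :
    I ⊗[R] P →ₗ[R] (I • (⊤ : Submodule R P) : Submodule R P) :=
  (TensorProduct.lift ((LinearMap.lsmul R P).comp I.subtype)).codRestrict _ fun z => by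
    induction z with
    | zero => simp
    | tmul i p => exact Submodule.smul_mem_smul i.2 Submodule.mem_top
    | add x y hx hy => rw [map_add]; exact add_mem hx hy

theorem mulMap_surjective (I : Ideal R) (P : Type u) [AddCommGroup P] [Module R P] :
    Function.Surjective (mulMap I P) := by
  rintro ⟨x, hx⟩
  induction hx using Submodule.smul_induction_on' with
  | smul r hr p hp => exact ⟨⟨r, hr⟩ ⊗ₜ p, Subtype.ext rfl⟩
  | add x hx y hy ihx ihy =>
    obtain ⟨u, hu⟩ := ihx
    obtain ⟨v, hv⟩ := ihy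
    exact ⟨u + v, by rw [map_add, hu, hv]; rfl⟩

set_option maxHeartbeats 800000 in
/-- If `M/IM` is flat over `R/I` and the kernel of `M ⊗ I → M` dies under `Θ`, then the kernel of
`M ⊗ IR' → M ⊗ R'` dies under `Θ`. -/
theorem map_ker_eq_zero_aux (I : Ideal R) {M : Type u} [AddCommGroup M] [Module R M]
    [Module.Flat (R ⧸ I) ((R ⧸ I) ⊗[R] M)] {P : Type u} [AddCommGroup P] [Module R P] [Module.Flat R P]
    (π : P →ₗ[R] R') (hπ : Function.Surjective π) {Z : Type u} [AddCommGroup Z] [Module R Z]
    (Θ : M ⊗[R] ((I.map (algebraMap R R')).restrictScalars R) →ₗ[R] Z)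
    (hΘ : ∀ (k : M ⊗[R] I), I.subtype.lTensor M k = 0 → ∀ r : R', ∀ (z : (M ⊗[R] I) →ₗ[R] M ⊗[R]
      ((I.map (algebraMap R R')).restrictScalars R)), (∀ m i, z (m ⊗ₜ i) = m ⊗ₜ
        (⟨algebraMap R R' i * r, Ideal.mul_mem_right _ _ (Ideal.mem_map_of_mem _ i.2)⟩ :
          (I.map (algebraMap R R')).restrictScalars R)) → Θ (z k) = 0)
    (v : M ⊗[R] ((I.map (algebraMap R R')).restrictScalars R))
    (hv : ((I.map (algebraMap R R')).restrictScalars R).subtype.lTensor M v = 0) : Θ v = 0 := by
  classical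
  let IP : Submodule R P := I • ⊤
  have hmap : IP.map π = (I.map (algebraMap R R')).restrictScalars R := by
    rw [Submodule.map_smul'', Submodule.map_top, LinearMap.range_eq_top.mpr hπ, Ideal.smul_top_eq_map]
  have hmem : ∀ x : IP, π x ∈ (I.map (algebraMap R R')).restrictScalars R := fun x =>
    hmap ▸ Submodule.mem_map_of_mem x.2
  let π' : IP →ₗ[R] (I.map (algebraMap R R')).restrictScalars R :=
    (π ∘ₗ IP.subtype).codRestrict _ hmem
  have hπ' : Function.Surjective π' := fun y => by
    obtain ⟨x, hx, e⟩ := (hmap.symm ▸ y.2 : (y : R') ∈ IP.map π)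
    exact ⟨⟨x, hx⟩, Subtype.ext e⟩
  obtain ⟨v₁, rfl⟩ := LinearMap.lTensor_surjective M hπ' v
  obtain ⟨y, hy⟩ : IP.subtype.lTensor M v₁ ∈ LinearMap.range ((LinearMap.ker π).subtype.lTensor M) := by
    have hex := lTensor_exact (f := (LinearMap.ker π).subtype) (g := π) M (LinearMap.exact_subtype_ker_map π) hπ
    apply (hex _).mp
    rw [← LinearMap.lTensor_comp_apply, show π ∘ₗ IP.subtype =
      ((I.map (algebraMap R R')).restrictScalars R).subtype ∘ₗ π' from LinearMap.ext fun _ => rfl,
      LinearMap.lTensor_comp_apply]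
    exact hv
  -- the image of `ker π` modulo `I`
  let q : P →ₗ[R] P ⧸ IP := IP.mkQ
  let Qb : Submodule (R ⧸ I) (P ⧸ IP) :=
    { carrier := {z | ∃ x ∈ LinearMap.ker π, q x = z}
      add_mem' := by rintro _ _ ⟨x, hx, rfl⟩ ⟨x', hx', rfl⟩; exact ⟨x + x', add_mem hx hx', map_add _ _ _⟩
      zero_mem' := ⟨0, zero_mem _, map_zero _⟩
      smul_mem' := by
        rintro c _ ⟨x, hx, rfl⟩
        obtain ⟨c, rfl⟩ := Ideal.Quotient.mk_surjective c
        exact ⟨c • x, Submodule.smul_mem _ c hx, rfl⟩ }
  let qQ : LinearMap.ker π →ₗ[R] Qb :=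
    { toFun := fun x => ⟨q x.1, x.1, x.2, rfl⟩
      map_add' := fun x y => Subtype.ext (map_add q x.1 y.1)
      map_smul' := fun c x => Subtype.ext (map_smul q c x.1) }
  have hqQ : Function.Surjective qQ := by
    rintro ⟨_, x, hx, rfl⟩
    exact ⟨⟨x, hx⟩, rfl⟩
  have hy0 : qQ.lTensor M y = 0 := by
    apply H7Flat.lTensor_injective_of_flat_quotient I Qb.subtype Subtype.val_injective
    rw [map_zero, ← LinearMap.lTensor_comp_apply, show Qb.subtype.restrictScalars R ∘ₗ qQ =
      q ∘ₗ (LinearMap.ker π).subtype from LinearMap.ext fun _ => rfl, LinearMap.lTensor_comp_apply, hy,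
      ← LinearMap.lTensor_comp_apply, show q ∘ₗ IP.subtype = 0 from LinearMap.ext fun x =>
        (Submodule.Quotient.mk_eq_zero IP).mpr x.2, LinearMap.lTensor_zero, LinearMap.zero_apply]
  obtain ⟨y₀, hy₀⟩ := (lTensor_exact M (LinearMap.exact_subtype_ker_map qQ) hqQ y).mp hy0
  let j : LinearMap.ker qQ →ₗ[R] IP :=
    ((LinearMap.ker π).subtype ∘ₗ (LinearMap.ker qQ).subtype).codRestrict IP fun x =>
      (Submodule.Quotient.mk_eq_zero IP).mp (congrArg Subtype.val (LinearMap.mem_ker.mp x.2))
  have hπj : π' ∘ₗ j = 0 := LinearMap.ext fun x => Subtype.ext (LinearMap.mem_ker.mp x.1.2)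
  have hj : π'.lTensor M (j.lTensor M y₀) = 0 := by
    rw [← LinearMap.lTensor_comp_apply, hπj, LinearMap.lTensor_zero, LinearMap.zero_apply]
  have h1 : IP.subtype.lTensor M (v₁ - j.lTensor M y₀) = 0 := by
    rw [map_sub, ← LinearMap.lTensor_comp_apply, show IP.subtype ∘ₗ j =
      (LinearMap.ker π).subtype ∘ₗ (LinearMap.ker qQ).subtype from LinearMap.ext fun _ => rfl,
      LinearMap.lTensor_comp_apply, hy₀, hy, sub_self]
  rw [show π'.lTensor M v₁ = π'.lTensor M (v₁ - j.lTensor M y₀) by rw [map_sub, hj, sub_zero]]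
  let s : (M ⊗[R] I) ⊗[R] P →ₗ[R] M ⊗[R] IP :=
    (mulMap I P).lTensor M ∘ₗ (TensorProduct.assoc R M I P).toLinearMap
  have hs : Function.Surjective s :=
    (LinearMap.lTensor_surjective M (mulMap_surjective I P)).comp (TensorProduct.assoc R M I P).surjective
  obtain ⟨w, hw⟩ := hs (v₁ - j.lTensor M y₀)
  rw [← hw] at h1 ⊢
  let μ : M ⊗[R] I →ₗ[R] M := (TensorProduct.rid R M).toLinearMap ∘ₗ I.subtype.lTensor M
  have hcomm : ∀ w, μ.rTensor P w = IP.subtype.lTensor M (s w) := by
    intro w
    induction w with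
    | zero => simp
    | tmul x p =>
      induction x with
      | zero => simp
      | tmul m i => simp [μ, s, mulMap, TensorProduct.smul_tmul]
      | add x x' hx hx' => simp [TensorProduct.add_tmul, map_add] at hx hx' ⊢; rw [hx, hx']
    | add a b ha hb => simp [map_add, ha, hb]
  obtain ⟨k, hk⟩ := (Module.Flat.rTensor_exact P (LinearMap.exact_subtype_ker_map μ) w).mp
    (by rw [hcomm, h1])
  subst hk
  have key : ∀ k : (LinearMap.ker μ) ⊗[R] P, Θ (π'.lTensor M (s ((LinearMap.ker μ).subtype.rTensor P k))) = 0 := by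
    intro k
    induction k with
    | zero => simp
    | tmul x p =>
      let z : (M ⊗[R] I) →ₗ[R] M ⊗[R] ((I.map (algebraMap R R')).restrictScalars R) :=
        π'.lTensor M ∘ₗ s ∘ₗ (TensorProduct.mk R (M ⊗[R] I) P).flip p
      refine hΘ x.1 ((TensorProduct.rid R M).map_eq_zero_iff.mp (LinearMap.mem_ker.mp x.2)) (π p) z ?_
      intro m i
      simp only [z, s, π', mulMap, LinearMap.comp_apply, LinearMap.flip_apply, TensorProduct.mk_apply,
        LinearEquiv.coe_coe, TensorProduct.assoc_tmul, LinearMap.lTensor_tmul]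
      refine congrArg (m ⊗ₜ[R] ·) (Subtype.ext ?_)
      change π ((i : R) • p) = algebraMap R R' i * π p
      rw [map_smul, Algebra.smul_def]
    | add a b ha hb => simp only [map_add, ha, hb, add_zero]
  exact key k

/-- The kernel of `M ⊗ IR' → M ⊗ R'` dies under `Θ`. -/
theorem map_ker_eq_zero (I : Ideal R) {M : Type u} [AddCommGroup M] [Module R M]
    [Module.Flat (R ⧸ I) ((R ⧸ I) ⊗[R] M)] {Z : Type u} [AddCommGroup Z] [Module R Z]
    (Θ : M ⊗[R] ((I.map (algebraMap R R')).restrictScalars R) →ₗ[R] Z)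
    (hΘ : ∀ (k : M ⊗[R] I), I.subtype.lTensor M k = 0 → ∀ r : R', ∀ (z : (M ⊗[R] I) →ₗ[R] M ⊗[R]
      ((I.map (algebraMap R R')).restrictScalars R)), (∀ m i, z (m ⊗ₜ i) = m ⊗ₜ
        (⟨algebraMap R R' i * r, Ideal.mul_mem_right _ _ (Ideal.mem_map_of_mem _ i.2)⟩ :
          (I.map (algebraMap R R')).restrictScalars R)) → Θ (z k) = 0)
    (v : M ⊗[R] ((I.map (algebraMap R R')).restrictScalars R))
    (hv : ((I.map (algebraMap R R')).restrictScalars R).subtype.lTensor M v = 0) : Θ v = 0 :=
  map_ker_eq_zero_aux I (Finsupp.linearCombination R (id : R' → R'))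
    (fun r => ⟨Finsupp.single r 1, by rw [Finsupp.linearCombination_single, one_smul]; rfl⟩) Θ hΘ v hv

/-- Injectivity of `M' ⊗ P' → M' ⊗ P` for a localisation `M'` of `N`. -/
theorem lTensor_injective_of_localizedModule {T N M' : Type u} [CommRing T] [Algebra R' T]
    [AddCommGroup N] [Module T N] [Module R' N] [IsScalarTower R' T N]
    [AddCommGroup M'] [Module T M'] [Module R' M'] [IsScalarTower R' T M']
    (W : Submonoid T) (g : N →ₗ[T] M') [IsLocalizedModule W g] {P' P : Type u} [AddCommGroup P']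
    [Module R' P'] [AddCommGroup P] [Module R' P] (φ : P' →ₗ[R'] P)
    (hK : ∀ z, φ.lTensor N z = 0 → (g.restrictScalars R').rTensor P' z = 0) :
    Function.Injective (φ.lTensor M') := by
  haveI : IsLocalizedModule W (AlgebraTensorModule.rTensor R' P' g) := inferInstance
  haveI : IsLocalizedModule W (AlgebraTensorModule.rTensor R' P g) := inferInstance
  rw [injective_iff_map_eq_zero]
  intro u hu
  obtain ⟨⟨z, w⟩, hzw⟩ := IsLocalizedModule.surj W (AlgebraTensorModule.rTensor R' P' g) u
  have hnat : ∀ z : N ⊗[R'] P', φ.lTensor M' (AlgebraTensorModule.rTensor R' P' g z) =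
      AlgebraTensorModule.rTensor R' P g (φ.lTensor N z) := by
    intro z
    induction z with
    | zero => simp
    | tmul n p => simp
    | add a b ha hb => simp only [map_add] at ha hb ⊢; rw [ha, hb]
  have hlin : ∀ (X : Type u) [AddCommGroup X] [Module T X] [Module R' X] [IsScalarTower R' T X] (t : T)
      (x : X ⊗[R'] P'), φ.lTensor X (t • x) = t • φ.lTensor X x := by
    intro X _ _ _ _ t x
    induction x with
    | zero => simp
    | tmul m p => simp [TensorProduct.smul_tmul']
    | add a b ha hb => simp [smul_add, map_add, ha, hb]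
  have h1 : AlgebraTensorModule.rTensor R' P g (φ.lTensor N z) = 0 := by
    rw [← hnat, ← hzw]
    change φ.lTensor M' ((w : T) • u) = 0
    rw [hlin, hu, smul_zero]
  obtain ⟨w', hw'⟩ := (IsLocalizedModule.eq_zero_iff W _).mp h1
  have h2 : AlgebraTensorModule.rTensor R' P' g ((w' : T) • z) = 0 :=
    hK _ (by rw [hlin]; exact hw')
  rw [map_smul, ← hzw] at h2
  have := IsLocalizedModule.smul_injective (AlgebraTensorModule.rTensor R' P' g) (w' * w)
  refine this ?_
  simp only [smul_zero]
  rw [mul_smul]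
  exact h2

/-- **S12233**, core: local flatness criterion applied to a localised base change. -/
theorem flat_of_localized (I : Ideal R) {M : Type u} [AddCommGroup M] [Module R M]
    [Module.Flat (R ⧸ I) ((R ⧸ I) ⊗[R] M)] {S' M' : Type u} [CommRing S'] [IsLocalRing R'] [IsLocalRing S']
    [IsNoetherianRing R'] [IsNoetherianRing S'] [Algebra R' S'] [IsLocalHom (algebraMap R' S')]
    [AddCommGroup M'] [Module S' M'] [Module R' M'] [IsScalarTower R' S' M'] [Module.Finite S' M']
    [Module R M'] [IsScalarTower R R' M'] (hI : I.map (algebraMap R R') ≠ ⊤)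
    {T N : Type u} [CommRing T] [Algebra R' T] [AddCommGroup N] [Module T N] [Module R' N]
    [IsScalarTower R' T N] [Module T M'] [IsScalarTower R' T M'] (W : Submonoid T) (g : N →ₗ[T] M')
    [IsLocalizedModule W g] (e : R' ⊗[R] M ≃ₗ[R'] N) (f : M →ₗ[R] M')
    (hfe : ∀ m, g (e (1 ⊗ₜ m)) = f m)
    (h3 : ∀ x : ↥I ⊗[R] M, (Submodule.subtype I).rTensor M x = 0 →
      (TensorProduct.mapOfCompatibleSMul R' R R ↥(I.map (algebraMap R R')) M')
        ((TensorProduct.map (Algebra.idealMap R' I) f) x) = 0) :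
    Module.Flat R' M' := by
  set I' := I.map (algebraMap R R') with hI'
  -- step 1
  haveI hNflat : Module.Flat (R' ⧸ I') ((R' ⧸ I') ⊗[R'] N) := by
    letI : Algebra (R ⧸ I) (R' ⧸ I') := (Ideal.quotientMap I' (algebraMap R R') Ideal.le_comap_map).toAlgebra
    haveI : IsScalarTower R (R ⧸ I) (R' ⧸ I') := IsScalarTower.of_algebraMap_eq fun _ => rfl
    haveI : Module.Flat (R' ⧸ I') ((R' ⧸ I') ⊗[R ⧸ I] ((R ⧸ I) ⊗[R] M)) := inferInstance
    haveI : Module.Flat (R' ⧸ I') ((R' ⧸ I') ⊗[R] M) :=
      Module.Flat.of_linearEquiv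
        (AlgebraTensorModule.cancelBaseChange R (R ⧸ I) (R' ⧸ I') (R' ⧸ I') M).symm
    haveI : Module.Flat (R' ⧸ I') ((R' ⧸ I') ⊗[R'] (R' ⊗[R] M)) :=
      Module.Flat.of_linearEquiv (AlgebraTensorModule.cancelBaseChange R R' (R' ⧸ I') (R' ⧸ I') M)
    exact Module.Flat.of_linearEquiv
      (AlgebraTensorModule.congr (LinearEquiv.refl (R' ⧸ I') (R' ⧸ I')) e.symm)
  haveI : Module.Flat (R' ⧸ I') ((R' ⧸ I') ⊗[R'] M') := by
    rw [Module.Flat.iff_rTensor_injective']
    intro Pb
    have h := lTensor_injective_of_localizedModule (M' := M') W g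
      (P' := Pb) (P := R' ⧸ I') (Pb.subtype.restrictScalars R') (fun z hz => by
        rw [H7Flat.lTensor_injective_of_flat_quotient (M := N) I' Pb.subtype Subtype.val_injective
          (hz.trans (map_zero _).symm), map_zero])
    rw [LinearMap.lTensor_inj_iff_rTensor_inj] at h
    intro x y hxy
    let e₁ := AlgebraTensorModule.cancelBaseChange R' (R' ⧸ I') (R' ⧸ I') Pb M'
    let e₂ := AlgebraTensorModule.cancelBaseChange R' (R' ⧸ I') (R' ⧸ I') (R' ⧸ I') M'
    have key : ∀ x, e₂ (Pb.subtype.rTensor ((R' ⧸ I') ⊗[R'] M') x) =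
        (Pb.subtype.restrictScalars R').rTensor M' (e₁ x) := by
      intro x
      induction x with
      | zero => simp
      | tmul p q =>
        induction q with
        | zero => simp
        | tmul a m => simp [e₁, e₂]
        | add q q' hq hq' => simp only [tmul_add, map_add, hq, hq']
      | add x y hx hy => simp only [map_add, hx, hy]
    apply e₁.injective
    apply h
    rw [← key, ← key, hxy]
  -- step 2
  refine H7Flat.flat_of_injective_of_flat_quotient (S := S') (M := M') I' hI ?_
  refine lTensor_injective_of_localizedModule W g I'.subtype fun z hz => ?_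
  letI : Module R N := Module.compHom N (algebraMap R R')
  haveI : IsScalarTower R R' N := IsScalarTower.of_algebraMap_smul fun _ _ => rfl
  let J := I'.restrictScalars R
  let E : M ⊗[R] J →ₗ[R] N ⊗[R'] I' := TensorProduct.lift
    (LinearMap.mk₂ R (fun m i => e (1 ⊗ₜ m) ⊗ₜ[R'] (⟨i.1, i.2⟩ : I'))
      (fun m m' i => by simp only [TensorProduct.tmul_add, map_add, TensorProduct.add_tmul])
      (fun c m i => by
        simp only [TensorProduct.tmul_smul, ← algebraMap_smul R' c (_ : R' ⊗[R] M), map_smul]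
        rw [← TensorProduct.smul_tmul', algebraMap_smul])
      (fun m i i' => by
        rw [← TensorProduct.tmul_add]; rfl)
      (fun c m i => by
        rw [← algebraMap_smul R' c (_ : N ⊗[R'] I'), ← TensorProduct.tmul_smul]
        refine congrArg (_ ⊗ₜ[R'] ·) (Subtype.ext ?_)
        exact (algebraMap_smul R' c i.1).symm))
  have hE : Function.Surjective E := by
    intro z
    induction z with
    | zero => exact ⟨0, map_zero _⟩
    | tmul n i =>
      obtain ⟨x, rfl⟩ := e.surjective n
      induction x with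
      | zero => exact ⟨0, by simp⟩
      | tmul r m =>
        refine ⟨m ⊗ₜ (⟨r * i.1, Ideal.mul_mem_left _ _ i.2⟩ : J), ?_⟩
        rw [show (r ⊗ₜ[R] m) = r • ((1 : R') ⊗ₜ[R] m) by rw [TensorProduct.smul_tmul', smul_eq_mul, mul_one],
          map_smul, TensorProduct.smul_tmul]
        rfl
      | add x y hx hy =>
        obtain ⟨a, ha⟩ := hx
        obtain ⟨b, hb⟩ := hy
        exact ⟨a + b, by rw [map_add, ha, hb, map_add, TensorProduct.add_tmul]⟩
    | add x y hx hy =>
      obtain ⟨a, rfl⟩ := hx
      obtain ⟨b, rfl⟩ := hy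
      exact ⟨a + b, map_add _ _ _⟩
  obtain ⟨v, rfl⟩ := hE z
  let Θ : M ⊗[R] J →ₗ[R] M' ⊗[R'] I' :=
    ((g.restrictScalars R').rTensor I').restrictScalars R ∘ₗ E
  have hv : J.subtype.lTensor M v = 0 := by
    let ψ : M ⊗[R] R' → N ⊗[R'] R' := fun x =>
      (TensorProduct.rid R' N).symm (e (TensorProduct.comm R M R' x))
    have hψ : Function.Injective ψ :=
      (TensorProduct.rid R' N).symm.injective.comp (e.injective.comp (TensorProduct.comm R M R').injective)
    have hcomm : ∀ v, ψ (J.subtype.lTensor M v) = I'.subtype.lTensor N (E v) := by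
      intro v
      induction v with
      | zero => simp [ψ]
      | tmul m i =>
        simp only [ψ, E, LinearMap.lTensor_tmul, TensorProduct.comm_tmul, TensorProduct.lift.tmul,
          LinearMap.mk₂_apply, Submodule.subtype_apply]
        rw [TensorProduct.rid_symm_apply,
          show ((i : R') ⊗ₜ[R] m) = (i : R') • ((1 : R') ⊗ₜ[R] m) by
            rw [TensorProduct.smul_tmul', smul_eq_mul, mul_one], map_smul, TensorProduct.smul_tmul,
          smul_eq_mul, mul_one]
      | add a b ha hb => simp only [ψ, map_add] at ha hb ⊢; rw [ha, hb]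
    exact hψ ((hcomm v).trans (hz.trans (by simp [ψ])))
  refine map_ker_eq_zero I Θ ?_ v hv
  intro k hk r z hz'
  have hk' : I.subtype.rTensor M (TensorProduct.comm R M I k) = 0 := by
    have : ∀ k, I.subtype.rTensor M (TensorProduct.comm R M I k) =
        TensorProduct.comm R M R (I.subtype.lTensor M k) := by
      intro k
      induction k with
      | zero => simp
      | tmul m i => simp
      | add a b ha hb => simp [map_add, ha, hb]
    rw [this, hk, map_zero]
  have h := h3 _ hk'
  have key : ∀ k, Θ (z k) = r • TensorProduct.comm R' I' M'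
      ((TensorProduct.mapOfCompatibleSMul R' R R ↥(I.map (algebraMap R R')) M')
        ((TensorProduct.map (Algebra.idealMap R' I) f) (TensorProduct.comm R M I k))) := by
    intro k
    induction k with
    | zero => simp
    | tmul m i =>
      rw [hz']
      simp only [Θ, E, LinearMap.comp_apply, LinearMap.coe_restrictScalars, TensorProduct.lift.tmul,
        LinearMap.mk₂_apply, LinearMap.rTensor_tmul, hfe, TensorProduct.comm_tmul, TensorProduct.map_tmul,
        TensorProduct.mapOfCompatibleSMul_tmul]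
      rw [← TensorProduct.tmul_smul]
      refine congrArg (_ ⊗ₜ[R'] ·) (Subtype.ext ?_)
      exact mul_comm _ r
    | add a b ha hb => simp only [map_add, ha, hb, smul_add]
  rw [key, h, map_zero, smul_zero]

attribute [local instance] Algebra.TensorProduct.rightAlgebra

/-- **S12233**. -/
theorem flat_of_isBaseChange (R S R' S' : Type u) [CommRing R] [CommRing S] [CommRing R'] [CommRing S']
    [IsLocalRing R] [IsLocalRing R'] [IsLocalRing S'] [IsNoetherianRing R'] [IsNoetherianRing S']
    [Algebra R S] [Algebra R R'] [Algebra S S'] [Algebra R' S'] [Algebra R S']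
    [IsScalarTower R S S'] [IsScalarTower R R' S']
    [IsLocalHom (algebraMap R R')] [IsLocalHom (algebraMap R' S')]
    (I : Ideal R) (hI : I ≠ ⊤) (M : Type u) [AddCommGroup M] [Module S M] [Module R M] [IsScalarTower R S M]
    [Module.Finite S M]
    (M' : Type u) [AddCommGroup M'] [Module S' M'] [Module R' M'] [IsScalarTower R' S' M']
    [Module S M'] [IsScalarTower S S' M'] [Module R M'] [IsScalarTower R R' M'] [IsScalarTower R S M']
    (f : M →ₗ[S] M') (hf : IsBaseChange S' f)
    (h1 : ∃ W : Submonoid (S ⊗[R] R'),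
      letI : Algebra (S ⊗[R] R') S' :=
        (Algebra.TensorProduct.lift (IsScalarTower.toAlgHom R S S') (IsScalarTower.toAlgHom R R' S')
          (fun s r => Commute.all _ _)).toRingHom.toAlgebra;
      IsLocalization W S')
    (h2 : Module.Flat (R ⧸ I) ((R ⧸ I) ⊗[R] M))
    (h3 : ∀ x : ↥I ⊗[R] M, (Submodule.subtype I).rTensor M x = 0 →
      (TensorProduct.mapOfCompatibleSMul R' R R ↥(I.map (algebraMap R R')) M')
        ((TensorProduct.map (Algebra.idealMap R' I) (f.restrictScalars R)) x) = 0) :
    Module.Flat R' M' := by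
  obtain ⟨W, hW⟩ := h1
  letI : Algebra (S ⊗[R] R') S' :=
    (Algebra.TensorProduct.lift (IsScalarTower.toAlgHom R S S') (IsScalarTower.toAlgHom R R' S')
      (fun s r => Commute.all _ _)).toRingHom.toAlgebra
  haveI := hW
  letI : Module (S ⊗[R] R') M' := Module.compHom M' (algebraMap (S ⊗[R] R') S')
  haveI : IsScalarTower (S ⊗[R] R') S' M' := IsScalarTower.of_algebraMap_smul fun _ _ => rfl
  haveI : IsScalarTower S (S ⊗[R] R') S' := IsScalarTower.of_algebraMap_eq fun s => by
    change _ = Algebra.TensorProduct.lift _ _ _ (s ⊗ₜ[R] (1 : R'))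
    simp
  haveI : IsScalarTower R' (S ⊗[R] R') S' := IsScalarTower.of_algebraMap_eq fun r => by
    change _ = Algebra.TensorProduct.lift _ _ _ ((1 : S) ⊗ₜ[R] r)
    simp
  haveI : IsScalarTower S (S ⊗[R] R') M' := IsScalarTower.of_algebraMap_smul fun s m => by
    change algebraMap (S ⊗[R] R') S' _ • m = _
    rw [← IsScalarTower.algebraMap_apply, algebraMap_smul]
  haveI : IsScalarTower R' (S ⊗[R] R') M' := IsScalarTower.of_algebraMap_smul fun s m => by
    change algebraMap (S ⊗[R] R') S' _ • m = _
    rw [← IsScalarTower.algebraMap_apply, algebraMap_smul]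
  let N := (S ⊗[R] R') ⊗[S] M
  let g : N →ₗ[S ⊗[R] R'] M' := f.liftBaseChange (S ⊗[R] R')
  have hg : IsBaseChange S' g := by
    refine IsBaseChange.of_comp (TensorProduct.isBaseChange S M (S ⊗[R] R')) ?_
    convert hf using 1
    ext m
    simp [g]
  haveI : IsLocalizedModule W g := (isLocalizedModule_iff_isBaseChange W S' g).mpr hg
  haveI : SMulCommClass S R' (S ⊗[R] R') := ⟨fun s r x => by simp only [Algebra.smul_def]; ring⟩
  haveI : IsScalarTower R' (S ⊗[R] R') N := IsScalarTower.of_algebraMap_smul fun r x => by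
    induction x using TensorProduct.induction_on with
    | zero => simp
    | tmul a m => rw [TensorProduct.smul_tmul', TensorProduct.smul_tmul', smul_eq_mul, Algebra.smul_def]
    | add a b ha hb => rw [smul_add, smul_add, ha, hb]
  let e₀ : R' ⊗[R] M ≃ₗ[R] N :=
    ((TensorProduct.comm R R' M).trans
      ((AlgebraTensorModule.cancelBaseChange R S S M R').symm.restrictScalars R)).trans
      ((TensorProduct.comm S M (S ⊗[R] R')).restrictScalars R)
  have he : ∀ r m, e₀ (r ⊗ₜ m) = ((1 : S) ⊗ₜ[R] r) ⊗ₜ[S] m := fun r m => by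
    simp [e₀, AlgebraTensorModule.cancelBaseChange_symm_tmul]
  let e : R' ⊗[R] M ≃ₗ[R'] N :=
    { e₀.toAddEquiv with
      map_smul' := fun r x => by
        change e₀ (r • x) = algebraMap R' (S ⊗[R] R') r • e₀ x
        induction x with
        | zero => simp
        | tmul r' m =>
          rw [TensorProduct.smul_tmul', he, he, TensorProduct.smul_tmul']
          simp [Algebra.TensorProduct.right_algebraMap_apply]
        | add a b ha hb => rw [smul_add, map_add, map_add, smul_add, ha, hb] }
  haveI : Module.Finite S' M' := by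
    haveI : Module.Finite S' (S' ⊗[S] M) := inferInstance
    exact Module.Finite.equiv hf.equiv
  refine flat_of_localized (S' := S') I (M := M) ?_ W g e (f.restrictScalars R) (fun m => ?_) h3
  · exact ne_top_of_le_ne_top (IsLocalRing.maximalIdeal.isMaximal R').ne_top
      ((Ideal.map_mono (IsLocalRing.le_maximalIdeal hI)).trans
        (((IsLocalRing.local_hom_TFAE (algebraMap R R')).out 0 2).mp ‹_›))
  · change g (e₀ ((1 : R') ⊗ₜ m)) = f m
    rw [he]
    rw [← Algebra.TensorProduct.one_def]
    rw [LinearMap.liftBaseChange_tmul, one_smul]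

end Groth.Agent.H3CAlg.FlatBaseChange
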