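import Groth.Agent.H26Misc.SigmaLin
import Mathlib.FieldTheory.IsAlgClosed.Basic
import Mathlib.Algebra.CharP.Frobenius
import Mathlib.FieldTheory.Separable

/-!
Solvability of the additive equations needed in Lang's theorem, over an algebraically closed field.
-/

universe u v

open Polynomial

namespace Groth.Agent.H3CAlg

variable {k : Type u} [Field k] [IsAlgClosed k] {σ : k →+* k} {q : ℕ}

theorem iterate_eq_pow (hσ : ∀ x, σ x = x ^ q) (i : ℕ) (x : k) : (⇑σ)^[i] x = x ^ q ^ i := by
  induction i with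
  | zero => simp
  | succ i ih => rw [Function.iterate_succ_apply', hσ, ih, ← pow_mul, pow_succ]

theorem frob_h3 (hσ : ∀ x, σ x = x ^ q) (hq : 2 ≤ q) (c : k) : ∃ y : k, σ y - y + c = 0 := by
  have hd : (X ^ q - X + C c : k[X]).degree ≠ 0 := by
    have hn : (X ^ q - X + C c : k[X]).natDegree = q := by
      rw [natDegree_add_C, natDegree_sub_eq_left_of_natDegree_lt (by simp; omega), natDegree_X_pow]
    intro h
    have := natDegree_eq_zero_iff_degree_le_zero.mpr h.le
    omega
  obtain ⟨y, hy⟩ := IsAlgClosed.exists_root _ hd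
  exact ⟨y, by rw [hσ]; simpa [IsRoot] using hy⟩

theorem frob_h2 (hσ : ∀ x, σ x = x ^ q) (hq : 2 ≤ q) (hq0 : (q : k) = 0) (n : ℕ)
    (b : Fin (n + 1) → k) (hb : b ≠ 0) :
    ∃ x : k, x ≠ 0 ∧ x = ∑ i : Fin (n + 1), (⇑σ)^[i.val + 1] x * (⇑σ)^[i.val] (b (Fin.rev i)) := by
  classical
  set β : Fin (n + 1) → k := fun i => (⇑σ)^[i.val] (b (Fin.rev i))
  set Q : k[X] := ∑ i : Fin (n + 1), C (β i) * X ^ q ^ (i.val + 1)
  have hQd : derivative Q = 0 := by
    simp only [Q, derivative_sum]
    refine Finset.sum_eq_zero fun i _ => ?_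
    rw [derivative_C_mul_X_pow, Nat.cast_pow, hq0, zero_pow i.val.succ_ne_zero]
    simp
  obtain ⟨i₀, hi₀⟩ : ∃ i, β i ≠ 0 := by
    obtain ⟨j, hj⟩ := Function.ne_iff.mp hb
    refine ⟨Fin.rev j, fun h => hj ?_⟩
    simp only [β, Fin.rev_rev] at h
    exact Function.Injective.iterate σ.injective (Fin.rev j).val (by rw [h]; simp)
  have hcoeff : (Q - X).coeff (q ^ (i₀.val + 1)) = β i₀ := by
    have h1 : 1 < q ^ (i₀.val + 1) := Nat.one_lt_pow i₀.val.succ_ne_zero hq
    rw [coeff_sub, coeff_X_of_ne_one h1.ne', sub_zero, finsetSum_coeff,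
      Finset.sum_eq_single i₀]
    · simp
    · intro i _ hne
      rw [coeff_C_mul_X_pow, if_neg]
      intro h
      exact hne (Fin.ext (by have := Nat.pow_right_injective hq h; omega))
    · simp
  have hdeg : 2 ≤ (Q - X).natDegree :=
    le_trans (Nat.succ_le_of_lt (Nat.one_lt_pow i₀.val.succ_ne_zero hq))
      (le_natDegree_of_ne_zero (n := q ^ (i₀.val + 1)) (by rw [hcoeff]; exact hi₀))
  have hsep : (Q - X).Separable := by
    rw [separable_def, derivative_sub, hQd, derivative_X, zero_sub]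
    exact isCoprime_one_right.neg_right
  have hcard : (Q - X).roots.toFinset.card = (Q - X).natDegree := by
    rw [Multiset.toFinset_card_of_nodup (nodup_roots hsep)]
    exact IsAlgClosed.card_roots_eq_natDegree
  obtain ⟨x, hx, hx0⟩ := Finset.exists_mem_ne (by omega : 1 < (Q - X).roots.toFinset.card) 0
  rw [Multiset.mem_toFinset] at hx
  refine ⟨x, hx0, ?_⟩
  have hroot := isRoot_of_mem_roots hx
  simp only [IsRoot, Q, eval_sub, eval_finsetSum, eval_mul, eval_C, eval_pow, eval_X, sub_eq_zero] at hroot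
  conv_lhs => rw [← hroot]
  exact Finset.sum_congr rfl fun i _ => by rw [iterate_eq_pow hσ (i.val + 1) x, mul_comm]

end Groth.Agent.H3CAlg
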