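import Mathlib.LinearAlgebra.Matrix.Charpoly.Basic
import Mathlib.LinearAlgebra.Matrix.MvPolynomial
import Mathlib.RingTheory.AdjoinRoot
import Mathlib.RingTheory.Flat.FaithfullyFlat.Algebra
import Mathlib.RingTheory.Flat.Stability
import Mathlib.RingTheory.Polynomial.Basic

/-!
The determinant of the generic square matrix is monic in the variable `X (0,0)` after a linear
change of coordinates.
-/

set_option autoImplicit false

open Polynomial

namespace Groth.Agent.H3CAlg

universe u

variable (A : Type u) [CommRing A] (n : ℕ)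

/-- The indices other than `(z, z)`. -/
abbrev GIdx {n : ℕ} (z : Fin n) := {ij : Fin n × Fin n // ij ≠ (z, z)}

/-- The matrix of the remaining variables, with a zero in position `(z, z)`. -/
noncomputable def gMat {n : ℕ} (z : Fin n) :
    Matrix (Fin n) (Fin n) (MvPolynomial (GIdx z) A) :=
  fun i j => if h : (i, j) = (z, z) then 0 else MvPolynomial.X ⟨(i, j), h⟩

/-- Change of coordinates `X ij = Y ij + δ_ij T`. -/
noncomputable def gEquiv {n : ℕ} (z : Fin n) :
    MvPolynomial (Fin n × Fin n) A ≃ₐ[A] Polynomial (MvPolynomial (GIdx z) A) :=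
  let fwd : MvPolynomial (Fin n × Fin n) A →ₐ[A] Polynomial (MvPolynomial (GIdx z) A) :=
    MvPolynomial.aeval fun ij =>
      C (gMat A z ij.1 ij.2) + if ij.1 = ij.2 then X else 0
  let inner : MvPolynomial (GIdx z) A →ₐ[A] MvPolynomial (Fin n × Fin n) A :=
    MvPolynomial.aeval fun ij =>
      MvPolynomial.X ij.1 - if ij.1.1 = ij.1.2 then MvPolynomial.X (z, z) else 0
  let bwd : Polynomial (MvPolynomial (GIdx z) A) →ₐ[A] MvPolynomial (Fin n × Fin n) A :=
    Polynomial.aevalTower inner (MvPolynomial.X (z, z))
  AlgEquiv.ofAlgHom fwd bwd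
    (by
      refine Polynomial.algHom_ext' ?_ ?_
      · refine MvPolynomial.algHom_ext fun ij => ?_
        simp only [AlgHom.coe_comp, Function.comp_apply, fwd, bwd, inner]
        simp only [Polynomial.CAlgHom_apply, Polynomial.aevalTower_C, MvPolynomial.aeval_X, map_sub,
          AlgHom.coe_id, id_eq]
        have hne : ¬ ((ij.1.1, ij.1.2) = (z, z)) := ij.2
        by_cases h : ij.1.1 = ij.1.2
        · rw [if_pos h, if_pos h, MvPolynomial.aeval_X]
          simp [gMat, hne]
        · rw [if_neg h, if_neg h, map_zero]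
          simp [gMat, hne]
      · simp [fwd, bwd, gMat])
    (by
      refine MvPolynomial.algHom_ext fun ij => ?_
      simp only [AlgHom.coe_comp, Function.comp_apply, fwd, bwd, inner, MvPolynomial.aeval_X]
      by_cases hz : (ij.1, ij.2) = (z, z)
      · have h1 : ij.1 = ij.2 := by
          rw [Prod.mk.injEq] at hz
          rw [hz.1, hz.2]
        have hij : ij = (z, z) := hz
        subst hij
        simp [gMat]
      · obtain ⟨i, j⟩ := ij
        by_cases h : i = j
        · subst h
          have hz' : ¬ i = z := fun e => hz (by simp [e])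
          simp [gMat, hz']
        · simp only [gMat, dif_neg hz, if_neg h]
          simp [h])

theorem gEquiv_det {n : ℕ} (z : Fin n) :
    gEquiv A z (Matrix.mvPolynomialX (Fin n) (Fin n) A).det = (-gMat A z).charpoly := by
  rw [Matrix.charpoly, AlgEquiv.map_det]
  congr 1
  ext i j : 2
  by_cases h : i = j
  · subst h
    simp [gEquiv, Matrix.charmatrix, Matrix.mvPolynomialX, add_comm]
  · simp [gEquiv, Matrix.charmatrix, Matrix.mvPolynomialX, h]

/-- `A[X_ij]/(det)` is free over `A`. -/
theorem free_quotient_det {n : ℕ} (z : Fin n) :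
    Module.Free A (MvPolynomial (Fin n × Fin n) A ⧸
      Ideal.span {(Matrix.mvPolynomialX (Fin n) (Fin n) A).det}) := by
  let f := (-gMat A z).charpoly
  have hf : f.Monic := Matrix.charpoly_monic _
  have : Module.Free (MvPolynomial (GIdx z) A) (AdjoinRoot f) :=
    Module.Free.of_basis (AdjoinRoot.powerBasis' hf).basis
  have h2 : Module.Free A (AdjoinRoot f) :=
    Module.Free.trans (R := A) (S := MvPolynomial (GIdx z) A)
  have h : Ideal.span {f} = (Ideal.span {(Matrix.mvPolynomialX (Fin n) (Fin n) A).det}).map
      (gEquiv A z : _ →ₐ[A] _) := by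
    rw [Ideal.map_span, Set.image_singleton]
    simp [gEquiv_det, f]
  have h3 : Module.Free A (Polynomial (MvPolynomial (GIdx z) A) ⧸ Ideal.span {f}) := h2
  exact Module.Free.of_equiv (Ideal.quotientEquivAlg _ _ (gEquiv A z) h).toLinearEquiv.symm

end Groth.Agent.H3CAlg
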