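import Groth.Agent.H3CAlg.PunctCech

/-!
# `H^{i+1}(U, M~) ≅ H^{i+2}` of the Čech complex, naturally in the module
-/

set_option autoImplicit false
set_option linter.style.haveILetI false
set_option linter.unusedSectionVars false

universe u

open CategoryTheory CategoryTheory.Limits AlgebraicGeometry Opposite CategoryTheory.Abelian TopologicalSpace

namespace Groth.Agent.H3CAlg.PunctCech

attribute [local instance 10000] H10Coh.hasSheafifyAb H10Coh.hasWeakSheafifyAb H10Coh.hasExtAb H10Coh.enoughInjAb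

variable {A : Type u} [CommRing A] [IsNoetherianRing A] (fs : List A)
variable {L M N L' M' N' P : Type u} [AddCommGroup L] [Module A L] [AddCommGroup M] [Module A M] [AddCommGroup N] [Module A N]
  [AddCommGroup L'] [Module A L'] [AddCommGroup M'] [Module A M'] [AddCommGroup N'] [Module A N']
  [AddCommGroup P] [Module A P]

/-- The punctured spectrum of the list. -/
noncomputable abbrev U₀ : (Spec (CommRingCat.of A)).Opens := LocCoh.puncturedOpen A (Ideal.ofList fs)

/-- Elements as sections. -/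
noncomputable abbrev η₀ (M : Type u) [AddCommGroup M] [Module A M] : M →+ Hv (U₀ fs) 0 M :=
  H24Formal2.η A (Ideal.ofList fs) M

theorem hv_η₀ (φ : M →ₗ[A] N) (m : M) : hv (U₀ fs) φ 0 (η₀ fs M m) = η₀ fs N (φ m) :=
  H24Formal2.HVmap_η A (Ideal.ofList fs) φ m

theorem η₀_eq_zero (m : M) : η₀ fs M m = 0 ↔ ∃ t, τ fs M t = m :=
  (H24Formal2.η_eq_zero A (Ideal.ofList fs) m).trans (mem_range_τ fs m).symm

theorem hv_one_smul (y : Hv (U₀ fs) 0 M) :
    hv (U₀ fs) ((1 : A) • LinearMap.id : M →ₗ[A] M) 0 y = y := by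
  rw [show ((1 : A) • LinearMap.id : M →ₗ[A] M) = LinearMap.id from LinearMap.ext fun x => one_smul A x]
  exact H24Formal2.Gen.hm_id _ _ _ _

theorem η₀_surjective (M : Type u) [AddCommGroup M] [Module A M] [Module.Injective A M] :
    Function.Surjective (η₀ fs M) := fun y => by
  have hz : ∀ x : LocCoh.H (Ideal.ofList fs) 1 M, (1 : A) • x = 0 := fun x =>
    @Subsingleton.elim _ (H4LC.subsingleton_H_of_injective (Ideal.ofList fs) M one_pos) _ _
  obtain ⟨m, hm⟩ := H24Formal2.exists_η_eq A (Ideal.ofList fs) (1 : A) hz y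
  exact ⟨m, hm.trans (hv_one_smul fs y)⟩

theorem hv_zero_injective (φ : M →ₗ[A] N) (hφ : Function.Injective φ) (V : (Spec (CommRingCat.of A)).Opens) :
    Function.Injective (hv V φ 0) :=
  H24Formal2.HVmap_injective A φ hφ V

theorem subsingleton_Hv_injective (M : Type u) [AddCommGroup M] [Module A M] [Module.Injective A M] (i : ℕ) :
    Subsingleton (Hv (U₀ fs) (i + 1) M) := by
  haveI : Injective (ModuleCat.of A M) := (Module.injective_iff_injective_object A M).1 inferInstance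
  exact H24Formal2.subsingleton_HV_injective A (Ideal.ofList fs) (ModuleCat.of A M) i

theorem hc_id (i : ℤ) (x : Hc fs i M) : hc fs (LinearMap.id : M →ₗ[A] M) i x = x := by
  have h : H4DR.RG.chMap (ModuleCat.ofHom (LinearMap.id : M →ₗ[A] M)) fs = 𝟙 _ := by
    ext p : 1
    refine ModuleCat.hom_ext (LinearMap.ext fun z => ?_)
    refine Eq.trans ?_ ((H4DR.RG.mapX_smul_id (M := ModuleCat.of A M) (1 : A) fs p z).trans (one_smul A z))
    rw [one_smul]
    rfl
  rw [hc, h, HomologicalComplex.homologyMap_id]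
  rfl

/-! ### Degree zero -/

section Valid

variable {f : L →ₗ[A] M} {g : M →ₗ[A] N}

/-- Lifts used to define the map to `H^1`. -/
def Valid (f : L →ₗ[A] M) (g : M →ₗ[A] N) (y : Hv (U₀ fs) 0 L) (p : M × Hc fs 0 N) : Prop :=
  η₀ fs M p.1 = hv (U₀ fs) f 0 y ∧ τ fs N p.2 = g p.1

variable (hf : Function.Injective f) (hg : Function.Surjective g) (hfg : Function.Exact f g)

theorem δc_eq_of_valid {y : Hv (U₀ fs) 0 L} {p q : M × Hc fs 0 N} (hp : Valid fs f g y p) (hq : Valid fs f g y q) :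
    δc fs hf hg hfg 0 1 rfl p.2 = δc fs hf hg hfg 0 1 rfl q.2 := by
  obtain ⟨s, hs⟩ := (η₀_eq_zero fs (p.1 - q.1)).1 (by rw [map_sub, hp.1, hq.1, sub_self])
  have h : hc fs g 0 s = p.2 - q.2 := τ_injective fs N (by
    rw [τ_natural, hs, map_sub, map_sub, hp.2, hq.2])
  rw [← sub_eq_zero, ← map_sub, ← h]
  exact (exact_g_δc fs hf hg hfg 0 1 rfl).apply_apply_eq_zero s

include hfg in
theorem exists_valid [Module.Injective A M] (y : Hv (U₀ fs) 0 L) : ∃ p, Valid fs f g y p := by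
  obtain ⟨x, hx⟩ := η₀_surjective fs M (hv (U₀ fs) f 0 y)
  obtain ⟨t, ht⟩ := (η₀_eq_zero fs (g x)).1 (by
    rw [← hv_η₀, hx, hv_comp, hfg.linearMap_comp_eq_zero]
    show y.comp (Ext.mk₀ ((H24Formal2.tsh A).map (0 : ModuleCat.of A L ⟶ ModuleCat.of A N))) (add_zero 0) = 0
    rw [Functor.map_zero, Ext.mk₀_zero, Ext.comp_zero])
  exact ⟨(x, t), hx, ht⟩

variable {f' : L' →ₗ[A] M'} {g' : M' →ₗ[A] N'} {a : L →ₗ[A] L'} {b : M →ₗ[A] M'} {c : N →ₗ[A] N'}

theorem valid_map (h₁ : f' ∘ₗ a = b ∘ₗ f) (h₂ : g' ∘ₗ b = c ∘ₗ g) {y : Hv (U₀ fs) 0 L} {p : M × Hc fs 0 N}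
    (hp : Valid fs f g y p) : Valid fs f' g' (hv (U₀ fs) a 0 y) (b p.1, hc fs c 0 p.2) := by
  constructor
  · rw [← hv_η₀, hp.1, hv_comp, hv_comp, h₁]
  · rw [τ_natural, hp.2]
    exact (LinearMap.congr_fun h₂ p.1).symm

end Valid

variable (M) in
/-- A chosen injective module receiving `M`. -/
noncomputable abbrev EI : ModuleCat.{u} A := Injective.under (ModuleCat.of A M)

instance : Module.Injective A (EI (A := A) M) :=
  (Module.injective_iff_injective_object A _).2 (Injective.injective_under (ModuleCat.of A M))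

variable (M) in
/-- Its embedding. -/
noncomputable abbrev ei : M →ₗ[A] EI (A := A) M := (Injective.ι (ModuleCat.of A M)).hom

variable (M) in
/-- The quotient. -/
noncomputable abbrev eq' : EI (A := A) M →ₗ[A] (EI (A := A) M ⧸ LinearMap.range (ei (A := A) M)) :=
  (LinearMap.range (ei (A := A) M)).mkQ

theorem ei_injective : Function.Injective (ei (A := A) M) := (ModuleCat.mono_iff_injective _).1 (Injective.ι_mono _)

theorem eq'_surjective : Function.Surjective (eq' (A := A) M) := Submodule.mkQ_surjective _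

theorem exact_ei : Function.Exact (ei (A := A) M) (eq' (A := A) M) := LinearMap.exact_map_mkQ_range _

/-- A map to the sequence of any injective embedding. -/
theorem exists_ext {f : L →ₗ[A] M} {g : M →ₗ[A] N} (hf : Function.Injective f) (hg : Function.Surjective g)
    (hfg : Function.Exact f g) {f' : L' →ₗ[A] M'} {g' : M' →ₗ[A] N'} (hfg' : Function.Exact f' g')
    [Module.Injective A M'] (a : L →ₗ[A] L') :
    ∃ (b : M →ₗ[A] M') (c : N →ₗ[A] N'), f' ∘ₗ a = b ∘ₗ f ∧ g' ∘ₗ b = c ∘ₗ g := by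
  obtain ⟨b, hb⟩ := (Module.Baer.of_injective (inferInstance : Module.Injective A M')).extension_property f hf (f' ∘ₗ a)
  have hker : LinearMap.ker g ≤ LinearMap.ker (g' ∘ₗ b) := fun x hx => by
    obtain ⟨l, rfl⟩ := (hfg x).1 hx
    show g' ((b ∘ₗ f) l) = 0
    rw [hb]
    exact hfg'.apply_apply_eq_zero _
  refine ⟨b, (LinearMap.ker g).liftQ (g' ∘ₗ b) hker ∘ₗ (g.quotKerEquivOfSurjective hg).symm.toLinearMap,
    hb.symm, LinearMap.ext fun x => ?_⟩
  show (g' ∘ₗ b) x = (LinearMap.ker g).liftQ (g' ∘ₗ b) hker ((g.quotKerEquivOfSurjective hg).symm (g x))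
  rw [show (g.quotKerEquivOfSurjective hg).symm (g x) = Submodule.Quotient.mk x from
    (g.quotKerEquivOfSurjective hg).symm_apply_eq.2 rfl]
  rfl

theorem valid_add {f : L →ₗ[A] M} {g : M →ₗ[A] N} {y y' : Hv (U₀ fs) 0 L} {p q : M × Hc fs 0 N}
    (hp : Valid fs f g y p) (hq : Valid fs f g y' q) : Valid fs f g (y + y') (p + q) :=
  ⟨by rw [Prod.fst_add, map_add, hp.1, hq.1, map_add], by
    rw [Prod.snd_add, map_add, hp.2, hq.2, Prod.fst_add, map_add]⟩

variable (M) in
/-- `H^0(U, M~) → H^1`. -/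
noncomputable def ψ : Hv (U₀ fs) 0 M →+ Hc fs 1 M :=
  AddMonoidHom.mk' (fun y => δc fs (ei_injective (A := A) (M := M)) eq'_surjective exact_ei 0 1 rfl
      (exists_valid fs (exact_ei (A := A) (M := M)) y).choose.2) fun y y' => by
    rw [← map_add, ← Prod.snd_add]
    exact δc_eq_of_valid fs _ _ _ (exists_valid fs exact_ei (y + y')).choose_spec
      (valid_add fs (exists_valid fs exact_ei y).choose_spec (exists_valid fs exact_ei y').choose_spec)

theorem hc_ψ_eq {f : L →ₗ[A] M} {g : M →ₗ[A] N} (hf : Function.Injective f) (hg : Function.Surjective g)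
    (hfg : Function.Exact f g) (a : L →ₗ[A] L') {y : Hv (U₀ fs) 0 L} {p : M × Hc fs 0 N}
    (hp : Valid fs f g y p) : ψ fs L' (hv (U₀ fs) a 0 y) = hc fs a 1 (δc fs hf hg hfg 0 1 rfl p.2) := by
  obtain ⟨b, c, h₁, h₂⟩ := exists_ext hf hg hfg (exact_ei (A := A) (M := L')) a
  refine Eq.trans (δc_eq_of_valid fs (ei_injective (A := A) (M := L')) eq'_surjective exact_ei
    (exists_valid fs (exact_ei (A := A) (M := L')) (hv (U₀ fs) a 0 y)).choose_spec
    (valid_map fs h₁ h₂ hp) : ψ fs L' (hv (U₀ fs) a 0 y) = _) ?_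
  exact δc_natural fs hf hg hfg _ _ _ h₁ h₂ 0 1 rfl p.2

theorem ψ_natural (φ : M →ₗ[A] N) (y : Hv (U₀ fs) 0 M) :
    ψ fs N (hv (U₀ fs) φ 0 y) = hc fs φ 1 (ψ fs M y) :=
  hc_ψ_eq fs (ei_injective (A := A) (M := M)) eq'_surjective exact_ei φ (exists_valid fs (exact_ei (A := A) (M := M)) y).choose_spec

theorem ψ_η₀ (m : M) : ψ fs M (η₀ fs M m) = 0 := by
  refine Eq.trans (δc_eq_of_valid fs (ei_injective (A := A) (M := M)) eq'_surjective exact_ei (exists_valid fs (exact_ei (A := A) (M := M)) (η₀ fs M m)).choose_spec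
    (q := (ei (A := A) M m, 0)) ⟨(hv_η₀ fs _ m).symm, ?_⟩ : ψ fs M (η₀ fs M m) = _) (map_zero _)
  rw [map_zero]
  exact (exact_ei.apply_apply_eq_zero m).symm

theorem ψ_eq_zero_iff (y : Hv (U₀ fs) 0 M) : ψ fs M y = 0 ↔ ∃ m, η₀ fs M m = y := by
  refine ⟨fun h => ?_, fun ⟨m, hm⟩ => hm ▸ ψ_η₀ fs m⟩
  let p := (exists_valid fs (exact_ei (A := A) (M := M)) y).choose
  have hp : Valid fs (ei (A := A) M) (eq' (A := A) M) y p := (exists_valid fs exact_ei y).choose_spec
  obtain ⟨s, hs⟩ := ((exact_g_δc fs ei_injective eq'_surjective exact_ei 0 1 rfl) p.2).1 h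
  obtain ⟨m, hm⟩ := (exact_ei (p.1 - τ fs _ s)).1 (by
    rw [map_sub, sub_eq_zero, ← τ_natural, hs, hp.2])
  refine ⟨m, hv_zero_injective _ ei_injective _ ?_⟩
  rw [hv_η₀, hm, map_sub, hp.1, (η₀_eq_zero fs _).2 ⟨s, rfl⟩, sub_zero]

theorem ψ_surjective : Function.Surjective (ψ fs M) := fun z => by
  haveI := subsingleton_Hc_injective fs (EI (A := A) M) 1 le_rfl
  obtain ⟨t, rfl⟩ := ((exact_δc_f fs (ei_injective (A := A) (M := M)) eq'_surjective exact_ei 0 1 rfl) z).1
    (Subsingleton.elim _ _)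
  obtain ⟨x, hx⟩ := eq'_surjective (τ fs _ t)
  obtain ⟨y, hy⟩ := exists_hv_eq (U₀ fs) (ei_injective (A := A) (M := M)) eq'_surjective exact_ei 0 (η₀ fs _ x) (by
    rw [hv_η₀, hx, (η₀_eq_zero fs _).2 ⟨t, rfl⟩])
  exact ⟨y, (δc_eq_of_valid fs (ei_injective (A := A) (M := M)) eq'_surjective exact_ei (exists_valid fs (exact_ei (A := A) (M := M)) y).choose_spec (q := (x, t)) ⟨hy.symm, hx.symm⟩ : ψ fs M y = _)⟩

/-! ### Positive degrees -/

theorem exists_equiv_of_ker {P X Y : Type u} [AddCommGroup P] [AddCommGroup X] [AddCommGroup Y] (Φ : P →+ X) (Ψ : P →+ Y)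
    (hΦ : Function.Surjective Φ) (hΨ : Function.Surjective Ψ) (h : ∀ p, Φ p = 0 ↔ Ψ p = 0) :
    ∃ e : X ≃+ Y, ∀ p, e (Φ p) = Ψ p := by
  let e : X ≃+ Y := (QuotientAddGroup.quotientKerEquivOfSurjective Φ hΦ).symm.trans
    ((QuotientAddGroup.quotientAddEquivOfEq (SetLike.ext h : Φ.ker = Ψ.ker)).trans
      (QuotientAddGroup.quotientKerEquivOfSurjective Ψ hΨ))
  refine ⟨e, fun p => ?_⟩
  simp only [e, AddEquiv.trans_apply]
  rw [show (QuotientAddGroup.quotientKerEquivOfSurjective Φ hΦ).symm (Φ p) = (p : P ⧸ Φ.ker) from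
    (QuotientAddGroup.quotientKerEquivOfSurjective Φ hΦ).symm_apply_eq.2 rfl]
  rfl

variable (M) in
/-- The connecting map of the chosen sequence. -/
noncomputable abbrev δcI (i j : ℤ) (h : i + 1 = j) :
    Hc fs i (EI (A := A) M ⧸ LinearMap.range (ei (A := A) M)) →ₗ[A] Hc fs j M :=
  δc fs (ei_injective (A := A) (M := M)) (eq'_surjective (A := A) (M := M)) (exact_ei (A := A) (M := M)) i j h

variable (M) in
/-- The connecting map of the chosen sequence. -/
noncomputable abbrev δvI (i : ℕ) :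
    Hv (U₀ fs) i (EI (A := A) M ⧸ LinearMap.range (ei (A := A) M)) →+ Hv (U₀ fs) (i + 1) M :=
  δv (U₀ fs) (ei_injective (A := A) (M := M)) (eq'_surjective (A := A) (M := M)) (exact_ei (A := A) (M := M)) i

theorem natural_step (φ : M →ₗ[A] N) : ∃ c : (EI (A := A) M ⧸ LinearMap.range (ei (A := A) M)) →ₗ[A]
      (EI (A := A) N ⧸ LinearMap.range (ei (A := A) N)),
    (∀ (i j : ℤ) (h : i + 1 = j) x, δcI fs N i j h (hc fs c i x) = hc fs φ j (δcI fs M i j h x)) ∧
      ∀ (i : ℕ) x, δvI fs N i (hv (U₀ fs) c i x) = hv (U₀ fs) φ (i + 1) (δvI fs M i x) := by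
  obtain ⟨b, c, h₁, h₂⟩ := exists_ext (ei_injective (A := A) (M := M)) eq'_surjective exact_ei
    (exact_ei (A := A) (M := N)) φ
  exact ⟨c, fun i j h x => δc_natural fs _ _ _ _ _ _ h₁ h₂ i j h x, fun i x => δv_natural (U₀ fs) _ _ _ _ _ _ h₁ h₂ i x⟩

/-- The comparison. -/
theorem exists_compare (i : ℕ) : ∀ j : ℤ, (i : ℤ) + 2 = j →
    ∃ e : ∀ (M : ModuleCat.{u} A), Hv (U₀ fs) (i + 1) M ≃+ Hc fs j M,
      ∀ {M N : ModuleCat.{u} A} (φ : M →ₗ[A] N) (x : Hv (U₀ fs) (i + 1) M),
        e N (hv (U₀ fs) φ (i + 1) x) = hc fs φ j (e M x) := by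
  induction i with
  | zero =>
    intro j hj
    have hj' : (1 : ℤ) + 1 = j := by simpa using hj
    have key : ∀ M : ModuleCat.{u} A, ∃ e : Hv (U₀ fs) (0 + 1) M ≃+ Hc fs j M,
        ∀ q, e (δvI fs M 0 q) =
          δcI fs M 1 j hj' (ψ fs _ q) := by
      intro M
      haveI := subsingleton_Hv_injective fs (EI (A := A) M) 0
      haveI := subsingleton_Hc_injective fs (EI (A := A) M) 1 le_rfl
      haveI := subsingleton_Hc_injective fs (EI (A := A) M) j (by omega)
      refine exists_equiv_of_ker (δvI fs M 0)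
        ((δcI fs M 1 j hj').toAddMonoidHom.comp (ψ fs _))
        (fun x => exists_δv_eq (U₀ fs) (ei_injective (A := A) (M := M)) (eq'_surjective (A := A) (M := M)) exact_ei 0 x (Subsingleton.elim _ _)) ?_ fun q => ?_
      · intro z
        obtain ⟨w, rfl⟩ := ((exact_δc_f fs (ei_injective (A := A) (M := M)) (eq'_surjective (A := A) (M := M)) (exact_ei (A := A) (M := M)) 1 j hj') z).1 (Subsingleton.elim _ _)
        obtain ⟨y, rfl⟩ := ψ_surjective fs w
        exact ⟨y, rfl⟩
      · rw [δv_eq_zero_iff]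
        constructor
        · rintro ⟨y, rfl⟩
          obtain ⟨x, rfl⟩ := η₀_surjective fs _ y
          show δcI fs M 1 j hj' (ψ fs _ _) = 0
          rw [hv_η₀, ψ_η₀, map_zero]
        · intro h
          obtain ⟨u, hu⟩ := ((exact_g_δc fs (ei_injective (A := A) (M := M)) (eq'_surjective (A := A) (M := M)) (exact_ei (A := A) (M := M)) 1 j hj') _).1 h
          rw [Subsingleton.elim u 0, map_zero] at hu
          obtain ⟨m, rfl⟩ := (ψ_eq_zero_iff fs q).1 hu.symm
          obtain ⟨x, rfl⟩ := eq'_surjective (M := M) (A := A) m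
          exact ⟨η₀ fs _ x, hv_η₀ fs _ x⟩
    choose e he using key
    refine ⟨e, fun {M N} φ x => ?_⟩
    haveI := subsingleton_Hv_injective fs (EI (A := A) M) 0
    obtain ⟨q, rfl⟩ := exists_δv_eq (U₀ fs) (ei_injective (A := A) (M := M)) eq'_surjective exact_ei 0 x (Subsingleton.elim _ _)
    obtain ⟨c, hcc, hcv⟩ := natural_step fs φ
    refine (congrArg (e N) (hcv _ q).symm).trans ?_
    rw [he, he, ← hcc]
    exact congrArg _ (ψ_natural fs c q)

  | succ i ih =>
    intro j hj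
    obtain ⟨e₀, he₀⟩ := ih (j - 1) (by push_cast at hj ⊢; omega)
    have key : ∀ M : ModuleCat.{u} A, ∃ e : Hv (U₀ fs) (i + 1 + 1) M ≃+ Hc fs j M,
        ∀ q, e (δvI fs M (i + 1) q) =
          δcI fs M (j - 1) j (by omega)
            (e₀ (ModuleCat.of A _) q) := by
      intro M
      haveI := subsingleton_Hv_injective fs (EI (A := A) M) (i + 1)
      haveI := subsingleton_Hv_injective fs (EI (A := A) M) i
      haveI := subsingleton_Hc_injective fs (EI (A := A) M) (j - 1) (by push_cast at hj ⊢; omega)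
      haveI := subsingleton_Hc_injective fs (EI (A := A) M) j (by push_cast at hj ⊢; omega)
      refine exists_equiv_of_ker (δvI fs M (i + 1))
        ((δcI fs M (j - 1) j (by omega)).toAddMonoidHom.comp
          (e₀ (ModuleCat.of A _)).toAddMonoidHom)
        (fun x => exists_δv_eq (U₀ fs) (ei_injective (A := A) (M := M)) (eq'_surjective (A := A) (M := M)) exact_ei (i + 1) x (Subsingleton.elim _ _)) ?_ fun q => ?_
      · intro z
        obtain ⟨w, rfl⟩ := ((exact_δc_f fs (ei_injective (A := A) (M := M)) (eq'_surjective (A := A) (M := M)) (exact_ei (A := A) (M := M)) (j - 1) j (by omega)) z).1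
          (Subsingleton.elim _ _)
        exact ⟨(e₀ (ModuleCat.of A _)).symm w, congrArg (δcI fs M (j - 1) j (by omega)) ((e₀ (ModuleCat.of A _)).apply_symm_apply w)⟩
      · rw [δv_eq_zero_iff]
        constructor
        · rintro ⟨y, rfl⟩
          rw [Subsingleton.elim y 0, map_zero, map_zero]
        · intro h
          obtain ⟨u, hu⟩ := ((exact_g_δc fs (ei_injective (A := A) (M := M)) (eq'_surjective (A := A) (M := M)) (exact_ei (A := A) (M := M)) (j - 1) j (by omega)) _).1 h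
          rw [Subsingleton.elim u 0, map_zero] at hu
          exact ⟨0, by rw [map_zero]; exact ((e₀ (ModuleCat.of A _)).map_eq_zero_iff.1 hu.symm).symm⟩
    choose e he using key
    refine ⟨e, fun {M N} φ x => ?_⟩
    haveI := subsingleton_Hv_injective fs (EI (A := A) M) (i + 1)
    obtain ⟨q, rfl⟩ := exists_δv_eq (U₀ fs) (ei_injective (A := A) (M := M)) eq'_surjective exact_ei (i + 1) x
      (Subsingleton.elim _ _)
    obtain ⟨c, hcc, hcv⟩ := natural_step fs φ
    refine (congrArg (e N) (hcv _ q).symm).trans ?_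
    rw [he, he, ← hcc]
    exact congrArg _ (he₀ (M := ModuleCat.of A _) (N := ModuleCat.of A _) c q)

end Groth.Agent.H3CAlg.PunctCech
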