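import Groth.Agent.H24Adic.HensQuotCompletion
import Mathlib

/-!
# Completions of domains with a domain as associated graded ring
-/

set_option autoImplicit false
set_option linter.style.haveILetI false

universe u

namespace Groth.Agent.H3CAlg.GradedCompl

/-- If orders add up, the completion is a domain. -/
theorem isDomain_adicCompletion {A : Type u} [CommRing A] (m : Ideal A) (hne : m ≠ ⊤)
    (hmul : ∀ (a b : ℕ) (x y : A), x ∈ m ^ a → x ∉ m ^ (a + 1) → y ∈ m ^ b → y ∉ m ^ (b + 1) →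
      x * y ∉ m ^ (a + b + 1)) : IsDomain (AdicCompletion m A) := by
  classical
  have hstart : ∀ u : AdicCompletion m A, u ≠ 0 → ∃ a : ℕ, ∀ N, a + 1 ≤ N →
      ∃ x : A, Ideal.Quotient.mk (m ^ N) x = AdicCompletion.evalₐ m N u ∧ x ∈ m ^ a ∧ x ∉ m ^ (a + 1) := by
    intro u hu
    have hex : ∃ n, AdicCompletion.evalₐ m n u ≠ 0 := by
      by_contra hc
      push Not at hc
      exact hu (AdicCompletion.ext_evalₐ fun n => by rw [hc n, map_zero])
    obtain ⟨a, ha⟩ : ∃ a, Nat.find hex = a + 1 := by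
      refine Nat.exists_eq_succ_of_ne_zero fun h0 => ?_
      have h := Nat.find_spec hex
      rw [h0] at h
      haveI : Subsingleton (A ⧸ m ^ 0) := Ideal.Quotient.subsingleton_iff.mpr (by rw [pow_zero, Ideal.one_eq_top])
      exact h (Subsingleton.elim _ _)
    refine ⟨a, fun N hN => ?_⟩
    obtain ⟨x, hx⟩ := Ideal.Quotient.mk_surjective (AdicCompletion.evalₐ m N u)
    refine ⟨x, hx, ?_, fun hmem => ?_⟩
    · have h0 : AdicCompletion.evalₐ m a u = 0 := not_not.mp (Nat.find_min hex (by omega))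
      rw [← H24Adic.factorPow_evalₐ m (show a ≤ N by omega), ← hx] at h0
      exact Ideal.Quotient.eq_zero_iff_mem.mp h0
    · have h1 := Nat.find_spec hex
      rw [ha, ← H24Adic.factorPow_evalₐ m hN, ← hx] at h1
      exact h1 (Ideal.Quotient.eq_zero_iff_mem.mpr hmem)
  haveI : Nontrivial (AdicCompletion m A) := by
    refine ⟨⟨0, 1, fun h => hne ?_⟩⟩
    have := congrArg (AdicCompletion.evalₐ m 1) h
    rw [map_zero, map_one, eq_comm, ← map_one (Ideal.Quotient.mk (m ^ 1)), Ideal.Quotient.eq_zero_iff_mem,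
      pow_one] at this
    exact (Ideal.eq_top_iff_one m).mpr this
  haveI : NoZeroDivisors (AdicCompletion m A) := ⟨fun {u v} huv => by
    by_contra! hc
    obtain ⟨a, ha⟩ := hstart u hc.1
    obtain ⟨b, hb⟩ := hstart v hc.2
    obtain ⟨x, hx, hx1, hx2⟩ := ha (a + b + 1) (by omega)
    obtain ⟨y, hy, hy1, hy2⟩ := hb (a + b + 1) (by omega)
    refine hmul a b x y hx1 hx2 hy1 hy2 (Ideal.Quotient.eq_zero_iff_mem.mp ?_)
    rw [map_mul, hx, hy, ← map_mul, huv, map_zero]⟩
  exact NoZeroDivisors.to_isDomain _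

open MvPolynomial

attribute [local instance] MvPolynomial.gradedAlgebra

variable {σ : Type u} [Finite σ] {K : Type u} [Field K]

theorem homogeneousComponent_mem {P : Ideal (MvPolynomial σ K)}
    (hP : P.IsHomogeneous (homogeneousSubmodule σ K)) {z : MvPolynomial σ K} (hz : z ∈ P) (d : ℕ) :
    homogeneousComponent d z ∈ P := by
  have h := hP d hz
  rwa [show ((DirectSum.decompose (homogeneousSubmodule σ K) z d : MvPolynomial σ K)) = homogeneousComponent d z from
    MvPolynomial.decomposition.decompose'_apply z d] at h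

theorem mem_of_mem_sup {P : Ideal (MvPolynomial σ K)} (hP : P.IsHomogeneous (homogeneousSubmodule σ K))
    {z : MvPolynomial σ K} {d : ℕ} (hz : z.IsHomogeneous d) (h : z ∈ P ⊔ idealOfVars σ K ^ (d + 1)) : z ∈ P := by
  obtain ⟨q, hq, r, hr, e⟩ := Submodule.mem_sup.mp h
  have h2 := congrArg (homogeneousComponent d) e
  have hr0 : homogeneousComponent d r = 0 := by
    ext c
    rw [coeff_homogeneousComponent, coeff_zero]
    split_ifs with hc
    · exact (mem_pow_idealOfVars_iff' _ _).mp hr c (by omega)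
    · rfl
  rw [map_add, hr0, add_zero, homogeneousComponent_of_mem hz, if_pos rfl] at h2
  exact h2 ▸ homogeneousComponent_mem hP hq d

theorem exists_leading {P : Ideal (MvPolynomial σ K)}
    {x : MvPolynomial σ K} {a : ℕ} (hx : x ∈ P ⊔ idealOfVars σ K ^ a) :
    ∃ x₀ : MvPolynomial σ K, x₀.IsHomogeneous a ∧ x - x₀ ∈ P ⊔ idealOfVars σ K ^ (a + 1) := by
  obtain ⟨q, hq, r, hr, e⟩ := Submodule.mem_sup.mp hx
  refine ⟨homogeneousComponent a r, homogeneousComponent_isHomogeneous a r, ?_⟩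
  rw [← e, add_sub_assoc]
  refine add_mem (Submodule.mem_sup_left hq) (Submodule.mem_sup_right ((mem_pow_idealOfVars_iff' _ _).mpr fun c hc => ?_))
  rw [coeff_sub, coeff_homogeneousComponent]
  split_ifs with hd
  · exact sub_self _
  · rw [sub_zero]
    exact (mem_pow_idealOfVars_iff' _ _).mp hr c (by omega)

/-- Orders add up in a graded domain. -/
theorem notMem_mul {P : Ideal (MvPolynomial σ K)} [P.IsPrime] (hP : P.IsHomogeneous (homogeneousSubmodule σ K))
    {a b : ℕ} {x y : MvPolynomial σ K} (hx : x ∈ P ⊔ idealOfVars σ K ^ a) (hx' : x ∉ P ⊔ idealOfVars σ K ^ (a + 1))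
    (hy : y ∈ P ⊔ idealOfVars σ K ^ b) (hy' : y ∉ P ⊔ idealOfVars σ K ^ (b + 1)) :
    x * y ∉ P ⊔ idealOfVars σ K ^ (a + b + 1) := by
  obtain ⟨x₀, hx0, hxd⟩ := exists_leading hx
  obtain ⟨y₀, hy0, hyd⟩ := exists_leading hy
  intro h
  have hmem : ∀ {i j : ℕ} {u v : MvPolynomial σ K}, u ∈ P ⊔ idealOfVars σ K ^ i → v ∈ P ⊔ idealOfVars σ K ^ j →
      u * v ∈ P ⊔ idealOfVars σ K ^ (i + j) := fun {i j u v} hu hv => by
    obtain ⟨q, hq, r, hr, rfl⟩ := Submodule.mem_sup.mp hu
    obtain ⟨q', hq', r', hr', rfl⟩ := Submodule.mem_sup.mp hv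
    rw [add_mul, mul_add r, ← add_assoc]
    exact add_mem (Submodule.mem_sup_left (add_mem (P.mul_mem_right _ hq) (P.mul_mem_left _ hq')))
      (Submodule.mem_sup_right (by rw [pow_add]; exact Ideal.mul_mem_mul hr hr'))
  have hxy : x₀ * y₀ ∈ P ⊔ idealOfVars σ K ^ (a + b + 1) := by
    have h1 : (x - x₀) * y ∈ P ⊔ idealOfVars σ K ^ (a + b + 1) := by
      rw [show a + b + 1 = (a + 1) + b by ring]; exact hmem hxd hy
    have h2 : x * (y - y₀) ∈ P ⊔ idealOfVars σ K ^ (a + b + 1) := by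
      rw [show a + b + 1 = a + (b + 1) by ring]; exact hmem hx hyd
    have h3 : (x - x₀) * (y - y₀) ∈ P ⊔ idealOfVars σ K ^ (a + b + 1) :=
      sup_le_sup_left (Ideal.pow_le_pow_right (by omega)) P (hmem hxd hyd)
    have h4 := add_mem (sub_mem (sub_mem h h1) h2) h3
    rwa [show x * y - (x - x₀) * y - x * (y - y₀) + (x - x₀) * (y - y₀) = x₀ * y₀ by ring] at h4
  rcases (Ideal.IsPrime.mem_or_mem ‹_› (mem_of_mem_sup hP (hx0.mul hy0) hxy)) with h0 | h0
  · exact hx' (by simpa using add_mem hxd (Submodule.mem_sup_left h0 : x₀ ∈ P ⊔ idealOfVars σ K ^ (a + 1)))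
  · exact hy' (by simpa using add_mem hyd (Submodule.mem_sup_left h0 : y₀ ∈ P ⊔ idealOfVars σ K ^ (b + 1)))

end Groth.Agent.H3CAlg.GradedCompl
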