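import Mathlib.RingTheory.MvPolynomial.Homogeneous
import Mathlib.RingTheory.MvPolynomial.Ideal
import Mathlib.RingTheory.Polynomial.Basic
import Mathlib.RingTheory.Noetherian.Basic
import Mathlib.Tactic

/-!
Minimal homogeneous generators of graded submodules of `(MvPolynomial σ k)^n` with shifted gradings.
-/

namespace Groth.Agent.H3CAlg.GradedFree

open MvPolynomial

universe u v

variable {k : Type u} [Field k] {σ : Type v} {n : ℕ}

theorem homogeneousComponent_mul_homogeneous {a p : MvPolynomial σ k} {e : ℕ} (ha : a.IsHomogeneous e) (j : ℕ) :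
    homogeneousComponent j (p * a) = if e ≤ j then homogeneousComponent (j - e) p * a else 0 := by
  classical
  have key : ∀ i, homogeneousComponent j (homogeneousComponent i p * a) =
      if i + e = j then homogeneousComponent i p * a else 0 := fun i => by
    rw [homogeneousComponent_of_mem (((homogeneousComponent_isHomogeneous i p)).mul ha)]
    split_ifs with h1 h2 h3 <;> first | rfl | omega
  conv_lhs => rw [← sum_homogeneousComponent p, Finset.sum_mul, map_sum]
  simp only [key]
  split_ifs with h
  · rw [Finset.sum_eq_single (j - e)]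
    · rw [if_pos (by omega)]
    · intro i _ hi; rw [if_neg (by omega)]
    · intro hi
      rw [if_pos (by omega), homogeneousComponent_eq_zero _ _ (by simp at hi; omega), zero_mul]
  · exact Finset.sum_eq_zero fun i _ => if_neg (by omega)

variable (d : Fin n → ℕ)

/-- degree `j` component of a vector, for the shifts `d` -/
noncomputable def comp (j : ℕ) : (Fin n → MvPolynomial σ k) →+ (Fin n → MvPolynomial σ k) :=
  AddMonoidHom.mk' (fun v i => if d i ≤ j then homogeneousComponent (j - d i) (v i) else 0)
    fun v w => funext fun i => by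
      simp only [Pi.add_apply, map_add]
      split_ifs <;> simp

theorem comp_apply (j : ℕ) (v : Fin n → MvPolynomial σ k) (i : Fin n) :
    comp d j v i = if d i ≤ j then homogeneousComponent (j - d i) (v i) else 0 := rfl

/-- homogeneous of degree `e` for the shifts `d` -/
def Homog (e : ℕ) (v : Fin n → MvPolynomial σ k) : Prop :=
  ∀ i, (d i ≤ e → (v i).IsHomogeneous (e - d i)) ∧ (e < d i → v i = 0)

theorem homog_comp (j : ℕ) (v : Fin n → MvPolynomial σ k) : Homog d j (comp d j v) := fun i =>
  ⟨fun h => by rw [comp_apply, if_pos h]; exact homogeneousComponent_isHomogeneous _ _,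
    fun h => by rw [comp_apply, if_neg (by omega)]⟩

theorem comp_smul {e : ℕ} {x : Fin n → MvPolynomial σ k} (hx : Homog d e x) (c : MvPolynomial σ k) (j : ℕ) :
    comp d j (c • x) = (if e ≤ j then homogeneousComponent (j - e) c else 0) • x := by
  funext i
  rw [comp_apply, Pi.smul_apply, Pi.smul_apply, smul_eq_mul, smul_eq_mul]
  rcases Nat.lt_or_ge e (d i) with h | h
  · rw [(hx i).2 h]
    simp
  · by_cases hij : d i ≤ j
    · rw [if_pos hij, homogeneousComponent_mul_homogeneous ((hx i).1 h)]
      by_cases hej : e ≤ j
      · rw [if_pos (by omega), if_pos hej, show j - d i - (e - d i) = j - e by omega]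
      · rw [if_neg (by omega), if_neg hej, zero_mul]
    · rw [if_neg hij, if_neg (by omega), zero_mul]

theorem exists_sum_comp (v : Fin n → MvPolynomial σ k) :
    ∃ N, v = ∑ j ∈ Finset.range N, comp d j v := by
  classical
  refine ⟨(∑ i, ((v i).totalDegree + d i)) + 1, funext fun i => MvPolynomial.ext _ _ fun s => ?_⟩
  rw [Finset.sum_apply, coeff_sum]
  by_cases hs : coeff s (v i) = 0
  · rw [hs, eq_comm]
    refine Finset.sum_eq_zero fun j _ => ?_
    rw [comp_apply]; split_ifs <;> simp [coeff_homogeneousComponent, hs]
  · rw [Finset.sum_eq_single (s.degree + d i)]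
    · rw [comp_apply, if_pos (by omega), coeff_homogeneousComponent, if_pos (by omega)]
    · intro j _ hj
      rw [comp_apply]
      split_ifs with h
      · rw [coeff_homogeneousComponent, if_neg (by omega)]
      · simp
    · intro h
      refine absurd (Finset.mem_range.mpr (Nat.lt_succ_of_le ?_)) h
      refine le_trans ?_ (Finset.single_le_sum (f := fun i => (v i).totalDegree + d i) (fun i _ => Nat.zero_le _) (Finset.mem_univ i))
      have : s.degree ≤ (v i).totalDegree := by
        rw [Finsupp.degree_apply]
        exact le_totalDegree (mem_support_iff.mpr hs)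
      omega

/-- A submodule stable under components has a minimal homogeneous generating family: all relations
between the generators have coefficients without constant term. -/
theorem exists_minimal_homogeneous [Finite σ] (M : Submodule (MvPolynomial σ k) (Fin n → MvPolynomial σ k))
    (hM : ∀ v ∈ M, ∀ j, comp d j v ∈ M) :
    ∃ (t : ℕ) (x : Fin t → Fin n → MvPolynomial σ k) (e : Fin t → ℕ), (∀ l, Homog d (e l) (x l)) ∧
      Submodule.span (MvPolynomial σ k) (Set.range x) = M ∧
      ∀ c : Fin t → MvPolynomial σ k, ∑ l, c l • x l = 0 → ∀ l, constantCoeff (c l) = 0 := by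
  classical
  have hex : ∃ (t : ℕ) (x : Fin t → Fin n → MvPolynomial σ k) (e : Fin t → ℕ),
      (∀ l, Homog d (e l) (x l)) ∧ Submodule.span (MvPolynomial σ k) (Set.range x) = M := by
    obtain ⟨m, g, hg⟩ := Submodule.fg_iff_exists_fin_generating_family.mp (IsNoetherian.noetherian M)
    choose N hN using fun l => exists_sum_comp d (g l)
    let P := (Finset.univ : Finset (Fin m)).biUnion fun l => (Finset.range (N l)).image fun j => ((l, j) : Fin m × ℕ)
    refine ⟨P.card, fun p => comp d (P.equivFin.symm p).1.2 (g (P.equivFin.symm p).1.1),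
      fun p => (P.equivFin.symm p).1.2, fun p => homog_comp d _ _, le_antisymm ?_ ?_⟩
    · rw [Submodule.span_le]
      rintro _ ⟨p, rfl⟩
      exact hM _ (hg ▸ Submodule.subset_span ⟨_, rfl⟩) _
    · conv_lhs => rw [← hg]
      rw [Submodule.span_le]
      rintro _ ⟨l, rfl⟩
      rw [SetLike.mem_coe, hN l]
      refine Submodule.sum_mem _ fun j hj => Submodule.subset_span ⟨P.equivFin ⟨(l, j), ?_⟩, by simp⟩
      exact Finset.mem_biUnion.mpr ⟨l, Finset.mem_univ _, Finset.mem_image.mpr ⟨j, hj, rfl⟩⟩
  obtain ⟨x, e, hx, hspan⟩ := Nat.find_spec hex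
  refine ⟨Nat.find hex, x, e, hx, hspan, fun c hc i => ?_⟩
  by_contra hu
  generalize ht : Nat.find hex = t at x e hx hspan c hc i
  obtain ⟨t', rfl⟩ : ∃ t', t = t' + 1 := ⟨t - 1, by have := i.pos; omega⟩
  refine Nat.find_min hex (show t' < Nat.find hex by omega)
    ⟨x ∘ i.succAbove, e ∘ i.succAbove, fun l => hx _, le_antisymm ?_ ?_⟩
  · exact (Submodule.span_mono (Set.range_comp_subset_range _ _)).trans hspan.le
  · conv_lhs => rw [← hspan]
    rw [Submodule.span_le]
    rintro _ ⟨l, rfl⟩
    rcases eq_or_ne l i with rfl | hl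
    swap
    · obtain ⟨l', rfl⟩ := Fin.exists_succAbove_eq hl
      exact Submodule.subset_span ⟨l', rfl⟩
    have h := congrArg (comp d (e l)) hc
    rw [map_sum, map_zero, Fin.sum_univ_succAbove _ l, comp_smul d (hx l), if_pos le_rfl, Nat.sub_self,
      homogeneousComponent_zero, add_eq_zero_iff_eq_neg] at h
    have hC : IsUnit (C (coeff 0 (c l)) : MvPolynomial σ k) := (isUnit_iff_ne_zero.mpr hu).map C
    rw [SetLike.mem_coe, ← Submodule.smul_mem_iff_of_isUnit _ hC, h]
    refine neg_mem (Submodule.sum_mem _ fun l' _ => ?_)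
    rw [comp_smul d (hx _)]
    exact Submodule.smul_mem _ _ (Submodule.subset_span ⟨l', rfl⟩)

end Groth.Agent.H3CAlg.GradedFree
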