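import Mathlib.LinearAlgebra.Basis.VectorSpace
import Mathlib.LinearAlgebra.FiniteDimensional.Lemmas
import Mathlib.LinearAlgebra.Dimension.DivisionRing
import Mathlib.Algebra.DirectSum.Decomposition
import Mathlib.Algebra.DirectSum.Module
import Mathlib.Logic.Equiv.Fin.Basic
import Mathlib.RingTheory.Nilpotent.Defs

/-!
Homogeneous Jordan bases for nilpotent endomorphisms shifting a grading.
-/

universe u v w

namespace Groth.Agent.H3CAlg.GradedJordan

open DirectSum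

variable {k : Type u} [Field k] {Λ : Type v} [AddCommGroup Λ] [DecidableEq Λ]
  {V : Type w} [AddCommGroup V] [Module k V] [FiniteDimensional k V]
  (𝒱 : Λ → Submodule k V) [DirectSum.Decomposition 𝒱] (A : Module.End k V) (χ : Λ)

theorem proj_map (hhom : ∀ (μ : Λ) (v : V), v ∈ 𝒱 μ → A v ∈ 𝒱 (μ + χ)) (μ : Λ) (v : V) :
    (decompose 𝒱 (A v) (μ + χ) : V) = A (decompose 𝒱 v μ : V) := by
  induction v using DirectSum.Decomposition.inductionOn 𝒱 with
  | zero => simp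
  | @homogeneous ν m =>
    rcases eq_or_ne ν μ with rfl | h
    · rw [decompose_of_mem_same 𝒱 (hhom _ _ m.2), decompose_of_mem_same 𝒱 m.2]
    · rw [decompose_of_mem_ne 𝒱 (hhom _ _ m.2) (by simpa using h), decompose_of_mem_ne 𝒱 m.2 h, map_zero]
  | add a b ha hb =>
    rw [map_add, decompose_add, decompose_add, DirectSum.add_apply, DirectSum.add_apply, Submodule.coe_add,
      Submodule.coe_add, map_add, ha, hb]

/-- Chain bases. -/
theorem exists_chains (hA : IsNilpotent A) (hhom : ∀ (μ : Λ) (v : V), v ∈ 𝒱 μ → A v ∈ 𝒱 (μ + χ))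
    (W : Submodule k V) (hW : ∀ μ, ∀ w ∈ W, (decompose 𝒱 w μ : V) ∈ W) (hAW : ∀ w ∈ W, A w ∈ W) :
    ∃ (ι : Type w) (_ : Finite ι) (n : ι → ℕ) (b : (Σ i : ι, Fin (n i + 1)) → V),
      LinearIndependent k b ∧ Submodule.span k (Set.range b) = W ∧
      (∀ x, ∃ μ : Λ, b x ∈ 𝒱 μ) ∧
      (∀ i : ι, A (b ⟨i, 0⟩) = 0) ∧
      ∀ (i : ι) (l : Fin (n i)), A (b ⟨i, l.succ⟩) = b ⟨i, l.castSucc⟩ := by
  classical
  induction hr : Module.finrank k W using Nat.strong_induction_on generalizing W with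
  | _ r ih =>
  rcases eq_or_ne W ⊥ with rfl | hW0
  · refine ⟨PEmpty, inferInstance, fun _ => 0, fun x => x.1.elim, linearIndependent_empty_type, ?_,
      fun x => x.1.elim, fun i => i.elim, fun i => i.elim⟩
    simp
  have hlt : W.map A < W := by
    refine lt_of_le_of_ne (by rintro _ ⟨w, hw, rfl⟩; exact hAW w hw) fun h => hW0 ?_
    obtain ⟨N, hN⟩ := hA
    have : ∀ j, W.map (A ^ j) = W := by
      intro j
      induction j with
      | zero => simp [Module.End.one_eq_id]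
      | succ j hj => rw [pow_succ', Module.End.mul_eq_comp, Submodule.map_comp, hj, h]
    rw [← this N, hN, Submodule.map_zero]
  obtain ⟨ι, hι, n, c, hci, hcs, hch, hc0, hc1⟩ := ih _ (hr ▸ Submodule.finrank_lt_finrank_of_lt hlt) (W.map A)
    (by
      rintro μ _ ⟨w, hw, rfl⟩
      exact ⟨_, hW (μ - χ) w hw, by rw [← proj_map 𝒱 A χ hhom, sub_add_cancel]⟩)
    (by rintro _ ⟨w, hw, rfl⟩; exact ⟨A w, hAW w hw, rfl⟩) rfl
  -- lifts of the top elements
  have htop : ∀ i, ∃ v ∈ W, (∃ μ, v ∈ 𝒱 μ) ∧ A v = c ⟨i, Fin.last _⟩ := by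
    intro i
    obtain ⟨μ, hμ⟩ := hch ⟨i, Fin.last _⟩
    obtain ⟨w, hw, hwc⟩ : c ⟨i, Fin.last _⟩ ∈ W.map A := hcs ▸ Submodule.subset_span ⟨_, rfl⟩
    refine ⟨_, hW (μ - χ) w hw, ⟨μ - χ, SetLike.coe_mem _⟩, ?_⟩
    rw [← proj_map 𝒱 A χ hhom, sub_add_cancel, hwc, decompose_of_mem_same 𝒱 hμ]
  choose v hvW hvh hAv using htop
  have hcW : ∀ x, c x ∈ W := fun x => hlt.le (hcs ▸ Submodule.subset_span ⟨x, rfl⟩)
  -- completing the bottom elements inside the kernel
  let H : Set V := {x | x ∈ W ∧ A x = 0 ∧ ∃ μ, x ∈ 𝒱 μ}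
  let s : Set V := Set.range fun i => c ⟨i, 0⟩
  have hsH : s ⊆ H := by
    rintro _ ⟨i, rfl⟩
    exact ⟨hcW _, hc0 i, hch _⟩
  have hinj : Function.Injective fun i => c ⟨i, 0⟩ := fun i j h => congrArg Sigma.fst (hci.injective h)
  have hs : LinearIndepOn k id s :=
    ((hci.comp (fun i : ι => (⟨i, 0⟩ : Σ i : ι, Fin (n i + 1))) fun i j h => congrArg Sigma.fst h)).linearIndepOn_id
  obtain ⟨B, hBH, hsB, hHB, hBi⟩ := exists_linearIndepOn_id_extension hs hsH
  let U : Set V := B \ s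
  haveI : Finite ι := hι
  haveI : Finite B := hBi.linearIndependent.finite
  haveI : Finite U := Finite.Set.subset B Set.diff_subset
  let n' : ι ⊕ U → ℕ := Sum.elim (fun i => n i + 1) (fun _ => 0)
  let b : (Σ x : ι ⊕ U, Fin (n' x + 1)) → V := fun p =>
    match p with
    | ⟨.inl i, l⟩ => (Fin.snoc (α := fun _ => V) (fun l => c ⟨i, l⟩) (v i) : Fin (n i + 2) → V) l
    | ⟨.inr x, _⟩ => x.1
  have hbl : ∀ i (l : Fin (n i + 1)), b ⟨.inl i, l.castSucc⟩ = c ⟨i, l⟩ := fun i l => Fin.snoc_castSucc (α := fun _ => V) _ _ _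
  have hbt : ∀ i, b ⟨.inl i, Fin.last (n i + 1)⟩ = v i := fun i => Fin.snoc_last (α := fun _ => V) _ _
  have hb0 : ∀ i, b ⟨.inl i, (0 : Fin (n i + 2))⟩ = c ⟨i, 0⟩ := fun i => hbl i 0
  have hbU : ∀ (x : U) l, b ⟨.inr x, l⟩ = x := fun _ _ => rfl
  have hstep : ∀ i (l : Fin (n i + 1)), A (b ⟨.inl i, (l.succ : Fin (n i + 2))⟩) = c ⟨i, l⟩ := by
    intro i l
    refine Fin.lastCases ?_ (fun l => ?_) l
    · rw [Fin.succ_last, hbt]; exact hAv i
    · rw [Fin.succ_castSucc, hbl]; exact hc1 i l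
  have hcases : ∀ (P : V → Prop) i, P (v i) → (∀ l, P (c ⟨i, l⟩)) → ∀ l : Fin (n i + 2), P (b ⟨.inl i, l⟩) := by
    intro P i h1 h2 l
    refine Fin.lastCases ?_ (fun l => ?_) l
    · rw [hbt]; exact h1
    · rw [hbl]; exact h2 l
  have hbW : ∀ x, b x ∈ W := by
    rintro ⟨i | x, l⟩
    · exact hcases (· ∈ W) i (hvW i) (fun _ => hcW _) l
    · exact (hBH x.2.1).1
  refine ⟨ι ⊕ U, inferInstance, n', b, ?_, ?_, ?_, ?_, ?_⟩
  · cases nonempty_fintype ι
    cases nonempty_fintype U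
    rw [Fintype.linearIndependent_iff]
    intro g hg
    rw [Fintype.sum_sigma, Fintype.sum_sum_type] at hg
    have hA0 : ∀ x : U, A x = 0 := fun x => (hBH x.2.1).2.1
    have hhigh : ∀ i (l : Fin (n i + 1)), g ⟨.inl i, l.succ⟩ = 0 := by
      have h1 := congrArg A hg
      simp only [map_add, map_sum, map_smul, map_zero] at h1
      have e1 : ∀ i, ∑ l : Fin (n' (.inl i) + 1), g ⟨.inl i, l⟩ • A (b ⟨.inl i, l⟩) =
          ∑ l : Fin (n i + 1), g ⟨.inl i, l.succ⟩ • c ⟨i, l⟩ := by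
        intro i
        refine (Fin.sum_univ_succ (n := n i + 1) fun l => g ⟨.inl i, l⟩ • A (b ⟨.inl i, l⟩)).trans ?_
        rw [hb0, hc0, smul_zero, zero_add]
        simp only [hstep]
      have e2 : ∀ x : U, ∑ l : Fin (n' (.inr x) + 1), g ⟨.inr x, l⟩ • A (b ⟨.inr x, l⟩) = 0 := fun x =>
        Finset.sum_eq_zero fun l _ => (congrArg (g ⟨.inr x, l⟩ • ·) (hA0 x)).trans (smul_zero _)
      simp only [e1, e2, Finset.sum_const_zero, add_zero] at h1
      have := Fintype.linearIndependent_iff.mp hci (fun p => g ⟨.inl p.1, p.2.succ⟩) (by rw [Fintype.sum_sigma]; exact h1)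
      exact fun i l => this ⟨i, l⟩
    let f : ι ⊕ U → B := Sum.elim (fun i => ⟨c ⟨i, 0⟩, hsB ⟨i, rfl⟩⟩) (fun x => ⟨x.1, x.2.1⟩)
    have hf : Function.Injective f := by
      rintro (i | x) (j | y) h <;> replace h := congrArg Subtype.val h
      · exact congrArg Sum.inl (hinj h)
      · exact absurd ⟨i, h⟩ y.2.2
      · exact absurd ⟨j, h.symm⟩ x.2.2
      · exact congrArg Sum.inr (Subtype.ext h)
    have hlow : ∀ x : ι ⊕ U, g ⟨x, 0⟩ = 0 := by
      refine Fintype.linearIndependent_iff.mp (hBi.linearIndependent.comp f hf) _ ?_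
      rw [Fintype.sum_sum_type, ← hg]
      refine congr (congrArg _ (Finset.sum_congr rfl fun i _ => ?_)) (Finset.sum_congr rfl fun x _ => ?_)
      · refine Eq.symm ((Fin.sum_univ_succ (n := n i + 1) fun l => g ⟨.inl i, l⟩ • b ⟨.inl i, l⟩).trans ?_)
        rw [hb0, Finset.sum_eq_zero (fun l _ => by rw [hhigh, zero_smul]), add_zero]
        rfl
      · refine Eq.symm ((Fin.sum_univ_one fun l : Fin 1 => g ⟨.inr x, l⟩ • b ⟨.inr x, l⟩).trans ?_)
        rfl
    rintro ⟨i | x, l⟩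
    · induction l using Fin.cases with
      | zero => exact hlow (.inl i)
      | succ l => exact hhigh i l
    · rw [show l = 0 from Subsingleton.elim (α := Fin 1) _ _]; exact hlow _
  · refine le_antisymm (Submodule.span_le.mpr (by rintro _ ⟨x, rfl⟩; exact hbW x)) fun w hw => ?_
    set S := Submodule.span k (Set.range b)
    have hcA : W.map A ≤ S.map A := by
      rw [← hcs, Submodule.span_le]
      rintro _ ⟨⟨i, l⟩, rfl⟩
      exact ⟨b ⟨.inl i, (l.succ : Fin (n i + 2))⟩, Submodule.subset_span ⟨⟨.inl i, (l.succ : Fin (n i + 2))⟩, rfl⟩, hstep i l⟩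
    obtain ⟨z, hz, hze⟩ := hcA ⟨w, hw, rfl⟩
    have hzW : z ∈ W := Submodule.span_le.mpr (by rintro _ ⟨x, rfl⟩; exact hbW x) hz
    suffices h : ∀ y ∈ W, A y = 0 → y ∈ S by
      simpa using S.add_mem (h (w - z) (sub_mem hw hzW) (by rw [map_sub, hze, sub_self])) hz
    intro y hy hAy
    have hBS : B ⊆ (S : Set V) := by
      intro x hx
      by_cases hxs : x ∈ s
      · obtain ⟨i, rfl⟩ := hxs
        exact Submodule.subset_span ⟨⟨.inl i, (0 : Fin (n i + 2))⟩, hb0 i⟩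
      · exact Submodule.subset_span ⟨⟨.inr ⟨x, hx, hxs⟩, 0⟩, rfl⟩
    rw [← DirectSum.sum_support_decompose 𝒱 y]
    refine Submodule.sum_mem _ fun μ _ => Submodule.span_le.mpr hBS (hHB ⟨hW μ y hy, ?_, μ, SetLike.coe_mem _⟩)
    rw [← proj_map 𝒱 A χ hhom, hAy, decompose_zero, DirectSum.zero_apply, ZeroMemClass.coe_zero]
  · rintro ⟨i | x, l⟩
    · exact hcases (fun y => ∃ μ, y ∈ 𝒱 μ) i (hvh i) (fun _ => hch _) l
    · exact (hBH x.2.1).2.2
  · rintro (i | x)
    · exact (congrArg A (hb0 i)).trans (hc0 i)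
    · exact (hBH x.2.1).2.1
  · rintro (i | x) l
    · exact (hstep i l).trans (hbl i l).symm
    · exact l.elim0

end Groth.Agent.H3CAlg.GradedJordan
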