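import Groth.Agent.H4Gr.Devissage
import Groth.Agent.H4Gr.FinPieces
import Groth.Agent.H4LC.FlatBaseChange
import Groth.Agent.H4LC.ChangeRings
import Groth.Agent.H24Filt.ExtRees

/-!
# Serre vanishing over ℤ-graded rings and surjectivity of a degree `-1` element on local cohomology
-/

set_option autoImplicit false
set_option linter.unusedSectionVars false
set_option linter.style.haveILetI false

universe u

open DirectSum

namespace Groth.Agent.H3CAlg.GradedVanish

open Groth.Agent.H4Gr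

variable {R : Type u} [CommRing R] [IsNoetherianRing R] {𝒜 : ℤ → AddSubgroup R} [GradedRing 𝒜]
variable (a : HomogeneousIdeal 𝒜)
variable (ha : a.toIdeal = Ideal.span (⋃ n ∈ Set.Ioi (0 : ℤ), (𝒜 n : Set R)))

/-- The pieces of local cohomology vanish in large degrees. -/
def Bounded (X : GrLC.GMod.{u} 𝒜) : Prop :=
  ∀ E : GrLC.StarInjRes 𝒜 X.gr, ∃ r : ℤ, ∀ (i : ℕ) (n : ℤ), r ≤ n → E.Hcomp a i n = ⊥

include ha in
theorem exists_bound (X : GrLC.GMod.{u} 𝒜) [Module.Finite R X.carrier] : Bounded a X := by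
  refine devissage 𝒜 (Bounded a) (fun X _ E => ⟨0, fun i n _ => Hcomp_eq_bot_of_subsingleton a E i n⟩)
    (fun A B C f π S hA hC E => ?_) (fun C g z hz hgen hprime ih E => ?_) X
  · obtain ⟨EA⟩ := nonempty_starInjRes (𝒜 := 𝒜) (ℳ := A.gr)
    obtain ⟨EC⟩ := nonempty_starInjRes (𝒜 := 𝒜) (ℳ := C.gr)
    obtain ⟨r₁, h₁⟩ := hA EA
    obtain ⟨r₂, h₂⟩ := hC EC
    exact ⟨max r₁ r₂, fun i n hn => S.middle_eq_bot a EA E EC (h₁ i _ (by omega)) (h₂ i _ (by omega))⟩
  set p : Ideal R := LinearMap.ker (LinearMap.toSpanSingleton R C.carrier z) with hp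
  haveI : Module.Finite R C.carrier := ⟨⟨{z}, by simpa using hgen⟩⟩
  have hall : ∀ w : C.carrier, ∃ c : R, c • z = w := fun w => Submodule.mem_span_singleton.1 (hgen ▸ Submodule.mem_top)
  have hsmul : ∀ {r : R} {c : R}, r ∈ p → r • c • z = 0 := fun {r c} hr => by
    rw [smul_comm, show r • z = 0 from hr, smul_zero]
  by_cases hap : a.toIdeal ≤ p
  · have htor : GrLC.gam a.toIdeal C.carrier = ⊤ := eq_top_iff.2 fun w _ => ⟨1, fun r hr => by
      obtain ⟨c, rfl⟩ := hall w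
      exact hsmul (hap (by simpa using hr))⟩
    refine ⟨g + 1, fun i n hn => ?_⟩
    cases i with
    | succ i => exact Hcomp_succ_eq_bot_of_torsion E htor i n
    | zero =>
      refine (Hcomp_zero_eq_bot_iff E n).2 fun w hw hwg => ?_
      clear hwg
      obtain ⟨c, rfl⟩ := hall w
      rw [← proj_same hw]
      clear hw
      induction c using induction 𝒜 with
      | zero => simp
      | hom j r hr =>
        by_cases hj : j + g = n
        · rw [show r • z = 0 from hap (ha ▸ Ideal.subset_span (Set.mem_iUnion₂.2 ⟨j, show (0:ℤ) < j by omega, hr⟩)), map_zero]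
        · exact proj_ne (smul_mem 𝒜 hr hz) hj
      | add p q hp hq => rw [add_smul, map_add, hp, hq, add_zero]
  obtain ⟨x, d, hd, hxd, hxp⟩ : ∃ (x : R) (d : ℤ), 0 < d ∧ x ∈ 𝒜 d ∧ x ∉ p := by
    by_contra hc
    push Not at hc
    refine hap (ha ▸ Ideal.span_le.2 fun x hx => ?_)
    obtain ⟨d, hd, hxd⟩ := Set.mem_iUnion₂.1 hx
    exact hc x d hd hxd
  have hxa : x ∈ a.toIdeal := ha ▸ Ideal.subset_span (Set.mem_iUnion₂.2 ⟨d, hd, hxd⟩)
  have hreg : IsSMulRegular C.carrier x := fun u v huv => by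
    obtain ⟨b, rfl⟩ := hall u
    obtain ⟨c, rfl⟩ := hall v
    have h : x * (b - c) ∈ p := by
      rw [hp, LinearMap.mem_ker, LinearMap.toSpanSingleton_apply, mul_smul, sub_smul, smul_sub, sub_eq_zero]
      exact huv
    exact sub_eq_zero.1 (by rw [← sub_smul]; exact (hprime.mem_or_mem h).resolve_left hxp)
  let P : Submodule R C.carrier := LinearMap.range (x • (LinearMap.id : C.carrier →ₗ[R] C.carrier))
  have hP : P.IsHomogeneous C.gr := isHomogeneous_range (isGrHomDeg_smul_id (ℳ := C.gr) hxd)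
  let Y := quotMod 𝒜 P hP
  have S : GSES C.gr C.gr Y.gr (x • LinearMap.id) (quotProj 𝒜 P hP) d :=
    ⟨isGrHomDeg_smul_id hxd, hreg, isGrHom_quotProj P hP, Submodule.mkQ_surjective P,
      LinearMap.exact_map_mkQ_range _⟩
  obtain ⟨EY⟩ := nonempty_starInjRes (𝒜 := 𝒜) (ℳ := Y.gr)
  obtain ⟨r, hr⟩ := ih (p ⊔ Ideal.span {x}) Y
    (left_lt_sup.2 fun h => hxp (h (Ideal.mem_span_singleton_self x)))
    (inferInstanceAs (Module.Finite R (C.carrier ⧸ P))) (fun s hs y => by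
      obtain ⟨w, rfl⟩ := Submodule.mkQ_surjective P y
      obtain ⟨c, rfl⟩ := hall w
      obtain ⟨s₁, hs₁, s₂, hs₂, rfl⟩ := Submodule.mem_sup.1 hs
      obtain ⟨b, rfl⟩ := Ideal.mem_span_singleton'.1 hs₂
      refine (Submodule.Quotient.mk_eq_zero P).2 ⟨b • c • z, ?_⟩
      show _ = (s₁ + b * x) • c • z
      rw [add_smul, hsmul hs₁, zero_add, LinearMap.smul_apply, LinearMap.id_apply, smul_smul x b, mul_comm x b]) EY
  obtain ⟨δ, hδ, -, -, -, hex₃⟩ := S.exists_δ a E E EY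
  have h0 : ∀ n, E.Hcomp a 0 n = ⊥ := fun n => (Hcomp_zero_eq_bot_iff E n).2 fun w _ hw => by
    obtain ⟨N, hN⟩ := hw
    exact (hreg.pow N) (by simpa using hN _ (Ideal.pow_mem_pow hxa N))
  have hinj : ∀ (i : ℕ) (n : ℤ), r ≤ n + d → ∀ y ∈ E.Hgr a (i + 1) n, x • y = 0 → y = 0 := fun i n hn y hy h => by
    have h2 : hmap a E E (x • LinearMap.id) S.deg (i + 1) y = 0 := by rw [hmap_smul_id a E hxd]; exact h
    obtain ⟨w, hw, rfl⟩ := exists_piece_preimage a (hδ i) hy ((hex₃ i y).1 h2)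
    rw [(Hcomp_eq_bot_iff a).1 (hr i _ (by omega)) w hw, map_zero]
  have hvan : ∀ (i : ℕ) (n : ℤ), r ≤ n → E.Hcomp a i n = ⊥ := fun i n hn => by
    cases i with
    | zero => exact h0 n
    | succ i =>
      refine (Hcomp_eq_bot_iff a).2 fun y hy => ?_
      obtain ⟨N, hN⟩ := (gam_H_eq_top a E (i + 1)).ge (Submodule.mem_top (x := y))
      have hxN : x ^ N • y = 0 := hN _ (Ideal.pow_mem_pow hxa N)
      clear hN
      induction N generalizing n y with
      | zero => simpa using hxN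
      | succ N ihN =>
        rw [pow_succ, mul_smul] at hxN
        let := (isInternal_Hgr a E (i + 1)).chooseDecomposition
        let := gradedSMul_Hgr a E (i + 1)
        exact hinj i n (by omega) y hy (ihN (d + n) (by omega) _ (smul_mem 𝒜 hxd hy) hxN)
  exact ⟨r, hvan⟩

include ha in
/-- If `H^q(R ⧸ uR) = 0` for a regular `u` of degree `-1`, then `H^q(R) = 0`. -/
theorem subsingleton_H_of_quotient {u' : R} (hu : u' ∈ 𝒜 (-1)) (hreg : IsSMulRegular R u') (q : ℕ)
    (hG : Subsingleton (LocCoh.H a.toIdeal q (R ⧸ LinearMap.range (u' • (LinearMap.id : R →ₗ[R] R))))) :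
    Subsingleton (LocCoh.H a.toIdeal q R) := by
  let P : Submodule R R := LinearMap.range (u' • (LinearMap.id : R →ₗ[R] R))
  have hP : P.IsHomogeneous 𝒜 := isHomogeneous_range (isGrHomDeg_smul_id (ℳ := 𝒜) hu)
  let Y := quotMod 𝒜 P hP
  have S : GSES 𝒜 𝒜 Y.gr (u' • LinearMap.id) (quotProj 𝒜 P hP) (-1) :=
    ⟨isGrHomDeg_smul_id hu, hreg, isGrHom_quotProj P hP, Submodule.mkQ_surjective P,
      LinearMap.exact_map_mkQ_range _⟩
  obtain ⟨E⟩ := nonempty_starInjRes (𝒜 := 𝒜) (ℳ := 𝒜)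
  obtain ⟨EY⟩ := nonempty_starInjRes (𝒜 := 𝒜) (ℳ := Y.gr)
  obtain ⟨δ, -, -, hex, -, -⟩ := S.exists_δ a E E EY
  obtain ⟨eY⟩ := nonempty_H_equiv a EY q
  haveI : Subsingleton (EY.H a q) := by
    haveI : Subsingleton (LocCoh.H a.toIdeal q Y.carrier) := hG
    exact eY.toEquiv.subsingleton
  obtain ⟨r, hr⟩ := exists_bound a ha { carrier := R, gr := 𝒜 } E
  have key : ∀ (k : ℕ) (n : ℤ), r ≤ n + k → ∀ y ∈ E.Hgr a q n, y = 0 := by
    intro k
    induction k with
    | zero => exact fun n hn y hy => (Hcomp_eq_bot_iff a).1 (hr q n (by omega)) y hy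
    | succ k ih =>
      intro n hn y hy
      obtain ⟨x, hx, rfl⟩ := exists_piece_preimage a (isGrHomDeg_hmap a E E _ S.deg q) hy
        ((hex q y).1 (Subsingleton.elim _ _))
      rw [ih (n - -1) (by omega) x hx, map_zero]
  haveI : Subsingleton (E.H a q) := by
    refine subsingleton_of_forall_eq 0 fun y => ?_
    let := (isInternal_Hgr a E q).chooseDecomposition
    induction y using Groth.Agent.H4Gr.induction (E.Hgr a q) with
    | zero => rfl
    | hom g x hx => exact key (r - g).toNat g (by omega) x hx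
    | add x z hx hz => rw [hx, hz, add_zero]
  obtain ⟨e⟩ := nonempty_H_equiv a E q
  exact e.symm.toEquiv.subsingleton

end Groth.Agent.H3CAlg.GradedVanish

namespace Groth.Agent.H3CAlg.GradedVanish

open Polynomial LaurentPolynomial FiltBl Groth.Agent.H24Filt.ExtRees
open scoped TensorProduct

variable {A : Type u} [CommRing A] (𝓕 : IdealFiltration A)

/-- The pieces of the extended Rees algebra. -/
def piece (n : ℤ) : AddSubgroup 𝓕.extRees where
  carrier := {x | ∀ m : ℤ, m ≠ n → (x : A[T;T⁻¹]).coeff m = 0}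
  add_mem' {x y} hx hy m hm := by
    rw [AddMemClass.coe_add, AddMonoidAlgebra.coeff_add, Finsupp.add_apply, hx m hm, hy m hm, add_zero]
  zero_mem' m _ := by simp
  neg_mem' {x} hx m hm := by
    rw [NegMemClass.coe_neg, AddMonoidAlgebra.coeff_neg, Finsupp.neg_apply, hx m hm, neg_zero]

theorem mono_mem_piece (n : ℤ) (a : A) (ha : a ∈ 𝓕.F n.toNat) : mono 𝓕 n a ha ∈ piece 𝓕 n :=
  fun m hm => by rw [coe_mono, coeff_C_mul_T, if_neg (Ne.symm hm)]

theorem eq_mono {n : ℤ} {x : 𝓕.extRees} (hx : x ∈ piece 𝓕 n) :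
    x = mono 𝓕 n ((x : A[T;T⁻¹]).coeff n) (x.2 n) := by
  refine Subtype.ext (LaurentPolynomial.ext fun m => ?_)
  rw [coe_mono, coeff_C_mul_T]
  split_ifs with h
  · rw [h]
  · exact hx m (Ne.symm h)

theorem gradedMonoid_piece : SetLike.GradedMonoid (piece 𝓕) where
  one_mem := fun m hm => by
    rw [OneMemClass.coe_one, ← LaurentPolynomial.T_zero, LaurentPolynomial.T_apply, if_neg (Ne.symm hm)]
  mul_mem i j x y hx hy := fun m hm => by
    rw [eq_mono 𝓕 hx, eq_mono 𝓕 hy, MulMemClass.coe_mul, coe_mono, coe_mono,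
      mul_mul_mul_comm, ← map_mul, ← T_add, coeff_C_mul_T, if_neg (Ne.symm hm)]

theorem isInternal_piece : DirectSum.IsInternal (piece 𝓕) := by
  classical
  have hcomp : ∀ (f : ⨁ n, piece 𝓕 n) (n : ℤ),
      ((DirectSum.coeAddMonoidHom (piece 𝓕) f : 𝓕.extRees) : A[T;T⁻¹]).coeff n =
        ((f n : 𝓕.extRees) : A[T;T⁻¹]).coeff n := by
    intro f n
    induction f using DirectSum.induction_on with
    | zero => simp
    | of i x =>
      rw [DirectSum.coeAddMonoidHom_of]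
      by_cases h : i = n
      · subst h; rw [DirectSum.of_eq_same]
      · rw [DirectSum.of_eq_of_ne _ _ _ (Ne.symm h), x.2 n (Ne.symm h)]; simp
    | add f g hf hg =>
      rw [map_add, AddMemClass.coe_add, AddMonoidAlgebra.coeff_add, Finsupp.add_apply, hf, hg]
      simp [DirectSum.add_apply]
  constructor
  · intro f g h
    refine DFinsupp.ext fun n => Subtype.ext ?_
    rw [eq_mono 𝓕 (f n).2, eq_mono 𝓕 (g n).2]
    refine Subtype.ext ?_
    rw [coe_mono, coe_mono, ← hcomp f n, ← hcomp g n, h]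
  · intro x
    refine ⟨∑ n ∈ (x : A[T;T⁻¹]).coeff.support,
      DirectSum.of (fun n => piece 𝓕 n) n ⟨_, mono_mem_piece 𝓕 n _ (x.2 n)⟩, ?_⟩
    rw [map_sum]
    simp only [DirectSum.coeAddMonoidHom_of]
    refine Subtype.ext ?_
    rw [AddSubmonoidClass.coe_finset_sum]
    exact sum_monomials (x : A[T;T⁻¹])

set_option synthInstance.maxHeartbeats 400000 in
set_option maxHeartbeats 1000000 in
/-- If `H^q_{G_+}(G) = 0` then `H^q_{F¹}(A) = 0`. -/
theorem subsingleton_H_F_one [IsNoetherianRing A] (hfg : Algebra.FiniteType A 𝓕.rees) (q : ℕ)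
    (hG : Subsingleton (LocCoh.H
      ((Ideal.span {x : 𝓕.extRees | ∃ n : ℤ, 0 < n ∧ ∃ a : A, (x : A[T;T⁻¹]) = LaurentPolynomial.C a * T n}).map
        (Ideal.Quotient.mk (Ideal.span {𝓕.u}))) q 𝓕.Gr)) :
    Subsingleton (LocCoh.H (𝓕.F 1) q A) := by
  haveI := isNoetherianRing_extRees 𝓕 hfg
  haveI := Groth.Agent.H24Filt.isNoetherianRing_laurent (A := A)
  letI : GradedRing (piece 𝓕) :=
    { gradedMonoid_piece 𝓕 with toDecomposition := (isInternal_piece 𝓕).chooseDecomposition }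
  have hspan : Ideal.span (⋃ n ∈ Set.Ioi (0 : ℤ), (piece 𝓕 n : Set 𝓕.extRees)) =
      Ideal.span {x : 𝓕.extRees | ∃ n : ℤ, 0 < n ∧ ∃ a : A, (x : A[T;T⁻¹]) = LaurentPolynomial.C a * T n} := by
    congr 1
    ext x
    simp only [Set.mem_iUnion, Set.mem_Ioi, SetLike.mem_coe, Set.mem_setOf_eq, exists_prop]
    constructor
    · rintro ⟨n, hn, hx⟩
      exact ⟨n, hn, (x : A[T;T⁻¹]).coeff n, congrArg Subtype.val (eq_mono 𝓕 hx)⟩
    · rintro ⟨n, hn, a, hx⟩
      exact ⟨n, hn, fun m hm => by rw [hx, coeff_C_mul_T, if_neg (Ne.symm hm)]⟩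
  let a : HomogeneousIdeal (piece 𝓕) :=
    ⟨Ideal.span (⋃ n ∈ Set.Ioi (0 : ℤ), (piece 𝓕 n : Set 𝓕.extRees)),
      Ideal.homogeneous_span _ _ fun x hx => by
        simp only [Set.mem_iUnion] at hx
        obtain ⟨n, -, hx⟩ := hx
        exact ⟨n, hx⟩⟩
  have hu : 𝓕.u ∈ piece 𝓕 (-1) := fun m hm => by
    change (T (-1) : A[T;T⁻¹]).coeff m = 0
    rw [LaurentPolynomial.T_apply, if_neg (Ne.symm hm)]
  have hreg : IsSMulRegular 𝓕.extRees 𝓕.u := fun x y hxy =>
    mul_cancel_left_mem_nonZeroDivisors (u_mem_nonZeroDivisors 𝓕) |>.1 hxy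
  have h1 : Subsingleton (LocCoh.H a.toIdeal q
      (𝓕.extRees ⧸ LinearMap.range (𝓕.u • (LinearMap.id : 𝓕.extRees →ₗ[𝓕.extRees] 𝓕.extRees)))) := by
    have hP : (Ideal.span {𝓕.u} : Submodule 𝓕.extRees 𝓕.extRees) =
        LinearMap.range (𝓕.u • (LinearMap.id : 𝓕.extRees →ₗ[𝓕.extRees] 𝓕.extRees)) := by
      ext x
      rw [Ideal.mem_span_singleton', LinearMap.mem_range]
      simp [mul_comm, eq_comm]
    have h0 : Subsingleton (LocCoh.H a.toIdeal q 𝓕.Gr) := by
      rw [← H4LC.subsingleton_H_map_iff 𝓕.Gr a.toIdeal 𝓕.Gr q]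
      rw [show a.toIdeal = _ from hspan]
      exact hG
    exact (((localCohomology a.toIdeal q).mapIso
      (Submodule.quotEquivOfEq _ _ hP).toModuleIso).toLinearEquiv).symm.toEquiv.subsingleton
  haveI h2 := subsingleton_H_of_quotient a rfl hu hreg q h1
  haveI := isLocalization_u 𝓕
  haveI : Module.Flat 𝓕.extRees A[T;T⁻¹] := IsLocalization.flat _ (Submonoid.powers 𝓕.u)
  have hmap : a.toIdeal.map (algebraMap 𝓕.extRees A[T;T⁻¹]) =
      (𝓕.F 1).map (algebraMap A A[T;T⁻¹]) := by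
    rw [show a.toIdeal = _ from hspan, Ideal.map_span]
    apply le_antisymm
    · rw [Ideal.span_le]
      rintro _ ⟨x, ⟨n, hn, b, hb⟩, rfl⟩
      rw [SetLike.mem_coe, H24Filt.ExtRees.algebraMap_eq, hb]
      refine Ideal.mul_mem_right _ _ (Ideal.mem_map_of_mem _ ?_)
      have := x.2 n
      rw [hb, coeff_C_mul_T, if_pos rfl] at this
      exact 𝓕.antitone (show 1 ≤ n.toNat by omega) this
    · rw [Ideal.map_le_iff_le_comap]
      intro b hb
      rw [Ideal.mem_comap]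
      have e : algebraMap A A[T;T⁻¹] b = (algebraMap 𝓕.extRees A[T;T⁻¹] (mono 𝓕 1 b (by simpa using hb))) * T (-1) := by
        rw [H24Filt.ExtRees.algebraMap_eq, coe_mono, mul_assoc, ← T_add]
        simp
      rw [e]
      exact Ideal.mul_mem_right _ _ (Ideal.subset_span ⟨_, ⟨1, one_pos, b, rfl⟩, rfl⟩)
  obtain ⟨e⟩ := H4LC.nonempty_baseChange_H A[T;T⁻¹] a.toIdeal 𝓕.extRees q
  rw [hmap] at e
  have h3 : Subsingleton (LocCoh.H ((𝓕.F 1).map (algebraMap A A[T;T⁻¹])) q A[T;T⁻¹]) := by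
    haveI := e.symm.toEquiv.subsingleton
    exact (((localCohomology _ q).mapIso
      (TensorProduct.AlgebraTensorModule.rid 𝓕.extRees A[T;T⁻¹] A[T;T⁻¹]).toModuleIso).toLinearEquiv).symm.toEquiv.subsingleton
  haveI : Module.Free A A[T;T⁻¹] := inferInstance
  obtain ⟨e'⟩ := H4LC.nonempty_baseChange_H A[T;T⁻¹] (𝓕.F 1) A q
  haveI : Subsingleton (A[T;T⁻¹] ⊗[A] LocCoh.H (𝓕.F 1) q A) := by
    haveI : Subsingleton (LocCoh.H ((𝓕.F 1).map (algebraMap A A[T;T⁻¹])) q (A[T;T⁻¹] ⊗[A] A)) :=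
      (((localCohomology _ q).mapIso
        (TensorProduct.AlgebraTensorModule.rid A A[T;T⁻¹] A[T;T⁻¹]).toModuleIso).toLinearEquiv).toEquiv.subsingleton
    exact e'.toEquiv.subsingleton
  rcases subsingleton_or_nontrivial A with hA | hA
  · exact Module.subsingleton A _
  · exact Module.FaithfullyFlat.lTensor_reflects_triviality A A[T;T⁻¹] _

end Groth.Agent.H3CAlg.GradedVanish
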