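import Groth.Agent.H9Hens.Local
import Groth.Agent.H9Hens.Split
import Mathlib

/-!
# A monic factor of a polynomial over a henselian local ring
-/

set_option autoImplicit false

universe u

open Polynomial IsLocalRing

namespace Groth.Agent.H3CAlg.HenselFactor

variable {R : Type u} [CommRing R]

theorem quasiFiniteAt_of_finite_fibre [IsLocalRing R] {S : Type u} [CommRing S] [Algebra R S]
    [Algebra.FiniteType R S] [Module.Finite R (S ⧸ (maximalIdeal R).map (algebraMap R S))]
    (q : Ideal S) [q.IsPrime] (hq : (maximalIdeal R).map (algebraMap R S) ≤ q) :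
    Algebra.QuasiFiniteAt R q := by
  obtain ⟨y, hy⟩ : (⟨q, inferInstance⟩ : PrimeSpectrum S) ∈
      Set.range (PrimeSpectrum.comap (Ideal.Quotient.mk ((maximalIdeal R).map (algebraMap R S)))) := by
    rw [range_comap_of_surjective _ _ Ideal.Quotient.mk_surjective, Ideal.mk_ker]
    exact hq
  let : Algebra (R ⧸ maximalIdeal R) (S ⧸ (maximalIdeal R).map (algebraMap R S)) :=
    Ideal.Quotient.algebraQuotientMapQuotient
  have : IsScalarTower R (R ⧸ maximalIdeal R) (S ⧸ (maximalIdeal R).map (algebraMap R S)) :=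
    IsScalarTower.of_algebraMap_eq fun _ => rfl
  have : Module.Finite (R ⧸ maximalIdeal R) (S ⧸ (maximalIdeal R).map (algebraMap R S)) :=
    Module.Finite.of_restrictScalars_finite R _ _
  let : Field (R ⧸ maximalIdeal R) := Ideal.Quotient.field (maximalIdeal R)
  have : IsArtinianRing (S ⧸ (maximalIdeal R).map (algebraMap R S)) :=
    IsArtinianRing.of_finite (R ⧸ maximalIdeal R) _
  obtain rfl : (PrimeSpectrum.comap (Ideal.Quotient.mk ((maximalIdeal R).map (algebraMap R S))) y).asIdeal = q :=
    congrArg PrimeSpectrum.asIdeal hy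
  exact (H9Hens.quasiFiniteAt_iff_isOpen_singleton_closedFibre y).mpr (isOpen_discrete _)

/-- Nakayama for an element generating a finite algebra, nilpotent on the closed fibre. -/
theorem exists_coeffs [IsLocalRing R] {T : Type u} [CommRing T] [Algebra R T] [Module.Finite R T] (t : T)
    (hgen : Function.Surjective (aeval (R := R) t)) (k : ℕ)
    (ht : t ^ k ∈ (maximalIdeal R).map (algebraMap R T)) :
    ∃ c : Fin k → R, (∀ i, c i ∈ maximalIdeal R) ∧ ∑ i, c i • t ^ (i : ℕ) = t ^ k := by
  have hspan : Submodule.span R (Set.range fun i : Fin k => t ^ (i : ℕ)) = ⊤ := by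
    refine eq_top_iff.mpr (Submodule.le_of_le_smul_of_le_jacobson_bot Module.Finite.fg_top
      (maximalIdeal_le_jacobson _) fun z _ => ?_)
    obtain ⟨q, rfl⟩ := hgen z
    induction q using Polynomial.induction_on' with
    | add q q' hq hq' => rw [map_add]; exact add_mem (hq trivial) (hq' trivial)
    | monomial i c =>
      rw [aeval_monomial, ← Algebra.smul_def]
      refine Submodule.smul_mem _ c ?_
      rcases lt_or_ge i k with h | h
      · exact Submodule.mem_sup_left (Submodule.subset_span ⟨⟨i, h⟩, rfl⟩)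
      · refine Submodule.mem_sup_right ?_
        rw [Ideal.smul_top_eq_map]
        show t ^ i ∈ (maximalIdeal R).map (algebraMap R T)
        rw [← Nat.add_sub_cancel' h, pow_add]
        exact Ideal.mul_mem_right _ _ ht
  have h : t ^ k ∈ maximalIdeal R • Submodule.span R (Set.range fun i : Fin k => t ^ (i : ℕ)) := by
    rw [hspan, Ideal.smul_top_eq_map]
    exact ht
  obtain ⟨c, hc, hsum⟩ := (Submodule.mem_ideal_smul_span_iff_exists_sum _ _ _).mp h
  refine ⟨c, hc, ?_⟩
  rw [← hsum, Finsupp.sum_fintype]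
  simp

/-- If `g ≡ X^k·f` with `f 0 = 1`, then up to a multiplier with unit constant term `g` divides a monic
polynomial `≡ X^k`. -/
theorem exists_monic [HenselianLocalRing R] (g f : R[X]) (k : ℕ) (hk : 0 < k) (hf : f.coeff 0 = 1)
    (hg : ∀ i, (g - X ^ k * f).coeff i ∈ maximalIdeal R) :
    ∃ (c : Fin k → R) (e : R[X]), (∀ i, c i ∈ maximalIdeal R) ∧ IsUnit (e.coeff 0) ∧
      g ∣ e * (X ^ k - ∑ i : Fin k, C (c i) * X ^ (i : ℕ)) := by
  classical
  set m := maximalIdeal R
  let x : (R[X] ⧸ Ideal.span {g}) := Ideal.Quotient.mk _ X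
  -- an element which is `1` modulo `X^k` and `0` modulo `f`
  let fb : (ResidueField R)[X] := f.map (residue R)
  have hcop : IsCoprime ((X : (ResidueField R)[X]) ^ k) fb := by
    refine (IsCoprime.pow_left ?_)
    rw [Polynomial.irreducible_X.coprime_iff_not_dvd, Polynomial.X_dvd_iff]
    simp [fb, hf]
  obtain ⟨a₀, b₀, hab⟩ := hcop
  obtain ⟨a, rfl⟩ := Polynomial.map_surjective (residue R) residue_surjective a₀
  obtain ⟨b, rfl⟩ := Polynomial.map_surjective (residue R) residue_surjective b₀
  let I := m.map (algebraMap R (R[X] ⧸ Ideal.span {g}))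
  have hmem : ∀ p : R[X], p.map (residue R) = 0 → (Ideal.Quotient.mk _ p : (R[X] ⧸ Ideal.span {g})) ∈ I := by
    intro p hp
    have h1 : p ∈ m.map (C : R →+* R[X]) := Ideal.mem_map_C_iff.mpr fun i => by
      have := congrArg (fun q => q.coeff i) hp
      exact (residue_eq_zero_iff _).mp (by simpa using this)
    have h2 := Ideal.mem_map_of_mem (Ideal.Quotient.mk (Ideal.span {g})) h1
    rw [Ideal.map_map] at h2
    exact h2
  have hgmap : g.map (residue R) = X ^ k * fb := by
    have h : (g - X ^ k * f).map (residue R) = 0 := by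
      ext i
      rw [coeff_map, coeff_zero, residue_eq_zero_iff]
      exact hg i
    rwa [Polynomial.map_sub, Polynomial.map_mul, Polynomial.map_pow, map_X, sub_eq_zero] at h
  let p := b * f
  have hgS : (Ideal.Quotient.mk (Ideal.span {g}) g : (R[X] ⧸ Ideal.span {g})) = 0 :=
    Ideal.Quotient.eq_zero_iff_mem.mpr (Ideal.mem_span_singleton_self g)
  have hXp : (Ideal.Quotient.mk _ (X ^ k * p) : (R[X] ⧸ Ideal.span {g})) ∈ I := by
    have := hmem (X ^ k * p - b * g) (by
      simp only [p, Polynomial.map_sub, Polynomial.map_mul, Polynomial.map_pow, map_X, hgmap]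
      ring)
    rwa [map_sub, map_mul (Ideal.Quotient.mk (Ideal.span {g})) b g, hgS, mul_zero, sub_zero] at this
  have hidem : (Ideal.Quotient.mk _ p : (R[X] ⧸ Ideal.span {g})) * Ideal.Quotient.mk _ p - Ideal.Quotient.mk _ p ∈ I := by
    have := hmem (p * p - p + b * a * g) (by
      simp only [p, Polynomial.map_sub, Polynomial.map_add, Polynomial.map_mul, hgmap]
      linear_combination (b.map (residue R) * fb) * hab)
    rwa [map_add, map_mul (Ideal.Quotient.mk (Ideal.span {g})) (b * a) g, hgS, mul_zero, add_zero,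
      map_sub, map_mul] at this
  -- the closed fibre is finite
  have hfin : Module.Finite R ((R[X] ⧸ Ideal.span {g}) ⧸ I) := by
    set gb := g.map (residue R) with hgb
    have hne : gb ≠ 0 := by
      rw [hgmap]
      refine mul_ne_zero (pow_ne_zero _ X_ne_zero) fun h => ?_
      have := congrArg (fun q => q.coeff 0) h
      simp [fb, hf] at this
    let d := gb.natDegree
    obtain ⟨c, hc⟩ := residue_surjective (R := R) gb.leadingCoeff⁻¹
    let g' : R[X] := X ^ d + ∑ i : Fin d, C (c * g.coeff i) * X ^ (i : ℕ)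
    have hg' : g'.Monic := monic_X_pow_add (by
      refine (Polynomial.degree_sum_fin_lt _) )
    have hzero : (Ideal.Quotient.mk _ (g' - C c * g) : (R[X] ⧸ Ideal.span {g})) ∈ I := hmem _ (by
      ext i
      simp only [g', Polynomial.map_sub, coeff_sub, coeff_map, coeff_add, coeff_X_pow, coeff_zero,
        coeff_C_mul, finsetSum_coeff, map_add, coeff_C_mul_X_pow]
      rcases lt_trichotomy i d with h | h | h
      · rw [if_neg h.ne, map_zero, zero_add, Finset.sum_eq_single ⟨i, h⟩]
        · simp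
        · intro j _ hj
          rw [if_neg (fun hh => hj (Fin.ext hh.symm)), mul_zero]
        · simp
      · subst h
        rw [if_pos rfl, map_one, Finset.sum_eq_zero fun (j : Fin d) _ => by
          rw [if_neg j.isLt.ne', mul_zero], map_zero, add_zero, map_mul, hc, ← coeff_map]
        rw [← hgb, show gb.coeff d = gb.leadingCoeff from rfl,
          inv_mul_cancel₀ (leadingCoeff_ne_zero.mpr hne), sub_self]
      · rw [if_neg h.ne', map_zero, zero_add, Finset.sum_eq_zero fun (j : Fin d) _ => by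
          rw [if_neg (by omega), mul_zero], map_zero, map_mul, ← coeff_map, ← hgb,
          coeff_eq_zero_of_natDegree_lt h, mul_zero, sub_zero])
    let φ : AdjoinRoot g' →ₐ[R] (R[X] ⧸ Ideal.span {g}) ⧸ I := AdjoinRoot.liftAlgHom g' (Algebra.ofId R _) (Ideal.Quotient.mk I x) (by
      change eval₂ (algebraMap R ((R[X] ⧸ Ideal.span {g}) ⧸ I)) (Ideal.Quotient.mk I x) g' = 0
      rw [← Polynomial.aeval_def, show Ideal.Quotient.mk I x = Ideal.Quotient.mkₐ R I (Ideal.Quotient.mkₐ R _ X) from rfl,
        Polynomial.aeval_algHom_apply, Polynomial.aeval_algHom_apply, Polynomial.aeval_X_left_apply]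
      refine Ideal.Quotient.eq_zero_iff_mem.mpr ?_
      rw [map_sub, map_mul, hgS, mul_zero, sub_zero] at hzero
      exact hzero)
    have : Module.Finite R (AdjoinRoot g') := hg'.finite_adjoinRoot
    refine Module.Finite.of_surjective φ.toLinearMap fun z => ?_
    obtain ⟨z, rfl⟩ := Ideal.Quotient.mk_surjective z
    obtain ⟨q, rfl⟩ := Ideal.Quotient.mk_surjective z
    refine ⟨AdjoinRoot.mk g' q, ?_⟩
    change φ (AdjoinRoot.mk g' q) = _
    rw [AdjoinRoot.liftAlgHom_mk]
    change eval₂ (algebraMap R ((R[X] ⧸ Ideal.span {g}) ⧸ I)) (Ideal.Quotient.mk I x) q = _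
    rw [← Polynomial.aeval_def, show Ideal.Quotient.mk I x = Ideal.Quotient.mkₐ R I (Ideal.Quotient.mkₐ R _ X) from rfl,
      Polynomial.aeval_algHom_apply, Polynomial.aeval_algHom_apply, Polynomial.aeval_X_left_apply]
    rfl
  have hfinJ : Module.Finite R ((R[X] ⧸ Ideal.span {g}) ⧸ (I ⊔ Ideal.span {1 - Ideal.Quotient.mk _ p})) :=
    Module.Finite.of_surjective (Ideal.Quotient.factorₐ R (le_sup_left (a := I))).toLinearMap
      (Ideal.Quotient.factor_surjective le_sup_left)
  have hqf : ∀ (q : Ideal (R[X] ⧸ Ideal.span {g})) [q.IsPrime],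
      I ⊔ Ideal.span {1 - Ideal.Quotient.mk _ p} ≤ q → Algebra.QuasiFiniteAt R q :=
    fun q _ hle => quasiFiniteAt_of_finite_fibre q (le_sup_left.trans hle)
  obtain ⟨e, he, hep, hefin⟩ := H9Hens.exists_finitePart (A := R) (I := m) (S := R[X] ⧸ Ideal.span {g})
    (Ideal.Quotient.mk _ p) hidem hfinJ hqf
  obtain ⟨E, rfl⟩ := Ideal.Quotient.mk_surjective e
  -- the finite part
  let t : ((R[X] ⧸ Ideal.span {g}) ⧸ Ideal.span {1 - Ideal.Quotient.mk (Ideal.span {g}) E}) := Ideal.Quotient.mk _ x
  have hXT : t ^ k ∈ I.map (Ideal.Quotient.mk (Ideal.span {1 - Ideal.Quotient.mk (Ideal.span {g}) E})) := by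
    have h1 : (Ideal.Quotient.mk (Ideal.span {g}) (X ^ k * E) : (R[X] ⧸ Ideal.span {g})) ∈ I := by
      rw [map_mul, ← sub_add_cancel (Ideal.Quotient.mk (Ideal.span {g}) E) (Ideal.Quotient.mk _ p),
        mul_add, ← map_mul _ _ p]
      exact add_mem (Ideal.mul_mem_left _ _ hep) hXp
    have h2 := Ideal.mem_map_of_mem (Ideal.Quotient.mk (Ideal.span {1 - Ideal.Quotient.mk (Ideal.span {g}) E})) h1
    have h3 : (Ideal.Quotient.mk (Ideal.span {1 - Ideal.Quotient.mk (Ideal.span {g}) E})
        (Ideal.Quotient.mk (Ideal.span {g}) (X ^ k * E)) : ((R[X] ⧸ Ideal.span {g}) ⧸ Ideal.span {1 - Ideal.Quotient.mk (Ideal.span {g}) E})) = t ^ k := by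
      have hE1 : Ideal.Quotient.mk (Ideal.span {1 - Ideal.Quotient.mk (Ideal.span {g}) E})
          (Ideal.Quotient.mk (Ideal.span {g}) E) = Ideal.Quotient.mk _ 1 := by
        rw [Ideal.Quotient.eq, Ideal.mem_span_singleton']
        exact ⟨-1, by ring⟩
      rw [map_mul, map_mul, hE1, ← map_mul, mul_one, map_pow, map_pow]
    rw [h3] at h2
    exact h2
  obtain ⟨c, hc⟩ := exists_coeffs t (fun z => by
    obtain ⟨z, rfl⟩ := Ideal.Quotient.mk_surjective z
    obtain ⟨q, rfl⟩ := Ideal.Quotient.mk_surjective z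
    refine ⟨q, ?_⟩
    have h := Polynomial.aeval_algHom_apply ((Ideal.Quotient.mkₐ R (Ideal.span {1 - Ideal.Quotient.mk (Ideal.span {g}) E})).comp
      (Ideal.Quotient.mkₐ R (Ideal.span {g}))) (X : R[X]) q
    rw [Polynomial.aeval_X_left_apply] at h
    exact h) k (by rw [Ideal.map_map] at hXT; exact hXT)
  have hEunit : IsUnit (E.coeff 0) := by
    -- `E ≡ p`, and `p ≡ 1` modulo `X`
    have h1 : residue R (E.coeff 0) = 1 := by
      rw [← Ideal.Quotient.mk_eq_mk_iff_sub_mem, ← sub_eq_zero, ← map_sub] at hep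
      have h2 : (Ideal.Quotient.mk (Ideal.span {g}) (E - p) : (R[X] ⧸ Ideal.span {g})) ∈ (m.map C).map (Ideal.Quotient.mk (Ideal.span {g})) := by
        rw [Ideal.map_map, map_sub]
        exact Ideal.Quotient.eq_zero_iff_mem.mp hep
      rw [Ideal.mem_map_iff_of_surjective _ Ideal.Quotient.mk_surjective] at h2
      obtain ⟨w, hw, hwe⟩ := h2
      rw [Ideal.Quotient.eq, Ideal.mem_span_singleton'] at hwe
      obtain ⟨u, hu⟩ := hwe
      have hw0 : w.map (residue R) = 0 := by
        ext i
        rw [coeff_map, coeff_zero]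
        exact (residue_eq_zero_iff _).mpr (Ideal.mem_map_C_iff.mp hw i)
      have h3 := congrArg (fun q => (q.map (residue R)).coeff 0) hu
      simp only [Polynomial.map_mul, Polynomial.map_sub, hgmap, hw0, p, mul_coeff_zero, coeff_sub,
        coeff_zero, coeff_map, coeff_X_pow, if_neg hk.ne, fb, hf, map_one, mul_one, mul_zero,
        zero_sub, map_mul, neg_sub] at h3
      have h4 := congrArg (fun q => q.coeff 0) hab
      simp only [coeff_add, mul_coeff_zero, coeff_X_pow, if_neg hk.ne, mul_zero, zero_add, fb,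
        coeff_map, hf, map_one, mul_one, coeff_one_zero] at h4
      rw [h4] at h3
      exact sub_eq_zero.mp (neg_eq_zero.mp (by rw [neg_sub]; exact h3.symm))
    by_contra h
    have := (residue_eq_zero_iff _).mpr ((mem_maximalIdeal _).mpr h)
    rw [h1] at this
    exact one_ne_zero this
  refine ⟨c, E, hc.1, hEunit, ?_⟩
  let G : R[X] := X ^ k - ∑ i : Fin k, C (c i) * X ^ (i : ℕ)
  rw [← Ideal.mem_span_singleton, ← Ideal.Quotient.eq_zero_iff_mem, map_mul]
  have hG : (Ideal.Quotient.mk (Ideal.span {1 - Ideal.Quotient.mk (Ideal.span {g}) E})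
      (Ideal.Quotient.mk (Ideal.span {g}) G) : ((R[X] ⧸ Ideal.span {g}) ⧸ Ideal.span {1 - Ideal.Quotient.mk (Ideal.span {g}) E})) = 0 := by
    simp only [G, map_sub, map_pow, map_sum, map_mul]
    refine sub_eq_zero.mpr (hc.2.symm.trans (Finset.sum_congr rfl fun i _ => ?_))
    rw [Algebra.smul_def]
    congr 1
  obtain ⟨u, hu⟩ := Ideal.mem_span_singleton'.mp (Ideal.Quotient.eq_zero_iff_mem.mp hG)
  change (Ideal.Quotient.mk (Ideal.span {g}) E : (R[X] ⧸ Ideal.span {g})) * Ideal.Quotient.mk (Ideal.span {g}) G = 0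
  rw [← hu, ← mul_assoc, mul_comm _ u, mul_assoc, mul_sub, mul_one, he, sub_self, mul_zero]

end Groth.Agent.H3CAlg.HenselFactor
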