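import Groth.Agent.H3CAlg.HenselWeierstrass
import Mathlib

/-!
# Ideals avoiding the special fibre and the henselian Laurent ring
-/

set_option autoImplicit false

universe u

open Polynomial

namespace Groth.Agent.H3CAlg.HenselLaurent

set_option maxHeartbeats 1000000 in
-- many coercions between quotient rings
theorem ideals_equiv (R : Type u) [CommRing R] [HenselianLocalRing R] (B : Type u) [CommRing B]
    [Algebra R B] [Algebra R[X] B] [IsScalarTower R R[X] B]
    (hB : Hens2.IsPairHenselization R[X] (Ideal.span {(X : R[X])}) B)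
    (L : Type u) [CommRing L] [Algebra B L] [Algebra R L] [IsScalarTower R B L]
    [IsLocalization.Away (algebraMap R[X] B X) L]
    (ψ : R[X] →ₐ[R] L) (hψ : ψ X * algebraMap B L (algebraMap R[X] B X) = 1) :
    (∀ I : Ideal R[X], I ⊔ (IsLocalRing.maximalIdeal R).map (algebraMap R R[X]) = ⊤ →
        (I.map ψ.toRingHom).comap ψ.toRingHom = I ∧
        I.map ψ.toRingHom ⊔ (IsLocalRing.maximalIdeal R).map (algebraMap R L) = ⊤ ∧
        Function.Bijective (Ideal.quotientMap (I.map ψ.toRingHom) ψ.toRingHom Ideal.le_comap_map)) ∧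
    (∀ J : Ideal L, J ⊔ (IsLocalRing.maximalIdeal R).map (algebraMap R L) = ⊤ →
        (J.comap ψ.toRingHom).map ψ.toRingHom = J ∧
        J.comap ψ.toRingHom ⊔ (IsLocalRing.maximalIdeal R).map (algebraMap R R[X]) = ⊤) := by
  classical
  have hψC : ∀ r : R, ψ (C r) = algebraMap R L r := fun r => ψ.commutes r
  have hBC : ∀ r : R, algebraMap B L (algebraMap R[X] B (C r)) = algebraMap R L r := by
    intro r
    rw [← Polynomial.algebraMap_eq, ← IsScalarTower.algebraMap_apply R R[X] B,
      ← IsScalarTower.algebraMap_apply R B L]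
  have hXu : IsUnit (algebraMap B L (algebraMap R[X] B X)) :=
    IsLocalization.Away.algebraMap_isUnit (algebraMap R[X] B X)
  have hψm : ((IsLocalRing.maximalIdeal R).map (algebraMap R R[X])).map ψ.toRingHom = (IsLocalRing.maximalIdeal R).map (algebraMap R L) := by
    rw [Ideal.map_map]
    congr 1
    exact RingHom.ext fun r => ψ.commutes r
  have part1 : ∀ I : Ideal R[X], I ⊔ (IsLocalRing.maximalIdeal R).map (algebraMap R R[X]) = ⊤ →
      (I.map ψ.toRingHom).comap ψ.toRingHom = I ∧
      I.map ψ.toRingHom ⊔ (IsLocalRing.maximalIdeal R).map (algebraMap R L) = ⊤ ∧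
      Function.Bijective (Ideal.quotientMap (I.map ψ.toRingHom) ψ.toRingHom Ideal.le_comap_map) := by
    intro I hI
    obtain ⟨f, hf, μ, hμ, hfμ⟩ := Submodule.mem_sup.mp ((Ideal.eq_top_iff_one _).mp hI)
    have hμc : ∀ i, μ.coeff i ∈ IsLocalRing.maximalIdeal R := Ideal.mem_map_C_iff.mp hμ
    have hfc : ∀ i, i ≠ 0 → f.coeff i ∈ IsLocalRing.maximalIdeal R := by
      intro i hi
      have := congrArg (fun q => q.coeff i) hfμ
      simp only [coeff_add, coeff_one, if_neg hi] at this
      rw [eq_neg_of_add_eq_zero_left this]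
      exact neg_mem (hμc i)
    have hf0 : IsUnit (f.coeff 0) := by
      have := congrArg (fun q => q.coeff 0) hfμ
      simp only [coeff_add, coeff_one_zero] at this
      refine (IsLocalRing.isUnit_or_isUnit_of_add_one this).resolve_right fun h => ?_
      exact (IsLocalRing.mem_maximalIdeal _).mp (hμc 0) h
    obtain ⟨u, hu⟩ : ∃ u, u * f.coeff 0 = 1 := ⟨↑hf0.unit⁻¹, IsUnit.val_inv_mul _⟩
    set x : R[X] ⧸ I := Ideal.Quotient.mkₐ R I X with hx
    have hev : ∀ p : R[X], aeval x p = Ideal.Quotient.mkₐ R I p := fun p => by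
      rw [hx, aeval_algHom_apply, aeval_X_left_apply]
    have hfx : aeval x f = 0 := by
      rw [hev]; exact Ideal.Quotient.eq_zero_iff_mem.mpr hf
    obtain ⟨y, hxy⟩ : ∃ y, x * y = 1 := by
      refine ⟨-(algebraMap R _ u * aeval x f.divX), ?_⟩
      have h := hfx
      rw [← X_mul_divX_add f, map_add, map_mul, aeval_X, aeval_C] at h
      have hu' : algebraMap R (R[X] ⧸ I) u * algebraMap R _ (f.coeff 0) = 1 := by
        rw [← map_mul, hu, map_one]
      linear_combination (-algebraMap R (R[X] ⧸ I) u) * h + hu'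
    let d := f.natDegree
    let G : R[X] := X ^ d + ∑ i : Fin d, C (u * f.coeff (d - i)) * X ^ (i : ℕ)
    have hG : G.Monic := monic_X_pow_add (Polynomial.degree_sum_fin_lt _)
    have hGy : aeval y G = 0 := by
      have h1 : algebraMap R (R[X] ⧸ I) u * (y ^ d * aeval x f) = 0 := by rw [hfx, mul_zero, mul_zero]
      rw [aeval_eq_sum_range, Finset.mul_sum, Finset.mul_sum, Finset.sum_range_succ'] at h1
      simp only [pow_zero, Algebra.smul_def, mul_one] at h1
      rw [← h1]
      simp only [G, map_add, map_pow, aeval_X, map_sum, map_mul, aeval_C]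
      rw [add_comm]
      congr 1
      · rw [← Equiv.sum_comp Fin.revPerm, Finset.sum_fin_eq_sum_range]
        refine Finset.sum_congr rfl fun j hj => ?_
        rw [Finset.mem_range] at hj
        rw [dif_pos hj]
        simp only [Fin.revPerm_apply, Fin.val_rev, map_mul]
        rw [show d - (d - (j + 1)) = j + 1 by omega]
        calc algebraMap R (R[X] ⧸ I) u * algebraMap R (R[X] ⧸ I) (f.coeff (j + 1)) * y ^ (d - (j + 1))
            = algebraMap R (R[X] ⧸ I) u * (y ^ (d - (j + 1)) * (x * y) ^ (j + 1) *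
              algebraMap R (R[X] ⧸ I) (f.coeff (j + 1))) := by rw [hxy]; ring
          _ = algebraMap R (R[X] ⧸ I) u * (y ^ (d - (j + 1) + (j + 1)) *
              (algebraMap R (R[X] ⧸ I) (f.coeff (j + 1)) * x ^ (j + 1))) := by ring
          _ = _ := by rw [Nat.sub_add_cancel hj]
      · rw [mul_left_comm, ← map_mul, hu, map_one, mul_one]
    have hGc : ∀ i, i < G.natDegree → G.coeff i ∈ IsLocalRing.maximalIdeal R := by
      intro i hi
      have hGd : G.natDegree ≤ d := by
        refine natDegree_le_iff_degree_le.mpr ((degree_add_le _ _).trans (max_le (degree_X_pow_le d) ?_))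
        exact (Polynomial.degree_sum_fin_lt _).le
      simp only [G, coeff_add, coeff_X_pow, if_neg (show i ≠ d by omega), zero_add, finsetSum_coeff,
        coeff_C_mul_X_pow]
      refine sum_mem fun j _ => ?_
      split_ifs
      · exact (IsLocalRing.maximalIdeal R).mul_mem_left _ (hfc _ (by omega))
      · exact zero_mem _
    obtain ⟨hdiv1, hdiv2⟩ := Groth.Agent.H3CAlg.HenselWeierstrass.division hB G hG hGc
    let θ₀ : R[X] ⧸ Ideal.span {G} →+* B ⧸ Ideal.span {algebraMap R[X] B G} :=
      Ideal.quotientMap _ (algebraMap R[X] B) (by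
        rw [← Ideal.map_le_iff_le_comap, Ideal.map_span, Set.image_singleton])
    have hθ₀ : Function.Bijective θ₀ := by
      refine ⟨Ideal.quotientMap_injective' hdiv2, fun z => ?_⟩
      obtain ⟨b, rfl⟩ := Ideal.Quotient.mk_surjective z
      obtain ⟨q, hq⟩ := hdiv1 b
      exact ⟨Ideal.Quotient.mk _ q, Ideal.quotientMap_mk.trans (Ideal.Quotient.eq.mpr hq)⟩
    let δ : R[X] ⧸ Ideal.span {G} →+* R[X] ⧸ I :=
      Ideal.Quotient.lift _ (aeval y : R[X] →ₐ[R] R[X] ⧸ I).toRingHom (by
        intro q hq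
        obtain ⟨v, rfl⟩ := Ideal.mem_span_singleton'.mp hq
        rw [map_mul]
        exact mul_eq_zero_of_right _ hGy)
    let Φ₀ : B →+* R[X] ⧸ I :=
      (δ.comp (RingEquiv.ofBijective θ₀ hθ₀).symm.toRingHom).comp (Ideal.Quotient.mk _)
    have hΦ₀ : ∀ p, Φ₀ (algebraMap R[X] B p) = aeval y p := by
      intro p
      have : (RingEquiv.ofBijective θ₀ hθ₀).symm (Ideal.Quotient.mk _ (algebraMap R[X] B p)) =
          Ideal.Quotient.mk (Ideal.span {G}) p := by
        rw [RingEquiv.symm_apply_eq]
        rfl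
      change δ ((RingEquiv.ofBijective θ₀ hθ₀).symm (Ideal.Quotient.mk _ (algebraMap R[X] B p))) = _
      rw [this]
      rfl
    have hyu : IsUnit (Φ₀ (algebraMap R[X] B X)) := by
      rw [hΦ₀, aeval_X]
      exact isUnit_of_mul_isUnit_right (hxy ▸ isUnit_one)
    let Φ : L →+* R[X] ⧸ I := IsLocalization.Away.lift (algebraMap R[X] B X) hyu
    have hΦB : ∀ b, Φ (algebraMap B L b) = Φ₀ b := fun b => IsLocalization.Away.lift_eq _ hyu b
    have hΦ : ∀ p, Φ (algebraMap B L (algebraMap R[X] B p)) = aeval y p := fun p => by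
      rw [hΦB, hΦ₀]
    have hΦψ : Φ.comp ψ.toRingHom = Ideal.Quotient.mk I := by
      refine Polynomial.ringHom_ext (fun r => ?_) ?_
      · change Φ (ψ (C r)) = _
        rw [hψC, ← hBC, hΦ, aeval_C]
        rfl
      · change Φ (ψ X) = x
        have h1 := congrArg Φ hψ
        rw [map_mul, hΦ, aeval_X, map_one] at h1
        calc Φ (ψ X) = Φ (ψ X) * (x * y) := by rw [hxy, mul_one]
          _ = x * (Φ (ψ X) * y) := by ring
          _ = x := by rw [h1, mul_one]
    set Θ := Ideal.quotientMap (I.map ψ.toRingHom) ψ.toRingHom Ideal.le_comap_map with hΘ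
    have hΘmk : ∀ p, Θ (Ideal.Quotient.mk I p) = Ideal.Quotient.mk _ (ψ p) := fun p =>
      Ideal.quotientMap_mk
    have hker : I.map ψ.toRingHom ≤ RingHom.ker Φ := by
      rw [Ideal.map_le_iff_le_comap]
      intro p hp
      rw [Ideal.mem_comap, RingHom.mem_ker, ← RingHom.comp_apply, hΦψ]
      exact Ideal.Quotient.eq_zero_iff_mem.mpr hp
    have hpoly : ∀ p, Θ (Φ (algebraMap B L (algebraMap R[X] B p))) =
        Ideal.Quotient.mk (I.map ψ.toRingHom) (algebraMap B L (algebraMap R[X] B p)) := by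
      have h : (Θ.comp Φ).comp ((algebraMap B L).comp (algebraMap R[X] B)) =
          (Ideal.Quotient.mk (I.map ψ.toRingHom)).comp ((algebraMap B L).comp (algebraMap R[X] B)) := by
        refine Polynomial.ringHom_ext (fun r => ?_) ?_
        · change Θ (Φ (algebraMap B L (algebraMap R[X] B (C r)))) =
            Ideal.Quotient.mk _ (algebraMap B L (algebraMap R[X] B (C r)))
          rw [hΦ, aeval_C, hBC, ← hψC, ← hΘmk]
          rfl
        · change Θ (Φ (algebraMap B L (algebraMap R[X] B X))) =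
            Ideal.Quotient.mk _ (algebraMap B L (algebraMap R[X] B X))
          rw [hΦ, aeval_X]
          have h1 : Θ x * Θ y = 1 := by rw [← map_mul, hxy, map_one]
          have h2 : Θ x * Ideal.Quotient.mk _ (algebraMap B L (algebraMap R[X] B X)) = 1 := by
            change Θ (Ideal.Quotient.mk I X) * _ = 1
            rw [hΘmk, ← map_mul, hψ, map_one]
          calc Θ y = Θ y * (Θ x * Ideal.Quotient.mk _ (algebraMap B L (algebraMap R[X] B X))) := by
                rw [h2, mul_one]
            _ = (Θ x * Θ y) * Ideal.Quotient.mk _ (algebraMap B L (algebraMap R[X] B X)) := by ring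
            _ = _ := by rw [h1, one_mul]
      exact RingHom.congr_fun h
    have hΘΦ : Θ.comp Φ = Ideal.Quotient.mk (I.map ψ.toRingHom) := by
      refine IsLocalization.ringHom_ext (Submonoid.powers (algebraMap R[X] B X)) (RingHom.ext fun b => ?_)
      obtain ⟨q, hq⟩ := hdiv1 b
      obtain ⟨v, hv⟩ := Ideal.mem_span_singleton'.mp hq
      have hb : b = algebraMap R[X] B q - v * algebraMap R[X] B G := by rw [hv]; ring
      have hG0 : Ideal.Quotient.mk (I.map ψ.toRingHom) (algebraMap B L (algebraMap R[X] B G)) = 0 := by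
        rw [← hpoly, hΦ, hGy, map_zero]
      change Θ (Φ (algebraMap B L b)) = Ideal.Quotient.mk _ (algebraMap B L b)
      rw [hb]
      simp only [map_sub, map_mul, hpoly, hG0, mul_zero]
    have hcomap : (I.map ψ.toRingHom).comap ψ.toRingHom = I := by
      refine le_antisymm (fun p hp => ?_) Ideal.le_comap_map
      have := hker hp
      rwa [RingHom.mem_ker, ← RingHom.comp_apply, hΦψ, Ideal.Quotient.eq_zero_iff_mem] at this
    refine ⟨hcomap, ?_, ?_, fun z => ?_⟩
    · rw [← hψm, ← Ideal.map_sup, hI, Ideal.map_top]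
    · exact Ideal.quotientMap_injective' hcomap.le
    · obtain ⟨l, rfl⟩ := Ideal.Quotient.mk_surjective z
      exact ⟨Φ l, by rw [← RingHom.comp_apply, hΘΦ]⟩
  refine ⟨part1, fun J hJ => ?_⟩
  -- a polynomial congruent to one in the contraction of `J`
  have hsup : J.comap ψ.toRingHom ⊔ (IsLocalRing.maximalIdeal R).map (algebraMap R R[X]) = ⊤ := by
    obtain ⟨k, hk⟩ : ∃ k : ℕ, algebraMap R[X] B X ^ k ∈ J.comap (algebraMap B L) ⊔
        ((IsLocalRing.maximalIdeal R).map (C : R →+* R[X])).map (algebraMap R[X] B) := by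
      have h1 : (1 : L) ∈ (J.comap (algebraMap B L) ⊔
          ((IsLocalRing.maximalIdeal R).map (C : R →+* R[X])).map (algebraMap R[X] B)).map (algebraMap B L) := by
        rw [Ideal.map_sup, IsLocalization.map_comap (Submonoid.powers (algebraMap R[X] B X)) L J,
          show ((IsLocalRing.maximalIdeal R).map (C : R →+* R[X])).map (algebraMap R[X] B) =
            (IsLocalRing.maximalIdeal R).map (algebraMap R B) by
            rw [Ideal.map_map, ← Polynomial.algebraMap_eq, ← IsScalarTower.algebraMap_eq R R[X] B],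
          Ideal.map_map, ← IsScalarTower.algebraMap_eq R B L, hJ]
        exact Submodule.mem_top
      obtain ⟨⟨a, ⟨_, j, rfl⟩⟩, h2⟩ := (IsLocalization.mem_map_algebraMap_iff (Submonoid.powers (algebraMap R[X] B X)) L).mp h1
      rw [one_mul] at h2
      obtain ⟨⟨_, i, rfl⟩, hv⟩ := (IsLocalization.eq_iff_exists (Submonoid.powers (algebraMap R[X] B X)) L).mp h2
      refine ⟨i + j, ?_⟩
      rw [pow_add]
      exact hv ▸ Ideal.mul_mem_left _ _ a.2
    obtain ⟨g, hg, μ, hμ, hgμ⟩ := Submodule.mem_sup.mp hk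
    have hgm : g ∉ ((IsLocalRing.maximalIdeal R).map (C : R →+* R[X])).map (algebraMap R[X] B) := by
      intro hgm
      have h1 := Groth.Agent.H3CAlg.HenselWeierstrass.mem_of_pow_mul_mem hB k 1
        (by rw [mul_one, ← hgμ]; exact add_mem hgm hμ)
      have h2 := Ideal.mem_jacobson_bot.mp
        (Groth.Agent.H3CAlg.HenselWeierstrass.mem_jacobson_of_mem hB (Submodule.mem_sup_left h1)) (-1)
      rw [one_mul, neg_add_cancel, isUnit_zero_iff] at h2
      have h3 : algebraMap R[X] B 1 ∈ (Ideal.span {(X : R[X]) ^ 1}).map (algebraMap R[X] B) := by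
        rw [map_one, ← h2]
        exact zero_mem _
      have h4 : (1 : R[X]) ∈ ⊥ ⊔ Ideal.span {(X : R[X]) ^ 1} := by
        rw [← Groth.Agent.H3CAlg.HenselWeierstrass.comap_map_sup _
          (Groth.Agent.H3CAlg.HenselWeierstrass.bijective_pow hB 1) ⊥, Ideal.mem_comap, bot_sup_eq]
        exact h3
      rw [bot_sup_eq, pow_one, Ideal.mem_span_singleton] at h4
      exact Polynomial.not_isUnit_X (isUnit_of_dvd_one h4)
    obtain ⟨d, c, hc, u, hgu⟩ := Groth.Agent.H3CAlg.HenselWeierstrass.exists_monic hB g hgm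
    let F : R[X] := 1 - ∑ i : Fin d, C (c i) * X ^ (d - (i : ℕ))
    have hF : F ∈ J.comap ψ.toRingHom := by
      have h1 : algebraMap B L (algebraMap R[X] B (X ^ d - ∑ i : Fin d, C (c i) * X ^ (i : ℕ))) ∈ J := by
        have h2 : algebraMap B L g ∈ J := hg
        rw [hgu, map_mul] at h2
        exact (Ideal.mul_unit_mem_iff_mem J (u.isUnit.map (algebraMap B L))).mp h2
      have h3 : ψ F * algebraMap B L (algebraMap R[X] B X) ^ d =
          algebraMap B L (algebraMap R[X] B (X ^ d - ∑ i : Fin d, C (c i) * X ^ (i : ℕ))) := by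
        simp only [F, map_sub, map_one, map_sum, map_mul, map_pow, hψC, hBC, sub_mul, one_mul,
          Finset.sum_mul]
        congr 1
        refine Finset.sum_congr rfl fun i _ => ?_
        rw [mul_assoc]
        congr 1
        calc ψ X ^ (d - (i : ℕ)) * algebraMap B L (algebraMap R[X] B X) ^ d
            = ψ X ^ (d - (i : ℕ)) *
              algebraMap B L (algebraMap R[X] B X) ^ ((d - (i : ℕ)) + (i : ℕ)) := by
              rw [Nat.sub_add_cancel i.isLt.le]
          _ = (ψ X * algebraMap B L (algebraMap R[X] B X)) ^ (d - (i : ℕ)) *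
              algebraMap B L (algebraMap R[X] B X) ^ (i : ℕ) := by ring
          _ = _ := by rw [hψ, one_pow, one_mul]
      rw [← h3] at h1
      change ψ F ∈ J
      exact (Ideal.mul_unit_mem_iff_mem J (hXu.pow d)).mp h1
    rw [Ideal.eq_top_iff_one, ← sub_add_cancel (1 : R[X]) (∑ i : Fin d, C (c i) * X ^ (d - (i : ℕ)))]
    refine Submodule.add_mem_sup hF (sum_mem fun i _ => Ideal.mul_mem_right _ _ ?_)
    exact Ideal.mem_map_of_mem _ (hc i)
  refine ⟨le_antisymm Ideal.map_comap_le (fun l hl => ?_), hsup⟩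
  obtain ⟨-, -, hbij⟩ := part1 _ hsup
  obtain ⟨b, hb⟩ := hbij.2 (Ideal.Quotient.mk _ l)
  obtain ⟨p, rfl⟩ := Ideal.Quotient.mk_surjective b
  rw [Ideal.quotientMap_mk, Ideal.Quotient.eq] at hb
  have hp : p ∈ J.comap ψ.toRingHom := by
    rw [Ideal.mem_comap, ← sub_add_cancel (ψ.toRingHom p) l]
    exact J.add_mem (Ideal.map_comap_le hb) hl
  rw [← sub_sub_cancel (ψ.toRingHom p) l]
  exact sub_mem (Ideal.mem_map_of_mem _ hp) hb

end Groth.Agent.H3CAlg.HenselLaurent
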