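import Groth.Agent.H3CAlg.HenselLaurent
import Groth.Agent.H9Hens.PairHens
import Mathlib

/-!
# Invertible modules over the henselian Laurent ring of a henselian local ring
-/

set_option autoImplicit false
set_option linter.style.haveILetI false
universe u

open Polynomial TensorProduct

namespace Groth.Agent.H3CAlg.HenselLaurentPic

section General

theorem isSMulRegular_of_flat {A : Type u} [CommRing A] {r : A} (h : IsSMulRegular A r) {M : Type u}
    [AddCommGroup M] [Module A M] [Module.Flat A M] : IsSMulRegular M r :=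
  Module.Flat.isSMulRegular_of_nonZeroDivisors (R := A) (M := M)
    (mem_nonZeroDivisors_iff_right.2 fun q hq => h (show r • q = r • 0 by simpa [mul_comm] using hq))

variable {A : Type u} [CommRing A] {M : Type u} [AddCommGroup M] [Module A M] [Module.Invertible A M]

theorem smul_comm_of_invertible (φ : M →ₗ[A] A) (a b : M) : φ a • b = φ b • a := by
  have h := congrArg (fun z => TensorProduct.lid A M (φ.rTensor M z)) (Module.Invertible.tmul_comm (R := A) (m₁ := a) (m₂ := b))
  simpa using h

/-- A functional with a regular value is injective. -/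
theorem injective_of_regular (φ : M →ₗ[A] A) (n₁ : M) (h : IsSMulRegular A (φ n₁)) : Function.Injective φ := by
  rw [← LinearMap.ker_eq_bot, LinearMap.ker_eq_bot']
  intro n hn
  have h1 : φ n₁ • n = 0 := by rw [smul_comm_of_invertible φ n₁ n, hn, zero_smul]
  exact (isSMulRegular_of_flat h (M := M)) (h1.trans (smul_zero _).symm)

theorem mul_sup_eq_top {P : Ideal A} {I I' : Ideal A} (h : I ⊔ P = ⊤) (h' : I' ⊔ P = ⊤) :
    I * I' ⊔ P = ⊤ := by
  rw [Ideal.eq_top_iff_one] at h h' ⊢
  obtain ⟨a, ha, p, hp, hap⟩ := Submodule.mem_sup.1 h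
  obtain ⟨b, hb, q, hq, hbq⟩ := Submodule.mem_sup.1 h'
  refine Submodule.mem_sup.2 ⟨a * b, Ideal.mul_mem_mul ha hb, p * b + q,
    add_mem (Ideal.mul_mem_right _ _ hp) hq, ?_⟩
  linear_combination b * hap + hbq

theorem exists_functional (m : Ideal A) [Module.Free (A ⧸ m) ((A ⧸ m) ⊗[A] M)] :
    ∃ (φ : M →ₗ[A] A) (n₁ : M), φ n₁ - 1 ∈ m := by
  obtain ⟨e⟩ := Module.Invertible.free_iff_linearEquiv.1 ‹Module.Free (A ⧸ m) ((A ⧸ m) ⊗[A] M)›
  let q : M →ₗ[A] A ⧸ m := (e.restrictScalars A).toLinearMap ∘ₗ TensorProduct.mk A (A ⧸ m) M 1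
  have hq : Function.Surjective q := by
    refine e.surjective.comp ?_
    intro z
    induction z using TensorProduct.induction_on with
    | zero => exact ⟨0, map_zero _⟩
    | tmul r x =>
      obtain ⟨r, rfl⟩ := Ideal.Quotient.mk_surjective r
      refine ⟨r • x, ?_⟩
      rw [TensorProduct.mk_apply, ← TensorProduct.smul_tmul]
      rw [← Ideal.Quotient.algebraMap_eq, Algebra.algebraMap_eq_smul_one]
    | add a b ha hb =>
      obtain ⟨x, rfl⟩ := ha; obtain ⟨y, rfl⟩ := hb
      exact ⟨x + y, map_add _ _ _⟩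
  obtain ⟨φ, hφ⟩ := Module.projective_lifting_property (m.mkQ) q m.mkQ_surjective
  obtain ⟨n₁, hn₁⟩ := hq 1
  refine ⟨φ, n₁, ?_⟩
  have : (Submodule.Quotient.mk (φ n₁) : A ⧸ m) = q n₁ := LinearMap.congr_fun hφ n₁
  rw [hn₁] at this
  exact Ideal.Quotient.eq.1 this

/-- An ideal with an inverse up to a regular element is an invertible module. -/
theorem invertible_of_mul_eq_span (I I' : Ideal A) (G : A) (hG : IsSMulRegular A G)
    (h : I * I' = Ideal.span {G}) : Module.Invertible A I := by
  classical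
  have hproj : ∀ I I' : Ideal A, I * I' = Ideal.span {G} → Module.Projective A I ∧
      ∃ (k : ℕ) (a : Fin k → I) (b : Fin k → I'), ∑ j, (a j : A) * b j = G := by
    intro I I' h
    have hG' : G ∈ I * I' := h ▸ Ideal.mem_span_singleton_self G
    obtain ⟨T, hT⟩ : ∃ T : List (I × I'), (T.map fun t => (t.1 : A) * t.2).sum = G := by
      refine Submodule.mul_induction_on hG' (fun a ha b hb => ⟨[(⟨a, ha⟩, ⟨b, hb⟩)], by simp⟩) ?_
      rintro x y ⟨T, rfl⟩ ⟨T', rfl⟩
      exact ⟨T ++ T', by simp⟩
    let k := T.length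
    let a : Fin k → I := fun j => (T[j]).1
    let b : Fin k → I' := fun j => (T[j]).2
    have hab : ∑ j, (a j : A) * b j = G := by
      rw [← hT, ← Fin.sum_univ_getElem (T.map fun t => (t.1 : A) * t.2)]
      refine Fintype.sum_equiv (finCongr (by simp [k])) _ _ fun j => by simp [a, b, k]
    have hdiv : ∀ (x : I) j, ∃ c : A, c * G = x * b j := fun x j =>
      Ideal.mem_span_singleton'.1 (h ▸ Ideal.mul_mem_mul x.2 (b j).2)
    choose c hc using hdiv
    let ι : I →ₗ[A] (Fin k → A) :=
      { toFun := fun x j => c x j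
        map_add' := fun x y => funext fun j => hG (by
          simp only [smul_eq_mul, Pi.add_apply]
          have := hc (x + y) j
          rw [Submodule.coe_add] at this
          linear_combination this - hc x j - hc y j)
        map_smul' := fun r x => funext fun j => hG (by
          simp only [smul_eq_mul, Pi.smul_apply, RingHom.id_apply]
          have := hc (r • x) j
          rw [Submodule.coe_smul, smul_eq_mul] at this
          linear_combination this - r * hc x j) }
    let π : (Fin k → A) →ₗ[A] I := Fintype.linearCombination A a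
    refine ⟨Module.Projective.of_split ι π (LinearMap.ext fun x => Subtype.ext (hG ?_)),
      ?_⟩
    · simp only [LinearMap.comp_apply, LinearMap.id_apply, π, Fintype.linearCombination_apply,
        Submodule.coe_sum, Submodule.coe_smul, smul_eq_mul, Finset.mul_sum]
      conv_rhs => rw [← hab, Finset.sum_mul]
      refine Finset.sum_congr rfl fun j _ => ?_
      linear_combination (a j : A) * hc x j
    · exact ⟨k, a, b, hab⟩
  obtain ⟨hI, k, a, b, hab⟩ := hproj I I' h
  obtain ⟨hI', -⟩ := hproj I' I (by rw [mul_comm, h])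
  let μ : I ⊗[A] I' →ₗ[A] A := TensorProduct.lift
    (LinearMap.mk₂ A (fun (x : I) (y : I') => (x : A) * y) (fun _ _ _ => by simp [add_mul])
      (fun _ _ _ => by simp [mul_assoc]) (fun _ _ _ => by simp [mul_add]) (fun _ _ _ => by simp [mul_left_comm]))
  have hμ : ∀ (x : I) (y : I'), μ (x ⊗ₜ y) = (x : A) * y := fun _ _ => rfl
  have hrange : LinearMap.range μ = Ideal.span {G} := by
    refine le_antisymm ?_ (h ▸ fun z hz => ?_)
    · rintro _ ⟨z, rfl⟩
      induction z using TensorProduct.induction_on with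
      | zero => simp
      | tmul x y => rw [hμ, ← h]; exact Ideal.mul_mem_mul x.2 y.2
      | add p q hp hq => rw [map_add]; exact add_mem hp hq
    · refine Submodule.mul_induction_on hz (fun u hu v hv => ⟨⟨u, hu⟩ ⊗ₜ ⟨v, hv⟩, rfl⟩) ?_
      rintro _ _ ⟨p, rfl⟩ ⟨q, rfl⟩
      exact ⟨p + q, map_add _ _ _⟩
  have hid : ∀ z, G • z = μ z • ∑ j, a j ⊗ₜ[A] b j := by
    intro z
    induction z using TensorProduct.induction_on with
    | zero => simp
    | tmul x y =>
      rw [← hab, Finset.sum_smul, Finset.smul_sum, hμ]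
      refine Finset.sum_congr rfl fun j _ => ?_
      have e1 : ((a j : A) * b j) • x = ((x : A) * b j) • a j := Subtype.ext (by
        simp only [Submodule.coe_smul, smul_eq_mul]; ring)
      have e2 : ((x : A) * b j) • y = ((x : A) * y) • b j := Subtype.ext (by
        simp only [Submodule.coe_smul, smul_eq_mul]; ring)
      rw [TensorProduct.smul_tmul', e1, TensorProduct.smul_tmul, e2, TensorProduct.tmul_smul]
    | add p q hp hq => rw [smul_add, hp, hq, map_add, add_smul]
  have hinj : Function.Injective μ := by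
    rw [← LinearMap.ker_eq_bot, LinearMap.ker_eq_bot']
    intro z hz
    exact isSMulRegular_of_flat hG (show G • z = G • 0 by rw [hid, hz, zero_smul, smul_zero])
  let e₁ : (I ⊗[A] I') ≃ₗ[A] Ideal.span {G} :=
    (LinearEquiv.ofInjective μ hinj).trans (LinearEquiv.ofEq _ _ hrange)
  let e₂ : A ≃ₗ[A] Ideal.span {G} :=
    (LinearEquiv.ofInjective (LinearMap.toSpanSingleton A A G) (fun p q hpq => hG (by
      simpa [mul_comm] using hpq))).trans
      (LinearEquiv.ofEq _ _ (LinearMap.range_toSpanSingleton G))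
  exact Module.Invertible.left (e₁.trans e₂.symm)

end General

section Laurent

variable {R : Type u} [CommRing R] [HenselianLocalRing R] {B : Type u} [CommRing B]
  [Algebra R B] [Algebra R[X] B] [IsScalarTower R R[X] B]
  (hB : Hens2.IsPairHenselization R[X] (Ideal.span {(X : R[X])}) B)
  {L : Type u} [CommRing L] [Algebra B L] [Algebra R L] [IsScalarTower R B L]
  [IsLocalization.Away (algebraMap R[X] B X) L] [Nontrivial L]
  (ψ : R[X] →ₐ[R] L) (hψ : ψ X * algebraMap B L (algebraMap R[X] B X) = 1)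

variable (R) in
/-- The ideal of the special fibre in `R[X]`. -/
noncomputable abbrev mP : Ideal R[X] := (IsLocalRing.maximalIdeal R).map (algebraMap R R[X])

variable (R L) in
/-- The ideal of the special fibre in the henselian Laurent ring. -/
noncomputable abbrev mL : Ideal L := (IsLocalRing.maximalIdeal R).map (algebraMap R L)

theorem map_mP : (mP R).map ψ.toRingHom = mL R L := by
  rw [Ideal.map_map]
  congr 1
  exact RingHom.ext fun r => ψ.commutes r

include hB hψ in
theorem decomp (l : L) (hl : l ∉ mL R L) :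
    ∃ G : R[X], G - 1 ∈ mP R ∧ ∃ u : Lˣ, l = ψ G * u := by
  have hψC : ∀ r : R, ψ (C r) = algebraMap R L r := fun r => ψ.commutes r
  have hBC : ∀ r : R, algebraMap B L (algebraMap R[X] B (C r)) = algebraMap R L r := by
    intro r
    rw [← Polynomial.algebraMap_eq, ← IsScalarTower.algebraMap_apply R R[X] B,
      ← IsScalarTower.algebraMap_apply R B L]
  have hXu : IsUnit (algebraMap B L (algebraMap R[X] B X)) :=
    IsLocalization.Away.algebraMap_isUnit (algebraMap R[X] B X)
  obtain ⟨k, b, hkb⟩ := IsLocalization.Away.surj (algebraMap R[X] B X) l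
  have hb : b ∉ ((IsLocalRing.maximalIdeal R).map (C : R →+* R[X])).map (algebraMap R[X] B) := by
    intro hb
    refine hl ?_
    have h1 := Ideal.mem_map_of_mem (algebraMap B L) hb
    rw [← hkb, Ideal.map_map, Ideal.map_map, show ((algebraMap B L).comp (algebraMap R[X] B)).comp C = algebraMap R L from
      RingHom.ext hBC] at h1
    exact (Ideal.mul_unit_mem_iff_mem _ (hXu.pow k)).1 h1
  obtain ⟨d, c, hc, u, hbu⟩ := Groth.Agent.H3CAlg.HenselWeierstrass.exists_monic hB b hb
  let F : R[X] := 1 - ∑ i : Fin d, C (c i) * X ^ (d - (i : ℕ))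
  have h3 : ψ F * algebraMap B L (algebraMap R[X] B X) ^ d =
      algebraMap B L (algebraMap R[X] B (X ^ d - ∑ i : Fin d, C (c i) * X ^ (i : ℕ))) := by
    simp only [F, map_sub, map_one, map_sum, map_mul, map_pow, hψC, hBC, sub_mul, one_mul, Finset.sum_mul]
    congr 1
    refine Finset.sum_congr rfl fun i _ => ?_
    rw [mul_assoc]
    congr 1
    calc ψ X ^ (d - (i : ℕ)) * algebraMap B L (algebraMap R[X] B X) ^ d
        = ψ X ^ (d - (i : ℕ)) * algebraMap B L (algebraMap R[X] B X) ^ ((d - (i : ℕ)) + (i : ℕ)) := by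
          rw [Nat.sub_add_cancel i.isLt.le]
      _ = (ψ X * algebraMap B L (algebraMap R[X] B X)) ^ (d - (i : ℕ)) *
          algebraMap B L (algebraMap R[X] B X) ^ (i : ℕ) := by ring
      _ = _ := by rw [hψ, one_pow, one_mul]
  refine ⟨F, ?_, hXu.unit ^ d * Units.map (algebraMap B L : B →* L) u * (hXu.unit ^ k)⁻¹, ?_⟩
  · simp only [F, sub_sub_cancel_left]
    exact neg_mem (sum_mem fun i _ => Ideal.mul_mem_right _ _ (Ideal.mem_map_of_mem _ (hc i)))
  · have h4 : l * algebraMap B L (algebraMap R[X] B X) ^ k =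
        ψ F * algebraMap B L (algebraMap R[X] B X) ^ d * algebraMap B L (u : B) := by
      rw [hkb, hbu, map_mul, h3]
    rw [Units.val_mul, Units.val_mul, Units.val_pow_eq_pow_val, IsUnit.unit_spec, Units.coe_map,
      ← mul_assoc, ← mul_assoc, MonoidHom.coe_coe, ← h4]
    rw [show algebraMap B L (algebraMap R[X] B X) ^ k = ((hXu.unit ^ k : Lˣ) : L) by simp, Units.mul_inv_cancel_right]

theorem regular_poly {G : R[X]} (hG : G - 1 ∈ mP R) : IsSMulRegular R[X] G := by
  have h0 : IsUnit (PowerSeries.constantCoeff (G : PowerSeries R)) := by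
    rw [Polynomial.constantCoeff_coe]
    by_contra h
    have h1 : (G - 1).coeff 0 ∈ IsLocalRing.maximalIdeal R := Ideal.mem_map_C_iff.1 hG 0
    rw [coeff_sub, coeff_one_zero] at h1
    have h2 := sub_mem ((IsLocalRing.mem_maximalIdeal (G.coeff 0)).2 h) h1
    rw [sub_sub_cancel] at h2
    exact (IsLocalRing.mem_maximalIdeal _).1 h2 isUnit_one
  have hu : IsUnit (G : PowerSeries R) := PowerSeries.isUnit_iff_constantCoeff.2 h0
  intro p q hpq
  simp only [smul_eq_mul] at hpq
  exact Polynomial.coe_inj.1 (hu.mul_left_cancel (by rw [← Polynomial.coe_mul, ← Polynomial.coe_mul, hpq]))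

theorem sup_mP {G : R[X]} (hG : G - 1 ∈ mP R) : Ideal.span {G} ⊔ mP R = ⊤ := by
  rw [Ideal.eq_top_iff_one, show (1 : R[X]) = G + -(G - 1) by ring]
  exact Submodule.add_mem_sup (Ideal.mem_span_singleton_self G) (neg_mem hG)

include hB hψ in
theorem regular_map {G : R[X]} (hG : G - 1 ∈ mP R) : IsSMulRegular L (ψ G) := by
  -- clear denominators: `ψ G * t ^ e` is the image of a polynomial with unit leading coefficient
  classical
  let t : L := algebraMap B L (algebraMap R[X] B X)
  have hXu : IsUnit t := IsLocalization.Away.algebraMap_isUnit (algebraMap R[X] B X)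
  let e := G.natDegree
  let P : R[X] := ∑ i ∈ Finset.range (e + 1), C (G.coeff i) * X ^ (e - i)
  have hP : ψ G * t ^ e = algebraMap B L (algebraMap R[X] B P) := by
    conv_lhs => rw [G.as_sum_range_C_mul_X_pow]
    simp only [P, map_sum, map_mul, map_pow, Finset.sum_mul]
    refine Finset.sum_congr rfl fun i hi => ?_
    have hi' : i ≤ e := Nat.lt_succ_iff.1 (Finset.mem_range.1 hi)
    rw [show ψ (C (G.coeff i)) = algebraMap R L (G.coeff i) from ψ.commutes _,
      ← Polynomial.algebraMap_eq, ← IsScalarTower.algebraMap_apply R R[X] B, ← IsScalarTower.algebraMap_apply R B L,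
      mul_assoc]
    congr 1
    obtain ⟨j, hj⟩ := Nat.exists_eq_add_of_le hi'
    rw [hj, Nat.add_sub_cancel_left, pow_add, ← mul_assoc, ← mul_pow, hψ, one_pow, one_mul]
  have h0 : IsUnit (G.coeff 0) := by
    by_contra h
    have h1 : (G - 1).coeff 0 ∈ IsLocalRing.maximalIdeal R := Ideal.mem_map_C_iff.1 hG 0
    rw [coeff_sub, coeff_one_zero] at h1
    have h2 := sub_mem ((IsLocalRing.mem_maximalIdeal (G.coeff 0)).2 h) h1
    rw [sub_sub_cancel] at h2
    exact (IsLocalRing.mem_maximalIdeal _).1 h2 isUnit_one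
  have hPdeg : P.natDegree ≤ e :=
    natDegree_sum_le_of_forall_le _ _ fun i _ => (natDegree_C_mul_X_pow_le _ _).trans (Nat.sub_le _ _)
  have hPe : P.coeff e = G.coeff 0 := by
    simp only [P, finsetSum_coeff, coeff_C_mul_X_pow]
    rw [Finset.sum_eq_single 0]
    · simp
    · intro i hi hi0
      rw [if_neg]
      have := Finset.mem_range.1 hi
      omega
    · simp
  obtain ⟨w, hw⟩ := h0.exists_left_inv
  have hmonic : (C w * P).Monic :=
    monic_of_natDegree_le_of_coeff_eq_one e ((natDegree_C_mul_le _ _).trans hPdeg) (by rw [coeff_C_mul, hPe, hw])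
  have hregB : IsSMulRegular B (algebraMap R[X] B P) := by
    intro x y hxy
    refine Groth.Agent.H3CAlg.HenselWeierstrass.isSMulRegular_of_monic hB _ hmonic ?_
    simp only [smul_eq_mul] at hxy
    simp only [Algebra.smul_def, map_mul]
    linear_combination algebraMap R[X] B (C w) * hxy
  haveI : Module.Flat B L := IsLocalization.flat L (Submonoid.powers (algebraMap R[X] B X))
  have hregL : IsSMulRegular L (algebraMap B L (algebraMap R[X] B P)) := IsSMulRegular.of_flat hregB
  rw [← hP] at hregL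
  intro x y hxy
  refine hregL ?_
  simp only [smul_eq_mul] at hxy ⊢
  linear_combination t ^ e * hxy

include hB hψ in
theorem mL_isMaximal : (mL R L).IsMaximal := by
  obtain ⟨-, h2⟩ := Groth.Agent.H3CAlg.HenselLaurent.ideals_equiv R B hB L ψ hψ
  have hne : mL R L ≠ ⊤ := by
    intro htop
    obtain ⟨-, hsup⟩ := h2 ⊥ (by rw [bot_sup_eq]; exact htop)
    obtain ⟨G, hG, μ, hμ, hGμ⟩ := Submodule.mem_sup.1 ((Ideal.eq_top_iff_one _).1 hsup)
    have hG1 : G - 1 ∈ mP R := by rw [← hGμ, sub_add_cancel_left]; exact neg_mem hμ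
    have h0 : ψ G = 0 := hG
    exact not_subsingleton L (subsingleton_of_forall_eq 0 fun x =>
      (regular_map hB ψ hψ hG1) (show ψ G • x = ψ G • 0 by rw [h0, zero_smul, zero_smul]))
  refine Ideal.isMaximal_iff.2 ⟨fun h1 => hne ((Ideal.eq_top_iff_one _).2 h1), fun J l hle hl hlJ => ?_⟩
  obtain ⟨G, hG, u, rfl⟩ := decomp hB ψ hψ l hl
  have h1 : ψ G ∈ J := (Ideal.mul_unit_mem_iff_mem J u.isUnit).1 hlJ
  have h2' : ψ G - 1 ∈ mL R L := by
    rw [← map_mP ψ, ← map_one ψ, ← map_sub]
    exact Ideal.mem_map_of_mem ψ.toRingHom hG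
  rw [show (1 : L) = ψ G - (ψ G - 1) by ring]
  exact sub_mem h1 (hle h2')

include hB hψ in
theorem regular_of_notMem (l : L) (hl : l ∉ mL R L) : IsSMulRegular L l := by
  obtain ⟨G, hG, u, rfl⟩ := decomp hB ψ hψ l hl
  exact (regular_map hB ψ hψ hG).mul (u.isUnit.isSMulRegular L)

include hB hψ in
theorem comap_span {g : L} (hg : g ∉ mL R L) :
    ∃ G : R[X], G - 1 ∈ mP R ∧ (Ideal.span {g}).comap ψ.toRingHom = Ideal.span {G} := by
  obtain ⟨G, hG, u, rfl⟩ := decomp hB ψ hψ g hg
  refine ⟨G, hG, ?_⟩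
  rw [Ideal.span_singleton_mul_right_unit u.isUnit]
  have := ((Groth.Agent.H3CAlg.HenselLaurent.ideals_equiv R B hB L ψ hψ).1 (Ideal.span {G}) (sup_mP hG)).1
  rwa [Ideal.map_span, Set.image_singleton] at this

variable [Algebra R[X] L] (hL : algebraMap R[X] L = ψ.toRingHom)

include hL in
theorem range_liftBaseChange {M : Type u} [AddCommGroup M] [Module R[X] M] (φ : M →ₗ[R[X]] R[X]) :
    LinearMap.range (LinearMap.liftBaseChange L ((Algebra.linearMap R[X] L) ∘ₗ φ)) =
      Ideal.map (algebraMap R[X] L) (LinearMap.range φ) := by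
  refine le_antisymm ?_ ((Ideal.map_le_iff_le_comap (I := (LinearMap.range φ : Ideal R[X]))).2 ?_)
  · rintro _ ⟨z, rfl⟩
    induction z using TensorProduct.induction_on with
    | zero => simp
    | tmul l x =>
      rw [LinearMap.liftBaseChange_tmul]
      exact Ideal.mul_mem_left _ _ (Ideal.mem_map_of_mem _ ⟨x, rfl⟩)
    | add p q hp hq => rw [map_add]; exact add_mem hp hq
  · rintro _ ⟨x, rfl⟩
    exact ⟨1 ⊗ₜ x, by simp⟩

include hB hψ hL in
/-- Invertible `R[X]`-modules which become free over the henselian Laurent ring are free. -/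
theorem free_of_free (M : Type u) [AddCommGroup M] [Module R[X] M] [Module.Invertible R[X] M]
    [Module.Free L (L ⊗[R[X]] M)] : Module.Free R[X] M := by
  obtain ⟨-, -⟩ : True ∧ True := ⟨trivial, trivial⟩
  haveI : Module.Free (R[X] ⧸ mP R) ((R[X] ⧸ mP R) ⊗[R[X]] M) := by
    haveI : (IsLocalRing.maximalIdeal R).IsPrime := inferInstance
    let e := (Ideal.polynomialQuotientEquivQuotientPolynomial (IsLocalRing.maximalIdeal R))
    haveI : IsDomain (R[X] ⧸ mP R) := e.symm.toMulEquiv.isDomain _
    haveI : IsPrincipalIdealRing (R[X] ⧸ mP R) :=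
      letI := Ideal.Quotient.field (IsLocalRing.maximalIdeal R)
      IsPrincipalIdealRing.of_surjective e.toRingHom e.surjective
    exact Module.free_of_finite_type_torsion_free'
  obtain ⟨φ, n₁, hn₁⟩ := exists_functional (A := R[X]) (M := M) (mP R)
  let Φ := LinearMap.liftBaseChange L ((Algebra.linearMap R[X] L) ∘ₗ φ)
  have hΦ1 : Φ (1 ⊗ₜ n₁) = ψ (φ n₁) := by simp [Φ, hL]
  have hinj : Function.Injective Φ := injective_of_regular Φ (1 ⊗ₜ n₁) (hΦ1 ▸ regular_map hB ψ hψ hn₁)
  obtain ⟨e⟩ := Module.Invertible.free_iff_linearEquiv.1 ‹Module.Free L (L ⊗[R[X]] M)›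
  set g := Φ (e.symm 1) with hgdef
  have hrange : LinearMap.range Φ = Ideal.span {g} := by
    refine le_antisymm ?_ ((Ideal.span_singleton_le_iff_mem _).2 ⟨_, rfl⟩)
    rintro _ ⟨z, rfl⟩
    obtain ⟨c, rfl⟩ := e.symm.surjective z
    rw [← mul_one c, ← smul_eq_mul, map_smul, map_smul]
    exact Ideal.mul_mem_left _ c (Ideal.mem_span_singleton_self _)
  have hI : (LinearMap.range φ : Ideal R[X]) ⊔ mP R = ⊤ := by
    rw [eq_top_iff, ← sup_mP hn₁]
    refine sup_le_sup_right ((Ideal.span_singleton_le_iff_mem _).2 ?_) _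
    exact LinearMap.mem_range_self φ n₁
  obtain ⟨hcomap, hsup, -⟩ := (Groth.Agent.H3CAlg.HenselLaurent.ideals_equiv R B hB L ψ hψ).1 _ hI
  have hmap : Ideal.map ψ.toRingHom (LinearMap.range φ) = Ideal.span {g} := by
    rw [← hrange, range_liftBaseChange ψ hL φ, hL]
  rw [hmap] at hcomap hsup
  have hg : g ∉ mL R L := fun h => (mL_isMaximal hB ψ hψ).ne_top
    (top_le_iff.1 (hsup ▸ sup_le ((Ideal.span_singleton_le_iff_mem _).2 h) le_rfl))
  obtain ⟨G, hG, hspan⟩ := comap_span hB ψ hψ hg
  rw [hcomap] at hspan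
  exact Module.Free.of_equiv
    ((LinearEquiv.ofInjective φ (injective_of_regular φ n₁ (regular_poly hn₁))).trans
      ((LinearEquiv.ofEq _ _ hspan).trans
        ((LinearEquiv.ofInjective (LinearMap.toSpanSingleton R[X] R[X] G)
          (fun p q hpq => regular_poly hG (by simpa [mul_comm] using hpq))).trans
          (LinearEquiv.ofEq _ _ (LinearMap.range_toSpanSingleton G))).symm)).symm

include hB hψ hL in
theorem nonempty_equiv_map (I : Ideal R[X]) [Module.Invertible R[X] I] (G : R[X]) (hGI : G ∈ I)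
    (hG : G - 1 ∈ mP R) : Nonempty ((L ⊗[R[X]] I) ≃ₗ[L] Ideal.map ψ.toRingHom I) := by
  let Φ := LinearMap.liftBaseChange L ((Algebra.linearMap R[X] L) ∘ₗ I.subtype)
  have hΦ1 : Φ (1 ⊗ₜ ⟨G, hGI⟩) = ψ G := by simp [Φ, hL]
  have hinj : Function.Injective Φ := injective_of_regular Φ (1 ⊗ₜ ⟨G, hGI⟩) (hΦ1 ▸ regular_map hB ψ hψ hG)
  have hr : LinearMap.range Φ = Ideal.map ψ.toRingHom I := by
    rw [range_liftBaseChange ψ hL I.subtype, Submodule.range_subtype, hL]
  exact ⟨(LinearEquiv.ofInjective Φ hinj).trans (LinearEquiv.ofEq _ _ hr)⟩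

include hB hψ hL in
set_option maxHeartbeats 800000 in
/-- Invertible modules over the henselian Laurent ring come from `R[X]`. -/
theorem exists_of_invertible (N : Type u) [AddCommGroup N] [Module L N] [Module.Invertible L N] :
    ∃ (M : Type u) (_ : AddCommGroup M) (_ : Module R[X] M), Module.Invertible R[X] M ∧
      Nonempty (N ≃ₗ[L] L ⊗[R[X]] M) := by
  haveI := mL_isMaximal hB ψ hψ
  letI := Ideal.Quotient.field (mL R L)
  haveI : Module.Free (L ⧸ mL R L) ((L ⧸ mL R L) ⊗[L] N) := Module.Free.of_divisionRing _ _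
  obtain ⟨φ, n, hn⟩ := exists_functional (A := L) (M := N) (mL R L)
  have hn' : φ n ∉ mL R L := fun h => Ideal.IsMaximal.ne_top inferInstance
    ((Ideal.eq_top_iff_one (mL R L)).2 (by simpa using sub_mem h hn))
  have hinj := injective_of_regular φ n (regular_of_notMem hB ψ hψ _ hn')
  let J : Ideal L := LinearMap.range φ
  let J' : Ideal L := LinearMap.range (Module.Dual.eval L N n)
  have hnJ : φ n ∈ J := ⟨n, rfl⟩
  have hnJ' : φ n ∈ J' := ⟨φ, rfl⟩
  have hJJ' : J * J' = Ideal.span {φ n} := by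
    refine le_antisymm (Ideal.mul_le.2 ?_) ((Ideal.span_singleton_le_iff_mem _).2 ?_)
    · rintro _ ⟨a, rfl⟩ _ ⟨χ, rfl⟩
      show φ a * χ n ∈ _
      have := congrArg χ (smul_comm_of_invertible φ a n)
      rw [map_smul, map_smul, smul_eq_mul, smul_eq_mul] at this
      rw [this]
      exact Ideal.mul_mem_right _ _ (Ideal.mem_span_singleton_self _)
    · obtain ⟨z, hz⟩ := (Module.Invertible.linearEquiv L N).surjective 1
      have key : ∀ z : Module.Dual L N ⊗[L] N, φ n * contractLeft L N z ∈ J * J' := by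
        intro z
        induction z using TensorProduct.induction_on with
        | zero => simp
        | tmul χ a =>
          rw [contractLeft_apply]
          have := congrArg χ (smul_comm_of_invertible φ a n)
          rw [map_smul, map_smul, smul_eq_mul, smul_eq_mul] at this
          rw [← this]
          exact Ideal.mul_mem_mul ⟨a, rfl⟩ ⟨χ, rfl⟩
        | add p q hp hq => rw [map_add, mul_add]; exact add_mem hp hq
      have := key z
      rwa [show contractLeft L N z = 1 from hz, mul_one] at this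
  have hsup : ∀ K : Ideal L, φ n ∈ K → K ⊔ mL R L = ⊤ := fun K hK => by
    rw [Ideal.eq_top_iff_one, show (1 : L) = φ n + -(φ n - 1) by ring]
    exact Submodule.add_mem_sup hK (neg_mem hn)
  obtain ⟨h1, h2⟩ := Groth.Agent.H3CAlg.HenselLaurent.ideals_equiv R B hB L ψ hψ
  obtain ⟨hJmap, hIsup⟩ := h2 J (hsup J hnJ)
  obtain ⟨hJ'map, hI'sup⟩ := h2 J' (hsup J' hnJ')
  set I := J.comap ψ.toRingHom with hI
  set I' := J'.comap ψ.toRingHom with hI'
  obtain ⟨G, hG, hGspan⟩ := comap_span hB ψ hψ hn'
  have hII' : I * I' = Ideal.span {G} := by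
    have hII'sup : I * I' ⊔ mP R = ⊤ := by
      exact mul_sup_eq_top hIsup hI'sup
    have := (h1 _ hII'sup).1
    rw [Ideal.map_mul, hJmap, hJ'map, hJJ', hGspan] at this
    exact this.symm
  haveI : Module.Invertible R[X] I := invertible_of_mul_eq_span I I' G (regular_poly hG) hII'
  have hG' : G ∈ I := Ideal.mul_le_left (hII' ▸ Ideal.mem_span_singleton_self G)
  obtain ⟨e⟩ := nonempty_equiv_map hB ψ hψ hL I G hG' hG
  rw [hJmap] at e
  exact ⟨I, inferInstance, inferInstance, inferInstance, ⟨(LinearEquiv.ofInjective φ hinj).trans e.symm⟩⟩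

end Laurent

end Groth.Agent.H3CAlg.HenselLaurentPic
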