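import Groth.Agent.H9Hens.Hfp
import Groth.Agent.H3CAlg.HenselFactor
import Mathlib

/-!
# Weierstrass preparation in the henselization of `(R[X], (X))`
-/

set_option autoImplicit false

universe u

open Polynomial IsLocalRing

namespace Groth.Agent.H3CAlg.HenselWeierstrass

section General

variable {A B : Type u} [CommRing A] [CommRing B] [Algebra A B] (J : Ideal A)
  (hb : Function.Bijective (Ideal.quotientMap (J.map (algebraMap A B)) (algebraMap A B) Ideal.le_comap_map))

include hb in
theorem comap_map_sup (K : Ideal A) :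
    ((K ⊔ J).map (algebraMap A B)).comap (algebraMap A B) = K ⊔ J := by
  refine le_antisymm (fun a ha => ?_) Ideal.le_comap_map
  have h1 : (K ⊔ J).map (algebraMap A B) ≤
      ((K ⊔ J).map (Ideal.Quotient.mk J)).comap
        ((RingEquiv.ofBijective _ hb).symm.toRingHom.comp (Ideal.Quotient.mk (J.map (algebraMap A B)))) := by
    rw [Ideal.map_le_iff_le_comap]
    intro x hx
    rw [Ideal.mem_comap, Ideal.mem_comap]
    have : (RingEquiv.ofBijective _ hb).symm (Ideal.Quotient.mk (J.map (algebraMap A B)) (algebraMap A B x)) =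
        Ideal.Quotient.mk J x := by
      rw [RingEquiv.symm_apply_eq]
      rfl
    simp only [RingHom.comp_apply, RingEquiv.toRingHom_eq_coe, RingEquiv.coe_toRingHom, this]
    exact Ideal.mem_map_of_mem _ hx
  have h2 := h1 ha
  rw [Ideal.mem_comap] at h2
  have : (RingEquiv.ofBijective _ hb).symm (Ideal.Quotient.mk (J.map (algebraMap A B)) (algebraMap A B a)) =
      Ideal.Quotient.mk J a := by
    rw [RingEquiv.symm_apply_eq]
    rfl
  simp only [RingHom.comp_apply, RingEquiv.toRingHom_eq_coe, RingEquiv.coe_toRingHom, this] at h2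
  obtain ⟨y, hy, hya⟩ := (Ideal.mem_map_iff_of_surjective _ Ideal.Quotient.mk_surjective).mp h2
  rw [Ideal.Quotient.eq] at hya
  rw [← sub_sub_cancel y a]
  exact sub_mem hy (Submodule.mem_sup_right hya)

theorem isNoetherianRing_quotient_map {A : Type u} [CommRing A] (I : Ideal A) [IsNoetherianRing (A ⧸ I)]
    (S : Type u) [CommRing S] [Algebra A S] [Algebra.FiniteType A S] :
    IsNoetherianRing (S ⧸ I.map (algebraMap A S)) := by
  have h : (Ideal.quotientMap (I.map (algebraMap A S)) (algebraMap A S) Ideal.le_comap_map).FiniteType := by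
    refine RingHom.FiniteType.of_comp_finiteType (f := Ideal.Quotient.mk I) ?_
    rw [Ideal.quotientMap_comp_mk]
    exact (RingHom.FiniteType.of_surjective _ Ideal.Quotient.mk_surjective).comp
      (RingHom.finiteType_algebraMap.mpr inferInstance)
  let : Algebra (A ⧸ I) (S ⧸ I.map (algebraMap A S)) :=
    (Ideal.quotientMap (I.map (algebraMap A S)) (algebraMap A S) Ideal.le_comap_map).toAlgebra
  have : Algebra.FiniteType (A ⧸ I) (S ⧸ I.map (algebraMap A S)) := h
  exact Algebra.FiniteType.isNoetherianRing (A ⧸ I) _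

end General

variable {R : Type u} [CommRing R] {B : Type u} [CommRing B] [Algebra R[X] B]

/-- In an algebra with the same reduction modulo `X`, elements are polynomials modulo powers of `X`. -/
theorem exists_poly_mod_pow (hs : Function.Surjective (Ideal.quotientMap
      ((Ideal.span {(X : R[X])}).map (algebraMap R[X] B)) (algebraMap R[X] B) Ideal.le_comap_map))
    (n : ℕ) (b : B) : ∃ (c : Fin n → R) (t : B),
      b = (∑ i, algebraMap R[X] B (C (c i)) * algebraMap R[X] B X ^ (i : ℕ)) + algebraMap R[X] B X ^ n * t := by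
  induction n with
  | zero => exact ⟨Fin.elim0, b, by simp⟩
  | succ n ih =>
    obtain ⟨c, t, ht⟩ := ih
    obtain ⟨y, hy⟩ := hs (Ideal.Quotient.mk _ t)
    obtain ⟨p, rfl⟩ := Ideal.Quotient.mk_surjective y
    rw [Ideal.quotientMap_mk, Ideal.Quotient.eq, Ideal.map_span, Set.image_singleton,
      Ideal.mem_span_singleton'] at hy
    obtain ⟨v, hv⟩ := hy
    refine ⟨Fin.snoc c (p.coeff 0), algebraMap R[X] B p.divX - v, ?_⟩
    rw [Fin.sum_univ_castSucc]
    simp only [Fin.snoc_castSucc, Fin.snoc_last, Fin.val_castSucc, Fin.val_last]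
    have hp : algebraMap R[X] B p =
        algebraMap R[X] B X * algebraMap R[X] B p.divX + algebraMap R[X] B (C (p.coeff 0)) := by
      rw [← map_mul, ← map_add, X_mul_divX_add]
    rw [ht, pow_succ, add_assoc]
    congr 1
    linear_combination (algebraMap R[X] B X ^ n) * (hv + hp)

section Hens

variable (hB : Hens2.IsPairHenselization R[X] (Ideal.span {(X : R[X])}) B)

include hB

theorem bijective_pow (n : ℕ) :
    Function.Bijective (Ideal.quotientMap ((Ideal.span {(X : R[X]) ^ n}).map (algebraMap R[X] B))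
      (algebraMap R[X] B) Ideal.le_comap_map) := by
  have h := H9Hens.pairHenselization_quotient_pow_bijective hB n
  have key : ∀ J : Ideal R[X], J = Ideal.span {(X : R[X]) ^ n} →
      Function.Bijective (Ideal.quotientMap (J.map (algebraMap R[X] B)) (algebraMap R[X] B) Ideal.le_comap_map) →
      Function.Bijective (Ideal.quotientMap ((Ideal.span {(X : R[X]) ^ n}).map (algebraMap R[X] B))
        (algebraMap R[X] B) Ideal.le_comap_map) := by
    rintro J rfl hJ
    exact hJ
  exact key _ (Ideal.span_singleton_pow X n) h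

theorem surjective_one :
    Function.Surjective (Ideal.quotientMap
      ((Ideal.span {(X : R[X])}).map (algebraMap R[X] B)) (algebraMap R[X] B) Ideal.le_comap_map) := by
  have h := (bijective_pow hB 1).2
  have key : ∀ J : Ideal R[X], J = Ideal.span {(X : R[X])} →
      Function.Surjective (Ideal.quotientMap (J.map (algebraMap R[X] B)) (algebraMap R[X] B) Ideal.le_comap_map) →
      Function.Surjective (Ideal.quotientMap ((Ideal.span {(X : R[X])}).map (algebraMap R[X] B))
        (algebraMap R[X] B) Ideal.le_comap_map) := by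
    rintro J rfl hJ
    exact hJ
  exact key _ (by rw [pow_one]) h

theorem X_mem_jacobson : algebraMap R[X] B X ∈ Ideal.jacobson (⊥ : Ideal B) :=
  have := hB.1
  HenselianRing.jac (I := (Ideal.span {(X : R[X])}).map (algebraMap R[X] B))
    (Ideal.mem_map_of_mem _ (Ideal.mem_span_singleton_self X))

variable [IsLocalRing R]

theorem isUnit_or_mem (b : B) :
    IsUnit b ∨ b ∈ (((maximalIdeal R).map (C : R →+* R[X])).map (algebraMap R[X] B)) ⊔ Ideal.span {algebraMap R[X] B X} := by
  obtain ⟨c, t, rfl⟩ := exists_poly_mod_pow (surjective_one hB) 1 b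
  simp only [Fin.sum_univ_one, Fin.val_zero, pow_zero, mul_one, pow_one]
  by_cases h : c 0 ∈ maximalIdeal R
  · exact Or.inr (Submodule.add_mem_sup (Ideal.mem_map_of_mem _ (Ideal.mem_map_of_mem _ h))
      (Ideal.mul_mem_right _ _ (Ideal.mem_span_singleton_self _)))
  · left
    obtain ⟨u, hu⟩ := ((notMem_maximalIdeal.mp h).map C).map (algebraMap R[X] B)
    rw [← hu]
    have h1 : IsUnit (1 + algebraMap R[X] B X * (t * ((u⁻¹ : Bˣ) : B))) := by
      have := Ideal.mem_jacobson_bot.mp (X_mem_jacobson hB) (t * ((u⁻¹ : Bˣ) : B))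
      rwa [add_comm] at this
    have h2 : (u : B) + algebraMap R[X] B X * t =
        (u : B) * (1 + algebraMap R[X] B X * (t * ((u⁻¹ : Bˣ) : B))) := by
      rw [mul_add, mul_one, mul_left_comm, mul_comm t, ← mul_assoc (u : B), u.mul_inv, one_mul]
    rw [h2]
    exact u.isUnit.mul h1

theorem mem_jacobson_of_mem {b : B} (h : b ∈ (((maximalIdeal R).map (C : R →+* R[X])).map (algebraMap R[X] B)) ⊔ Ideal.span {algebraMap R[X] B X}) :
    b ∈ Ideal.jacobson (⊥ : Ideal B) := by
  rw [Ideal.mem_jacobson_bot]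
  intro y
  refine (isUnit_or_mem hB _).resolve_right fun h' => ?_
  have h1 : (1 : B) ∈ (((maximalIdeal R).map (C : R →+* R[X])).map (algebraMap R[X] B)) ⊔ Ideal.span {algebraMap R[X] B X} := by
    have := sub_mem h' (Ideal.mul_mem_right y _ h)
    rwa [add_sub_cancel_left] at this
  have hle : (((maximalIdeal R).map (C : R →+* R[X])).map (algebraMap R[X] B)) ⊔ Ideal.span {algebraMap R[X] B X} =
      ((maximalIdeal R).map (C : R →+* R[X]) ⊔ Ideal.span {(X : R[X]) ^ 1}).map (algebraMap R[X] B) := by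
    rw [Ideal.map_sup, Ideal.map_span, Set.image_singleton, pow_one]
  rw [hle, ← map_one (algebraMap R[X] B), ← Ideal.mem_comap, comap_map_sup _ (bijective_pow hB 1),
    Submodule.mem_sup] at h1
  obtain ⟨a, ha, c, hc, hac⟩ := h1
  obtain ⟨v, rfl⟩ := Ideal.mem_span_singleton'.mp hc
  have := congrArg (fun q => q.coeff 0) hac
  simp only [coeff_add, pow_one, mul_coeff_zero, coeff_X_zero, mul_zero, add_zero, coeff_one_zero] at this
  exact (maximalIdeal.isMaximal R).ne_top ((Ideal.eq_top_iff_one _).mpr (this ▸ Ideal.mem_map_C_iff.mp ha 0))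

/-- An etale chart through a given element. -/
theorem exists_chart (b : B) :
    ∃ (S : Type u) (_ : CommRing S) (_ : Algebra R[X] S) (_ : Algebra.Etale R[X] S) (φ : S →ₐ[R[X]] B)
      (s : S), Function.Surjective (Ideal.quotientMap ((Ideal.span {(X : R[X])}).map (algebraMap R[X] S))
        (algebraMap R[X] S) Ideal.le_comap_map) ∧ φ s = b := by
  obtain ⟨π, hπ⟩ := H9Hens.exists_isPtColim_of_isPairHenselization hB
  obtain ⟨S, _, _, hS, hbij, φ, s, hs⟩ := hπ.exists_rep_nbhd b
  exact ⟨S, inferInstance, inferInstance, hS, φ, s, hbij.2, hs⟩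

omit [IsLocalRing R] in
theorem comap_chart {S : Type u} [CommRing S] [Algebra R[X] S] (φ : S →ₐ[R[X]] B)
    (hs : Function.Surjective (Ideal.quotientMap ((Ideal.span {(X : R[X])}).map (algebraMap R[X] S))
      (algebraMap R[X] S) Ideal.le_comap_map))
    (K : Ideal R[X]) (n : ℕ) (s : S)
    (h : φ s ∈ K.map (algebraMap R[X] B) ⊔ Ideal.span {algebraMap R[X] B X ^ n}) :
    s ∈ K.map (algebraMap R[X] S) ⊔ Ideal.span {algebraMap R[X] S X ^ n} := by
  obtain ⟨c, t, rfl⟩ := exists_poly_mod_pow hs n s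
  let p : R[X] := ∑ i, C (c i) * X ^ (i : ℕ)
  have hp : ∀ {T : Type u} [CommRing T] [Algebra R[X] T],
      algebraMap R[X] T p = ∑ i, algebraMap R[X] T (C (c i)) * algebraMap R[X] T X ^ (i : ℕ) := by
    intro T _ _
    simp only [p, map_sum, map_mul, map_pow]
  rw [← hp] at h ⊢
  rw [map_add, AlgHom.commutes, map_mul, map_pow, AlgHom.commutes] at h
  have h' : algebraMap R[X] B p ∈ K.map (algebraMap R[X] B) ⊔ Ideal.span {algebraMap R[X] B X ^ n} := by
    rw [← add_sub_cancel_right (algebraMap R[X] B p) (algebraMap R[X] B X ^ n * φ t)]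
    exact sub_mem h (Submodule.mem_sup_right (Ideal.mul_mem_right _ _ (Ideal.mem_span_singleton_self _)))
  have heq : ∀ (T : Type u) [CommRing T] [Algebra R[X] T],
      K.map (algebraMap R[X] T) ⊔ Ideal.span {algebraMap R[X] T X ^ n} =
        (K ⊔ Ideal.span {(X : R[X]) ^ n}).map (algebraMap R[X] T) := by
    intro T _ _
    rw [Ideal.map_sup, Ideal.map_span, Set.image_singleton, map_pow]
  rw [heq B, ← Ideal.mem_comap, comap_map_sup _ (bijective_pow hB n)] at h'
  refine add_mem ?_ (Submodule.mem_sup_right (Ideal.mul_mem_right _ _ (Ideal.mem_span_singleton_self _)))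
  rw [heq S]
  exact Ideal.mem_map_of_mem _ h'

/-- The closed fibre of `B` is separated for the `X`-adic topology. -/
theorem mem_of_forall [IsNoetherianRing (ResidueField R)[X]] (b : B)
    (h : ∀ n : ℕ, b ∈ (((maximalIdeal R).map (C : R →+* R[X])).map (algebraMap R[X] B)) ⊔ Ideal.span {algebraMap R[X] B X ^ n}) : b ∈ (((maximalIdeal R).map (C : R →+* R[X])).map (algebraMap R[X] B)) := by
  obtain ⟨S, _, _, hS, φ, s, hs, rfl⟩ := exists_chart hB b
  let M := ((maximalIdeal R).map (C : R →+* R[X])).map (algebraMap R[X] S)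
  have : IsNoetherianRing (R[X] ⧸ (maximalIdeal R).map (C : R →+* R[X])) :=
    isNoetherianRing_of_ringEquiv (ResidueField R)[X] (Ideal.polynomialQuotientEquivQuotientPolynomial _)
  have : IsNoetherianRing (S ⧸ M) := isNoetherianRing_quotient_map ((maximalIdeal R).map (C : R →+* R[X])) S
  let x : S ⧸ M := Ideal.Quotient.mk M (algebraMap R[X] S X)
  have hmem : (Ideal.Quotient.mk M s : S ⧸ M) ∈ (⨅ i, Ideal.span {x} ^ i • ⊤ : Submodule (S ⧸ M) (S ⧸ M)) := by
    rw [Submodule.mem_iInf]
    intro i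
    have h1 := Ideal.mem_map_of_mem (Ideal.Quotient.mk M) (comap_chart hB φ hs _ i s (h i))
    rw [Ideal.map_sup, Ideal.map_quotient_self, bot_sup_eq, Ideal.map_span, Set.image_singleton,
      map_pow] at h1
    rwa [smul_eq_mul, Ideal.mul_top, Ideal.span_singleton_pow]
  obtain ⟨⟨r, hr⟩, hr'⟩ := (Ideal.mem_iInf_smul_pow_eq_bot_iff (Ideal.span {x}) (Ideal.Quotient.mk M s)).mp hmem
  obtain ⟨v, rfl⟩ := Ideal.mem_span_singleton'.mp hr
  obtain ⟨v, rfl⟩ := Ideal.Quotient.mk_surjective v
  have h2 : v * algebraMap R[X] S X * s - s ∈ M := by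
    rw [← Ideal.Quotient.eq, map_mul, map_mul]
    exact hr'
  have h3 := Ideal.mem_map_of_mem φ.toRingHom h2
  rw [Ideal.map_map, AlgHom.toRingHom_eq_coe, AlgHom.comp_algebraMap, RingHom.coe_coe, map_sub,
    map_mul, map_mul, AlgHom.commutes] at h3
  have hu : IsUnit (φ v * algebraMap R[X] B X - 1) := by
    have := Ideal.mem_jacobson_bot.mp (X_mem_jacobson hB) (-φ v)
    rw [← neg_sub, IsUnit.neg_iff]
    convert this using 1
    ring
  rw [show φ v * algebraMap R[X] B X * φ s - φ s = (φ v * algebraMap R[X] B X - 1) * φ s by ring] at h3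
  exact (Submodule.smul_mem_iff_of_isUnit _ hu).mp h3

theorem mem_of_X_mul_mem [IsNoetherianRing (ResidueField R)[X]] (b : B) (h : algebraMap R[X] B X * b ∈ (((maximalIdeal R).map (C : R →+* R[X])).map (algebraMap R[X] B))) :
    b ∈ (((maximalIdeal R).map (C : R →+* R[X])).map (algebraMap R[X] B)) := by
  refine mem_of_forall hB b fun n => ?_
  obtain ⟨c, t, rfl⟩ := exists_poly_mod_pow (surjective_one hB) n b
  let p : R[X] := ∑ i, C (c i) * X ^ (i : ℕ)
  have hp : algebraMap R[X] B p = ∑ i, algebraMap R[X] B (C (c i)) * algebraMap R[X] B X ^ (i : ℕ) := by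
    simp only [p, map_sum, map_mul, map_pow]
  rw [← hp] at h ⊢
  have h1 : algebraMap R[X] B (X * p) ∈
      ((maximalIdeal R).map (C : R →+* R[X]) ⊔ Ideal.span {(X : R[X]) ^ (n + 1)}).map (algebraMap R[X] B) := by
    rw [Ideal.map_sup, Ideal.map_span, Set.image_singleton]
    have : algebraMap R[X] B (X * p) = algebraMap R[X] B X * (algebraMap R[X] B p +
        algebraMap R[X] B X ^ n * t) - algebraMap R[X] B (X ^ (n + 1)) * t := by
      rw [map_mul, map_pow]; ring
    rw [this]
    exact sub_mem (Submodule.mem_sup_left h)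
      (Submodule.mem_sup_right (Ideal.mul_mem_right _ _ (Ideal.mem_span_singleton_self _)))
  rw [← Ideal.mem_comap, comap_map_sup _ (bijective_pow hB (n + 1)), Submodule.mem_sup] at h1
  obtain ⟨a, ha, w, hw, haw⟩ := h1
  obtain ⟨v, rfl⟩ := Ideal.mem_span_singleton'.mp hw
  have hpn : p - X ^ n * v ∈ (maximalIdeal R).map (C : R →+* R[X]) := by
    rw [Ideal.mem_map_C_iff]
    intro i
    have h1 := congrArg (fun q => q.coeff (i + 1)) haw
    simp only [coeff_add, coeff_X_mul, show v * X ^ (n + 1) = X * (X ^ n * v) by ring] at h1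
    rw [coeff_sub, ← h1, add_sub_cancel_right]
    exact Ideal.mem_map_C_iff.mp ha _
  have h4 : algebraMap R[X] B p + algebraMap R[X] B X ^ n * t =
      algebraMap R[X] B (p - X ^ n * v) + algebraMap R[X] B X ^ n * (t + algebraMap R[X] B v) := by
    rw [map_sub, map_mul, map_pow]; ring
  rw [h4]
  exact Submodule.add_mem_sup (Ideal.mem_map_of_mem _ hpn)
    (Ideal.mul_mem_right _ _ (Ideal.mem_span_singleton_self _))

theorem mem_of_pow_mul_mem [IsNoetherianRing (ResidueField R)[X]] (k : ℕ) (b : B)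
    (h : algebraMap R[X] B X ^ k * b ∈ (((maximalIdeal R).map (C : R →+* R[X])).map (algebraMap R[X] B))) : b ∈ (((maximalIdeal R).map (C : R →+* R[X])).map (algebraMap R[X] B)) := by
  induction k generalizing b with
  | zero => simpa using h
  | succ k ih => exact ih b (mem_of_X_mul_mem hB _ (by rwa [← mul_assoc, ← pow_succ']))

end Hens

section Prep

variable [HenselianLocalRing R] (hB : Hens2.IsPairHenselization R[X] (Ideal.span {(X : R[X])}) B)

include hB

/-- Weierstrass preparation. -/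
theorem exists_monic (f : B) (hf : f ∉ ((maximalIdeal R).map (C : R →+* R[X])).map (algebraMap R[X] B)) :
    ∃ (d : ℕ) (c : Fin d → R), (∀ i, c i ∈ maximalIdeal R) ∧ ∃ u : Bˣ,
      f = algebraMap R[X] B (X ^ d - ∑ i : Fin d, C (c i) * X ^ (i : ℕ)) * u := by
  classical
  -- the order of `f` modulo the maximal ideal
  have hex : ∃ n, f ∉ ((maximalIdeal R).map (C : R →+* R[X])).map (algebraMap R[X] B) ⊔
      Ideal.span {algebraMap R[X] B X ^ n} := by
    by_contra! hc
    exact hf (mem_of_forall hB f hc)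
  obtain ⟨d, hd⟩ : ∃ d, Nat.find hex = d + 1 := by
    rcases Nat.eq_zero_or_pos (Nat.find hex) with h | h
    · exact absurd (by simp [h]) (Nat.find_spec hex)
    · exact ⟨_, (Nat.succ_pred_eq_of_pos h).symm⟩
  have hfd := not_not.mp (Nat.find_min hex (show d < Nat.find hex by omega))
  have hfd1 := hd ▸ Nat.find_spec hex
  rcases Nat.eq_zero_or_pos d with hd0 | hd0
  · refine ⟨0, Fin.elim0, fun i => i.elim0, ?_⟩
    rcases isUnit_or_mem hB f with h | h
    · exact ⟨h.unit, by simp⟩
    · exact absurd (by simpa [hd0] using h) hfd1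
  obtain ⟨S, _, _, hS, φ, f₀, hs, hf₀⟩ := exists_chart hB f
  obtain ⟨μ, hμ, w', hw', hμw⟩ := Submodule.mem_sup.mp (comap_chart hB φ hs _ d f₀ (hf₀ ▸ hfd))
  obtain ⟨w, rfl⟩ := Ideal.mem_span_singleton'.mp hw'
  have hwu : IsUnit (φ w) := by
    refine (isUnit_or_mem hB (φ w)).resolve_right fun hw => hfd1 ?_
    have hμB := Ideal.mem_map_of_mem φ.toRingHom hμ
    rw [Ideal.map_map, AlgHom.toRingHom_eq_coe, AlgHom.comp_algebraMap] at hμB
    obtain ⟨a, ha, z, hz, haz⟩ := Submodule.mem_sup.mp hw
    obtain ⟨v, rfl⟩ := Ideal.mem_span_singleton'.mp hz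
    have : f = (φ μ + a * algebraMap R[X] B X ^ d) + v * algebraMap R[X] B X ^ (d + 1) := by
      rw [← hf₀, ← hμw, map_add, map_mul, map_pow, AlgHom.commutes, ← haz]
      ring
    rw [this]
    exact Submodule.add_mem_sup (add_mem hμB (Ideal.mul_mem_right _ _ ha))
      (Ideal.mul_mem_left _ _ (Ideal.mem_span_singleton_self _))
  -- shrink so that `w` becomes a unit
  obtain ⟨π, hπ⟩ := H9Hens.exists_isPtColim_of_isPairHenselization hB
  obtain ⟨T, _, _, hT, ψ, σT, hb, hσ, hwT⟩ :=
    H9Hens.exists_etale_nbhd (I := Ideal.span {(X : R[X])}) S (π.comp φ) w (hwu.map π)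
  obtain ⟨φT, hφT⟩ := hπ.exists_map T σT
  have hcomp : φT.comp ψ = φ := hπ.hom_ext (by rw [← AlgHom.comp_assoc, hφT, hσ])
  let : Algebra R T := ((algebraMap R[X] T).comp (C : R →+* R[X])).toAlgebra
  have : IsScalarTower R R[X] T := IsScalarTower.of_algebraMap_eq fun _ => rfl
  let g : T := ψ f₀
  let y : T ⧸ Ideal.span {g} := Ideal.Quotient.mk _ (algebraMap R[X] T X)
  let I : Ideal (T ⧸ Ideal.span {g}) := (maximalIdeal R).map (algebraMap R (T ⧸ Ideal.span {g}))
  have hmT : ∀ z ∈ ((maximalIdeal R).map (C : R →+* R[X])).map (algebraMap R[X] T),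
      Ideal.Quotient.mk (Ideal.span {g}) z ∈ I := by
    intro z hz
    have h := Ideal.mem_map_of_mem (Ideal.Quotient.mk (Ideal.span {g})) hz
    rw [Ideal.map_map, Ideal.map_map] at h
    exact h
  have hyd : y ^ d ∈ I := by
    have h1 : g - algebraMap R[X] T X ^ d * ψ w ∈ ((maximalIdeal R).map (C : R →+* R[X])).map (algebraMap R[X] T) := by
      have hg : g = ψ μ + algebraMap R[X] T X ^ d * ψ w := by
        simp only [g, ← hμw, map_add, map_mul, map_pow, AlgHom.commutes]
        ring
      rw [hg, add_sub_cancel_right]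
      have := Ideal.mem_map_of_mem ψ.toRingHom hμ
      rwa [Ideal.map_map, AlgHom.toRingHom_eq_coe, AlgHom.comp_algebraMap] at this
    have h2 := hmT _ h1
    rw [map_sub, Ideal.Quotient.eq_zero_iff_mem.mpr (Ideal.mem_span_singleton_self g), zero_sub,
      neg_mem_iff, map_mul, map_pow, mul_comm] at h2
    exact (Submodule.smul_mem_iff_of_isUnit _ (hwT.map (Ideal.Quotient.mk (Ideal.span {g})))).mp h2
  have hspan : ∀ z : T ⧸ Ideal.span {g},
      z ∈ Submodule.span R (Set.range fun i : Fin d => y ^ (i : ℕ)) ⊔ I.restrictScalars R := by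
    intro z
    obtain ⟨z, rfl⟩ := Ideal.Quotient.mk_surjective z
    obtain ⟨c, t, rfl⟩ := exists_poly_mod_pow hb.2 d z
    rw [map_add, map_mul, map_pow, map_sum]
    refine Submodule.add_mem_sup (Submodule.sum_mem _ fun i _ => ?_) (Ideal.mul_mem_right _ _ hyd)
    rw [map_mul, map_pow]
    change algebraMap R (T ⧸ Ideal.span {g}) (c i) * y ^ (i : ℕ) ∈ _
    rw [← Algebra.smul_def]
    exact Submodule.smul_mem _ _ (Submodule.subset_span ⟨i, rfl⟩)
  have : Algebra.FiniteType R T := Algebra.FiniteType.trans (S := R[X]) inferInstance inferInstance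
  have : Algebra.FiniteType R (T ⧸ Ideal.span {g}) :=
    Algebra.FiniteType.of_surjective (Ideal.Quotient.mkₐ R _) Ideal.Quotient.mk_surjective
  have hfinI : Module.Finite R ((T ⧸ Ideal.span {g}) ⧸ I) := by
    refine ⟨⟨Finset.univ.image fun i : Fin d => Ideal.Quotient.mk I (y ^ (i : ℕ)), ?_⟩⟩
    rw [Finset.coe_image, Finset.coe_univ, Set.image_univ, eq_top_iff]
    intro z _
    obtain ⟨z, rfl⟩ := Ideal.Quotient.mk_surjective z
    obtain ⟨a, ha, b, hb', rfl⟩ := Submodule.mem_sup.mp (hspan z)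
    rw [map_add, Ideal.Quotient.eq_zero_iff_mem.mpr hb', add_zero]
    have := Submodule.mem_map_of_mem (f := (Ideal.Quotient.mkₐ R I).toLinearMap) ha
    rw [Submodule.map_span, ← Set.range_comp] at this
    exact this
  have hfin1 : Module.Finite R ((T ⧸ Ideal.span {g}) ⧸ (I ⊔ Ideal.span {1 - (1 : T ⧸ Ideal.span {g})})) :=
    Module.Finite.of_surjective (Ideal.Quotient.factorₐ R (le_sup_left (a := I))).toLinearMap
      (Ideal.Quotient.factor_surjective le_sup_left)
  obtain ⟨e, he, he1, hefin⟩ := H9Hens.exists_finitePart (A := R) (I := maximalIdeal R)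
    (S := T ⧸ Ideal.span {g}) 1 (by rw [mul_one, sub_self]; exact zero_mem _) hfin1
    fun q _ hq => HenselFactor.quasiFiniteAt_of_finite_fibre q (le_sup_left.trans hq)
  -- Nakayama in the finite part
  let p : (T ⧸ Ideal.span {g}) →ₐ[R] (T ⧸ Ideal.span {g}) ⧸ Ideal.span {1 - e} := Ideal.Quotient.mkₐ R _
  have htop : ⊤ ≤ Submodule.span R (Set.range fun i : Fin d => p y ^ (i : ℕ)) ⊔
      maximalIdeal R • (⊤ : Submodule R ((T ⧸ Ideal.span {g}) ⧸ Ideal.span {1 - e})) := by
    intro z _
    obtain ⟨z, rfl⟩ := Ideal.Quotient.mkₐ_surjective R _ z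
    obtain ⟨a, ha, b, hb', rfl⟩ := Submodule.mem_sup.mp (hspan z)
    rw [map_add]
    refine Submodule.add_mem_sup ?_ ?_
    · have := Submodule.mem_map_of_mem (f := p.toLinearMap) ha
      rw [Submodule.map_span, ← Set.range_comp] at this
      have hfun : (p.toLinearMap ∘ fun i : Fin d => y ^ (i : ℕ)) = fun i : Fin d => p y ^ (i : ℕ) :=
        funext fun i => map_pow p y i
      rw [hfun] at this
      exact this
    · rw [Ideal.smul_top_eq_map]
      have := Ideal.mem_map_of_mem p.toRingHom hb'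
      rwa [Ideal.map_map, AlgHom.toRingHom_eq_coe, AlgHom.comp_algebraMap] at this
  have hspan' : Submodule.span R (Set.range fun i : Fin d => p y ^ (i : ℕ)) = ⊤ :=
    eq_top_iff.mpr (Submodule.le_of_le_smul_of_le_jacobson_bot Module.Finite.fg_top
      (maximalIdeal_le_jacobson _) htop)
  have hpd : p y ^ d ∈ maximalIdeal R • Submodule.span R (Set.range fun i : Fin d => p y ^ (i : ℕ)) := by
    rw [hspan', Ideal.smul_top_eq_map, ← map_pow]
    have := Ideal.mem_map_of_mem p.toRingHom hyd
    rwa [Ideal.map_map, AlgHom.toRingHom_eq_coe, AlgHom.comp_algebraMap] at this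
  obtain ⟨c, hc, hsum⟩ := (Submodule.mem_ideal_smul_span_iff_exists_sum _ _ _).mp hpd
  let P : R[X] := X ^ d - ∑ i : Fin d, C (c i) * X ^ (i : ℕ)
  have hP : p (Ideal.Quotient.mk (Ideal.span {g}) (algebraMap R[X] T P)) = 0 := by
    simp only [P, map_sub, map_pow, map_sum, map_mul]
    refine sub_eq_zero.mpr (hsum.symm.trans ?_)
    rw [Finsupp.sum_fintype c (fun (i : Fin d) a => a • p y ^ (i : ℕ)) (fun _ => zero_smul R _)]
    refine Finset.sum_congr rfl fun i _ => ?_
    refine (Algebra.smul_def (c i) (p y ^ (i : ℕ))).trans ?_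
    congr 1
  obtain ⟨r, hr⟩ := Ideal.mem_span_singleton'.mp (Ideal.Quotient.eq_zero_iff_mem.mp hP)
  obtain ⟨E, rfl⟩ := Ideal.Quotient.mk_surjective e
  obtain ⟨r, rfl⟩ := Ideal.Quotient.mk_surjective r
  have hEP : algebraMap R[X] T P * E ∈ Ideal.span {g} := by
    rw [← Ideal.Quotient.eq_zero_iff_mem, map_mul, ← hr, mul_assoc, sub_mul, one_mul, he.eq, sub_self,
      mul_zero]
  obtain ⟨v, hv⟩ := Ideal.mem_span_singleton'.mp hEP
  have hEu : IsUnit (φT E) := by
    have h1 : E - 1 ∈ ((maximalIdeal R).map (C : R →+* R[X])).map (algebraMap R[X] T) ⊔ Ideal.span {g} := by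
      have hI : I = (((maximalIdeal R).map (C : R →+* R[X])).map (algebraMap R[X] T)).map
          (Ideal.Quotient.mk (Ideal.span {g})) := by
        rw [Ideal.map_map, Ideal.map_map]; rfl
      rw [← map_one (Ideal.Quotient.mk (Ideal.span {g})), ← map_sub] at he1
      change Ideal.Quotient.mk (Ideal.span {g}) (E - 1) ∈ I at he1
      rw [hI, ← Ideal.mem_comap, Ideal.comap_map_of_surjective _ Ideal.Quotient.mk_surjective,
        ← RingHom.ker_eq_comap_bot, Ideal.mk_ker] at he1
      exact he1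
    obtain ⟨a, ha, b, hb', hab⟩ := Submodule.mem_sup.mp h1
    obtain ⟨q, rfl⟩ := Ideal.mem_span_singleton'.mp hb'
    have hgm : φT g ∈ ((maximalIdeal R).map (C : R →+* R[X])).map (algebraMap R[X] B) ⊔
        Ideal.span {algebraMap R[X] B X} := by
      rw [show φT g = f from (DFunLike.congr_fun hcomp f₀).trans hf₀]
      exact (sup_le_sup_left ((Ideal.span_singleton_le_span_singleton (α := B)).mpr
        (dvd_pow_self (algebraMap R[X] B X) hd0.ne')) _) hfd
    have hmem : φT E - 1 ∈ ((maximalIdeal R).map (C : R →+* R[X])).map (algebraMap R[X] B) ⊔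
        Ideal.span {algebraMap R[X] B X} := by
      rw [← map_one φT, ← map_sub, ← hab, map_add, map_mul]
      refine add_mem (Submodule.mem_sup_left ?_) (Ideal.mul_mem_left _ _ hgm)
      have := Ideal.mem_map_of_mem φT.toRingHom ha
      rwa [Ideal.map_map, AlgHom.toRingHom_eq_coe, AlgHom.comp_algebraMap] at this
    have := Ideal.mem_jacobson_bot.mp (mem_jacobson_of_mem hB hmem) 1
    rwa [mul_one, sub_add_cancel] at this
  obtain ⟨z, hz⟩ : ∃ z, algebraMap R[X] B P = f * z := by
    refine ⟨φT v * (hEu.unit⁻¹ : Bˣ), ?_⟩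
    have := congrArg φT hv
    rw [map_mul, map_mul, AlgHom.commutes, show φT g = f from (DFunLike.congr_fun hcomp f₀).trans hf₀] at this
    rw [← mul_assoc, mul_comm f, this, mul_assoc, IsUnit.mul_val_inv, mul_one]
  have hzu : IsUnit z := by
    have hPm : algebraMap R[X] B P - algebraMap R[X] B X ^ d ∈
        ((maximalIdeal R).map (C : R →+* R[X])).map (algebraMap R[X] B) := by
      simp only [P, map_sub, map_pow, map_sum, map_mul, sub_sub_cancel_left]
      exact neg_mem (sum_mem fun i _ => Ideal.mul_mem_right _ _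
        (Ideal.mem_map_of_mem _ (Ideal.mem_map_of_mem _ (hc i))))
    have hfm : f - algebraMap R[X] B X ^ d * φ w ∈
        ((maximalIdeal R).map (C : R →+* R[X])).map (algebraMap R[X] B) := by
      rw [← hf₀, ← hμw, map_add, map_mul, map_pow, AlgHom.commutes, mul_comm, add_sub_cancel_right]
      have := Ideal.mem_map_of_mem φ.toRingHom hμ
      rwa [Ideal.map_map, AlgHom.toRingHom_eq_coe, AlgHom.comp_algebraMap] at this
    have h1 : algebraMap R[X] B X ^ d * (1 - φ w * z) ∈
        ((maximalIdeal R).map (C : R →+* R[X])).map (algebraMap R[X] B) := by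
      have : algebraMap R[X] B X ^ d * (1 - φ w * z) =
          (f - algebraMap R[X] B X ^ d * φ w) * z - (algebraMap R[X] B P - algebraMap R[X] B X ^ d) := by
        rw [hz]; ring
      rw [this]
      exact sub_mem (Ideal.mul_mem_right _ _ hfm) hPm
    have h2 := mem_jacobson_of_mem hB (Submodule.mem_sup_left (mem_of_pow_mul_mem hB d _ h1))
    have h3 := Ideal.mem_jacobson_bot.mp h2 (-1)
    rw [show (1 - φ w * z) * -1 + 1 = φ w * z by ring] at h3
    exact isUnit_of_mul_isUnit_right h3
  refine ⟨d, c, hc, hzu.unit⁻¹, ?_⟩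
  change f = algebraMap R[X] B P * _
  rw [hz, mul_assoc, IsUnit.mul_val_inv, mul_one]

/-- Weierstrass division. -/
theorem division (P : R[X]) (hP : P.Monic) (hPc : ∀ i, i < P.natDegree → P.coeff i ∈ maximalIdeal R) :
    (∀ b : B, ∃ q : R[X], algebraMap R[X] B q - b ∈ Ideal.span {algebraMap R[X] B P}) ∧
      ∀ q : R[X], algebraMap R[X] B q ∈ Ideal.span {algebraMap R[X] B P} → q ∈ Ideal.span {P} := by
  have : Module.Finite R (R[X] ⧸ Ideal.span {P}) := hP.finite_quotient
  have hm : HenselianRing R (maximalIdeal R) :=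
    ⟨maximalIdeal_le_jacobson ⊥, fun f hf a₀ h₁ h₂ =>
      HenselianLocalRing.is_henselian f hf a₀ h₁
        ((isLocalHom_of_le_jacobson_bot _ (maximalIdeal_le_jacobson ⊥)).map_nonunit _ h₂)⟩
  have hh : HenselianRing (R[X] ⧸ Ideal.span {P})
      ((maximalIdeal R).map (algebraMap R (R[X] ⧸ Ideal.span {P}))) :=
    H9Hens.henselianRing_of_isIntegral (I := maximalIdeal R) _
  have hh' := @H9Hens.henselianRing_radical _ _ _ hh
  have hle : (Ideal.span {(X : R[X])}).map (Ideal.Quotient.mk (Ideal.span {P})) ≤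
      ((maximalIdeal R).map (algebraMap R (R[X] ⧸ Ideal.span {P}))).radical := by
    rw [Ideal.map_span, Set.image_singleton, Ideal.span_singleton_le_iff_mem]
    refine ⟨P.natDegree, ?_⟩
    have hd : X ^ P.natDegree = P - ∑ i ∈ Finset.range P.natDegree, C (P.coeff i) * X ^ i := by
      conv_rhs => arg 1; rw [hP.as_sum]
      rw [add_sub_cancel_right]
    rw [← map_pow, hd, map_sub, Ideal.Quotient.eq_zero_iff_mem.mpr (Ideal.mem_span_singleton_self P),
      zero_sub, map_sum]
    refine neg_mem (sum_mem fun i hi => ?_)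
    rw [map_mul]
    exact Ideal.mul_mem_right _ _ (Ideal.mem_map_of_mem _ (hPc i (Finset.mem_range.mp hi)))
  have hX : HenselianRing (R[X] ⧸ Ideal.span {P})
      ((Ideal.span {(X : R[X])}).map (Ideal.Quotient.mk (Ideal.span {P}))) :=
    @H9Hens.henselianRing_of_le _ _ _ _ hh' hle
  obtain ⟨θ, hθ, -⟩ := hB.2 _ _ (Ideal.Quotient.mk (Ideal.span {P})) hX le_rfl
  refine ⟨fun b => ?_, fun q hq => ?_⟩
  · have := hB.1
    have hq := H9Hens.henselianRing_quotient (J := (Ideal.span {(X : R[X])}).map (algebraMap R[X] B))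
      (Ideal.span {algebraMap R[X] B P})
    rw [Ideal.map_map] at hq
    let ι : R[X] ⧸ Ideal.span {P} →+* B ⧸ Ideal.span {algebraMap R[X] B P} :=
      Ideal.quotientMap _ (algebraMap R[X] B) (by
        rw [← Ideal.map_le_iff_le_comap, Ideal.map_span, Set.image_singleton])
    obtain ⟨g, -, hg⟩ := hB.2 _ _ ((Ideal.Quotient.mk (Ideal.span {algebraMap R[X] B P})).comp
      (algebraMap R[X] B)) hq le_rfl
    have h1 : ι.comp θ = g := hg _ (by
      show (ι.comp θ).comp (algebraMap R[X] B) = _
      rw [RingHom.comp_assoc, hθ]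
      exact Ideal.quotientMap_comp_mk _)
    have h2 : Ideal.Quotient.mk (Ideal.span {algebraMap R[X] B P}) = g := hg _ rfl
    obtain ⟨p, hp⟩ := Ideal.Quotient.mk_surjective (θ b)
    refine ⟨p, Ideal.Quotient.eq.mp ?_⟩
    calc Ideal.Quotient.mk _ (algebraMap R[X] B p) = ι (θ b) := by rw [← hp]; rfl
      _ = _ := by rw [← RingHom.comp_apply, h1, ← h2]
  · obtain ⟨v, hv⟩ := Ideal.mem_span_singleton'.mp hq
    have hθ' : ∀ r, θ (algebraMap R[X] B r) = Ideal.Quotient.mk (Ideal.span {P}) r := fun r =>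
      RingHom.congr_fun hθ r
    have h := congrArg θ hv
    rw [map_mul, hθ', hθ', Ideal.Quotient.eq_zero_iff_mem.mpr (Ideal.mem_span_singleton_self P)] at h
    exact Ideal.Quotient.eq_zero_iff_mem.mp (h.symm.trans (mul_zero _))

omit [HenselianLocalRing R] in
/-- A monic polynomial is a non-zero-divisor on the henselization. -/
theorem isSMulRegular_of_monic (P : R[X]) (hP : P.Monic) : IsSMulRegular B P := by
  obtain ⟨π, hπ⟩ := H9Hens.exists_isPtColim_of_isPairHenselization hB
  have := hπ.flat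
  have hnzd : P ∈ nonZeroDivisors R[X] :=
    mem_nonZeroDivisors_iff_right.mpr fun q hq => hP.mul_left_eq_zero_iff.mp hq
  exact Module.Flat.isSMulRegular_of_nonZeroDivisors (R := R[X]) (M := B) (r := P) hnzd

end Prep

end Groth.Agent.H3CAlg.HenselWeierstrass
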