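import Mathlib.CategoryTheory.Abelian.Projective.Resolution
import Mathlib.CategoryTheory.Abelian.LeftDerived
import Mathlib.Algebra.Homology.ShortComplex.SnakeLemma
import Mathlib.Algebra.Homology.ShortComplex.Abelian
import Mathlib.Algebra.Homology.HomologySequence
import Mathlib.Algebra.Homology.HomologicalComplexAbelian

/-!
# Horseshoe lemma and long exact sequences of left derived functors
-/

universe v u v' u'

open CategoryTheory CategoryTheory.Limits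

namespace Groth.Agent.H3CAlg.Horseshoe

variable {C : Type u} [Category.{v} C] [Abelian C]

/-- A step of the horseshoe construction. -/
theorem exists_step [EnoughProjectives C] (S : ShortComplex C) (hS : S.ShortExact) :
    ∃ (Q K : ShortComplex C) (p : Q ⟶ S) (ι : K ⟶ Q) (w : ι ≫ p = 0),
      Nonempty Q.Splitting ∧ (Projective Q.X₁ ∧ Projective Q.X₂ ∧ Projective Q.X₃) ∧ K.ShortExact ∧
      (ShortComplex.mk ι.τ₁ p.τ₁ (by rw [← ShortComplex.comp_τ₁, w, ShortComplex.zero_τ₁])).ShortExact ∧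
      (ShortComplex.mk ι.τ₂ p.τ₂ (by rw [← ShortComplex.comp_τ₂, w, ShortComplex.zero_τ₂])).ShortExact ∧
      (ShortComplex.mk ι.τ₃ p.τ₃ (by rw [← ShortComplex.comp_τ₃, w, ShortComplex.zero_τ₃])).ShortExact := by
  have := hS.epi_g
  have := hS.mono_f
  let Q : ShortComplex C := ShortComplex.mk (biprod.inl : Projective.over S.X₁ ⟶
    Projective.over S.X₁ ⊞ Projective.over S.X₃) biprod.snd biprod.inl_snd
  let sQ : Q.Splitting :=
    { r := biprod.fst
      s := biprod.inr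
      f_r := biprod.inl_fst
      s_g := biprod.inr_snd
      id := biprod.total }
  let p : Q ⟶ S :=
    { τ₁ := Projective.π S.X₁
      τ₂ := biprod.desc (Projective.π S.X₁ ≫ S.f) (Projective.factorThru (Projective.π S.X₃) S.g)
      τ₃ := Projective.π S.X₃
      comm₁₂ := by simp [Q]
      comm₂₃ := by
        ext
        · simp [Q]
        · simp [Q] }
  let D : ShortComplex.SnakeInput C :=
    { L₀ := kernel p
      L₁ := Q
      L₂ := S
      L₃ := cokernel p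
      v₀₁ := kernel.ι p
      v₁₂ := p
      v₂₃ := cokernel.π p
      w₀₂ := kernel.condition p
      w₁₃ := cokernel.condition p
      h₀ := kernelIsKernel p
      h₃ := cokernelIsCokernel p
      L₁_exact := sQ.exact
      epi_L₁_g := inferInstanceAs (Epi (biprod.snd : Projective.over S.X₁ ⊞ Projective.over S.X₃ ⟶ _))
      L₂_exact := hS.exact
      mono_L₂_f := hS.mono_f }
  have hz₁ : IsZero D.L₃.X₁ := by
    have he : Epi D.v₁₂.τ₁ := inferInstanceAs (Epi (Projective.π S.X₁))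
    rw [IsZero.iff_id_eq_zero]
    have : Epi D.v₂₃.τ₁ := epi_of_isColimit_cofork D.h₃τ₁
    have h0 : D.v₂₃.τ₁ = 0 := by rw [← cancel_epi D.v₁₂.τ₁, comp_zero]; exact D.w₁₃_τ₁
    rw [← cancel_epi D.v₂₃.τ₁, h0, zero_comp, zero_comp]
  have hz₃ : IsZero D.L₃.X₃ := by
    have he : Epi D.v₁₂.τ₃ := inferInstanceAs (Epi (Projective.π S.X₃))
    rw [IsZero.iff_id_eq_zero]
    have : Epi D.v₂₃.τ₃ := epi_of_isColimit_cofork D.h₃τ₃
    have h0 : D.v₂₃.τ₃ = 0 := by rw [← cancel_epi D.v₁₂.τ₃, comp_zero]; exact D.w₁₃_τ₃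
    rw [← cancel_epi D.v₂₃.τ₃, h0, zero_comp, zero_comp]
  have hz₂ : IsZero D.L₃.X₂ := D.L₃_exact.isZero_X₂ (hz₁.eq_of_src _ _) (hz₃.eq_of_tgt _ _)
  have e₁ : Epi D.v₁₂.τ₁ := inferInstanceAs (Epi (Projective.π S.X₁))
  have e₂ : Epi D.v₁₂.τ₂ :=
    Preadditive.epi_of_isZero_cokernel' _ D.h₃τ₂ hz₂
  have e₃ : Epi D.v₁₂.τ₃ := inferInstanceAs (Epi (Projective.π S.X₃))
  have : Mono D.L₁.f := inferInstanceAs (Mono (biprod.inl :
    Projective.over S.X₁ ⟶ Projective.over S.X₁ ⊞ Projective.over S.X₃))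
  refine ⟨Q, D.L₀, p, D.v₀₁, D.w₀₂, ⟨sQ⟩, ⟨Projective.projective_over _, ?_, Projective.projective_over _⟩,
    ?_, ?_, ?_, ?_⟩
  · show Projective (Projective.over S.X₁ ⊞ Projective.over S.X₃)
    infer_instance
  · have : Epi D.L₀.g := D.L₁'_exact.epi_f (hz₁.eq_of_tgt _ _)
    exact ShortComplex.ShortExact.mk' D.L₀_exact
      (@ShortComplex.SnakeInput.mono_L₀_f C _ _ D (inferInstanceAs (Mono D.L₁.f))) this
  · exact ShortComplex.ShortExact.mk' D.exact_C₁_up D.mono_v₀₁_τ₁ e₁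
  · exact ShortComplex.ShortExact.mk' D.exact_C₂_up D.mono_v₀₁_τ₂ e₂
  · exact ShortComplex.ShortExact.mk' D.exact_C₃_up D.mono_v₀₁_τ₃ e₃

/-- A complex spliced from short exact sequences. -/
noncomputable def spliced (Q Z : ℕ → C) (p : ∀ n, Q n ⟶ Z n) (ι : ∀ n, Z (n + 1) ⟶ Q n)
    (w : ∀ n, ι n ≫ p n = 0) : ChainComplex C ℕ :=
  ChainComplex.of Q (fun n ↦ p (n + 1) ≫ ι n) (fun n ↦ by
    rw [Category.assoc, ← Category.assoc (ι (n + 1)), w (n + 1), zero_comp, comp_zero])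

lemma spliced_d (Q Z : ℕ → C) (p : ∀ n, Q n ⟶ Z n) (ι : ∀ n, Z (n + 1) ⟶ Q n)
    (w : ∀ n, ι n ≫ p n = 0) (n : ℕ) :
    (spliced Q Z p ι w).d (n + 1) n = p (n + 1) ≫ ι n :=
  ChainComplex.of_d (V := C) Q (fun n ↦ p (n + 1) ≫ ι n) n

lemma spliced_d_comp (Q Z : ℕ → C) (p : ∀ n, Q n ⟶ Z n) (ι : ∀ n, Z (n + 1) ⟶ Q n)
    (w : ∀ n, ι n ≫ p n = 0) : (spliced Q Z p ι w).d 1 0 ≫ p 0 = 0 := by
  refine (congrArg (fun f : Q 1 ⟶ Q 0 ↦ f ≫ p 0) (spliced_d Q Z p ι w 0)).trans ?_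
  rw [Category.assoc, w 0, comp_zero]
  rfl

/-- The projective resolution spliced from short exact sequences. -/
noncomputable def splicedResolution (Q Z : ℕ → C) [∀ n, Projective (Q n)] (p : ∀ n, Q n ⟶ Z n)
    (ι : ∀ n, Z (n + 1) ⟶ Q n) (w : ∀ n, ι n ≫ p n = 0)
    (h : ∀ n, (ShortComplex.mk (ι n) (p n) (w n)).ShortExact) : ProjectiveResolution (Z 0) where
  complex := spliced Q Z p ι w
  projective n := inferInstanceAs (Projective (Q n))
  π := (ChainComplex.toSingle₀Equiv _ _).symm ⟨p 0, spliced_d_comp Q Z p ι w⟩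
  quasiIso := ⟨fun n => by
    have hι : ∀ k, Mono (ι k) := fun k ↦ (h k).mono_f
    have hp : ∀ k, Epi (p k) := fun k ↦ (h k).epi_g
    cases n
    · rw [ChainComplex.quasiIsoAt₀_iff, ShortComplex.quasiIso_iff_of_zeros']
      · have h1 : (ShortComplex.mk ((spliced Q Z p ι w).d 1 0) (p 0)
            (spliced_d_comp Q Z p ι w)).Exact := by
          let φ : ShortComplex.mk ((spliced Q Z p ι w).d 1 0) (p 0)
              (spliced_d_comp Q Z p ι w) ⟶
              ShortComplex.mk (ι 0) (p 0) (w 0) :=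
            { τ₁ := p 1
              τ₂ := 𝟙 _
              τ₃ := 𝟙 _
              comm₁₂ := by
                show p 1 ≫ ι 0 = (spliced Q Z p ι w).d 1 0 ≫ 𝟙 _
                rw [spliced_d, Category.comp_id]
              comm₂₃ := (Category.id_comp (p 0)).trans (Category.comp_id (p 0)).symm }
          have : Epi φ.τ₁ := hp 1
          have : IsIso φ.τ₂ := inferInstanceAs (IsIso (𝟙 _))
          have : Mono φ.τ₃ := inferInstanceAs (Mono (𝟙 _))
          exact (ShortComplex.exact_iff_of_epi_of_isIso_of_mono φ).mpr (h 0).exact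
        refine (ShortComplex.exact_and_epi_g_iff_of_iso ?_).2 ⟨h1, hp 0⟩
        exact ShortComplex.isoMk (Iso.refl _) (Iso.refl _) (Iso.refl _)
          ((Category.id_comp _).trans (Category.comp_id _).symm)
          (by
            show 𝟙 (Q 0) ≫ p 0 = ((ChainComplex.toSingle₀Equiv (spliced Q Z p ι w) (Z 0)).symm
              ⟨p 0, spliced_d_comp Q Z p ι w⟩).f 0 ≫ 𝟙 (Z 0)
            simp)
      all_goals rfl
    · rename_i k
      rw [quasiIsoAt_iff_exactAt']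
      · rw [HomologicalComplex.exactAt_iff' _ (k + 2) (k + 1) k (by simp) (by simp)]
        let φ : (spliced Q Z p ι w).sc' (k + 2) (k + 1) k ⟶
            ShortComplex.mk (ι (k + 1)) (p (k + 1) ≫ ι k)
              (by rw [← Category.assoc, w (k + 1), zero_comp]) :=
          { τ₁ := p (k + 2)
            τ₂ := 𝟙 _
            τ₃ := 𝟙 _
            comm₁₂ := by
              show p (k + 2) ≫ ι (k + 1) = (spliced Q Z p ι w).d (k + 2) (k + 1) ≫ 𝟙 _
              rw [spliced_d, Category.comp_id]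
            comm₂₃ := by
              show 𝟙 _ ≫ p (k + 1) ≫ ι k = (spliced Q Z p ι w).d (k + 1) k ≫ 𝟙 _
              rw [spliced_d, Category.comp_id, Category.id_comp] }
        have : Epi φ.τ₁ := hp (k + 2)
        have : IsIso φ.τ₂ := inferInstanceAs (IsIso (𝟙 _))
        have : Mono φ.τ₃ := inferInstanceAs (Mono (𝟙 _))
        refine (ShortComplex.exact_iff_of_epi_of_isIso_of_mono φ).mpr ?_
        let ψ : ShortComplex.mk (ι (k + 1)) (p (k + 1)) (w (k + 1)) ⟶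
            ShortComplex.mk (ι (k + 1)) (p (k + 1) ≫ ι k)
              (by rw [← Category.assoc, w (k + 1), zero_comp]) :=
          { τ₁ := 𝟙 _
            τ₂ := 𝟙 _
            τ₃ := ι k
            comm₁₂ := by simp
            comm₂₃ := by simp }
        have : Epi ψ.τ₁ := inferInstanceAs (Epi (𝟙 _))
        have : IsIso ψ.τ₂ := inferInstanceAs (IsIso (𝟙 _))
        have : Mono ψ.τ₃ := hι k
        exact (ShortComplex.exact_iff_of_epi_of_isIso_of_mono ψ).mp (h (k + 1)).exact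
      · apply ChainComplex.exactAt_succ_single_obj⟩

lemma splicedResolution_π_f_zero (Q Z : ℕ → C) [∀ n, Projective (Q n)] (p : ∀ n, Q n ⟶ Z n)
    (ι : ∀ n, Z (n + 1) ⟶ Q n) (w : ∀ n, ι n ≫ p n = 0)
    (h : ∀ n, (ShortComplex.mk (ι n) (p n) (w n)).ShortExact) :
    (splicedResolution Q Z p ι w h).π.f 0 = p 0 := by
  simp [splicedResolution]

/-- Morphism of spliced complexes. -/
noncomputable def splicedMap {Q Z : ℕ → C} {p : ∀ n, Q n ⟶ Z n} {ι : ∀ n, Z (n + 1) ⟶ Q n}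
    {w : ∀ n, ι n ≫ p n = 0} {Q' Z' : ℕ → C} {p' : ∀ n, Q' n ⟶ Z' n}
    {ι' : ∀ n, Z' (n + 1) ⟶ Q' n} {w' : ∀ n, ι' n ≫ p' n = 0}
    (φ : ∀ n, Q n ⟶ Q' n) (ψ : ∀ n, Z n ⟶ Z' n)
    (h₁ : ∀ n, φ n ≫ p' n = p n ≫ ψ n) (h₂ : ∀ n, ψ (n + 1) ≫ ι' n = ι n ≫ φ n) :
    spliced Q Z p ι w ⟶ spliced Q' Z' p' ι' w' where
  f := φ
  comm' i j hij := by
    obtain rfl : j + 1 = i := hij
    rw [spliced_d, spliced_d]
    show φ (j + 1) ≫ p' (j + 1) ≫ ι' j = (p (j + 1) ≫ ι j) ≫ φ j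
    rw [← Category.assoc, h₁, Category.assoc, h₂, Category.assoc]

/-- The horseshoe lemma. -/
theorem exists_resolutions [EnoughProjectives C] (S : ShortComplex C) (hS : S.ShortExact) :
    ∃ (P₁ : ProjectiveResolution S.X₁) (P₂ : ProjectiveResolution S.X₂)
      (P₃ : ProjectiveResolution S.X₃) (φ : P₁.complex ⟶ P₂.complex) (ψ : P₂.complex ⟶ P₃.complex)
      (w : φ ≫ ψ = 0),
      (∀ n, Nonempty (ShortComplex.mk (φ.f n) (ψ.f n)
        (by rw [← HomologicalComplex.comp_f, w, HomologicalComplex.zero_f])).Splitting) ∧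
      φ.f 0 ≫ P₂.π.f 0 = P₁.π.f 0 ≫ S.f ∧ ψ.f 0 ≫ P₃.π.f 0 = P₂.π.f 0 ≫ S.g := by
  classical
  choose Q K p ι w hsp hproj hK h₁ h₂ h₃ using fun T : {T : ShortComplex C // T.ShortExact} ↦
    exists_step T.1 T.2
  let Z : ℕ → {T : ShortComplex C // T.ShortExact} := fun n ↦
    Nat.rec ⟨S, hS⟩ (fun _ T ↦ ⟨K T, hK T⟩) n
  have hp₁ : ∀ n, Projective (Q (Z n)).X₁ := fun n ↦ (hproj _).1
  have hp₂ : ∀ n, Projective (Q (Z n)).X₂ := fun n ↦ (hproj _).2.1
  have hp₃ : ∀ n, Projective (Q (Z n)).X₃ := fun n ↦ (hproj _).2.2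
  let P₁ : ProjectiveResolution S.X₁ := splicedResolution (fun n ↦ (Q (Z n)).X₁)
    (fun n ↦ (Z n).1.X₁) (fun n ↦ (p (Z n)).τ₁) (fun n ↦ (ι (Z n)).τ₁)
    (fun n ↦ by rw [← ShortComplex.comp_τ₁, w, ShortComplex.zero_τ₁]) (fun n ↦ h₁ (Z n))
  let P₂ : ProjectiveResolution S.X₂ := splicedResolution (fun n ↦ (Q (Z n)).X₂)
    (fun n ↦ (Z n).1.X₂) (fun n ↦ (p (Z n)).τ₂) (fun n ↦ (ι (Z n)).τ₂)
    (fun n ↦ by rw [← ShortComplex.comp_τ₂, w, ShortComplex.zero_τ₂]) (fun n ↦ h₂ (Z n))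
  let P₃ : ProjectiveResolution S.X₃ := splicedResolution (fun n ↦ (Q (Z n)).X₃)
    (fun n ↦ (Z n).1.X₃) (fun n ↦ (p (Z n)).τ₃) (fun n ↦ (ι (Z n)).τ₃)
    (fun n ↦ by rw [← ShortComplex.comp_τ₃, w, ShortComplex.zero_τ₃]) (fun n ↦ h₃ (Z n))
  let φ : P₁.complex ⟶ P₂.complex := splicedMap
    (w := fun n ↦ by rw [← ShortComplex.comp_τ₁, w, ShortComplex.zero_τ₁])
    (w' := fun n ↦ by rw [← ShortComplex.comp_τ₂, w, ShortComplex.zero_τ₂])
    (fun n ↦ (Q (Z n)).f) (fun n ↦ (Z n).1.f)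
    (fun n ↦ (p (Z n)).comm₁₂.symm) (fun n ↦ (ι (Z n)).comm₁₂.symm)
  let ψ : P₂.complex ⟶ P₃.complex := splicedMap
    (w := fun n ↦ by rw [← ShortComplex.comp_τ₂, w, ShortComplex.zero_τ₂])
    (w' := fun n ↦ by rw [← ShortComplex.comp_τ₃, w, ShortComplex.zero_τ₃])
    (fun n ↦ (Q (Z n)).g) (fun n ↦ (Z n).1.g)
    (fun n ↦ (p (Z n)).comm₂₃.symm) (fun n ↦ (ι (Z n)).comm₂₃.symm)
  refine ⟨P₁, P₂, P₃, φ, ψ, ?_, fun n ↦ hsp (Z n), ?_, ?_⟩
  · ext n
    exact (Q (Z n)).zero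
  · show (Q (Z 0)).f ≫ P₂.π.f 0 = P₁.π.f 0 ≫ S.f
    simp only [P₁, P₂, splicedResolution_π_f_zero]
    exact (p (Z 0)).comm₁₂.symm
  · show (Q (Z 0)).g ≫ P₃.π.f 0 = P₂.π.f 0 ≫ S.g
    simp only [P₂, P₃, splicedResolution_π_f_zero]
    exact (p (Z 0)).comm₂₃.symm

end Groth.Agent.H3CAlg.Horseshoe
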