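import Mathlib

/-!
# Indices of maps for an additive function, and long exact sequences
-/

set_option autoImplicit false
set_option linter.style.haveILetI false
set_option linter.unusedSectionVars false
universe u

namespace Groth.Agent.H3CAlg.IndexSum

variable {A : Type u} [CommRing A]

/-- An additive function on a class of modules closed under subobjects, quotients and extensions. -/
structure IsAdd (φ : ∀ (T : Type u) [AddCommGroup T] [Module A T], ℤ)
    (C : ∀ (T : Type u) [AddCommGroup T] [Module A T], Prop) : Prop where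
  sub : ∀ {M N : Type u} [AddCommGroup M] [Module A M] [AddCommGroup N] [Module A N] (f : M →ₗ[A] N),
    Function.Injective f → C N → C M
  quot : ∀ {M N : Type u} [AddCommGroup M] [Module A M] [AddCommGroup N] [Module A N] (g : M →ₗ[A] N),
    Function.Surjective g → C M → C N
  ext : ∀ {M N P : Type u} [AddCommGroup M] [Module A M] [AddCommGroup N] [Module A N] [AddCommGroup P]
    [Module A P] (f : M →ₗ[A] N) (g : N →ₗ[A] P),
    Function.Injective f → Function.Surjective g → Function.Exact f g → C M → C P → C N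
  add : ∀ {M N P : Type u} [AddCommGroup M] [Module A M] [AddCommGroup N] [Module A N] [AddCommGroup P]
    [Module A P] (f : M →ₗ[A] N) (g : N →ₗ[A] P),
    Function.Injective f → Function.Surjective g → Function.Exact f g → C N → φ N = φ M + φ P
  zero : ∀ (T : Type u) [AddCommGroup T] [Module A T] [Subsingleton T], C T

variable {φ : ∀ (T : Type u) [AddCommGroup T] [Module A T], ℤ}
  {C : ∀ (T : Type u) [AddCommGroup T] [Module A T], Prop} (h : IsAdd φ C)

include h

theorem map_zero (T : Type u) [AddCommGroup T] [Module A T] [Subsingleton T] : φ T = 0 := by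
  have := h.add (M := T) (N := T) (P := T) 0 0 (fun _ _ _ => Subsingleton.elim _ _)
    (fun _ => ⟨0, Subsingleton.elim _ _⟩) (fun x => ⟨fun _ => ⟨0, Subsingleton.elim _ _⟩, fun _ => Subsingleton.elim _ _⟩)
    (h.zero T)
  omega

theorem congr {M N : Type u} [AddCommGroup M] [Module A M] [AddCommGroup N] [Module A N] (e : M ≃ₗ[A] N)
    (hN : C N) : C M ∧ φ M = φ N := by
  refine ⟨h.sub e.toLinearMap e.injective hN, ?_⟩
  have := h.add e.toLinearMap (0 : N →ₗ[A] PUnit.{u + 1}) e.injective (fun _ => ⟨0, Subsingleton.elim _ _⟩)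
    (fun x => ⟨fun _ => ⟨e.symm x, e.apply_symm_apply x⟩, fun _ => Subsingleton.elim _ _⟩) hN
  rw [map_zero h PUnit.{u + 1}] at this
  omega

omit h in
/-- The index of a map with kernel and cokernel in the class. -/
noncomputable def idx (φ : ∀ (T : Type u) [AddCommGroup T] [Module A T], ℤ) {T T' : Type u} [AddCommGroup T]
    [Module A T] [AddCommGroup T'] [Module A T'] (g : T →ₗ[A] T') : ℤ :=
  φ (T' ⧸ LinearMap.range g) - φ (LinearMap.ker g)

theorem comp {T T' T'' : Type u} [AddCommGroup T] [Module A T] [AddCommGroup T'] [Module A T']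
    [AddCommGroup T''] [Module A T''] (a : T →ₗ[A] T') (b : T' →ₗ[A] T'')
    (ha₁ : C (LinearMap.ker a)) (ha₂ : C (T' ⧸ LinearMap.range a))
    (hb₁ : C (LinearMap.ker b)) (hb₂ : C (T'' ⧸ LinearMap.range b)) :
    C (LinearMap.ker (b.comp a)) ∧ C (T'' ⧸ LinearMap.range (b.comp a)) ∧
      idx φ (b.comp a) = idx φ a + idx φ b := by
  let KR : Submodule A T' := LinearMap.ker b ⊓ LinearMap.range a
  let r : LinearMap.ker (b.comp a) →ₗ[A] KR :=
    (a.comp (LinearMap.ker (b.comp a)).subtype).codRestrict KR fun z => ⟨z.2, ⟨z.1, rfl⟩⟩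
  let j : LinearMap.ker a →ₗ[A] LinearMap.ker (b.comp a) :=
    Submodule.inclusion (fun z hz => by
      rw [LinearMap.mem_ker, LinearMap.comp_apply, LinearMap.mem_ker.mp hz, _root_.map_zero])
  have hr : Function.Surjective r := by
    rintro ⟨w, hw, ⟨z, rfl⟩⟩
    exact ⟨⟨z, hw⟩, rfl⟩
  have hjr : Function.Exact j r := fun z => by
    constructor
    · intro hz
      exact ⟨⟨z.1, congrArg Subtype.val hz⟩, rfl⟩
    · rintro ⟨w, rfl⟩
      exact Subtype.ext w.2
  have hKR : C KR := h.sub (Submodule.inclusion (inf_le_left : KR ≤ LinearMap.ker b)) (Submodule.inclusion_injective _) hb₁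
  have hk : C (LinearMap.ker (b.comp a)) := h.ext j r (Submodule.inclusion_injective _) hr hjr ha₁ hKR
  have e1 := h.add j r (Submodule.inclusion_injective _) hr hjr hk
  -- the image of `ker b` in the cokernel of `a`
  let I : Submodule A (T' ⧸ LinearMap.range a) := (LinearMap.ker b).map (LinearMap.range a).mkQ
  let q : LinearMap.ker b →ₗ[A] I :=
    ((LinearMap.range a).mkQ.comp (LinearMap.ker b).subtype).codRestrict I fun z => ⟨z.1, z.2, rfl⟩
  have hq : Function.Surjective q := by
    rintro ⟨w, z, hz, rfl⟩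
    exact ⟨⟨z, hz⟩, rfl⟩
  have hiq : Function.Exact (Submodule.inclusion (inf_le_left : KR ≤ LinearMap.ker b)) q := fun z => by
    constructor
    · intro hz
      exact ⟨⟨z.1, z.2, (Submodule.Quotient.mk_eq_zero _).mp (congrArg Subtype.val hz)⟩, rfl⟩
    · rintro ⟨w, rfl⟩
      exact Subtype.ext ((Submodule.Quotient.mk_eq_zero _).mpr w.2.2)
  have e2 := h.add _ q (Submodule.inclusion_injective _) hq hiq hb₁
  -- cokernels
  have hle : LinearMap.range (b.comp a) ≤ LinearMap.range b := LinearMap.range_comp_le_range a b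
  let c : (T' ⧸ LinearMap.range a) →ₗ[A] T'' ⧸ LinearMap.range (b.comp a) :=
    Submodule.mapQ _ _ b (by rintro _ ⟨z, rfl⟩; exact ⟨z, rfl⟩)
  let J : Submodule A (T'' ⧸ LinearMap.range (b.comp a)) := (LinearMap.range b).map (LinearMap.range (b.comp a)).mkQ
  let c' : (T' ⧸ LinearMap.range a) →ₗ[A] J := c.codRestrict J fun z => by
    obtain ⟨z, rfl⟩ := Submodule.Quotient.mk_surjective _ z
    exact Submodule.mem_map.mpr ⟨b z, LinearMap.mem_range_self b z, rfl⟩
  have hc' : Function.Surjective c' := by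
    rintro ⟨w, y, ⟨z, rfl⟩, rfl⟩
    exact ⟨Submodule.Quotient.mk z, rfl⟩
  have hIc : Function.Exact I.subtype c' := fun z => by
    obtain ⟨z, rfl⟩ := Submodule.Quotient.mk_surjective _ z
    constructor
    · intro hz
      obtain ⟨w, hw⟩ := (Submodule.Quotient.mk_eq_zero _).mp (congrArg Subtype.val hz)
      refine ⟨⟨Submodule.Quotient.mk z, z - a w, ?_, ?_⟩, rfl⟩
      · show b (z - a w) = 0
        rw [map_sub, ← LinearMap.comp_apply b a, hw, sub_self]
      · show Submodule.Quotient.mk (z - a w) = Submodule.Quotient.mk z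
        rw [Submodule.Quotient.mk_sub, (Submodule.Quotient.mk_eq_zero (LinearMap.range a)).mpr (LinearMap.mem_range_self a w), sub_zero]
    · rintro ⟨⟨_, y, hy, rfl⟩, hyz⟩
      rw [← hyz]
      apply Subtype.ext
      show Submodule.Quotient.mk (b y) = 0
      rw [LinearMap.mem_ker.mp hy, Submodule.Quotient.mk_zero]
  have e3 := h.add _ c' I.subtype_injective hc' hIc ha₂
  let d : (T'' ⧸ LinearMap.range (b.comp a)) →ₗ[A] T'' ⧸ LinearMap.range b := Submodule.factor hle
  have hd : Function.Surjective d := Submodule.factor_surjective hle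
  have hJd : Function.Exact J.subtype d := fun z => by
    obtain ⟨z, rfl⟩ := Submodule.Quotient.mk_surjective _ z
    constructor
    · intro hz
      exact ⟨⟨_, z, (Submodule.Quotient.mk_eq_zero _).mp hz, rfl⟩, rfl⟩
    · rintro ⟨⟨_, y, hy, rfl⟩, hyz⟩
      rw [← hyz]
      exact (Submodule.Quotient.mk_eq_zero _).mpr hy
  have hc : C (T'' ⧸ LinearMap.range (b.comp a)) :=
    h.ext J.subtype d J.subtype_injective hd hJd (h.quot c' hc' ha₂) hb₂
  have e4 := h.add _ d J.subtype_injective hd hJd hc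
  refine ⟨hk, hc, ?_⟩
  simp only [idx]
  change φ (LinearMap.ker (b.comp a)) = φ (LinearMap.ker a) + φ KR at e1
  change φ (LinearMap.ker b) = φ KR + φ I at e2
  omega

omit h in
theorem sum_shift (D : ℕ) (k : ℕ → ℤ) :
    ∑ i ∈ Finset.range (D + 1), (-1 : ℤ) ^ i * (k (i + 1) + k i) = k 0 + (-1) ^ D * k (D + 1) := by
  induction D with
  | zero => simp [add_comm]
  | succ D ih => rw [Finset.sum_range_succ, ih, pow_succ]; ring

section les

variable {T₁ T₂ T₃ : ℕ → Type u} [∀ i, AddCommGroup (T₁ i)] [∀ i, Module A (T₁ i)] [∀ i, AddCommGroup (T₂ i)]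
  [∀ i, Module A (T₂ i)] [∀ i, AddCommGroup (T₃ i)] [∀ i, Module A (T₃ i)]
  (f : ∀ i, T₁ i →ₗ[A] T₂ i) (g : ∀ i, T₂ i →ₗ[A] T₃ i) (δ : ∀ i, T₃ (i + 1) →ₗ[A] T₁ i)
  (hfg : ∀ i, Function.Exact (f i) (g i)) (hgδ : ∀ i, Function.Exact (g (i + 1)) (δ i))
  (hδf : ∀ i, Function.Exact (δ i) (f i)) (hg₀ : Function.Surjective (g 0))
  (D : ℕ) [Subsingleton (T₃ (D + 1))]

include hfg hgδ hδf hg₀

theorem coker_g (hT₁ : ∀ i, C (T₁ i)) : ∀ i, C (T₃ i ⧸ LinearMap.range (g i)) ∧
    φ (T₃ i ⧸ LinearMap.range (g i)) = (match i with | 0 => 0 | j + 1 => φ (LinearMap.ker (f j))) := by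
  intro i
  cases i with
  | zero =>
    haveI : Subsingleton (T₃ 0 ⧸ LinearMap.range (g 0)) := by
      rw [Submodule.Quotient.subsingleton_iff, LinearMap.range_eq_top.mpr hg₀]
    exact ⟨h.zero _, map_zero h _⟩
  | succ j =>
    have e : (T₃ (j + 1) ⧸ LinearMap.range (g (j + 1))) ≃ₗ[A] LinearMap.ker (f j) :=
      (Submodule.quotEquivOfEq _ _ (LinearMap.exact_iff.mp (hgδ j)).symm).trans
        ((δ j).quotKerEquivRange.trans (LinearEquiv.ofEq _ _ (LinearMap.exact_iff.mp (hδf j)).symm))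
    exact congr h e (h.sub _ (LinearMap.ker (f j)).subtype_injective (hT₁ j))

/-- If the first terms are in the class, their alternating sum is minus the index of the maps `g`. -/
theorem les_first (hT₁ : ∀ i, C (T₁ i)) :
    (∀ i, C (LinearMap.ker (g i)) ∧ C (T₃ i ⧸ LinearMap.range (g i))) ∧
    ∑ i ∈ Finset.range (D + 1), (-1 : ℤ) ^ i * φ (T₁ i) =
      -∑ i ∈ Finset.range (D + 1), (-1 : ℤ) ^ i * idx φ (g i) := by
  have hrange : ∀ i, C (LinearMap.range (f i)) := fun i => h.quot _ (f i).surjective_rangeRestrict (hT₁ i)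
  have hker : ∀ i, C (LinearMap.ker (g i)) ∧ φ (LinearMap.ker (g i)) = φ (LinearMap.range (f i)) := fun i =>
    congr h (LinearEquiv.ofEq _ _ (LinearMap.exact_iff.mp (hfg i))) (hrange i)
  have hco := coker_g h f g δ hfg hgδ hδf hg₀ hT₁
  refine ⟨fun i => ⟨(hker i).1, (hco i).1⟩, ?_⟩
  let k : ℕ → ℤ := fun i => match i with | 0 => 0 | j + 1 => φ (LinearMap.ker (f j))
  have hk : k (D + 1) = 0 := by
    show φ (LinearMap.ker (f D)) = 0
    haveI : Subsingleton (LinearMap.ker (f D)) := by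
      rw [LinearMap.exact_iff.mp (hδf D)]
      exact (δ D).surjective_rangeRestrict.subsingleton
    exact map_zero h _
  have key : ∀ i ∈ Finset.range (D + 1), (-1 : ℤ) ^ i * idx φ (g i) =
      (-1 : ℤ) ^ i * (k (i + 1) + k i) - (-1 : ℤ) ^ i * φ (T₁ i) := by
    intro i _
    rw [idx, (hco i).2, (hker i).2, h.add (LinearMap.ker (f i)).subtype (f i).rangeRestrict
      (LinearMap.ker (f i)).subtype_injective (f i).surjective_rangeRestrict
      (by rw [LinearMap.exact_iff, LinearMap.ker_rangeRestrict, Submodule.range_subtype]) (hT₁ i)]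
    show (-1 : ℤ) ^ i * (k i - _) = (-1 : ℤ) ^ i * (φ (LinearMap.ker (f i)) + k i) - _
    ring
  rw [Finset.sum_congr rfl key, Finset.sum_sub_distrib, sum_shift, hk]
  show _ = -((0 : ℤ) + _ - _)
  ring

/-- If the last terms are in the class, their alternating sum is the index of the maps `f`. -/
theorem les_last (hT₃ : ∀ i, C (T₃ i)) :
    (∀ i, C (LinearMap.ker (f i)) ∧ C (T₂ i ⧸ LinearMap.range (f i))) ∧
    ∑ i ∈ Finset.range (D + 1), (-1 : ℤ) ^ i * φ (T₃ i) =
      ∑ i ∈ Finset.range (D + 1), (-1 : ℤ) ^ i * idx φ (f i) := by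
  have hco : ∀ i, C (T₂ i ⧸ LinearMap.range (f i)) ∧ φ (T₂ i ⧸ LinearMap.range (f i)) = φ (LinearMap.range (g i)) :=
    fun i => congr h ((Submodule.quotEquivOfEq _ _ (LinearMap.exact_iff.mp (hfg i)).symm).trans (g i).quotKerEquivRange)
      (h.sub _ (LinearMap.range (g i)).subtype_injective (hT₃ i))
  have hker : ∀ i, C (LinearMap.ker (f i)) ∧ φ (LinearMap.ker (f i)) = φ (T₃ (i + 1) ⧸ LinearMap.range (g (i + 1))) :=
    fun i => congr h ((LinearEquiv.ofEq _ _ (LinearMap.exact_iff.mp (hδf i))).trans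
      ((δ i).quotKerEquivRange.symm.trans (Submodule.quotEquivOfEq _ _ (LinearMap.exact_iff.mp (hgδ i)))))
      (h.quot _ (Submodule.mkQ_surjective _) (hT₃ (i + 1)))
  refine ⟨fun i => ⟨(hker i).1, (hco i).1⟩, ?_⟩
  let k : ℕ → ℤ := fun i => φ (T₃ i ⧸ LinearMap.range (g i))
  have hk0 : k 0 = 0 := by
    haveI : Subsingleton (T₃ 0 ⧸ LinearMap.range (g 0)) := by
      rw [Submodule.Quotient.subsingleton_iff, LinearMap.range_eq_top.mpr hg₀]
    exact map_zero h _
  have hk : k (D + 1) = 0 := by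
    haveI : Subsingleton (T₃ (D + 1) ⧸ LinearMap.range (g (D + 1))) := (Submodule.mkQ_surjective _).subsingleton
    exact map_zero h _
  have key : ∀ i ∈ Finset.range (D + 1), (-1 : ℤ) ^ i * idx φ (f i) =
      (-1 : ℤ) ^ i * φ (T₃ i) - (-1 : ℤ) ^ i * (k (i + 1) + k i) := by
    intro i _
    rw [idx, (hco i).2, (hker i).2, h.add (LinearMap.range (g i)).subtype (LinearMap.range (g i)).mkQ
      (LinearMap.range (g i)).subtype_injective (Submodule.mkQ_surjective _) (LinearMap.exact_subtype_mkQ _) (hT₃ i)]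
    show (-1 : ℤ) ^ i * (_ - k (i + 1)) = (-1 : ℤ) ^ i * (_ + k i) - _
    ring
  rw [Finset.sum_congr rfl key, Finset.sum_sub_distrib, sum_shift, hk, hk0]
  ring

end les

end Groth.Agent.H3CAlg.IndexSum
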