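import Groth.Agent.H3CAlg.IntDim
import Groth.Agent.H8Props.FieldDimScheme
import Mathlib

/-!
# Dimensions of intersections on smooth varieties
-/

set_option autoImplicit false
set_option linter.style.haveILetI false

universe u

open AlgebraicGeometry CategoryTheory TopologicalSpace Topology

namespace Groth.Agent.H3CAlg.IntPoints

open Groth.Agent.H8Props.FieldDim

variable {X : Scheme.{u}}

theorem cdim_genericPoint [IsIntegral X] : cdim (genericPoint X) = topologicalKrullDim X := by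
  rw [cdim, (genericPoint_spec X).def, ← Set.range_id]
  exact dim_range IsEmbedding.id

theorem cdim_le [IsIntegral X] (z : X) : cdim z ≤ topologicalKrullDim X :=
  (dim_mono (Set.subset_univ _)).trans (by rw [← Set.range_id]; exact (dim_range IsEmbedding.id).le)

theorem dim_eq_cdim_of_isGenericPoint {T : Set X} {z : X} (h : IsGenericPoint z T) :
    topologicalKrullDim T = cdim z := by rw [cdim, h.def]

variable {k : Type u} [Field k] (f : X ⟶ Spec (CommRingCat.of k))

/-- A point which is maximal in the intersection of two closures has large dimension. -/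
theorem cdim_add_le [Smooth f] [IsIntegral X] {x y z : X} (hx : x ⤳ z) (hy : y ⤳ z)
    (hmax : ∀ w, x ⤳ w → y ⤳ w → w ⤳ z → w = z) :
    cdim x + cdim y ≤ cdim z + topologicalKrullDim X := by
  obtain ⟨W, (hW : IsAffineOpen W), hzW, -⟩ := Opens.isBasis_iff_nbhd.mp X.isBasis_affineOpens
    (show z ∈ (⊤ : X.Opens) from trivial)
  haveI : Nonempty W := ⟨⟨z, hzW⟩⟩
  haveI : IsDomain Γ(X, W) := inferInstance
  obtain ⟨alg, hj⟩ := exists_algebra_chart f (A := Γ(X, W)) hW.fromSpec
  have hsm : Algebra.Smooth k Γ(X, W) := by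
    have h : Smooth (Spec.map (CommRingCat.ofHom (algebraMap k Γ(X, W)))) := hj ▸ inferInstance
    exact RingHom.smooth_algebraMap.mp ((HasRingHomProperty.Spec_iff (P := @Smooth)).mp h)
  have hrange : ∀ w : X, w ⤳ z → ∃ p, hW.fromSpec p = w := fun w hw => by
    have : w ∈ Set.range hW.fromSpec := by rw [hW.range_fromSpec]; exact hw.mem_open W.2 hzW
    exact this
  obtain ⟨p, rfl⟩ := hrange x hx
  obtain ⟨q, rfl⟩ := hrange y hy
  obtain ⟨Q, rfl⟩ := hrange z specializes_rfl
  have hiff : ∀ a b, hW.fromSpec a ⤳ hW.fromSpec b ↔ a.asIdeal ≤ b.asIdeal := fun a b =>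
    hW.fromSpec.isOpenEmbedding.isInducing.specializes_iff.trans (PrimeSpectrum.le_iff_specializes a b).symm
  haveI : p.asIdeal.IsPrime := p.2
  haveI : q.asIdeal.IsPrime := q.2
  haveI : Q.asIdeal.IsPrime := Q.2
  have hmin : Q.asIdeal ∈ (p.asIdeal ⊔ q.asIdeal).minimalPrimes := by
    refine ⟨⟨Q.2, sup_le ((hiff _ _).mp hx) ((hiff _ _).mp hy)⟩, fun S hS hSQ => ?_⟩
    have h1 := hmax (hW.fromSpec ⟨S, hS.1⟩) ((hiff p ⟨S, hS.1⟩).mpr (le_sup_left.trans hS.2))
      ((hiff q ⟨S, hS.1⟩).mpr (le_sup_right.trans hS.2)) ((hiff ⟨S, hS.1⟩ Q).mpr hSQ)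
    rw [← hW.fromSpec.isOpenEmbedding.injective h1]
  have h := IntDim.dim_add_dim_le_of_smooth k Γ(X, W) p.asIdeal q.asIdeal Q.asIdeal hmin
  erw [cdim_eq_chart f (A := Γ(X, W)) hW.fromSpec p, cdim_eq_chart f (A := Γ(X, W)) hW.fromSpec q,
    cdim_eq_chart f (A := Γ(X, W)) hW.fromSpec Q]
  refine h.trans (add_le_add le_rfl ?_)
  have hb := cdim_eq_chart f (A := Γ(X, W)) hW.fromSpec (⟨⊥, Ideal.isPrime_bot⟩ : PrimeSpectrum Γ(X, W))
  rw [ringKrullDim_eq_of_ringEquiv (RingEquiv.quotientBot Γ(X, W))] at hb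
  rw [← hb]
  exact cdim_le _

end Groth.Agent.H3CAlg.IntPoints
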