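import Mathlib

/-!
# The semiring of classes of finite projective modules and nilpotence of `[P] - rank P` in `K₀`
-/

noncomputable section

universe u

namespace Groth.Agent.H3CAlg.KZero

open TensorProduct

/-- Finite projective modules. -/
def FP (R : Type u) [CommRing R] :=
  {M : ModuleCat.{u} R // Module.Finite R M ∧ Module.Projective R M}

instance instSetoid (R : Type u) [CommRing R] : Setoid (FP R) where
  r a b := Nonempty (a.1 ≃ₗ[R] b.1)
  iseqv := ⟨fun _ => ⟨LinearEquiv.refl _ _⟩, fun ⟨e⟩ => ⟨e.symm⟩, fun ⟨e⟩ ⟨e'⟩ => ⟨e.trans e'⟩⟩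

/-- Isomorphism classes of finite projective modules. -/
def Cls (R : Type u) [CommRing R] := Quotient (instSetoid R)

variable {R : Type u} [CommRing R]

/-- The class of a finite projective module. -/
def cls (M : Type u) [AddCommGroup M] [Module R M] [Module.Finite R M] [Module.Projective R M] :
    Cls R :=
  Quotient.mk _ ⟨ModuleCat.of R M, ‹_›, ‹_›⟩

theorem cls_eq_iff {M N : Type u} [AddCommGroup M] [Module R M] [Module.Finite R M]
    [Module.Projective R M] [AddCommGroup N] [Module R N] [Module.Finite R N] [Module.Projective R N] :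
    cls (R := R) M = cls N ↔ Nonempty (M ≃ₗ[R] N) :=
  Quotient.eq

theorem cls_congr {M N : Type u} [AddCommGroup M] [Module R M] [Module.Finite R M]
    [Module.Projective R M] [AddCommGroup N] [Module R N] [Module.Finite R N] [Module.Projective R N]
    (e : M ≃ₗ[R] N) : cls (R := R) M = cls N :=
  cls_eq_iff.mpr ⟨e⟩

@[elab_as_elim]
theorem ind {motive : Cls R → Prop}
    (h : ∀ (M : Type u) [AddCommGroup M] [Module R M] [Module.Finite R M] [Module.Projective R M],
      motive (cls M)) (c : Cls R) : motive c := by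
  refine Quotient.inductionOn c fun a => ?_
  obtain ⟨M, h1, h2⟩ := a
  haveI := h1
  haveI := h2
  exact h M

instance : Zero (Cls R) := ⟨cls PUnit⟩
instance : One (Cls R) := ⟨cls R⟩

instance : Add (Cls R) where
  add := Quotient.map₂
    (fun a b => ⟨ModuleCat.of R (a.1 × b.1),
      haveI := a.2.1; haveI := b.2.1; inferInstanceAs (Module.Finite R (a.1 × b.1)),
      haveI := a.2.2; haveI := b.2.2; inferInstanceAs (Module.Projective R (a.1 × b.1))⟩)
    (fun _ _ ⟨e⟩ _ _ ⟨e'⟩ => ⟨e.prodCongr e'⟩)

instance : Mul (Cls R) where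
  mul := Quotient.map₂
    (fun a b => ⟨ModuleCat.of R (a.1 ⊗[R] b.1),
      haveI := a.2.1; haveI := b.2.1; inferInstanceAs (Module.Finite R (a.1 ⊗[R] b.1)),
      haveI := a.2.2; haveI := b.2.2; inferInstanceAs (Module.Projective R (a.1 ⊗[R] b.1))⟩)
    (fun _ _ ⟨e⟩ _ _ ⟨e'⟩ => ⟨TensorProduct.congr e e'⟩)

section

variable (M N : Type u) [AddCommGroup M] [Module R M] [Module.Finite R M] [Module.Projective R M]
  [AddCommGroup N] [Module R N] [Module.Finite R N] [Module.Projective R N]

theorem cls_prod : cls (R := R) (M × N) = cls M + cls N := rfl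

theorem cls_tensor : cls (R := R) (M ⊗[R] N) = cls M * cls N := rfl

end

theorem zero_def : (0 : Cls R) = cls PUnit := rfl
theorem one_def : (1 : Cls R) = cls R := rfl

theorem cls_subsingleton (M : Type u) [AddCommGroup M] [Module R M] [Module.Finite R M]
    [Module.Projective R M] [Subsingleton M] : cls (R := R) M = 0 :=
  cls_congr (LinearEquiv.ofSubsingleton M PUnit.{u+1})

theorem add_comm' (a b : Cls R) : a + b = b + a := by
  induction a using ind with
  | h M =>
    induction b using ind with
    | h N => exact cls_congr (LinearEquiv.prodComm R M N)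

theorem mul_comm' (a b : Cls R) : a * b = b * a := by
  induction a using ind with
  | h M =>
    induction b using ind with
    | h N => exact cls_congr (TensorProduct.comm R M N)

theorem left_distrib' (a b c : Cls R) : a * (b + c) = a * b + a * c := by
  induction a using ind with
  | h M =>
    induction b using ind with
    | h N =>
      induction c using ind with
      | h P => exact cls_congr (TensorProduct.prodRight R R M N P)

theorem zero_mul' (a : Cls R) : 0 * a = 0 := by
  induction a using ind with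
  | h M => exact cls_congr (LinearEquiv.ofSubsingleton (PUnit.{u+1} ⊗[R] M) PUnit.{u+1})

instance : CommSemiring (Cls R) where
  add_assoc a b c := by
    induction a using ind with
    | h M =>
      induction b using ind with
      | h N =>
        induction c using ind with
        | h P => exact cls_congr (LinearEquiv.prodAssoc R M N P)
  zero_add a := by
    induction a using ind with
    | h M => exact cls_congr (LinearEquiv.uniqueProd (M₂ := PUnit.{u+1}))
  add_zero a := by
    induction a using ind with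
    | h M => exact cls_congr (LinearEquiv.prodUnique (M₂ := PUnit.{u+1}))
  nsmul := nsmulRec
  add_comm := add_comm'
  mul_assoc a b c := by
    induction a using ind with
    | h M =>
      induction b using ind with
      | h N =>
        induction c using ind with
        | h P => exact cls_congr (TensorProduct.assoc R M N P)
  one_mul a := by
    induction a using ind with
    | h M => exact cls_congr (TensorProduct.lid R M)
  mul_one a := by
    induction a using ind with
    | h M => exact cls_congr (TensorProduct.rid R M)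
  mul_comm := mul_comm'
  left_distrib := left_distrib'
  right_distrib a b c := by
    rw [mul_comm' (a + b) c, left_distrib', mul_comm' c a, mul_comm' c b]
  zero_mul := zero_mul'
  mul_zero a := by rw [mul_comm', zero_mul']

instance instProjectivePi (ι : Type) [Finite ι] (M : Type u) [AddCommGroup M] [Module R M]
    [Module.Projective R M] : Module.Projective R (ι → M) := by
  classical
  haveI := Fintype.ofFinite ι
  exact Module.Projective.of_equiv (DFinsupp.linearEquivFunOnFintype (R := R) (M := fun _ : ι => M))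

theorem cls_pi (k : ℕ) (M : Type u) [AddCommGroup M] [Module R M] [Module.Finite R M]
    [Module.Projective R M] : cls (R := R) (Fin k → M) = (k : Cls R) * cls M := by
  induction k with
  | zero =>
    rw [Nat.cast_zero, zero_mul]
    exact cls_subsingleton _
  | succ k ih =>
    rw [cls_congr (Fin.consLinearEquiv R fun _ : Fin (k + 1) => M).symm, cls_prod, ih, Nat.cast_succ,
      add_mul, one_mul, add_comm]

theorem cls_free (k : ℕ) : cls (R := R) (Fin k → R) = (k : Cls R) := by
  rw [cls_pi, ← one_def, mul_one]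

/-- The rank function of a class. -/
def rk (p : PrimeSpectrum R) : Cls R → ℕ :=
  Quotient.lift (fun a : FP R => Module.rankAtStalk (R := R) a.1 p)
    (by
      rintro a b ⟨e⟩
      exact congrFun (Module.rankAtStalk_eq_of_equiv e) p)

theorem rk_cls (p : PrimeSpectrum R) (M : Type u) [AddCommGroup M] [Module R M] [Module.Finite R M]
    [Module.Projective R M] : rk p (cls M) = Module.rankAtStalk (R := R) M p := rfl

theorem rk_mul (p : PrimeSpectrum R) (a b : Cls R) : rk p (a * b) = rk p a * rk p b := by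
  induction a using ind with
  | h M =>
    induction b using ind with
    | h N =>
      rw [← cls_tensor, rk_cls, rk_cls, rk_cls, Module.rankAtStalk_tensorProduct]
      rfl

theorem cls_tensorPower (n : ℕ) (P : Type u) [AddCommGroup P] [Module R P] [Module.Finite R P]
    [Module.Projective R P] :
    ∃ (_ : Module.Finite R (TensorPower R n P)) (_ : Module.Projective R (TensorPower R n P)),
      cls (R := R) (TensorPower R n P) = cls P ^ n := by
  induction n with
  | zero =>
    let e : TensorPower R 0 P ≃ₗ[R] R := PiTensorProduct.isEmptyEquiv (Fin 0)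
    haveI := Module.Finite.equiv e.symm
    haveI := Module.Projective.of_equiv e.symm
    exact ⟨inferInstance, inferInstance, by rw [pow_zero, one_def]; exact cls_congr e⟩
  | succ n ih =>
    obtain ⟨h1, h2, ih⟩ := ih
    let e1 : TensorPower R 1 P ≃ₗ[R] P := PiTensorProduct.subsingletonEquiv (R := R) (0 : Fin 1)
    haveI := Module.Finite.equiv e1.symm
    haveI := Module.Projective.of_equiv e1.symm
    let e : TensorPower R (n + 1) P ≃ₗ[R] TensorPower R n P ⊗[R] P :=
      TensorPower.mulEquiv.symm ≪≫ₗ TensorProduct.congr (LinearEquiv.refl R _) e1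
    haveI := Module.Finite.equiv e.symm
    haveI := Module.Projective.of_equiv e.symm
    exact ⟨inferInstance, inferInstance, by rw [cls_congr e, cls_tensor, ih, pow_succ]⟩

/-- The additive group completion of `Cls R`. -/
abbrev G (R : Type u) [CommRing R] := Algebra.GrothendieckAddGroup (Cls R)

/-- Action of a class on the group completion. -/
def act (a : Cls R) : AddMonoid.End (G R) :=
  Algebra.GrothendieckAddGroup.lift (Algebra.GrothendieckAddGroup.of.comp (AddMonoidHom.mulLeft a))

theorem act_of (a b : Cls R) :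
    act a (Algebra.GrothendieckAddGroup.of b) = Algebra.GrothendieckAddGroup.of (a * b) := by
  have := Algebra.GrothendieckAddGroup.lift.symm_apply_apply
    ((Algebra.GrothendieckAddGroup.of (M := Cls R)).comp (AddMonoidHom.mulLeft a))
  exact DFunLike.congr_fun this b

theorem end_ext {f g : AddMonoid.End (G R)}
    (h : ∀ b : Cls R, f (Algebra.GrothendieckAddGroup.of b) = g (Algebra.GrothendieckAddGroup.of b)) :
    f = g :=
  Algebra.GrothendieckAddGroup.lift.symm.injective (AddMonoidHom.ext h)

/-- The action as a ring homomorphism. -/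
def ρ : Cls R →+* AddMonoid.End (G R) where
  toFun := act
  map_one' := end_ext fun b => by rw [act_of, one_mul]; rfl
  map_mul' a b := end_ext fun c => by
    change _ = act a (act b _)
    rw [act_of, act_of, act_of, mul_assoc]
  map_zero' := end_ext fun b => by rw [act_of, zero_mul, map_zero]; rfl
  map_add' a b := end_ext fun c => by
    change _ = act a _ + act b _
    rw [act_of, act_of, act_of, add_mul, map_add]

theorem exists_add_eq_of_ρ_eq {a b : Cls R} (h : ρ a = ρ b) : ∃ c, a + c = b + c := by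
  have h1 : act a (Algebra.GrothendieckAddGroup.of 1) = act b (Algebra.GrothendieckAddGroup.of 1) :=
    DFunLike.congr_fun h _
  rw [act_of, act_of, mul_one, mul_one] at h1
  obtain ⟨c, hc⟩ := ((AddLocalization.addMonoidOf (⊤ : AddSubmonoid (Cls R))).eq_iff_exists).mp h1
  exact ⟨c, by rw [add_comm a, add_comm b]; exact hc⟩

/-- An odd square-zero operator on a pair of modules, with null-homotopic scalars `J`. -/
structure Pair (J : Ideal R) where
  E : Type u
  O : Type u
  [acgE : AddCommGroup E]
  [acgO : AddCommGroup O]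
  [modE : Module R E]
  [modO : Module R O]
  [finE : Module.Finite R E]
  [finO : Module.Finite R O]
  [projE : Module.Projective R E]
  [projO : Module.Projective R O]
  d₀ : E →ₗ[R] O
  d₁ : O →ₗ[R] E
  dd₁₀ : ∀ x, d₁ (d₀ x) = 0
  dd₀₁ : ∀ x, d₀ (d₁ x) = 0
  hom : ∀ f ∈ J, ∃ (h₀ : O →ₗ[R] E) (h₁ : E →ₗ[R] O),
    (∀ x, h₀ (d₀ x) + d₁ (h₁ x) = f • x) ∧ ∀ y, d₀ (h₀ y) + h₁ (d₁ y) = f • y

attribute [instance] Pair.acgE Pair.acgO Pair.modE Pair.modO Pair.finE Pair.finO Pair.projE Pair.projO

/-- The Euler characteristic. -/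
def Pair.χ {J : Ideal R} (C : Pair J) : AddMonoid.End (G R) :=
  ρ (cls C.E) - ρ (cls C.O)

theorem Pair.χ_eq_zero {J : Ideal R} (C : Pair J) (hJ : (1 : R) ∈ J) : C.χ = 0 := by
  obtain ⟨h₀, h₁, hE, hO⟩ := C.hom 1 hJ
  simp only [one_smul] at hE hO
  have k1 : ∀ x, C.d₀ (h₀ (C.d₀ x)) = C.d₀ x := fun x => by
    have := hO (C.d₀ x)
    rwa [C.dd₁₀, map_zero, add_zero] at this
  have k2 : ∀ y, C.d₁ (h₁ (C.d₁ y)) = C.d₁ y := fun y => by
    have := hE (C.d₁ y)
    rwa [C.dd₀₁, map_zero, zero_add] at this
  have k3 : ∀ x, C.d₀ (h₀ (h₁ (C.d₁ x))) = 0 := fun x => by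
    have := hO (h₁ (C.d₁ x))
    rw [k2] at this
    exact add_eq_right.mp this
  have k4 : ∀ x, C.d₁ (h₁ (h₀ (C.d₀ x))) = 0 := fun x => by
    have := hE (h₀ (C.d₀ x))
    rw [k1] at this
    exact add_eq_left.mp this
  let A : C.E →ₗ[R] C.O := C.d₀ + h₁ ∘ₗ C.d₁ ∘ₗ h₁
  let B : C.O →ₗ[R] C.E := C.d₁ + h₀ ∘ₗ C.d₀ ∘ₗ h₀
  have e : C.E ≃ₗ[R] C.O := by
    refine LinearEquiv.ofLinear A B ?_ ?_
    · ext y
      simp only [A, B, LinearMap.comp_apply, LinearMap.add_apply, map_add, LinearMap.id_apply, C.dd₀₁,
        k1, k2, k4, map_zero, add_zero, zero_add]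
      rw [add_comm]
      exact hO y
    · ext x
      simp only [A, B, LinearMap.comp_apply, LinearMap.add_apply, map_add, LinearMap.id_apply, C.dd₁₀,
        k1, k2, k3, map_zero, add_zero, zero_add]
      exact hE x
  rw [Pair.χ, cls_congr e, sub_self]

/-- The trivial pair. -/
def Pair.base : Pair (⊥ : Ideal R) where
  E := R
  O := PUnit.{u+1}
  d₀ := 0
  d₁ := 0
  dd₁₀ := fun _ => rfl
  dd₀₁ := fun _ => rfl
  hom := fun f hf => ⟨0, 0, fun x => by simp [Ideal.mem_bot.mp hf], fun y => Subsingleton.elim _ _⟩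

section step

theorem rTensor_lTensor {M N F P : Type u} [AddCommGroup M] [Module R M] [AddCommGroup N] [Module R N]
    [AddCommGroup F] [Module R F] [AddCommGroup P] [Module R P] (α : M →ₗ[R] N) (β : F →ₗ[R] P)
    (z : M ⊗[R] F) : α.rTensor P (β.lTensor M z) = β.lTensor N (α.rTensor F z) := by
  rw [← LinearMap.comp_apply, ← LinearMap.comp_apply, LinearMap.rTensor_comp_lTensor,
    LinearMap.lTensor_comp_rTensor]

variable {J : Ideal R} (C : Pair J) (F P : Type u) [AddCommGroup F] [Module R F] [Module.Finite R F]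
  [Module.Projective R F] [AddCommGroup P] [Module R P] [Module.Finite R P] [Module.Projective R P]

/-- Tensoring a pair with a two-term complex. -/
def Pair.step (φ : F →ₗ[R] P) (ψ : P →ₗ[R] F) (g : R) (h1 : ∀ x, ψ (φ x) = g • x)
    (h2 : ∀ y, φ (ψ y) = g • y) : Pair (J ⊔ Ideal.span {g}) where
  E := (C.E ⊗[R] P) × (C.O ⊗[R] F)
  O := (C.O ⊗[R] P) × (C.E ⊗[R] F)
  d₀ := LinearMap.prod
    ((C.d₀.rTensor P) ∘ₗ LinearMap.fst R _ _ - (φ.lTensor C.O) ∘ₗ LinearMap.snd R _ _)
    ((C.d₁.rTensor F) ∘ₗ LinearMap.snd R _ _)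
  d₁ := LinearMap.prod
    ((C.d₁.rTensor P) ∘ₗ LinearMap.fst R _ _ + (φ.lTensor C.E) ∘ₗ LinearMap.snd R _ _)
    ((C.d₀.rTensor F) ∘ₗ LinearMap.snd R _ _)
  dd₁₀ := by
    intro x
    have a1 : C.d₁ ∘ₗ C.d₀ = 0 := LinearMap.ext C.dd₁₀
    have a2 : C.d₀ ∘ₗ C.d₁ = 0 := LinearMap.ext C.dd₀₁
    obtain ⟨u, v⟩ := x
    have c1 : C.d₁.rTensor P (φ.lTensor C.O v) = φ.lTensor C.E (C.d₁.rTensor F v) := by
      rw [← LinearMap.comp_apply, ← LinearMap.comp_apply, LinearMap.rTensor_comp_lTensor,
        LinearMap.lTensor_comp_rTensor]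
    simp only [LinearMap.prod_apply, Function.prod_apply, LinearMap.add_apply, LinearMap.sub_apply,
      LinearMap.comp_apply, LinearMap.fst_apply, LinearMap.snd_apply, map_sub]
    simp [← LinearMap.rTensor_comp_apply, a1, a2, c1]
  dd₀₁ := by
    intro x
    have a1 : C.d₁ ∘ₗ C.d₀ = 0 := LinearMap.ext C.dd₁₀
    have a2 : C.d₀ ∘ₗ C.d₁ = 0 := LinearMap.ext C.dd₀₁
    obtain ⟨u, v⟩ := x
    have c1 : C.d₀.rTensor P (φ.lTensor C.E v) = φ.lTensor C.O (C.d₀.rTensor F v) := by
      rw [← LinearMap.comp_apply, ← LinearMap.comp_apply, LinearMap.rTensor_comp_lTensor,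
        LinearMap.lTensor_comp_rTensor]
    simp only [LinearMap.prod_apply, Function.prod_apply, LinearMap.add_apply, LinearMap.sub_apply,
      LinearMap.comp_apply, LinearMap.fst_apply, LinearMap.snd_apply, map_add]
    simp [← LinearMap.rTensor_comp_apply, a1, a2, c1]
  hom := by
    intro f hf
    obtain ⟨a, ha, b, hb, rfl⟩ := Submodule.mem_sup.mp hf
    obtain ⟨c, rfl⟩ := Ideal.mem_span_singleton'.mp hb
    obtain ⟨k₀, k₁, kE, kO⟩ := C.hom a ha
    let ψ' : P →ₗ[R] F := c • ψ
    have p1 : φ ∘ₗ ψ' = (c * g) • LinearMap.id := by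
      ext y
      simp [ψ', h2, mul_smul]
    have p2 : ψ' ∘ₗ φ = (c * g) • LinearMap.id := by
      ext y
      simp [ψ', h1, mul_smul]
    have q1 : k₀ ∘ₗ C.d₀ + C.d₁ ∘ₗ k₁ = a • LinearMap.id := LinearMap.ext kE
    have q2 : C.d₀ ∘ₗ k₀ + k₁ ∘ₗ C.d₁ = a • LinearMap.id := LinearMap.ext kO
    refine ⟨LinearMap.prod ((k₀.rTensor P) ∘ₗ LinearMap.fst R _ _)
        ((k₁.rTensor F) ∘ₗ LinearMap.snd R _ _ - (ψ'.lTensor C.O) ∘ₗ LinearMap.fst R _ _),
      LinearMap.prod ((k₁.rTensor P) ∘ₗ LinearMap.fst R _ _)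
        ((k₀.rTensor F) ∘ₗ LinearMap.snd R _ _ + (ψ'.lTensor C.E) ∘ₗ LinearMap.fst R _ _), ?_, ?_⟩
    · rintro ⟨u, v⟩
      simp only [LinearMap.prod_apply, Function.prod_apply, LinearMap.add_apply, LinearMap.sub_apply,
        LinearMap.comp_apply, LinearMap.fst_apply, LinearMap.snd_apply, map_sub, map_add,
        Prod.mk_add_mk, Prod.smul_mk, add_smul]
      have e1 := DFunLike.congr_fun (congrArg (LinearMap.rTensor P) q1) u
      have e2 := DFunLike.congr_fun (congrArg (LinearMap.rTensor F) q2) v
      have e3 := DFunLike.congr_fun (congrArg (LinearMap.lTensor C.E) p1) u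
      have e4 := DFunLike.congr_fun (congrArg (LinearMap.lTensor C.O) p2) v
      simp only [LinearMap.rTensor_add, LinearMap.lTensor_add, LinearMap.rTensor_smul,
        LinearMap.lTensor_smul, LinearMap.rTensor_id, LinearMap.lTensor_id, LinearMap.rTensor_comp,
        LinearMap.lTensor_comp, LinearMap.add_apply, LinearMap.comp_apply, LinearMap.smul_apply,
        LinearMap.id_apply] at e1 e2 e3 e4
      rw [rTensor_lTensor k₀ φ v, rTensor_lTensor C.d₀ ψ' u, ← e1, ← e2, ← e3, ← e4, Prod.mk.injEq]
      constructor <;> abel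
    · rintro ⟨u, v⟩
      simp only [LinearMap.prod_apply, Function.prod_apply, LinearMap.add_apply, LinearMap.sub_apply,
        LinearMap.comp_apply, LinearMap.fst_apply, LinearMap.snd_apply, map_sub, map_add,
        Prod.mk_add_mk, Prod.smul_mk, add_smul]
      have e1 := DFunLike.congr_fun (congrArg (LinearMap.rTensor F) q1) v
      have e2 := DFunLike.congr_fun (congrArg (LinearMap.rTensor P) q2) u
      have e3 := DFunLike.congr_fun (congrArg (LinearMap.lTensor C.O) p1) u
      have e4 := DFunLike.congr_fun (congrArg (LinearMap.lTensor C.E) p2) v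
      simp only [LinearMap.rTensor_add, LinearMap.lTensor_add, LinearMap.rTensor_smul,
        LinearMap.lTensor_smul, LinearMap.rTensor_id, LinearMap.lTensor_id, LinearMap.rTensor_comp,
        LinearMap.lTensor_comp, LinearMap.add_apply, LinearMap.comp_apply, LinearMap.smul_apply,
        LinearMap.id_apply] at e1 e2 e3 e4
      rw [rTensor_lTensor k₁ φ v, rTensor_lTensor C.d₁ ψ' u, ← e1, ← e2, ← e3, ← e4, Prod.mk.injEq]
      constructor <;> abel

theorem Pair.χ_step (φ : F →ₗ[R] P) (ψ : P →ₗ[R] F) (g : R) (h1 : ∀ x, ψ (φ x) = g • x)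
    (h2 : ∀ y, φ (ψ y) = g • y) :
    (C.step F P φ ψ g h1 h2).χ = C.χ * (ρ (cls P) - ρ (cls F)) := by
  have h0 : (C.step F P φ ψ g h1 h2).χ = ρ (cls (C.E ⊗[R] P) + cls (C.O ⊗[R] F)) -
      ρ (cls (C.O ⊗[R] P) + cls (C.E ⊗[R] F)) := rfl
  rw [h0]
  simp only [cls_tensor, map_add, map_mul, Pair.χ, sub_mul, mul_sub]
  abel

end step

/-- A locally trivialised projective module is trivial up to scalars near a maximal ideal. -/
theorem exists_hom_hom_smul (P : Type u) [AddCommGroup P] [Module R P] [Module.Finite R P]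
    [Module.Projective R P] (m : Ideal R) [m.IsMaximal] (r : ℕ)
    (hr : Module.rankAtStalk (R := R) P ⟨m, inferInstance⟩ = r) :
    ∃ g ∉ m, ∃ (φ : (Fin r → R) →ₗ[R] P) (ψ : P →ₗ[R] (Fin r → R)),
      (∀ x, ψ (φ x) = g • x) ∧ ∀ y, φ (ψ y) = g • y := by
  classical
  let L := Localization.AtPrime m
  let PL := LocalizedModule m.primeCompl P
  let mk := LocalizedModule.mkLinearMap m.primeCompl P
  haveI : Module.FinitePresentation R P := Module.finitePresentation_of_projective R P
  haveI : Module.Free L PL := Module.free_of_flat_of_isLocalRing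
  let b : Module.Basis (Fin r) L PL := Module.finBasisOfFinrankEq L PL hr
  choose x hx using fun i => IsLocalizedModule.surj m.primeCompl mk (b i)
  let φ : (Fin r → R) →ₗ[R] P := Fintype.linearCombination R fun i => (x i).1
  have hmkφ : ∀ v : Fin r → R, mk (φ v) =
      ∑ i, (algebraMap R L (v i) * algebraMap R L ((x i).2 : R)) • b i := by
    intro v
    simp only [φ, Fintype.linearCombination_apply, map_sum, map_smul]
    refine Finset.sum_congr rfl fun i _ => ?_
    rw [← hx i, mul_smul, algebraMap_smul, algebraMap_smul]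
    rfl
  have hsurj : ∀ y : P, ∃ s ∈ m.primeCompl, s • y ∈ LinearMap.range φ := by
    intro y
    have hspan : mk y ∈ Submodule.span L (Set.range (mk ∘ fun i => (x i).1)) := by
      rw [← b.sum_repr (mk y)]
      refine Submodule.sum_mem _ fun i _ => Submodule.smul_mem _ _ ?_
      have hu : IsUnit (algebraMap R L ((x i).2 : R)) := IsLocalization.map_units L (x i).2
      rw [← Submodule.smul_mem_iff_of_isUnit _ hu, algebraMap_smul]
      refine Submodule.subset_span ⟨i, ?_⟩
      exact (hx i).symm
    rw [Set.range_comp] at hspan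
    have h2 : mk y ∈ Submodule.localized' L m.primeCompl mk (Submodule.span R (Set.range fun i => (x i).1)) := by
      rw [Submodule.localized'_span]
      exact hspan
    obtain ⟨z, hz, s, hs⟩ := h2
    rw [IsLocalizedModule.mk'_eq_iff, ← LinearMap.map_smul_of_tower] at hs
    obtain ⟨t, ht⟩ := IsLocalizedModule.exists_of_eq (S := m.primeCompl) (f := mk) hs
    refine ⟨(t : R) * (s : R), Submonoid.mul_mem _ t.2 s.2, ?_⟩
    rw [← Fintype.range_linearCombination] at hz
    rw [mul_smul]
    have : (t : R) • z = (t : R) • (s : R) • y := ht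
    rw [← this]
    exact Submodule.smul_mem _ _ hz
  obtain ⟨S, hS⟩ := Module.Finite.fg_top (R := R) (M := P)
  choose s hs hsφ using hsurj
  let g₀ : R := ∏ y ∈ S, s y
  have hg₀ : g₀ ∈ m.primeCompl := Submonoid.prod_mem _ fun y _ => hs y
  have hg₀φ : ∀ y : P, g₀ • y ∈ LinearMap.range φ := by
    intro y
    have hy : y ∈ Submodule.span R (S : Set P) := hS ▸ Submodule.mem_top
    induction hy using Submodule.span_induction with
    | mem y hy =>
      obtain ⟨k, hk⟩ := Finset.dvd_prod_of_mem s hy
      change (∏ y ∈ S, s y) • y ∈ _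
      rw [hk, mul_comm, mul_smul]
      exact Submodule.smul_mem _ _ (hsφ y)
    | zero => simp
    | add a b _ _ ha hb => rw [smul_add]; exact add_mem ha hb
    | smul c a _ ha => rw [smul_comm]; exact Submodule.smul_mem _ _ ha
  obtain ⟨ψ₀, hψ₀⟩ := Module.projective_lifting_property φ.rangeRestrict
    ((g₀ • LinearMap.id).codRestrict (LinearMap.range φ) hg₀φ) φ.surjective_rangeRestrict
  have hψ₀' : ∀ y, φ (ψ₀ y) = g₀ • y := fun y => congrArg Subtype.val (DFunLike.congr_fun hψ₀ y)
  have hker : ∀ v : Fin r → R, φ v = 0 → ∃ t ∈ m.primeCompl, t • v = 0 := by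
    intro v hv
    have h0 := hmkφ v
    rw [hv, map_zero] at h0
    have h1 : ∀ i, algebraMap R L (v i) = 0 := by
      intro i
      have := Fintype.linearIndependent_iff.mp b.linearIndependent _ h0.symm i
      exact (IsUnit.mul_left_eq_zero (IsLocalization.map_units L (x i).2)).mp this
    choose t ht using fun i => (IsLocalization.map_eq_zero_iff m.primeCompl L (v i)).mp (h1 i)
    refine ⟨∏ i, (t i : R), Submonoid.prod_mem _ fun i _ => (t i).2, ?_⟩
    ext i
    obtain ⟨k, hk⟩ := Finset.dvd_prod_of_mem (fun i => (t i : R)) (Finset.mem_univ i)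
    rw [Pi.smul_apply, smul_eq_mul, hk, mul_comm ((t i : R)) k, mul_assoc, ht i, mul_zero]
    rfl
  choose t ht htz using fun i : Fin r => hker (ψ₀ (φ (Pi.single i 1)) - g₀ • Pi.single i 1)
    (by rw [map_sub, hψ₀', map_smul, sub_self])
  let t₀ : R := ∏ i, t i
  refine ⟨t₀ * g₀, Submonoid.mul_mem _ (Submonoid.prod_mem _ fun i _ => ht i) hg₀, φ, t₀ • ψ₀, ?_, ?_⟩
  · intro v
    rw [← LinearMap.comp_apply]
    refine DFunLike.congr_fun (g := (t₀ * g₀) • LinearMap.id) ((Pi.basisFun R (Fin r)).ext fun i => ?_) v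
    obtain ⟨k, hk⟩ := Finset.dvd_prod_of_mem t (Finset.mem_univ i)
    rw [Pi.basisFun_apply, LinearMap.comp_apply, LinearMap.smul_apply, LinearMap.smul_apply,
      LinearMap.id_apply, ← sub_eq_zero, mul_smul, ← smul_sub]
    change (∏ i, t i) • _ = (0 : Fin r → R)
    rw [hk, mul_comm, mul_smul, htz i, smul_zero]
  · intro y
    rw [LinearMap.smul_apply, map_smul, hψ₀', mul_smul]

/-- In `K₀`, the difference of a module of constant rank and a free module of that rank is nilpotent. -/
theorem exists_pow_sub_eq_zero (P : Type u) [AddCommGroup P] [Module R P] [Module.Finite R P]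
    [Module.Projective R P] (r : ℕ) (hr : ∀ p, Module.rankAtStalk (R := R) P p = r) :
    ∃ k : ℕ, (ρ (cls P) - (r : AddMonoid.End (G R))) ^ k = 0 := by
  classical
  let T : Set R := {g | ∃ (φ : (Fin r → R) →ₗ[R] P) (ψ : P →ₗ[R] (Fin r → R)),
    (∀ x, ψ (φ x) = g • x) ∧ ∀ y, φ (ψ y) = g • y}
  have htop : Ideal.span T = ⊤ := by
    by_contra hne
    obtain ⟨m, hm, hle⟩ := Ideal.exists_le_maximal _ hne
    obtain ⟨g, hg, h⟩ := exists_hom_hom_smul P m r (hr _)
    exact hg (hle (Ideal.subset_span h))
  obtain ⟨S, hST, hS1⟩ := Submodule.mem_span_finite_of_mem_span ((Ideal.eq_top_iff_one _).mp htop)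
  have key : ∀ U : Finset R, (↑U : Set R) ⊆ T → ∃ (J : Ideal R) (C : Pair J),
      Ideal.span (↑U : Set R) ≤ J ∧ C.χ = (ρ (cls P) - (r : AddMonoid.End (G R))) ^ U.card := by
    intro U
    induction U using Finset.induction_on with
    | empty =>
      intro _
      refine ⟨⊥, Pair.base, by simp, ?_⟩
      have h0 : (Pair.base (R := R)).χ = ρ (1 : Cls R) - ρ (0 : Cls R) := rfl
      rw [h0, map_one, map_zero, sub_zero, Finset.card_empty, pow_zero]
    | @insert g U hg ih =>
      intro hsub
      rw [Finset.coe_insert, Set.insert_subset_iff] at hsub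
      obtain ⟨J, C, hJ, hχ⟩ := ih hsub.2
      obtain ⟨φ, ψ, h1, h2⟩ := hsub.1
      refine ⟨_, C.step _ _ φ ψ g h1 h2, ?_, ?_⟩
      · rw [Finset.coe_insert, Ideal.span_insert]
        exact sup_le le_sup_right (hJ.trans le_sup_left)
      · rw [Pair.χ_step, hχ, cls_free, map_natCast, Finset.card_insert_of_notMem hg, pow_succ]
  obtain ⟨J, C, hJ, hχ⟩ := key S hST
  exact ⟨S.card, hχ.symm.trans (C.χ_eq_zero (hJ hS1))⟩

end Groth.Agent.H3CAlg.KZero
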