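import Groth.Prelude.Def_DRing3
import Groth.Agent.H3CAlg.CompletionAmp
import Groth.Agent.H3CAlg.BootstrapJ0
import Groth.Agent.H4LC.AdjDepth

/-!
# Killing the completion of local cohomology
-/

set_option autoImplicit false
set_option linter.style.haveILetI false
set_option linter.unusedVariables false

universe u

open CategoryTheory CategoryTheory.Limits Pretriangulated
open Groth.Agent.H4DR
open Groth.Agent.H4DR.Dualizing (Loc loc deg)
open Groth.Agent.H3CAlg.Bootstrap (dep)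

attribute [local instance] HasDerivedCategory.standard

namespace Groth.Agent.H3CAlg

variable {A : Type u} [CommRing A] [IsNoetherianRing A]

theorem exists_kill_completion {ω : Dual.D A} (hω : Dual.IsDualizing A ω) (I J : Ideal A) [DRing.HasRgammaI J]
    [DRing.HasDerivedCompletion I] (M : Type u) [AddCommGroup M] [Module A M] [Module.Finite A M]
    (p : PrimeSpectrum A) (s d : ℕ) (h3 : LocCoh.CdLE A I d)
    (h4 : ∀ p' : PrimeSpectrum A, p' ≤ p → ∀ q : PrimeSpectrum A, p' ≤ q → J ≤ q.asIdeal → I ≤ q.asIdeal →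
      ((d + s : ℕ) : ℕ∞) < dep M p' + ((deg hω q - deg hω p').toNat : ℕ∞)) :
    ∃ f : A, f ∉ p.asIdeal ∧ ∀ i : ℤ, i ≤ s → ∀ x : Dual.HD A
      ((DRing.derivedCompletion I).obj ((DRing.RgammaI J).obj (Dual.inD A M))).obj i, f • x = 0 := by
  haveI : DRing.HasRgammaI I := RG.hasRgammaI I
  haveI : DRing.HasRgammaI (J ⊔ I) := RG.hasRgammaI (J ⊔ I)
  obtain ⟨K, hK, hk⟩ := Bootstrap.exists_kill_H hω (M := M) (J ⊔ I)
    (T' := {r : PrimeSpectrum A | ¬ r ≤ p})
    (fun a b hab ha hb => ha (((PrimeSpectrum.le_iff_specializes a b).2 hab).trans hb)) (d + s)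
    fun p' q hp' hq hpq => h4 p' (not_not.1 hp') q hpq (le_sup_left.trans hq) (le_sup_right.trans hq)
  obtain ⟨f, hfK, hfp⟩ := SetLike.not_le_iff_exists.1 (fun h : K ≤ p.asIdeal => hK h (le_refl p))
  let W := (DRing.RgammaI (J ⊔ I)).obj (Dual.inD A M)
  have hW : ∀ j : ℤ, j < 0 → Subsingleton (Dual.HD A W j) := fun j hj => by
    obtain ⟨e⟩ := RG.nonempty_equiv_HDI (J ⊔ I) (Dual.inD A M) j
    haveI : Subsingleton (LD.H (J ⊔ I) ((Dual.inD A M)⟦j⟧)) :=
      LD.subsingleton_H _ fun n => Ext.subsingleton_ex_low (a := 0) (HT.subsingleton_HD_inD_of_neg M) _ j hj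
    exact e.injective.subsingleton
  have hf : ∀ j : ℤ, j < 0 + ((d + s + 1 : ℕ) : ℤ) → ∀ x : Dual.HD A W j, f • x = 0 := fun j hj x => by
    by_cases hj0 : j < 0
    · haveI := hW j hj0
      exact Subsingleton.elim _ _
    · obtain ⟨n, rfl⟩ := Int.eq_ofNat_of_zero_le (not_lt.1 hj0)
      obtain ⟨e⟩ := RG.nonempty_equiv_HDI (J ⊔ I) (Dual.inD A M) (n : ℤ)
      refine (e.trans (LD.lcEquiv (J ⊔ I) M n).symm).injective ?_
      rw [map_smul, map_zero]
      exact hk n (by omega) f hfK _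
  refine ⟨f ^ (d + s + 1), fun h => hfp (p.2.mem_of_pow_mem _ h), fun i hi x => ?_⟩
  obtain ⟨e1⟩ := (RG.nonempty_greenlees_may I ((DRing.RgammaI J).obj (Dual.inD A M))).2
  obtain ⟨e2⟩ := RG.nonempty_rgamma_comp J I (Dual.inD A M)
  refine (PCoh.hEquiv i ((ObjectProperty.ι _).mapIso
    (e1.symm ≪≫ (DRing.derivedCompletion I).mapIso e2))).injective ?_
  rw [map_smul, map_zero]
  exact pow_smul_HD_completion_eq_zero I h3 f 0 (d + s + 1) hW hf i (by omega) _

end Groth.Agent.H3CAlg
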