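import Mathlib

/-!
# Congruences for prime power roots of units
-/

set_option autoImplicit false

universe u

namespace Groth.Agent.H3CAlg.KummerCongr

variable {A L : Type u} [CommRing A] [CommRing L] [Algebra A L] {p : ℕ} [hp : Fact p.Prime]

local notation "α" => algebraMap A L

omit hp in
theorem expand (lam μ e z : L) (hp1 : p.Prime) (he : (p : L) = lam ^ (p - 1) * μ * e) :
    (1 + lam * z) ^ p = 1 + lam ^ p * (z ^ p + μ * ∑ i ∈ Finset.Ioo 0 p,
      (e * ((p.choose i / p : ℕ) : L) * lam ^ (i - 1)) * z ^ i) := by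
  rw [add_comm (1 : L), add_pow, Finset.sum_range_succ, Nat.choose_self, Finset.range_eq_Ico,
    Finset.sum_eq_sum_Ico_succ_bot hp1.pos, zero_add, Nat.choose_zero_right]
  have hsum : ∑ i ∈ Finset.Ico 1 p, (lam * z) ^ i * 1 ^ (p - i) * (p.choose i : L) =
      lam ^ p * (μ * ∑ i ∈ Finset.Ioo 0 p, (e * ((p.choose i / p : ℕ) : L) * lam ^ (i - 1)) * z ^ i) := by
    rw [Finset.mul_sum, Finset.mul_sum, show Finset.Ioo 0 p = Finset.Ico 1 p from
      (Finset.Ico_add_one_left_eq_Ioo 0 p).symm]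
    refine Finset.sum_congr rfl fun i hi => ?_
    rw [Finset.mem_Ico] at hi
    obtain ⟨m, hm⟩ := hp1.dvd_choose_self (by omega : i ≠ 0) hi.2
    rw [hm, Nat.mul_div_cancel_left _ hp1.pos, Nat.cast_mul, he]
    obtain ⟨i', rfl⟩ : ∃ i', i = i' + 1 := ⟨i - 1, by omega⟩
    obtain ⟨q, rfl⟩ : ∃ q, p = q + 1 := ⟨p - 1, by omega⟩
    simp only [Nat.add_sub_cancel]
    ring
  rw [hsum]
  ring

/-- One forward step, with the congruence. -/
theorem fwd_one {lam μ e : A} (he : (p : A) = lam ^ (p - 1) * μ * e) {z : L} (hz : IsIntegral A z) :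
    ∃ c d : L, IsIntegral A c ∧ IsIntegral A d ∧ c = z ^ p + α μ * d ∧
      (1 + α lam * z) ^ p = 1 + α lam ^ p * c := by
  let d : L := ∑ i ∈ Finset.Ioo 0 p, (α e * ((p.choose i / p : ℕ) : L) * α lam ^ (i - 1)) * z ^ i
  have hd : IsIntegral A d := IsIntegral.sum _ fun i _ =>
    ((isIntegral_algebraMap.mul (by rw [← map_natCast α]; exact isIntegral_algebraMap)).mul
      (isIntegral_algebraMap.pow _)).mul (hz.pow _)
  refine ⟨z ^ p + α μ * d, d, (hz.pow _).add (isIntegral_algebraMap.mul hd), hd, rfl, ?_⟩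
  exact expand (α lam) (α μ) (α e) z hp.out (by simpa using congrArg α he)

theorem bwd_one {lam : A} (hdvd : lam ^ (p - 1) ∣ (p : A)) (hu : IsUnit (α lam)) {x c : L}
    (hc : IsIntegral A c) (hx : x ^ p = 1 + α lam ^ p * c) :
    ∃ z, IsIntegral A z ∧ x = 1 + α lam * z := by
  obtain ⟨e, he⟩ := hdvd
  obtain ⟨ν, hν⟩ := hu
  refine ⟨↑ν⁻¹ * (x - 1), ?_, ?_⟩
  swap
  · rw [← mul_assoc, ← hν, Units.mul_inv, one_mul, add_sub_cancel]
  set z := (↑ν⁻¹ : L) * (x - 1) with hzdef
  have hxz : x = 1 + α lam * z := by rw [hzdef, ← mul_assoc, ← hν, Units.mul_inv, one_mul, add_sub_cancel]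
  have he' : (p : L) = α lam ^ (p - 1) * 1 * α e := by rw [mul_one, ← map_pow, ← map_mul, ← he, map_natCast]
  rw [hxz, expand (α lam) 1 (α e) z hp.out he', add_right_inj, one_mul,
    (IsUnit.pow p ⟨ν, hν⟩).mul_right_inj] at hx
  let q : Polynomial A := Polynomial.X ^ p + ∑ i ∈ Finset.Ioo 0 p,
    Polynomial.C (e * ((p.choose i / p : ℕ) : A) * lam ^ (i - 1)) * Polynomial.X ^ i
  have hdeg : (∑ i ∈ Finset.Ioo 0 p,
      Polynomial.C (e * ((p.choose i / p : ℕ) : A) * lam ^ (i - 1)) * Polynomial.X ^ i).degree < (p : WithBot ℕ) := by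
    refine (Polynomial.degree_sum_le _ _).trans_lt ((Finset.sup_lt_iff (WithBot.bot_lt_coe p)).mpr fun i hi => ?_)
    exact (Polynomial.degree_C_mul_X_pow_le _ _).trans_lt (WithBot.coe_lt_coe.mpr (Finset.mem_Ioo.mp hi).2)
  nontriviality L
  haveI : Nontrivial A := (algebraMap A L).domain_nontrivial
  have hq : q.Monic := Polynomial.monic_X_pow_add hdeg
  refine IsIntegral.of_aeval_monic hq ?_ ?_
  · rw [show q.natDegree = p from Polynomial.natDegree_eq_of_degree_eq_some (by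
      rw [Polynomial.degree_add_eq_left_of_degree_lt (by rwa [Polynomial.degree_X_pow]), Polynomial.degree_X_pow])]
    exact hp.out.pos.ne'
  · have : Polynomial.aeval z q = c := by
      rw [← hx]
      simp [q, map_sum]
    rw [this]
    exact hc

/-- Iterated backward step. -/
theorem bwd {lam : A} (hu : IsUnit (α lam)) : ∀ (k : ℕ), (∀ i < k, lam ^ (p ^ i * (p - 1)) ∣ (p : A)) →
    ∀ {x c : L}, IsIntegral A c → x ^ p ^ k = 1 + α lam ^ p ^ k * c → ∃ z, IsIntegral A z ∧ x = 1 + α lam * z := by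
  intro k
  induction k with
  | zero => intro _ x c hc hx; exact ⟨c, hc, by simpa using hx⟩
  | succ k ih =>
    intro hdvd x c hc hx
    rw [pow_succ, pow_mul, pow_mul, ← map_pow] at hx
    obtain ⟨z, hz, hxz⟩ := bwd_one (lam := lam ^ p ^ k) (by rw [← pow_mul]; exact hdvd k k.lt_succ_self)
      (by rw [map_pow]; exact hu.pow _) hc hx
    rw [map_pow] at hxz
    exact ih (fun i hi => hdvd i (hi.trans k.lt_succ_self)) hz hxz

/-- Iterated forward step, with the congruence. -/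
theorem fwd {lam μ : A} (hμ : μ ∣ (p : A)) : ∀ (k : ℕ), (∀ i < k, lam ^ (p ^ i * (p - 1)) * μ ∣ (p : A)) →
    ∀ {z : L}, IsIntegral A z → ∃ c d : L, IsIntegral A c ∧ IsIntegral A d ∧ c = z ^ p ^ k + α μ * d ∧
      (1 + α lam * z) ^ p ^ k = 1 + α lam ^ p ^ k * c := by
  intro k
  induction k with
  | zero => intro _ z hz; exact ⟨z, 0, hz, isIntegral_zero, by simp, by simp⟩
  | succ k ih =>
    intro hdvd z hz
    obtain ⟨c, d, hc, hd, hcd, hx⟩ := ih (fun i hi => hdvd i (hi.trans k.lt_succ_self)) hz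
    obtain ⟨e, he⟩ := hdvd k k.lt_succ_self
    rw [pow_mul] at he
    obtain ⟨c', d', hc', hd', hcd', hx'⟩ := fwd_one (lam := lam ^ p ^ k) he hc
    rw [map_pow] at hx'
    -- `c ^ p` modulo `μ`
    obtain ⟨f, hf⟩ := hμ
    let B := integralClosure A L
    obtain ⟨r, hr⟩ := exists_add_pow_prime_eq hp.out (⟨z ^ p ^ k, hz.pow _⟩ : B) (⟨α μ * d, isIntegral_algebraMap.mul hd⟩ : B)
    have hr' := congrArg Subtype.val hr
    push_cast at hr'
    have hfL : (p : L) = α μ * α f := by rw [← map_mul, ← hf, map_natCast]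
    refine ⟨c', α μ ^ (p - 1) * d ^ p + α f * (z ^ p ^ k) * (α μ * d) * (r : L) + d', hc',
      ((((isIntegral_algebraMap.pow _).mul (hd.pow _)).add
        (((isIntegral_algebraMap.mul (hz.pow _)).mul (isIntegral_algebraMap.mul hd)).mul r.2)).add hd'), ?_, ?_⟩
    · rw [hcd', hcd, hr', hfL, mul_pow, pow_succ p k, pow_mul]
      have : α μ ^ p = α μ * α μ ^ (p - 1) := by
        rw [← pow_succ', Nat.sub_add_cancel hp.out.one_le]
      rw [this]
      ring
    · rw [pow_succ p k, pow_mul, hx, pow_mul]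
      exact hx'

end Groth.Agent.H3CAlg.KummerCongr
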