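import Mathlib

/-!
# Lattices in free modules over power series rings
-/

set_option autoImplicit false

universe u

namespace Groth.Agent.H3CAlg.LatticeQuotient

open PowerSeries
open scoped TensorProduct

variable {R : Type u} [CommRing R] {n : ℕ}

abbrev F (R : Type u) [CommRing R] (n : ℕ) : Type u := Fin n → R⟦X⟧

/-- Divide by `X ^ k`, forgetting the remainder. -/
noncomputable def shift (k : ℕ) : R⟦X⟧ →ₗ[R] R⟦X⟧ where
  toFun f := PowerSeries.mk fun p => coeff (p + k) f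
  map_add' f g := by ext; simp
  map_smul' c f := by ext; simp

theorem shift_X_pow_mul (k : ℕ) (f : R⟦X⟧) : shift k ((X : R⟦X⟧) ^ k * f) = f := by
  ext p
  show coeff p (PowerSeries.mk fun p => coeff (p + k) ((X : R⟦X⟧) ^ k * f)) = _
  rw [coeff_mk, PowerSeries.coeff_X_pow_mul]

variable (R n) in
/-- Truncation in degrees below `M`. -/
noncomputable def tr (M : ℕ) : F R n →ₗ[R] (Fin n → Fin M → R) where
  toFun f i j := coeff (j : ℕ) (f i)
  map_add' f g := by ext; simp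
  map_smul' c f := by ext; simp

variable (R n) in
/-- Polynomials of degree below `M`. -/
noncomputable def pol (M : ℕ) : (Fin n → Fin M → R) →ₗ[R] F R n where
  toFun v i := ∑ j : Fin M, v i j • (X : R⟦X⟧) ^ (j : ℕ)
  map_add' v w := by ext i : 1; simp [add_smul, Finset.sum_add_distrib]
  map_smul' c v := by ext i : 1; simp [Finset.smul_sum, mul_smul]

theorem decomp (M : ℕ) (f : F R n) :
    f = pol R n M (tr R n M f) + ((X : R⟦X⟧) ^ M) • (fun i => shift M (f i)) := by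
  ext i p
  show coeff p (f i) = coeff p ((∑ j : Fin M, coeff (j : ℕ) (f i) • (X : R⟦X⟧) ^ (j : ℕ)) +
    X ^ M * shift M (f i))
  rw [map_add, map_sum, PowerSeries.coeff_X_pow_mul']
  simp only [PowerSeries.coeff_smul, PowerSeries.coeff_X_pow, smul_eq_mul, mul_ite, mul_one, mul_zero]
  by_cases h : M ≤ p
  · rw [if_pos h, Finset.sum_eq_zero (fun j _ => if_neg (by omega)), zero_add]
    show _ = coeff (p - M) (PowerSeries.mk fun q => coeff (q + M) (f i))
    rw [coeff_mk, Nat.sub_add_cancel h]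
  · rw [if_neg h, add_zero, Finset.sum_eq_single (⟨p, by omega⟩ : Fin M)]
    · simp
    · intro j _ hj
      exact if_neg fun e => hj (Fin.ext e.symm)
    · simp

theorem mkQ_pol_tr (M : ℕ) (Λ : Submodule R⟦X⟧ (F R n)) (hΛ : ∀ v, ((X : R⟦X⟧) ^ M) • v ∈ Λ) (f : F R n) :
    (Submodule.Quotient.mk (pol R n M (tr R n M f)) : F R n ⧸ Λ) = Submodule.Quotient.mk f := by
  rw [eq_comm, Submodule.Quotient.eq, sub_eq_of_eq_add' (decomp M f)]
  exact hΛ _

theorem projective_quotient (M : ℕ) (Λ : Submodule R⟦X⟧ (F R n))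
    (hΛ : ∀ v, ((X : R⟦X⟧) ^ M) • v ∈ Λ) [Module.Finite R⟦X⟧ Λ] [Module.Projective R⟦X⟧ Λ] :
    Module.Projective R (F R n ⧸ Λ) := by
  obtain ⟨m, p, i, -, -, hpi⟩ := Module.Finite.exists_comp_eq_id_of_projective R⟦X⟧ Λ
  let mulX : F R n →ₗ[R] Λ :=
    { toFun := fun v => ⟨((X : R⟦X⟧) ^ M) • v, hΛ v⟩
      map_add' := fun v w => Subtype.ext (smul_add _ _ _)
      map_smul' := fun c v => Subtype.ext (smul_comm _ _ _) }
  let r : F R n →ₗ[R] F R n := Λ.subtype.restrictScalars R ∘ₗ p.restrictScalars R ∘ₗ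
    LinearMap.compLeft (shift M) (Fin m) ∘ₗ i.restrictScalars R ∘ₗ mulX
  have hr : ∀ v ∈ Λ, r v = v := by
    intro v hv
    show ((p fun a => shift M (i (mulX v) a) : Λ) : F R n) = v
    have : (fun a => shift M (i (mulX v) a)) = i ⟨v, hv⟩ := by
      funext a
      rw [show mulX v = ((X : R⟦X⟧) ^ M) • (⟨v, hv⟩ : Λ) from rfl, map_smul, Pi.smul_apply, smul_eq_mul,
        shift_X_pow_mul]
    rw [this]
    exact congrArg Subtype.val (LinearMap.congr_fun hpi ⟨v, hv⟩)
  have hrmem : ∀ v, r v ∈ Λ := fun v => SetLike.coe_mem _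
  let s₀ : (F R n ⧸ Λ.restrictScalars R) →ₗ[R] F R n :=
    (Λ.restrictScalars R).liftQ (LinearMap.id - r) fun v hv => by simp [hr v hv]
  let e : (F R n ⧸ Λ) ≃ₗ[R] (F R n ⧸ Λ.restrictScalars R) := (Submodule.Quotient.restrictScalarsEquiv R Λ).symm
  refine Module.Projective.of_split (tr R n M ∘ₗ s₀ ∘ₗ e.toLinearMap)
    ((Λ.mkQ.restrictScalars R) ∘ₗ pol R n M) (LinearMap.ext fun q => ?_)
  obtain ⟨f, rfl⟩ := Submodule.Quotient.mk_surjective Λ q
  show Submodule.Quotient.mk (pol R n M (tr R n M (f - r f))) = Submodule.Quotient.mk f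
  rw [mkQ_pol_tr M Λ hΛ, Submodule.Quotient.eq]
  simpa using hrmem f

theorem finite_lattice (M : ℕ) (Λ : Submodule R⟦X⟧ (F R n)) (hΛ : ∀ v, ((X : R⟦X⟧) ^ M) • v ∈ Λ)
    [Module.Projective R (F R n ⧸ Λ)] : Λ.FG := by
  classical
  let π : (Fin n → Fin M → R) →ₗ[R] (F R n ⧸ Λ) := (Λ.mkQ.restrictScalars R) ∘ₗ pol R n M
  have hπ : Function.Surjective π := fun q => by
    obtain ⟨f, rfl⟩ := Submodule.Quotient.mk_surjective Λ q
    exact ⟨tr R n M f, mkQ_pol_tr M Λ hΛ f⟩
  obtain ⟨s, hs⟩ := Module.projective_lifting_property π LinearMap.id hπ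
  let g : (Fin n → Fin M → R) →ₗ[R] F R n := pol R n M ∘ₗ (LinearMap.id - s ∘ₗ π)
  have hg : ∀ v, g v ∈ Λ := fun v => by
    refine (Submodule.Quotient.mk_eq_zero Λ).mp ?_
    show π (v - s (π v)) = 0
    rw [map_sub, show π (s (π v)) = π v from LinearMap.congr_fun hs _, sub_self]
  let b : Fin n × Fin M → (Fin n → Fin M → R) := fun a => Pi.single a.1 (Pi.single a.2 1)
  let S : Set (F R n) := (Set.range fun i : Fin n => ((X : R⟦X⟧) ^ M) • (Pi.single i (1 : R⟦X⟧) : F R n)) ∪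
    Set.range (fun a => g (b a))
  have hS : S.Finite := (Set.finite_range _).union (Set.finite_range _)
  refine ⟨hS.toFinset, le_antisymm ?_ ?_⟩
  · rw [Submodule.span_le, Set.Finite.coe_toFinset]
    rintro _ (⟨i, rfl⟩ | ⟨a, rfl⟩)
    · exact hΛ _
    · exact hg _
  · intro f hf
    rw [Set.Finite.coe_toFinset]
    show f ∈ Submodule.span R⟦X⟧ S
    rw [decomp M f]
    refine Submodule.add_mem _ ?_ ?_
    · have h0 : π (tr R n M f) = 0 := (mkQ_pol_tr M Λ hΛ f).trans ((Submodule.Quotient.mk_eq_zero Λ).mpr hf)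
      have h1 : pol R n M (tr R n M f) = g (tr R n M f) := by simp [g, h0]
      rw [h1]
      have hb : tr R n M f = ∑ a : Fin n × Fin M, tr R n M f a.1 a.2 • b a := by
        ext i j
        simp [b, Fintype.sum_prod_type, Finset.sum_apply, Pi.single_apply, ite_apply]
      rw [hb, map_sum]
      refine Submodule.sum_mem _ fun a _ => ?_
      rw [map_smul, ← IsScalarTower.algebraMap_smul R⟦X⟧ (tr R n M f a.1 a.2) (g (b a))]
      exact Submodule.smul_mem _ _ (Submodule.subset_span (Or.inr ⟨a, rfl⟩))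
    · rw [show ((X : R⟦X⟧) ^ M) • (fun i => shift M (f i)) =
        ∑ i, shift M (f i) • (((X : R⟦X⟧) ^ M) • (Pi.single i (1 : R⟦X⟧) : F R n)) by
          ext i p; simp [Finset.sum_apply, Pi.single_apply, mul_comm]]
      exact Submodule.sum_mem _ fun i _ => Submodule.smul_mem _ _ (Submodule.subset_span (Or.inl ⟨i, rfl⟩))

theorem projective_lattice (M : ℕ) (Λ : Submodule R⟦X⟧ (F R n)) (hΛ : ∀ v, ((X : R⟦X⟧) ^ M) • v ∈ Λ)
    [Module.Projective R (F R n ⧸ Λ)] : Module.Finite R⟦X⟧ Λ ∧ Module.Projective R⟦X⟧ Λ := by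
  classical
  have hfin : Module.Finite R⟦X⟧ Λ := Module.Finite.iff_fg.mpr (finite_lattice M Λ hΛ)
  refine ⟨hfin, ?_⟩
  haveI hQ : Module.Finite R (F R n ⧸ Λ) :=
    Module.Finite.of_surjective ((Λ.mkQ.restrictScalars R) ∘ₗ pol R n M) fun q => by
      obtain ⟨f, rfl⟩ := Submodule.Quotient.mk_surjective Λ q
      exact ⟨tr R n M f, mkQ_pol_tr M Λ hΛ f⟩
  -- `χ (q, c) = X q + c`
  let cst : (Fin n → R) →ₗ[R] F R n := LinearMap.compLeft (Algebra.linearMap R R⟦X⟧) (Fin n)
  let χ : (F R n ⧸ Λ) × (Fin n → R) →ₗ[R] (F R n ⧸ Λ) :=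
    LinearMap.coprod ((DistribSMul.toLinearMap R (F R n ⧸ Λ) (X : R⟦X⟧))) (Λ.mkQ.restrictScalars R ∘ₗ cst)
  let u : F R n →ₗ[R] (F R n ⧸ Λ) × (Fin n → R) :=
    (Λ.mkQ.restrictScalars R ∘ₗ LinearMap.compLeft (shift 1) (Fin n)).prod
      (LinearMap.compLeft (coeff (R := R) 0) (Fin n))
  have hone : ∀ a : R⟦X⟧, a = X * shift 1 a + algebraMap R R⟦X⟧ (coeff 0 a) := by
    intro a
    ext p
    rw [map_add, PowerSeries.algebraMap_eq, PowerSeries.coeff_C]
    rcases p with _ | p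
    · simp
    · rw [if_neg (Nat.succ_ne_zero p), add_zero, PowerSeries.coeff_succ_X_mul]
      show _ = coeff p (PowerSeries.mk fun q => coeff (q + 1) a)
      rw [coeff_mk]
  have hsplit : ∀ f : F R n, f = (X : R⟦X⟧) • (fun i => shift 1 (f i)) + cst fun i => coeff 0 (f i) :=
    fun f => funext fun i => hone (f i)
  have hu : ∀ f, χ (u f) = Submodule.Quotient.mk f := fun f => by
    conv_rhs => rw [hsplit f]
    rfl
  have hχ : Function.Surjective χ := fun q => by
    obtain ⟨f, rfl⟩ := Submodule.Quotient.mk_surjective Λ q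
    exact ⟨u f, hu f⟩
  obtain ⟨t, ht⟩ := Module.projective_lifting_property χ LinearMap.id hχ
  let P₀ := LinearMap.ker χ
  let ret : (F R n ⧸ Λ) × (Fin n → R) →ₗ[R] P₀ := (LinearMap.id - t ∘ₗ χ).codRestrict P₀ fun x => by
    show χ (x - t (χ x)) = 0
    rw [map_sub, show χ (t (χ x)) = χ x from LinearMap.congr_fun ht _, sub_self]
  have hret : ∀ x : P₀, ret x = x := fun x => Subtype.ext (by simp [ret, LinearMap.mem_ker.mp x.2])
  haveI : Module.Projective R P₀ := Module.Projective.of_split P₀.subtype ret (LinearMap.ext hret)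
  haveI : Module.Finite R P₀ := Module.Finite.of_surjective ret fun x => ⟨x, hret x⟩
  let ρ : Λ →ₗ[R] P₀ := (u ∘ₗ Λ.subtype.restrictScalars R).codRestrict P₀ fun x => by
    show χ (u x) = 0
    rw [hu]; exact (Submodule.Quotient.mk_eq_zero Λ).mpr x.2
  have hρ : Function.Surjective ρ := by
    intro x
    obtain ⟨⟨q, c⟩, hx⟩ := x
    obtain ⟨f, rfl⟩ := Submodule.Quotient.mk_surjective Λ q
    refine ⟨⟨(X : R⟦X⟧) • f + cst c, (Submodule.Quotient.mk_eq_zero Λ).mp hx⟩, Subtype.ext ?_⟩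
    show u ((X : R⟦X⟧) • f + cst c) = _
    refine Prod.ext ?_ ?_
    · show Submodule.Quotient.mk (fun i => shift 1 ((X : R⟦X⟧) * f i + algebraMap R R⟦X⟧ (c i))) = _
      congr 1
      funext i
      ext p
      show coeff p (PowerSeries.mk fun q => coeff (q + 1) ((X : R⟦X⟧) * f i + algebraMap R R⟦X⟧ (c i))) = _
      rw [coeff_mk, map_add, PowerSeries.algebraMap_eq, PowerSeries.coeff_succ_X_mul, PowerSeries.coeff_C,
        if_neg (Nat.succ_ne_zero p), add_zero]
    · funext i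
      show coeff 0 ((X : R⟦X⟧) * f i + algebraMap R R⟦X⟧ (c i)) = c i
      simp [PowerSeries.algebraMap_eq]
  have hρX : ∀ x : Λ, ρ ((X : R⟦X⟧) • x) = 0 := fun x => Subtype.ext (Prod.ext ((Submodule.Quotient.mk_eq_zero Λ).mpr (by
      have : (fun i => shift 1 ((X : R⟦X⟧) * x.1 i)) = x.1 := funext fun i => by
        simpa using shift_X_pow_mul 1 (x.1 i)
      show (fun i => shift 1 ((X : R⟦X⟧) * x.1 i)) ∈ Λ
      rw [this]; exact x.2)) (funext fun i => by
      show coeff 0 ((X : R⟦X⟧) * x.1 i) = 0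
      simp))
  have hρker : ∀ x : Λ, ρ x = 0 → ∃ y : Λ, x = (X : R⟦X⟧) • y := fun x hx => by
    have h1 := congrArg (fun z : P₀ => z.1.1) hx
    have h2 := congrArg (fun z : P₀ => z.1.2) hx
    change Submodule.Quotient.mk (fun i => shift 1 (x.1 i)) = 0 at h1
    change (fun i => coeff 0 (x.1 i)) = 0 at h2
    refine ⟨⟨_, (Submodule.Quotient.mk_eq_zero Λ).mp h1⟩, Subtype.ext ?_⟩
    show x.1 = (X : R⟦X⟧) • fun i => shift 1 (x.1 i)
    conv_lhs => rw [hsplit x.1]
    rw [show cst (fun i => coeff 0 (x.1 i)) = 0 by rw [h2, map_zero], add_zero]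
  obtain ⟨s, hs⟩ := Module.projective_lifting_property ρ LinearMap.id hρ
  let φ : R⟦X⟧ ⊗[R] P₀ →ₗ[R⟦X⟧] Λ := LinearMap.liftBaseChange R⟦X⟧ s
  have hX : ∀ z : R⟦X⟧ ⊗[R] P₀, ∃ p z', z = (1 : R⟦X⟧) ⊗ₜ[R] p + (X : R⟦X⟧) • z' := by
    intro z
    induction z using TensorProduct.induction_on with
    | zero => exact ⟨0, 0, by simp⟩
    | tmul a p =>
      refine ⟨coeff 0 a • p, shift 1 a ⊗ₜ p, ?_⟩
      rw [TensorProduct.tmul_smul, TensorProduct.smul_tmul', TensorProduct.smul_tmul', ← TensorProduct.add_tmul]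
      congr 1
      have := hone a
      simpa [Algebra.smul_def, add_comm] using this
    | add z w hz hw =>
      obtain ⟨p, z', rfl⟩ := hz
      obtain ⟨q, w', rfl⟩ := hw
      exact ⟨p + q, z' + w', by rw [TensorProduct.tmul_add, smul_add]; abel⟩
  have hφ1 : ∀ p, ρ (φ ((1 : R⟦X⟧) ⊗ₜ[R] p)) = p := fun p => by
    rw [LinearMap.liftBaseChange_tmul, one_smul]
    exact LinearMap.congr_fun hs p
  haveI : Module.Finite R⟦X⟧ (R⟦X⟧ ⊗[R] P₀) := inferInstance
  obtain ⟨m, pp, ii, -, hii, -⟩ := Module.Finite.exists_comp_eq_id_of_projective R⟦X⟧ (R⟦X⟧ ⊗[R] P₀)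
  have hinj : Function.Injective φ := by
    rw [injective_iff_map_eq_zero]
    have hdiv : ∀ k : ℕ, ∀ z, φ z = 0 → ∃ z', z = ((X : R⟦X⟧) ^ k) • z' ∧ φ z' = 0 := by
      intro k
      induction k with
      | zero => exact fun z hz => ⟨z, by simp, hz⟩
      | succ k ih =>
        intro z hz
        obtain ⟨z₁, rfl, hz₁⟩ := ih z hz
        obtain ⟨p, z', hz'⟩ := hX z₁
        have hp : p = 0 := by
          have h := congrArg ρ hz₁
          rw [hz', map_add, map_smul, map_add, hρX, add_zero, hφ1, map_zero] at h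
          exact h
        rw [hp, TensorProduct.tmul_zero, zero_add] at hz'
        refine ⟨z', by rw [hz', smul_smul, ← pow_succ], ?_⟩
        rw [hz', map_smul] at hz₁
        apply Subtype.ext
        funext i
        have h := congrFun (congrArg Subtype.val hz₁) i
        change (X : R⟦X⟧) * (φ z').1 i = 0 at h
        exact (PowerSeries.X_mul_inj).mp (h.trans (mul_zero _).symm)
    intro z hz
    apply hii
    rw [map_zero]
    funext a
    ext p
    obtain ⟨z', rfl, -⟩ := hdiv (p + 1) z hz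
    rw [map_smul, Pi.smul_apply, smul_eq_mul, PowerSeries.coeff_X_pow_mul', if_neg (by omega)]
    simp
  have hsurj : Function.Surjective φ := by
    rw [← LinearMap.range_eq_top]
    refine top_le_iff.mp (Submodule.le_of_le_smul_of_le_jacobson_bot (I := Ideal.span {(X : R⟦X⟧)})
      Module.Finite.fg_top ?_ ?_)
    · rw [Ideal.span_le, Set.singleton_subset_iff]
      refine Ideal.mem_jacobson_iff.mpr fun a => ?_
      obtain ⟨w, hw⟩ := (PowerSeries.isUnit_iff_constantCoeff.mpr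
        (by simp) : IsUnit (a * (X : R⟦X⟧) + 1))
      refine ⟨(↑w⁻¹ : R⟦X⟧), ?_⟩
      rw [Ideal.mem_bot]
      have h2 := w.inv_mul
      rw [hw] at h2
      linear_combination h2
    · intro x _
      obtain ⟨y, hy⟩ := hρker (x - φ ((1 : R⟦X⟧) ⊗ₜ[R] ρ x)) (by rw [map_sub, hφ1, sub_self])
      exact Submodule.mem_sup.mpr ⟨_, ⟨_, rfl⟩, (X : R⟦X⟧) • y,
        Submodule.smul_mem_smul (Ideal.mem_span_singleton_self _) trivial, by rw [← hy]; abel⟩
  exact Module.Projective.of_equiv (LinearEquiv.ofBijective φ ⟨hinj, hsurj⟩)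

end Groth.Agent.H3CAlg.LatticeQuotient
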