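import Mathlib

/-!
# Two-cocycles of units of Laurent polynomial rings are coboundaries
-/

set_option autoImplicit false

universe u

namespace Groth.Agent.H3CAlg.LaurentCocycle

open AddMonoidAlgebra

abbrev L (A : Type u) [CommRing A] (n : ℕ) : Type u := AddMonoidAlgebra A (Fin n → ℤ)

/-- The monoid map of an integer matrix. -/
abbrev lin {n m : ℕ} (M : Matrix (Fin n) (Fin m) ℤ) : (Fin m → ℤ) →+ (Fin n → ℤ) :=
  (Matrix.mulVecLin M).toAddMonoidHom

abbrev P1 : Matrix (Fin 3) (Fin 2) ℤ := !![0, 0; 1, 0; 0, 1]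
abbrev P2 : Matrix (Fin 3) (Fin 2) ℤ := !![1, 0; 1, 0; 0, 1]
abbrev P3 : Matrix (Fin 3) (Fin 2) ℤ := !![1, 0; 0, 1; 0, 1]
abbrev P4 : Matrix (Fin 3) (Fin 2) ℤ := !![1, 0; 0, 1; 0, 0]
abbrev Q1 : Matrix (Fin 2) (Fin 1) ℤ := !![0; 1]
abbrev Q2 : Matrix (Fin 2) (Fin 1) ℤ := !![1; 1]
abbrev Q3 : Matrix (Fin 2) (Fin 1) ℤ := !![1; 0]

variable (A : Type u) [CommRing A]

/-- The map induced on Laurent polynomials. -/
noncomputable abbrev pm {n m : ℕ} (M : Matrix (Fin n) (Fin m) ℤ) : L A m →+* L A n :=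
  AddMonoidAlgebra.mapDomainRingHom A (lin M)

noncomputable abbrev um {n m : ℕ} (M : Matrix (Fin n) (Fin m) ℤ) : (L A m)ˣ →* (L A n)ˣ :=
  Units.map (pm A M).toMonoidHom

/-- The second differential. -/
noncomputable def delta (ξ : (L A 2)ˣ) : (L A 3)ˣ :=
  um A P1 ξ * (um A P2 ξ)⁻¹ * um A P3 ξ * (um A P4 ξ)⁻¹

/-- The first differential. -/
noncomputable def eps (η : (L A 1)ˣ) : (L A 2)ˣ :=
  um A Q1 η * (um A Q2 η)⁻¹ * um A Q3 η

variable {A}

theorem delta_mul (ξ ξ' : (L A 2)ˣ) : delta A (ξ * ξ') = delta A ξ * delta A ξ' := by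
  simp only [delta, map_mul, mul_inv]
  ac_rfl

theorem eps_mul (η η' : (L A 1)ˣ) : eps A (η * η') = eps A η * eps A η' := by
  simp only [eps, map_mul, mul_inv]
  ac_rfl

theorem lin_P (v : Fin 2 → ℤ) : lin P1 v = ![0, v 0, v 1] ∧ lin P2 v = ![v 0, v 0, v 1] ∧
    lin P3 v = ![v 0, v 1, v 1] ∧ lin P4 v = ![v 0, v 1, 0] := by
  refine ⟨?_, ?_, ?_, ?_⟩ <;>
    · ext i; fin_cases i <;> simp [lin, Matrix.mulVec, dotProduct, Fin.sum_univ_two]

theorem lin_Q (v : Fin 1 → ℤ) : lin Q1 v = ![0, v 0] ∧ lin Q2 v = ![v 0, v 0] ∧ lin Q3 v = ![v 0, 0] := by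
  refine ⟨?_, ?_, ?_⟩ <;>
    · ext i; fin_cases i <;> simp [lin, Matrix.mulVec, dotProduct]

theorem delta_eps (η : (L A 1)ˣ) : delta A (eps A η) = 1 := by
  have hc : ∀ {P P' : Matrix (Fin 3) (Fin 2) ℤ} {Q Q' : Matrix (Fin 2) (Fin 1) ℤ},
      P * Q = P' * Q' → ∀ x, um A P (um A Q x) = um A P' (um A Q' x) := by
    intro P P' Q Q' h x
    ext1
    show pm A P (pm A Q x.val) = pm A P' (pm A Q' x.val)
    have hl : ∀ (P : Matrix (Fin 3) (Fin 2) ℤ) (Q : Matrix (Fin 2) (Fin 1) ℤ) (y : L A 1),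
        pm A P (pm A Q y) = pm A (P * Q) y := fun P Q y => by
      have e : (lin P).comp (lin Q) = lin (P * Q) := by
        refine AddMonoidHom.ext fun v => ?_
        exact DFunLike.congr_fun (Matrix.mulVecLin_mul P Q).symm v
      rw [← RingHom.comp_apply, ← AddMonoidAlgebra.mapDomainRingHom_comp, e]
    rw [hl, hl, h]
  have e1 := hc (show P2 * Q1 = P1 * Q1 by decide) η
  have e2 := hc (show P2 * Q2 = P3 * Q2 by decide) η
  have e3 := hc (show P2 * Q3 = P4 * Q2 by decide) η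
  have e4 := hc (show P3 * Q1 = P1 * Q2 by decide) η
  have e5 := hc (show P4 * Q1 = P1 * Q3 by decide) η
  have e6 := hc (show P4 * Q3 = P3 * Q3 by decide) η
  simp only [delta, eps, map_mul, map_inv, e1, e2, e3, e4, e5, e6]
  apply Additive.ofMul.injective
  simp only [ofMul_mul, ofMul_inv, ofMul_one]
  abel

/-- Coefficients in an ideal. -/
theorem map_eq_zero_iff (K : Ideal A) {n : ℕ} (x : L A n) :
    AddMonoidAlgebra.mapRingHom (Fin n → ℤ) (Ideal.Quotient.mk K) x = 0 ↔ ∀ v, x.coeff v ∈ K := by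
  rw [← AddMonoidAlgebra.coeff_inj, Finsupp.ext_iff]
  simp [Ideal.Quotient.eq_zero_iff_mem]

theorem mul_eq_zero_of_coeff_mem (K : Ideal A) (hK : ∀ a ∈ K, ∀ b ∈ K, a * b = 0) {n : ℕ} (x y : L A n)
    (hx : ∀ v, x.coeff v ∈ K) (hy : ∀ v, y.coeff v ∈ K) : x * y = 0 := by
  rw [← AddMonoidAlgebra.sum_coeff_single x, ← AddMonoidAlgebra.sum_coeff_single y, Finsupp.sum,
    Finsupp.sum, Finset.sum_mul_sum]
  exact Finset.sum_eq_zero fun v _ => Finset.sum_eq_zero fun w _ => by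
    rw [AddMonoidAlgebra.single_mul_single, hK _ (hx v) _ (hy w), AddMonoidAlgebra.single_zero]

theorem coeff_pm_of_injective {n m : ℕ} (M : Matrix (Fin n) (Fin m) ℤ) (hM : Function.Injective (lin M))
    (x : L A m) (v : Fin m → ℤ) : (pm A M x).coeff (lin M v) = x.coeff v := by
  show Finsupp.mapDomain (lin M) x.coeff (lin M v) = _
  exact Finsupp.mapDomain_apply hM _ _

theorem coeff_pm_of_not_range {n m : ℕ} (M : Matrix (Fin n) (Fin m) ℤ)
    (x : L A m) (w : Fin n → ℤ) (hw : ∀ v, lin M v ≠ w) : (pm A M x).coeff w = 0 := by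
  show Finsupp.mapDomain (lin M) x.coeff w = _
  exact Finsupp.mapDomain_notin_range _ _ fun ⟨v, hv⟩ => hw v hv

theorem injective_lin : Function.Injective (lin P1) ∧ Function.Injective (lin P2) ∧
    Function.Injective (lin P3) ∧ Function.Injective (lin P4) ∧ Function.Injective (lin Q1) ∧
    Function.Injective (lin Q2) ∧ Function.Injective (lin Q3) := by
  refine ⟨?_, ?_, ?_, ?_, ?_, ?_, ?_⟩ <;> intro v w h
  · rw [(lin_P v).1, (lin_P w).1] at h
    ext i; fin_cases i <;> [exact congrFun h 1; exact congrFun h 2]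
  · rw [(lin_P v).2.1, (lin_P w).2.1] at h
    ext i; fin_cases i <;> [exact congrFun h 0; exact congrFun h 2]
  · rw [(lin_P v).2.2.1, (lin_P w).2.2.1] at h
    ext i; fin_cases i <;> [exact congrFun h 0; exact congrFun h 1]
  · rw [(lin_P v).2.2.2, (lin_P w).2.2.2] at h
    ext i; fin_cases i <;> [exact congrFun h 0; exact congrFun h 1]
  · rw [(lin_Q v).1, (lin_Q w).1] at h
    ext i; fin_cases i; exact congrFun h 1
  · rw [(lin_Q v).2.1, (lin_Q w).2.1] at h
    ext i; fin_cases i; exact congrFun h 0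
  · rw [(lin_Q v).2.2, (lin_Q w).2.2] at h
    ext i; fin_cases i; exact congrFun h 0

/-- The primitive of an additive cocycle. -/
noncomputable def prim (n : L A 2) : L A 1 :=
  AddMonoidAlgebra.ofCoeff
    (Finsupp.single ![0] (2 * n.coeff ![0, 0]) -
      Finsupp.comapDomain (fun t : Fin 1 → ℤ => (![t 0, t 0] : Fin 2 → ℤ)) n.coeff
        (fun s _ t _ h => by ext i; fin_cases i; exact congrFun h 0))

theorem coeff_prim (n : L A 2) (t : Fin 1 → ℤ) :
    (prim n).coeff t = if t 0 = 0 then n.coeff ![0, 0] else - n.coeff ![t 0, t 0] := by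
  show (Finsupp.single ![0] (2 * n.coeff ![0, 0]) : (Fin 1 → ℤ) →₀ A) t - n.coeff ![t 0, t 0] = _
  by_cases h : t 0 = 0
  · have ht : t = ![0] := by ext i; fin_cases i; exact h
    subst ht
    simp
    ring
  · rw [if_neg h, Finsupp.single_eq_of_ne (fun e => h (by simp [e])), zero_sub]

/-- Additive two-cocycles are coboundaries. -/
theorem additive (n : L A 2) (h : pm A P1 n - pm A P2 n + pm A P3 n - pm A P4 n = 0) :
    n = pm A Q1 (prim n) - pm A Q2 (prim n) + pm A Q3 (prim n) := by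
  obtain ⟨i1, i2, i3, i4, j1, j2, j3⟩ := injective_lin
  let c := fun a b : ℤ => n.coeff ![a, b]
  have hv : ∀ v : Fin 2 → ℤ, n.coeff v = c (v 0) (v 1) := fun v => by
    show n.coeff v = n.coeff _
    congr 1; ext i; fin_cases i <;> rfl
  have key : ∀ x y z : ℤ, (if x = 0 then c y z else 0) - (if x = y then c x z else 0) +
      (if y = z then c x y else 0) - (if z = 0 then c x y else 0) = 0 := by
    intro x y z
    have h0 := congrArg (fun w : L A 3 => w.coeff ![x, y, z]) h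
    simp only [AddMonoidAlgebra.coeff_add, AddMonoidAlgebra.coeff_sub, Finsupp.add_apply,
      Finsupp.sub_apply, AddMonoidAlgebra.coeff_zero, Finsupp.zero_apply] at h0
    have e1 : (pm A P1 n).coeff ![x, y, z] = if x = 0 then c y z else 0 := by
      split_ifs with hx
      · rw [show (![x, y, z] : Fin 3 → ℤ) = lin P1 ![y, z] by rw [(lin_P _).1, hx]; rfl,
          coeff_pm_of_injective _ i1]
      · exact coeff_pm_of_not_range _ _ _ fun v e => hx (by
          rw [(lin_P v).1] at e; exact (congrFun e 0).symm)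
    have e2 : (pm A P2 n).coeff ![x, y, z] = if x = y then c x z else 0 := by
      split_ifs with hx
      · rw [show (![x, y, z] : Fin 3 → ℤ) = lin P2 ![x, z] by rw [(lin_P _).2.1, hx]; rfl,
          coeff_pm_of_injective _ i2]
      · exact coeff_pm_of_not_range _ _ _ fun v e => hx (by
          rw [(lin_P v).2.1] at e; exact (congrFun e 0).symm.trans (congrFun e 1))
    have e3 : (pm A P3 n).coeff ![x, y, z] = if y = z then c x y else 0 := by
      split_ifs with hx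
      · rw [show (![x, y, z] : Fin 3 → ℤ) = lin P3 ![x, y] by rw [(lin_P _).2.2.1, hx]; rfl,
          coeff_pm_of_injective _ i3]
      · exact coeff_pm_of_not_range _ _ _ fun v e => hx (by
          rw [(lin_P v).2.2.1] at e; exact (congrFun e 1).symm.trans (congrFun e 2))
    have e4 : (pm A P4 n).coeff ![x, y, z] = if z = 0 then c x y else 0 := by
      split_ifs with hx
      · rw [show (![x, y, z] : Fin 3 → ℤ) = lin P4 ![x, y] by rw [(lin_P _).2.2.2, hx]; rfl,
          coeff_pm_of_injective _ i4]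
      · exact coeff_pm_of_not_range _ _ _ fun v e => hx (by
          rw [(lin_P v).2.2.2] at e; exact (congrFun e 2).symm)
    rwa [e1, e2, e3, e4] at h0
  apply AddMonoidAlgebra.coeff_injective
  ext v
  rw [hv]
  obtain ⟨a, b, rfl⟩ : ∃ a b, v = ![a, b] := ⟨v 0, v 1, by ext i; fin_cases i <;> rfl⟩
  simp only [AddMonoidAlgebra.coeff_add, AddMonoidAlgebra.coeff_sub, Finsupp.add_apply,
    Finsupp.sub_apply, Matrix.cons_val_zero, Matrix.cons_val_one]
  have f1 : (pm A Q1 (prim n)).coeff ![a, b] = if a = 0 then (prim n).coeff ![b] else 0 := by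
    split_ifs with hx
    · rw [show (![a, b] : Fin 2 → ℤ) = lin Q1 ![b] by rw [(lin_Q _).1, hx]; rfl,
        coeff_pm_of_injective _ j1]
    · exact coeff_pm_of_not_range _ _ _ fun v e => hx (by
        rw [(lin_Q v).1] at e; exact (congrFun e 0).symm)
  have f2 : (pm A Q2 (prim n)).coeff ![a, b] = if a = b then (prim n).coeff ![a] else 0 := by
    split_ifs with hx
    · rw [show (![a, b] : Fin 2 → ℤ) = lin Q2 ![a] by rw [(lin_Q _).2.1, hx]; rfl,
        coeff_pm_of_injective _ j2]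
    · exact coeff_pm_of_not_range _ _ _ fun v e => hx (by
        rw [(lin_Q v).2.1] at e; exact (congrFun e 0).symm.trans (congrFun e 1))
  have f3 : (pm A Q3 (prim n)).coeff ![a, b] = if b = 0 then (prim n).coeff ![a] else 0 := by
    split_ifs with hx
    · rw [show (![a, b] : Fin 2 → ℤ) = lin Q3 ![a] by rw [(lin_Q _).2.2, hx]; rfl,
        coeff_pm_of_injective _ j3]
    · exact coeff_pm_of_not_range _ _ _ fun v e => hx (by
        rw [(lin_Q v).2.2] at e; exact (congrFun e 1).symm)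
  rw [f1, f2, f3]
  simp only [coeff_prim, Matrix.cons_val_zero]
  by_cases ha : a = 0 <;> by_cases hb : b = 0
  · simp [ha, hb, c]
  · have h1 := key 0 b b
    simp only [ha, hb, Ne.symm hb, if_true, if_false] at h1 ⊢
    linear_combination h1
  · have h1 := key a a 0
    simp only [ha, hb, if_true, if_false] at h1 ⊢
    linear_combination (-1 : A) * h1
  · by_cases hab : a = b
    · subst hab
      simp [ha, c]
    · have h1 := key 0 a b
      simp only [ha, hb, hab, Ne.symm ha, if_true, if_false] at h1 ⊢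
      linear_combination h1

theorem coeff_pm_mem (K : Ideal A) {n m : ℕ} (M : Matrix (Fin n) (Fin m) ℤ)
    (hM : Function.Injective (lin M)) (x : L A m) (hx : ∀ v, x.coeff v ∈ K) (w : Fin n → ℤ) :
    (pm A M x).coeff w ∈ K := by
  by_cases h : ∃ v, lin M v = w
  · obtain ⟨v, rfl⟩ := h
    rw [coeff_pm_of_injective _ hM]; exact hx v
  · rw [coeff_pm_of_not_range _ _ _ (not_exists.mp h)]; exact K.zero_mem

theorem coeff_prim_mem (K : Ideal A) (n : L A 2) (hn : ∀ v, n.coeff v ∈ K) (t : Fin 1 → ℤ) :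
    (prim n).coeff t ∈ K := by
  rw [coeff_prim]; split_ifs
  · exact hn _
  · exact K.neg_mem (hn _)

/-- One-cocycle step in square-zero coefficients. -/
theorem step_exact (K : Ideal A) (hK : ∀ a ∈ K, ∀ b ∈ K, a * b = 0) (ξ : (L A 2)ˣ)
    (hn : ∀ v, ((ξ : L A 2) - 1).coeff v ∈ K) (hξ : delta A ξ = 1) (η : (L A 1)ˣ)
    (hη : (η : L A 1) = 1 + prim ((ξ : L A 2) - 1)) : eps A η = ξ := by
  obtain ⟨n, rfl⟩ : ∃ n, n = (ξ : L A 2) - 1 := ⟨_, rfl⟩
  set n := (ξ : L A 2) - 1 with hndef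
  obtain ⟨i1, i2, i3, i4, j1, j2, j3⟩ := injective_lin
  have hξn : (ξ : L A 2) = 1 + n := by rw [hndef]; ring
  let e := prim n
  have he : ∀ t, e.coeff t ∈ K := coeff_prim_mem K n hn
  have hval : ∀ {k m : ℕ} (M : Matrix (Fin k) (Fin m) ℤ) (hM : Function.Injective (lin M))
      (u : (L A m)ˣ) (x : L A m), (u : L A m) = 1 + x → (∀ v, x.coeff v ∈ K) →
      (um A M u).val = 1 + pm A M x ∧ (um A M u)⁻¹.val = 1 - pm A M x := by
    intro k m M hM u x hu hx
    have h1 : (um A M u).val = 1 + pm A M x := by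
      show pm A M u.val = _
      rw [hu, map_add, map_one]
    refine ⟨h1, Units.inv_eq_of_mul_eq_one_right ?_⟩
    rw [h1, show (1 + pm A M x) * (1 - pm A M x) = 1 - pm A M x * pm A M x by ring,
      mul_eq_zero_of_coeff_mem K hK _ _ (coeff_pm_mem K M hM x hx) (coeff_pm_mem K M hM x hx), sub_zero]
  have hprod : ∀ {k : ℕ} (a b : L A k), (∀ v, a.coeff v ∈ K) → (∀ v, b.coeff v ∈ K) →
      (1 + a) * (1 + b) = 1 + (a + b) := fun a b ha hb => by
    rw [show (1 + a) * (1 + b) = 1 + (a + b) + a * b by ring, mul_eq_zero_of_coeff_mem K hK a b ha hb,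
      add_zero]
  have hadd : ∀ {k : ℕ} (a b : L A k), (∀ v, a.coeff v ∈ K) → (∀ v, b.coeff v ∈ K) →
      ∀ v, (a + b).coeff v ∈ K := fun a b ha hb v => by
    rw [AddMonoidAlgebra.coeff_add, Finsupp.add_apply]; exact K.add_mem (ha v) (hb v)
  have hneg : ∀ {k : ℕ} (a : L A k), (∀ v, a.coeff v ∈ K) → ∀ v, (-a).coeff v ∈ K := fun a ha v => by
    rw [AddMonoidAlgebra.coeff_neg, Finsupp.neg_apply]; exact K.neg_mem (ha v)
  have c1 := coeff_pm_mem K P1 i1 n hn
  have c2 := hneg _ (coeff_pm_mem K P2 i2 n hn)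
  have c3 := coeff_pm_mem K P3 i3 n hn
  have c4 := hneg _ (coeff_pm_mem K P4 i4 n hn)
  have hd := congrArg Units.val hξ
  rw [delta, Units.val_mul, Units.val_mul, Units.val_mul, (hval P1 i1 ξ n hξn hn).1,
    (hval P2 i2 ξ n hξn hn).2, (hval P3 i3 ξ n hξn hn).1, (hval P4 i4 ξ n hξn hn).2, sub_eq_add_neg,
    sub_eq_add_neg, hprod _ _ c1 c2, hprod _ _ (hadd _ _ c1 c2) c3,
    hprod _ _ (hadd _ _ (hadd _ _ c1 c2) c3) c4, Units.val_one, add_eq_left] at hd
  have hadd' := additive n (by rw [← hd]; ring)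
  have d1 := coeff_pm_mem K Q1 j1 e he
  have d2 := hneg _ (coeff_pm_mem K Q2 j2 e he)
  have d3 := coeff_pm_mem K Q3 j3 e he
  apply Units.ext
  rw [eps, Units.val_mul, Units.val_mul, (hval Q1 j1 η e hη he).1, (hval Q2 j2 η e hη he).2,
    (hval Q3 j3 η e hη he).1, sub_eq_add_neg, hprod _ _ d1 d2, hprod _ _ (hadd _ _ d1 d2) d3,
    hξn, ← sub_eq_add_neg]
  exact congrArg (1 + ·) hadd'.symm

section map

variable {B : Type u} [CommRing B] (φ : A →+* B)

noncomputable abbrev mr (n : ℕ) : L A n →+* L B n := AddMonoidAlgebra.mapRingHom (Fin n → ℤ) φ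

noncomputable abbrev umr (n : ℕ) : (L A n)ˣ →* (L B n)ˣ := Units.map (mr φ n).toMonoidHom

theorem umr_um {n m : ℕ} (M : Matrix (Fin n) (Fin m) ℤ) (u : (L A m)ˣ) :
    umr φ n (um A M u) = um B M (umr φ m u) := by
  ext1
  exact RingHom.congr_fun (AddMonoidAlgebra.mapRingHom_comp_mapDomainRingHom φ (lin M)) u.val

theorem umr_delta (ξ : (L A 2)ˣ) : umr φ 3 (delta A ξ) = delta B (umr φ 2 ξ) := by
  simp only [delta, map_mul, map_inv, umr_um]

theorem umr_eps (η : (L A 1)ˣ) : umr φ 2 (eps A η) = eps B (umr φ 1 η) := by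
  simp only [eps, map_mul, map_inv, umr_um]

theorem mr_prim (n : L A 2) : mr φ 1 (prim n) = prim (mr φ 2 n) := by
  apply AddMonoidAlgebra.coeff_injective
  ext t
  rw [AddMonoidAlgebra.coeff_mapRingHom, coeff_prim, coeff_prim]
  split_ifs <;> simp

end map

theorem isNilpotent_of_coeff {n : ℕ} (x : L A n) (hx : ∀ v, IsNilpotent (x.coeff v)) : IsNilpotent x := by
  rw [← AddMonoidAlgebra.sum_coeff_single x, Finsupp.sum]
  refine isNilpotent_sum fun v _ => ?_
  obtain ⟨k, hk⟩ := hx v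
  exact ⟨k + 1, by rw [AddMonoidAlgebra.single_pow, pow_succ, hk, zero_mul, AddMonoidAlgebra.single_zero]⟩

/-- Improving the congruence by one step. -/
theorem step (J : Ideal A) (hJ : ∀ a ∈ J, IsNilpotent a) (k : ℕ) (ξ : (L A 2)ˣ) (hξ : delta A ξ = 1)
    (hn : ∀ v, ((ξ : L A 2) - 1).coeff v ∈ J ^ (k + 1)) :
    ∃ η : (L A 1)ˣ, ∀ v, (((ξ * (eps A η)⁻¹ : (L A 2)ˣ) : L A 2) - 1).coeff v ∈ J ^ (k + 2) := by
  have hmem : ∀ t, (prim ((ξ : L A 2) - 1)).coeff t ∈ J := fun t =>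
    Ideal.pow_le_self (Nat.succ_ne_zero k) (coeff_prim_mem _ _ hn t)
  obtain ⟨η, hη⟩ : ∃ η : (L A 1)ˣ, (η : L A 1) = 1 + prim ((ξ : L A 2) - 1) :=
    ⟨(IsNilpotent.isUnit_one_add (isNilpotent_of_coeff _ fun t => hJ _ (hmem t))).unit, rfl⟩
  refine ⟨η, ?_⟩
  let φ := Ideal.Quotient.mk (J ^ (k + 2))
  have hK : ∀ a ∈ (J ^ (k + 1)).map φ, ∀ b ∈ (J ^ (k + 1)).map φ, a * b = 0 := by
    intro a ha b hb
    obtain ⟨a₀, ha₀, rfl⟩ := (Ideal.mem_map_iff_of_surjective φ Ideal.Quotient.mk_surjective).mp ha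
    obtain ⟨b₀, hb₀, rfl⟩ := (Ideal.mem_map_iff_of_surjective φ Ideal.Quotient.mk_surjective).mp hb
    rw [← map_mul, Ideal.Quotient.eq_zero_iff_mem]
    refine Ideal.pow_le_pow_right (show k + 2 ≤ (k + 1) + (k + 1) by omega) ?_
    rw [pow_add]
    exact Ideal.mul_mem_mul ha₀ hb₀
  have hval : ((umr φ 2 ξ : (L _ 2)ˣ) : L _ 2) - 1 = mr φ 2 ((ξ : L A 2) - 1) := by
    rw [map_sub, map_one]; rfl
  have key : eps _ (umr φ 1 η) = umr φ 2 ξ := by
    refine step_exact _ hK (umr φ 2 ξ) (fun v => ?_) ?_ (umr φ 1 η) ?_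
    · rw [hval, AddMonoidAlgebra.coeff_mapRingHom]
      exact Ideal.mem_map_of_mem φ (hn v)
    · rw [← umr_delta, hξ, map_one]
    · rw [hval, ← mr_prim]
      show mr φ 1 η.val = _
      rw [hη, map_add, map_one]
  have h1 : umr φ 2 (ξ * (eps A η)⁻¹) = 1 := by rw [map_mul, map_inv, umr_eps, key, mul_inv_cancel]
  intro v
  refine (map_eq_zero_iff _ _).mp ?_ v
  rw [map_sub, map_one, sub_eq_zero]
  exact congrArg Units.val h1

theorem unipotent (J : Ideal A) (hJfg : J.FG) (hJ : ∀ a ∈ J, IsNilpotent a) (ξ : (L A 2)ˣ)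
    (hξ : delta A ξ = 1) (hn : ∀ v, ((ξ : L A 2) - 1).coeff v ∈ J) : ∃ η, ξ = eps A η := by
  obtain ⟨N, hN⟩ : ∃ N, J ^ N = ⊥ := by
    have : J ≤ nilradical A := fun a ha => mem_nilradical.mpr (hJ a ha)
    obtain ⟨N, hN⟩ := Ideal.exists_pow_le_of_le_radical_of_fg (show J ≤ (⊥ : Ideal A).radical from this) hJfg
    exact ⟨N, le_bot_iff.mp hN⟩
  suffices ∀ d k, k + d = N → ∀ ξ : (L A 2)ˣ, delta A ξ = 1 →
      (∀ v, ((ξ : L A 2) - 1).coeff v ∈ J ^ (k + 1)) → ∃ η, ξ = eps A η from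
    this N 0 (Nat.zero_add N) ξ hξ (by simpa using hn)
  intro d
  induction d with
  | zero =>
    intro k hk ξ _ hn
    refine ⟨1, Units.ext ?_⟩
    have hz : (ξ : L A 2) - 1 = 0 := by
      apply AddMonoidAlgebra.coeff_injective
      ext v
      have := Ideal.pow_le_pow_right (show N ≤ k + 1 by omega) (hn v)
      rw [hN, Ideal.mem_bot] at this
      simpa using this
    rw [sub_eq_zero] at hz
    rw [hz, eps, map_one, map_one, map_one, inv_one, mul_one, mul_one, Units.val_one]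
  | succ d ih =>
    intro k hk ξ hξ hn
    obtain ⟨η, hη⟩ := step J hJ k ξ hξ hn
    have hinv : delta A (eps A η)⁻¹ = 1 := by
      have h := delta_mul (eps A η) (eps A η)⁻¹
      rw [mul_inv_cancel, delta_eps, one_mul] at h
      rw [← h, delta, map_one, map_one, map_one, map_one, inv_one, mul_one, mul_one, mul_one]
    obtain ⟨η', hη'⟩ := ih (k + 1) (by omega) (ξ * (eps A η)⁻¹)
      (by rw [delta_mul, hξ, hinv, one_mul]) hη
    exact ⟨η' * η, by rw [eps_mul, ← hη', inv_mul_cancel_right]⟩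

/-- Units of Laurent polynomials over a domain are monomials. -/
theorem exists_single {D : Type u} [CommRing D] [IsDomain D] {n : ℕ} (u : (L D n)ˣ) :
    ∃ v c, c ≠ 0 ∧ (u : L D n) = AddMonoidAlgebra.single v c := by
  classical
  let S := (u : L D n).coeff.support
  let T := (u⁻¹ : (L D n)ˣ).val.coeff.support
  have hS : S.Nonempty := Finsupp.support_nonempty_iff.mpr fun h => u.ne_zero (AddMonoidAlgebra.coeff_eq_zero.mp h)
  have hT : T.Nonempty := Finsupp.support_nonempty_iff.mpr fun h =>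
    (u⁻¹).ne_zero (AddMonoidAlgebra.coeff_eq_zero.mp h)
  have hcard : S.card = 1 := by
    by_contra hne
    have h1 : 1 < S.card * T.card := by
      have := hS.card_pos
      have := hT.card_pos
      calc 1 < S.card := by omega
        _ ≤ S.card * T.card := Nat.le_mul_of_pos_right _ hT.card_pos
    obtain ⟨p1, h1, p2, h2, hp, u1, u2⟩ := TwoUniqueSums.uniqueAdd_of_one_lt_card h1
    rw [Finset.mem_product] at h1 h2
    have hzero : ∀ p : (Fin n → ℤ) × (Fin n → ℤ), p.1 ∈ S → p.2 ∈ T → UniqueAdd S T p.1 p.2 →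
        p.1 + p.2 = 0 := fun p hp1 hp2 hu => by
      by_contra hne
      have h := AddMonoidAlgebra.coeff_mul_add_of_uniqueAdd hu
      rw [Units.mul_inv, AddMonoidAlgebra.one_def, AddMonoidAlgebra.coeff_single,
        Finsupp.single_eq_of_ne hne] at h
      exact mul_ne_zero (Finsupp.mem_support_iff.mp hp1) (Finsupp.mem_support_iff.mp hp2) h.symm
    have e1 := hzero p1 h1.1 h1.2 u1
    have e2 := hzero p2 h2.1 h2.2 u2
    have := u1 h2.1 h2.2 (e2.trans e1.symm)
    exact hp (Prod.ext this.1.symm this.2.symm)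
  obtain ⟨v, hv⟩ := Finset.card_eq_one.mp hcard
  refine ⟨v, (u : L D n).coeff v, Finsupp.mem_support_iff.mp (hv ▸ Finset.mem_singleton_self v : v ∈ S), ?_⟩
  apply AddMonoidAlgebra.coeff_injective
  rw [AddMonoidAlgebra.coeff_single]
  exact (Finsupp.support_eq_singleton.mp hv).2

/-- Over a domain a cocycle is a constant. -/
theorem coeff_eq_zero_of_domain {D : Type u} [CommRing D] [IsDomain D] (ξ : (L D 2)ˣ)
    (hξ : delta D ξ = 1) : ∀ v, v ≠ 0 → (ξ : L D 2).coeff v = 0 := by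
  obtain ⟨w, c, hc, hw⟩ := exists_single ξ
  have hmon : ∀ M : Matrix (Fin 3) (Fin 2) ℤ, (um D M ξ).val = AddMonoidAlgebra.single (lin M w) c := fun M => by
    show pm D M ξ.val = _
    rw [hw]
    exact AddMonoidAlgebra.mapDomain_single
  have hd : um D P1 ξ * um D P3 ξ = um D P2 ξ * um D P4 ξ := by
    rw [← mul_inv_eq_one, ← hξ, delta, mul_inv]; ac_rfl
  have h := congrArg Units.val hd
  rw [Units.val_mul, Units.val_mul, hmon, hmon, hmon, hmon, AddMonoidAlgebra.single_mul_single,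
    AddMonoidAlgebra.single_mul_single, AddMonoidAlgebra.single_left_inj (mul_ne_zero hc hc),
    (lin_P w).1, (lin_P w).2.1, (lin_P w).2.2.1, (lin_P w).2.2.2] at h
  have h0 := congrFun h 0
  have h2 := congrFun h 2
  simp at h0 h2
  have hw0 : w = 0 := by
    ext i; fin_cases i <;> simp <;> omega
  intro v hv
  rw [hw, hw0, AddMonoidAlgebra.coeff_single, Finsupp.single_eq_of_ne hv]

theorem main (ξ : (L A 2)ˣ) (hξ : delta A ξ = 1) : ∃ η, ξ = eps A η := by
  classical
  have hnil : ∀ v, v ≠ 0 → IsNilpotent ((ξ : L A 2).coeff v) := fun v hv => by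
    rw [← mem_nilradical, nilradical_eq_sInf]
    refine Submodule.mem_sInf.mpr fun (p : Ideal A) hp => ?_
    haveI : Ideal.IsPrime p := hp
    have h := coeff_eq_zero_of_domain (umr (Ideal.Quotient.mk p) 2 ξ) (by rw [← umr_delta, hξ, map_one]) v hv
    change (mr (Ideal.Quotient.mk p) 2 ξ.val).coeff v = 0 at h
    rwa [AddMonoidAlgebra.coeff_mapRingHom, Ideal.Quotient.eq_zero_iff_mem] at h
  let n₁ := (ξ : L A 2) - AddMonoidAlgebra.single 0 ((ξ : L A 2).coeff 0)
  have hn₁ : ∀ v, IsNilpotent (n₁.coeff v) := fun v => by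
    by_cases hv : v = 0
    · simp [n₁, hv]
    · simp [n₁, hv, hnil v hv]
  have hu : IsUnit (AddMonoidAlgebra.single (0 : Fin 2 → ℤ) ((ξ : L A 2).coeff 0)) := by
    have := (IsNilpotent.isUnit_add_left_of_commute (isNilpotent_of_coeff n₁ hn₁).neg ξ.isUnit (Commute.all _ _))
    simpa [n₁] using this
  have hc : IsUnit ((ξ : L A 2).coeff 0) := by
    obtain ⟨w, hw⟩ := hu
    have h := congrArg (fun x : L A 2 => x.coeff 0) w.mul_inv
    simp only [hw, AddMonoidAlgebra.one_def, AddMonoidAlgebra.coeff_single, Finsupp.single_eq_same,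
      AddMonoidAlgebra.coeff_single_zero_mul] at h
    exact IsUnit.of_mul_eq_one _ h
  obtain ⟨c, hc⟩ := hc
  let cc : ∀ n, (L A n)ˣ := fun n => Units.map (AddMonoidAlgebra.singleZeroRingHom).toMonoidHom c
  have hcc : ∀ {n m : ℕ} (M : Matrix (Fin n) (Fin m) ℤ), um A M (cc m) = cc n := fun M => by
    ext1
    show pm A M (AddMonoidAlgebra.single 0 c.val) = AddMonoidAlgebra.single 0 c.val
    exact AddMonoidAlgebra.mapDomain_single.trans (by rw [map_zero])
  have heps : eps A (cc 1) = cc 2 := by rw [eps, hcc, hcc, hcc, mul_inv_cancel, one_mul]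
  let ξ' := ξ * (cc 2)⁻¹
  have hξ' : delta A ξ' = 1 := by
    rw [delta_mul, hξ, one_mul, delta, map_inv, map_inv, map_inv, map_inv, hcc, hcc, hcc, hcc]
    simp
  have hval : (ξ' : L A 2) - 1 = AddMonoidAlgebra.single 0 (↑c⁻¹ : A) * n₁ := by
    show (ξ : L A 2) * ((cc 2)⁻¹).val - 1 = _
    rw [show ((cc 2)⁻¹).val = AddMonoidAlgebra.single 0 (↑c⁻¹ : A) from rfl, mul_sub,
      AddMonoidAlgebra.single_mul_single, ← hc, Units.inv_mul, add_zero, ← AddMonoidAlgebra.one_def, mul_comm]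
  have hv : ∀ v, ((ξ' : L A 2) - 1).coeff v = ↑c⁻¹ * n₁.coeff v := fun v => by
    rw [hval, AddMonoidAlgebra.coeff_single_zero_mul]
  let J := Ideal.span (↑(n₁.coeff.support.image fun v => ↑c⁻¹ * n₁.coeff v) : Set A)
  have hJ : ∀ a ∈ J, IsNilpotent a := fun a ha => by
    refine mem_nilradical.mp ((Ideal.span_le (I := nilradical A)).mpr ?_ ha)
    intro b hb
    obtain ⟨v, -, rfl⟩ := Finset.mem_image.mp (Finset.mem_coe.mp hb)
    exact (nilradical A).mul_mem_left _ (mem_nilradical.mpr (hn₁ v))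
  obtain ⟨η, hη⟩ := unipotent J ⟨_, rfl⟩ hJ ξ' hξ' fun v => by
    rw [hv]
    by_cases h : v ∈ n₁.coeff.support
    · exact Ideal.subset_span (Finset.mem_coe.mpr (Finset.mem_image_of_mem _ h))
    · rw [Finsupp.notMem_support_iff.mp h, mul_zero]; exact J.zero_mem
  exact ⟨η * cc 1, by rw [eps_mul, ← hη, heps, inv_mul_cancel_right]⟩

end Groth.Agent.H3CAlg.LaurentCocycle
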