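import Mathlib.RingTheory.Localization.Away.Basic
import Mathlib.RingTheory.Localization.Integer
import Mathlib.RingTheory.Localization.Module
import Mathlib.LinearAlgebra.Matrix.Charpoly.Coeff
import Mathlib.LinearAlgebra.Charpoly.ToMatrix
import Mathlib.LinearAlgebra.Matrix.NonsingularInverse
import Mathlib.Analysis.Complex.Basic
import Mathlib.Tactic

/-!
Logarithmic connections on `R[X]^d` along `Θ = ∏ (X - θ i)` with non-resonant residues:
the connection is bijective on polar parts.
-/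

namespace Groth.Agent.H3CAlg

open Polynomial

universe u

variable {R : Type u} [CommRing R] {d r : ℕ} (θ : Fin r → R)
  (hθ : ∀ i k, i ≠ k → IsUnit (θ i - θ k))
  (Θ : R[X]) (hΘ : Θ = ∏ i, (X - Polynomial.C (θ i)))
  (D₀ : (Fin d → R[X]) →+ (Fin d → R[X]))
  (hD₀ : ∀ (p : R[X]) (v : Fin d → R[X]), D₀ (p • v) = (Θ * derivative p) • v + p • D₀ v)

/-- `Π_{k ≠ i} (θ i - θ k)`. -/
noncomputable def LogDeriv.pii (i : Fin r) : R := ∏ k ∈ Finset.univ.erase i, (θ i - θ k)

include hθ in
theorem LogDeriv.isUnit_pii (i : Fin r) : IsUnit (LogDeriv.pii θ i) := by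
  refine IsUnit.prod_iff.mpr fun k hk => hθ i k (Finset.ne_of_mem_erase hk).symm

include hΘ in
theorem LogDeriv.eval_Θ (i : Fin r) : Θ.eval (θ i) = 0 := by
  rw [hΘ, eval_prod]
  exact Finset.prod_eq_zero (Finset.mem_univ i) (by simp)

include hΘ in
theorem LogDeriv.eval_derivative (i : Fin r) : (derivative Θ).eval (θ i) = LogDeriv.pii θ i := by
  classical
  rw [hΘ, ← Finset.mul_prod_erase _ _ (Finset.mem_univ i), derivative_mul]
  simp [eval_prod, LogDeriv.pii]

include hθ hΘ in
theorem LogDeriv.dvd_of_eval (p : R[X]) (h : ∀ i, p.eval (θ i) = 0) : Θ ∣ p := by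
  classical
  rw [hΘ]
  refine Fintype.prod_dvd_of_coprime (fun i k hik => ?_) fun i => dvd_iff_isRoot.mpr (h i)
  exact isCoprime_X_sub_C_of_isUnit_sub (hθ i k hik)

include hθ in
theorem LogDeriv.exists_interp (m : Fin r → Fin d → R) :
    ∃ u : Fin d → R[X], ∀ i j, (u j).eval (θ i) = m i j := by
  classical
  refine ⟨fun j => ∑ i, C (m i j * ((LogDeriv.isUnit_pii θ hθ i).unit⁻¹ : Rˣ)) *
    ∏ k ∈ Finset.univ.erase i, (X - C (θ k)), fun i j => ?_⟩
  rw [eval_finsetSum, Finset.sum_eq_single i]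
  · simp only [eval_mul, eval_C, eval_prod, eval_sub, eval_X]
    rw [show ∏ k ∈ Finset.univ.erase i, (θ i - θ k) = LogDeriv.pii θ i from rfl, mul_assoc,
      IsUnit.val_inv_mul, mul_one]
  · intro k _ hk
    rw [eval_mul, eval_prod, Finset.prod_eq_zero (Finset.mem_erase.mpr ⟨hk.symm, Finset.mem_univ i⟩) (by simp),
      mul_zero]
  · exact fun h => absurd (Finset.mem_univ i) h

variable (Res : Fin r → ((Fin d → R) →ₗ[R] (Fin d → R)))
  (hRes : ∀ (i : Fin r) (m : Fin d → R) (j : Fin d),
      (D₀ (fun j => Polynomial.C (m j)) j).eval (θ i) =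
        (∏ k ∈ Finset.univ.erase i, (θ i - θ k)) * Res i m j)

include hΘ hD₀ hRes in
theorem LogDeriv.eval_D₀ (i : Fin r) (v : Fin d → R[X]) (j : Fin d) :
    (D₀ v j).eval (θ i) = LogDeriv.pii θ i * Res i (fun j => (v j).eval (θ i)) j := by
  classical
  have h : ∀ j, X - C (θ i) ∣ v j - C ((v j).eval (θ i)) := fun j => X_sub_C_dvd_sub_C_eval
  choose w hw using h
  have hv : v = (fun j => C ((v j).eval (θ i))) + (X - C (θ i)) • w := by
    funext j
    rw [Pi.add_apply, Pi.smul_apply, smul_eq_mul, ← hw j, add_sub_cancel]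
  conv_lhs => rw [hv, map_add, hD₀]
  simp only [Pi.add_apply, Pi.smul_apply, smul_eq_mul, eval_add, eval_mul, eval_sub, eval_X, eval_C,
    LogDeriv.eval_Θ θ Θ hΘ i, sub_self, zero_mul, mul_zero, add_zero]
  exact hRes i _ j

variable [Algebra ℂ R] (hχ : ∀ i : Fin r, ∃ χ : ℂ[X], (Res i).charpoly = χ.map (algebraMap ℂ R) ∧
      ∀ n : ℤ, n ≠ 0 → χ.eval (n : ℂ) ≠ 0)

include hχ in
theorem LogDeriv.bijective_sub (i : Fin r) (n : ℕ) (hn : n ≠ 0) :
    Function.Bijective (fun m : Fin d → R => Res i m - (n : R) • m) := by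
  classical
  obtain ⟨χ, hc, hne⟩ := hχ i
  let M := LinearMap.toMatrix' (Res i)
  have hM : M.charpoly = χ.map (algebraMap ℂ R) := by
    rw [← hc, ← LinearMap.charpoly_toMatrix (Res i) (Pi.basisFun R (Fin d)), LinearMap.toMatrix_eq_toMatrix']
  let N := Matrix.scalar (Fin d) (n : R) - M
  have hu : IsUnit N.det := by
    rw [← Matrix.eval_charpoly, hM, ← map_natCast (algebraMap ℂ R), eval_map, eval₂_at_apply]
    refine (Ne.isUnit ?_).map _
    simpa using hne n (by exact_mod_cast hn)
  have heq : ∀ m, Res i m - (n : R) • m = -(N.mulVec m) := fun m => by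
    rw [Matrix.sub_mulVec, LinearMap.toMatrix'_mulVec, neg_sub]
    congr 1
    ext j
    simp [Matrix.mulVec_diagonal]
  simp only [heq]
  exact (neg_involutive.bijective).comp
    (Function.bijective_iff_has_inverse.mpr ⟨N⁻¹.mulVec,
      fun m => by rw [Matrix.mulVec_mulVec, N.nonsing_inv_mul hu, Matrix.one_mulVec],
      fun m => by rw [Matrix.mulVec_mulVec, N.mul_nonsing_inv hu, Matrix.one_mulVec]⟩)

variable (D : (Fin d → Localization.Away Θ) →+ (Fin d → Localization.Away Θ))
    (hD : ∀ (p : R[X]) (w : Fin d → Localization.Away Θ),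
      D (p • w) = (Θ * Polynomial.derivative p) • w + p • D w)
    (hDD₀ : ∀ v : Fin d → R[X],
      D (fun j => algebraMap R[X] (Localization.Away Θ) (v j)) =
        fun j => algebraMap R[X] (Localization.Away Θ) (D₀ v j))

include hD hDD₀ in
theorem LogDeriv.smul_D (n : ℕ) (v : Fin d → R[X]) (w : Fin d → Localization.Away Θ)
    (hw : Θ ^ n • w = fun j => algebraMap R[X] (Localization.Away Θ) (v j)) :
    Θ ^ n • D w = fun j => algebraMap R[X] (Localization.Away Θ)
      ((D₀ v - ((n : R[X]) * derivative Θ) • v) j) := by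
  have h := hD (Θ ^ n) w
  have he : Θ * derivative (Θ ^ n) = (n : R[X]) * derivative Θ * Θ ^ n := by
    rcases Nat.eq_zero_or_pos n with rfl | hn
    · simp
    · obtain ⟨m, rfl⟩ : ∃ m, n = m + 1 := ⟨n - 1, by omega⟩
      rw [derivative_pow, Nat.add_sub_cancel, map_natCast]; ring
  rw [hw, hDD₀, he, mul_smul, hw] at h
  funext j
  have hj := congrFun h j
  simp only [Pi.add_apply, Pi.sub_apply, Pi.smul_apply, smul_eq_mul, map_sub, map_mul] at hj ⊢
  simp only [Algebra.smul_def, map_mul] at hj ⊢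
  linear_combination -hj

theorem LogDeriv.smul_left_cancel (n : ℕ) {w w' : Fin d → Localization.Away Θ}
    (h : Θ ^ n • w = Θ ^ n • w') : w = w' := by
  funext j
  have hj := congrFun h j
  simp only [Pi.smul_apply, Algebra.smul_def, map_pow] at hj
  exact ((IsLocalization.Away.algebraMap_isUnit (S := Localization.Away Θ) Θ).pow n).mul_left_cancel hj

theorem LogDeriv.exists_clear (w : Fin d → Localization.Away Θ) :
    ∃ (n : ℕ) (v : Fin d → R[X]), Θ ^ n • w = fun j => algebraMap R[X] (Localization.Away Θ) (v j) := by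
  obtain ⟨⟨b, n, rfl⟩, hb⟩ := IsLocalization.exist_integer_multiples_of_finite (Submonoid.powers Θ) w
  choose v hv using hb
  exact ⟨n, v, funext fun j => (hv j).symm⟩

include hθ hΘ hD₀ hRes hχ hD hDD₀ in
theorem LogDeriv.surjective (w : Fin d → Localization.Away Θ) :
    ∃ (w' : Fin d → Localization.Away Θ) (v : Fin d → R[X]),
      w = D w' + fun j => algebraMap R[X] (Localization.Away Θ) (v j) := by
  classical
  obtain ⟨n, v, hn⟩ := LogDeriv.exists_clear Θ w
  induction n generalizing w v with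
  | zero => exact ⟨0, v, by rw [map_zero, zero_add, ← hn, pow_zero, one_smul]⟩
  | succ n ih =>
    choose m hm using fun i => (LogDeriv.bijective_sub Res hχ i (n + 1) n.succ_ne_zero).2
      (fun j => ((LogDeriv.isUnit_pii θ hθ i).unit⁻¹ : Rˣ) * (v j).eval (θ i))
    obtain ⟨u, hu⟩ := LogDeriv.exists_interp θ hθ m
    have hz : ∀ j, Θ ∣ v j - (D₀ u - (((n + 1 : ℕ) : R[X]) * derivative Θ) • u) j := by
      intro j
      refine LogDeriv.dvd_of_eval θ hθ Θ hΘ _ fun i => ?_
      have := congrFun (hm i) j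
      simp only [Pi.sub_apply, Pi.smul_apply, smul_eq_mul] at this
      simp only [Pi.sub_apply, Pi.smul_apply, smul_eq_mul, eval_sub, eval_mul, eval_natCast,
        LogDeriv.eval_D₀ θ Θ hΘ D₀ hD₀ Res hRes, LogDeriv.eval_derivative θ Θ hΘ, hu]
      have h1 : LogDeriv.pii θ i * (((LogDeriv.isUnit_pii θ hθ i).unit⁻¹ : Rˣ) * (v j).eval (θ i)) = (v j).eval (θ i) := by
        rw [← mul_assoc, IsUnit.mul_val_inv, one_mul]
      rw [← this] at h1
      linear_combination -h1
    choose v' hv' using hz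
    let y : Fin d → Localization.Away Θ := fun j => IsLocalization.mk' _ (u j) (⟨Θ ^ (n + 1), n + 1, rfl⟩ : Submonoid.powers Θ)
    have hy : Θ ^ (n + 1) • y = fun j => algebraMap R[X] (Localization.Away Θ) (u j) := by
      funext j
      rw [Pi.smul_apply, Algebra.smul_def]
      exact IsLocalization.mk'_spec' _ (u j) (⟨Θ ^ (n + 1), n + 1, rfl⟩ : Submonoid.powers Θ)
    have hDy := LogDeriv.smul_D Θ D₀ D hD hDD₀ (n + 1) u y hy
    obtain ⟨w', q, hq⟩ := ih (w - D y) v' (by
      apply LogDeriv.smul_left_cancel Θ 1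
      rw [← mul_smul, pow_one, ← pow_succ', smul_sub, hn, hDy]
      funext j
      rw [Pi.sub_apply, ← map_sub, hv' j, map_mul, Pi.smul_apply, Algebra.smul_def])
    refine ⟨y + w', q, ?_⟩
    rw [map_add, add_assoc, ← hq, add_sub_cancel]

include hθ hΘ hD₀ hRes hχ hD hDD₀ in
theorem LogDeriv.injective [IsDomain R] (f : Fin d → Localization.Away Θ)
    (hf : ∃ v : Fin d → R[X], D f = fun j => algebraMap R[X] (Localization.Away Θ) (v j)) :
    ∃ v : Fin d → R[X], f = fun j => algebraMap R[X] (Localization.Away Θ) (v j) := by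
  classical
  obtain ⟨n, v, hn⟩ := LogDeriv.exists_clear Θ f
  induction n generalizing v with
  | zero => exact ⟨v, by rw [← hn, pow_zero, one_smul]⟩
  | succ n ih =>
    obtain ⟨g, hg⟩ := hf
    have h := LogDeriv.smul_D Θ D₀ D hD hDD₀ (n + 1) v f hn
    rw [hg] at h
    have hΘ0 : Θ ≠ 0 := hΘ ▸ Finset.prod_ne_zero_iff.mpr fun i _ => X_sub_C_ne_zero (θ i)
    have hinj : Function.Injective (algebraMap R[X] (Localization.Away Θ)) :=
      IsLocalization.injective _ (powers_le_nonZeroDivisors_of_noZeroDivisors hΘ0)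
    have hz : ∀ j, Θ ∣ v j := by
      intro j
      refine LogDeriv.dvd_of_eval θ hθ Θ hΘ _ fun i => ?_
      have hm : (fun j => (v j).eval (θ i)) = (0 : Fin d → R) := by
        apply (LogDeriv.bijective_sub Res hχ i (n + 1) n.succ_ne_zero).1
        funext j
        have hj := congrFun h j
        rw [Pi.smul_apply, Algebra.smul_def, ← map_mul] at hj
        have he := congrArg (Polynomial.eval (θ i)) (hinj hj)
        simp only [Pi.sub_apply, Pi.smul_apply, smul_eq_mul, eval_sub, eval_mul, eval_pow, eval_natCast,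
          LogDeriv.eval_D₀ θ Θ hΘ D₀ hD₀ Res hRes, LogDeriv.eval_derivative θ Θ hΘ, LogDeriv.eval_Θ θ Θ hΘ,
          zero_pow n.succ_ne_zero, zero_mul] at he
        simp only [Pi.sub_apply, Pi.smul_apply, smul_eq_mul, map_zero, Pi.zero_apply, mul_zero, sub_zero]
        apply (LogDeriv.isUnit_pii θ hθ i).mul_left_cancel
        linear_combination -he
      exact congrFun hm j
    choose v' hv' using hz
    refine ih v' (LogDeriv.smul_left_cancel Θ 1 ?_)
    rw [← mul_smul, pow_one, ← pow_succ', hn]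
    funext j
    rw [Pi.smul_apply, Algebra.smul_def, ← map_mul, ← hv' j]

end Groth.Agent.H3CAlg
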