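import Mathlib.Algebra.Module.LocalizedModule.Basic
import Mathlib.RingTheory.Ideal.Operations
import Mathlib.RingTheory.Ideal.MinimalPrime.Basic
import Mathlib.RingTheory.Finiteness.Basic

/-!
Submodules of a module mod `π` cut out by vanishing at some of the minimal primes of `(π)`.
-/

universe u v w

namespace Groth.Agent.H3CAlg

open Submodule

variable {A : Type u} [CommRing A] {ι : Type w}

lemma mem_span_singleton_smul_top_iff {M : Type v} [AddCommGroup M] [Module A M] (π : A) (x : M) :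
    x ∈ Ideal.span {π} • (⊤ : Submodule A M) ↔ ∃ m : M, π • m = x := by
  rw [Submodule.ideal_span_singleton_smul, Submodule.mem_smul_pointwise_iff_exists]
  simp

lemma mem_iInf_ker_mk_iff (𝔓 : ι → Ideal A) [∀ i, (𝔓 i).IsPrime] {M : Type v} [AddCommGroup M]
    [Module A M] (T : Set ι) (x : M) :
    x ∈ (⨅ i ∈ T, LinearMap.ker (LocalizedModule.mkLinearMap (𝔓 i).primeCompl M)) ↔
      ∀ i ∈ T, ∃ s : A, s ∉ 𝔓 i ∧ s • x = 0 := by
  simp only [Submodule.mem_iInf, LocalizedModule.mem_ker_mkLinearMap_iff]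
  exact forall₂_congr fun i _ => Iff.rfl

/-- Off a set `Y` of minimal primes of `(π)` there is an element `s` killing a module mod `π`
at all primes of `Y`. -/
lemma exists_notMem_forall_mem_smul_eq_zero [Finite ι] (π : A) (𝔓 : ι → Ideal A)
    [∀ i, (𝔓 i).IsPrime] (h𝔓 : ∀ i, 𝔓 i ∈ (Ideal.span {π}).minimalPrimes)
    (hinj : Function.Injective 𝔓) (Y : Set ι) (i : ι) (hi : i ∉ Y) :
    ∃ s : A, s ∉ 𝔓 i ∧ ∀ j ∈ Y, ∃ t : A, t ∉ 𝔓 j ∧ π ∣ t * s := by
  have hone : ∀ j : ι, j ≠ i → ∃ s : A, s ∉ 𝔓 i ∧ ∃ t : A, t ∉ 𝔓 j ∧ π ∣ t * s := by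
    intro j hj
    obtain ⟨a, haj, hai⟩ : ∃ a ∈ 𝔓 j, a ∉ 𝔓 i := by
      by_contra h
      push Not at h
      exact hj (hinj (le_antisymm h ((h𝔓 i).2 (h𝔓 j).1 h)))
    let S : Submonoid A := (𝔓 j).primeCompl ⊔ Submonoid.powers a
    by_contra hcon
    push Not at hcon
    have hdisj : Disjoint ((Ideal.span {π} : Ideal A) : Set A) (S : Set A) := by
      rw [Set.disjoint_left]
      intro x hx hxS
      obtain ⟨t, ht, y, ⟨n, rfl⟩, rfl⟩ := Submonoid.mem_sup.mp hxS
      refine hcon (a ^ n) (fun h => hai ((inferInstance : (𝔓 i).IsPrime).mem_of_pow_mem n h)) t ht ?_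
      exact Ideal.mem_span_singleton.mp hx
    obtain ⟨Q, hQ, hle, hQS⟩ := Ideal.exists_le_prime_disjoint _ S hdisj
    have hQj : Q ≤ 𝔓 j := by
      intro x hx
      by_contra hxj
      exact Set.disjoint_left.mp hQS hx (Submonoid.mem_sup_left (T := Submonoid.powers a) hxj)
    exact Set.disjoint_left.mp hQS ((h𝔓 j).2 ⟨hQ, hle⟩ hQj haj)
      (Submonoid.mem_sup_right (S := (𝔓 j).primeCompl) (Submonoid.mem_powers a))
  haveI := Fintype.ofFinite ι
  classical
  choose s hs t ht using hone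
  refine ⟨∏ j : Y, s j.1 (fun h => hi (h ▸ j.2)), ?_, ?_⟩
  · intro h
    obtain ⟨j, _, hj⟩ := (inferInstance : (𝔓 i).IsPrime).prod_mem_iff.mp h
    exact hs _ _ hj
  · intro j hj
    refine ⟨t j (fun h => hi (h ▸ hj)), (ht _ _).1, (ht _ _).2.trans (mul_dvd_mul_left _ ?_)⟩
    exact Finset.dvd_prod_of_mem (fun j : Y => s j.1 (fun h => hi (h ▸ j.2)))
      (Finset.mem_univ ⟨j, hj⟩)

variable (π : A) (𝔓 : ι → Ideal A) [∀ i, (𝔓 i).IsPrime] {M : Type v} [AddCommGroup M] [Module A M]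

lemma iInf_ker_inf_compl_eq_bot
    (htf : (⨅ i ∈ (Set.univ : Set ι), LinearMap.ker
      (LocalizedModule.mkLinearMap (𝔓 i).primeCompl M)) = ⊥) (Y : Set ι) (x : M)
    (h1 : x ∈ (⨅ i ∈ Y, LinearMap.ker (LocalizedModule.mkLinearMap (𝔓 i).primeCompl M)))
    (h2 : x ∈ (⨅ i ∈ Yᶜ, LinearMap.ker (LocalizedModule.mkLinearMap (𝔓 i).primeCompl M))) :
    x = 0 := by
  rw [← Submodule.mem_bot A, ← htf, mem_iInf_ker_mk_iff]
  rw [mem_iInf_ker_mk_iff] at h1 h2
  intro i _
  by_cases hi : i ∈ Y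
  exacts [h1 i hi, h2 i hi]

/-- Decompositions are inherited back from the modification along a decomposition. -/
lemma decomposition_of_modification
    (hπ : ∀ m : M, π • m = 0 → m = 0)
    (K : Set ι → Submodule A (M ⧸ Ideal.span {π} • (⊤ : Submodule A M)))
    (hK : ∀ T : Set ι, K T = ⨅ i ∈ T, LinearMap.ker
      (LocalizedModule.mkLinearMap (𝔓 i).primeCompl (M ⧸ Ideal.span {π} • (⊤ : Submodule A M))))
    (htf : K Set.univ = ⊥)
    (P : Submodule A M) (Y Z : Set ι)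
    (hP : P = (K Y).comap (Submodule.mkQ (Ideal.span {π} • (⊤ : Submodule A M))))
    (hY : K Y ⊔ K Yᶜ = ⊤)
    (K' : Set ι → Submodule A (↥P ⧸ Ideal.span {π} • (⊤ : Submodule A ↥P)))
    (hK' : ∀ T : Set ι, K' T = ⨅ i ∈ T, LinearMap.ker
      (LocalizedModule.mkLinearMap (𝔓 i).primeCompl (↥P ⧸ Ideal.span {π} • (⊤ : Submodule A ↥P))))
    (hZ : K' Z ⊔ K' Zᶜ = ⊤) :
    K Z ⊔ K Zᶜ = ⊤ := by
  have hinfK : ∀ (T : Set ι) x, x ∈ K T → x ∈ K Tᶜ → x = 0 := by
    intro T x h1 h2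
    rw [hK] at h1 h2
    exact iInf_ker_inf_compl_eq_bot 𝔓 (by rw [← hK]; exact htf) T x h1 h2
  have hmemP : ∀ m : M, m ∈ P ↔ Submodule.mkQ (Ideal.span {π} • (⊤ : Submodule A M)) m ∈ K Y := by
    intro m; rw [hP]; rfl
  have hsmulP : ∀ m : M, π • m ∈ P := by
    intro m
    rw [hmemP, Submodule.mkQ_apply,
      (Submodule.Quotient.mk_eq_zero _).mpr ((mem_span_singleton_smul_top_iff π _).mpr ⟨m, rfl⟩)]
    exact zero_mem _
  let f : (↥P ⧸ Ideal.span {π} • (⊤ : Submodule A ↥P)) →ₗ[A]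
      M ⧸ Ideal.span {π} • (⊤ : Submodule A M) :=
    Submodule.mapQ _ _ P.subtype (by
      intro x hx
      obtain ⟨y, rfl⟩ := (mem_span_singleton_smul_top_iff π x).mp hx
      exact (mem_span_singleton_smul_top_iff π _).mpr ⟨(y : M), rfl⟩)
  let g : (M ⧸ Ideal.span {π} • (⊤ : Submodule A M)) →ₗ[A]
      ↥P ⧸ Ideal.span {π} • (⊤ : Submodule A ↥P) :=
    Submodule.liftQ _ ((Submodule.mkQ _).comp ((π • LinearMap.id : M →ₗ[A] M).codRestrict P
      (fun m => hsmulP m))) (by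
      intro x hx
      obtain ⟨y, rfl⟩ := (mem_span_singleton_smul_top_iff π x).mp hx
      rw [LinearMap.mem_ker, LinearMap.comp_apply, Submodule.mkQ_apply,
        Submodule.Quotient.mk_eq_zero, mem_span_singleton_smul_top_iff]
      exact ⟨⟨π • y, hsmulP y⟩, rfl⟩)
  have hg_ker : ∀ x, g x = 0 ↔ x ∈ K Y := by
    intro x
    induction x using Submodule.Quotient.induction_on with
    | H m =>
      change Submodule.Quotient.mk (⟨π • m, hsmulP m⟩ : P) = 0 ↔ _
      rw [Submodule.Quotient.mk_eq_zero, mem_span_singleton_smul_top_iff]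
      constructor
      · rintro ⟨y, hy⟩
        have : (y : M) = m := sub_eq_zero.mp (hπ _ (by
          rw [smul_sub, sub_eq_zero]; exact congrArg Subtype.val hy))
        exact (hmemP m).mp (this ▸ y.2)
      · exact fun h => ⟨⟨m, (hmemP m).mpr h⟩, rfl⟩
  have hf_range : ∀ y, f y ∈ K Y := by
    intro y
    induction y using Submodule.Quotient.induction_on with
    | H y => exact (hmemP y).mp y.2
  have hf_ker : ∀ y, f y = 0 → ∃ x ∈ K Yᶜ, g x = y := by
    intro y
    induction y using Submodule.Quotient.induction_on with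
    | H y =>
      intro hy
      change Submodule.Quotient.mk (y : M) = 0 at hy
      rw [Submodule.Quotient.mk_eq_zero, mem_span_singleton_smul_top_iff] at hy
      obtain ⟨m, hm⟩ := hy
      obtain ⟨a, ha, b, hb, hab⟩ := Submodule.mem_sup.mp
        (show Submodule.Quotient.mk m ∈ K Y ⊔ K Yᶜ by rw [hY]; trivial)
      refine ⟨b, hb, ?_⟩
      have : g (Submodule.Quotient.mk m) = g b := by
        rw [← hab, map_add, (hg_ker a).mpr ha, zero_add]
      rw [← this]
      change Submodule.Quotient.mk (⟨π • m, hsmulP m⟩ : P) = _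
      exact congrArg _ (Subtype.ext hm)
  have hfK : ∀ (T : Set ι) y, y ∈ K' T → f y ∈ K T := by
    intro T y hy
    rw [hK', mem_iInf_ker_mk_iff] at hy
    rw [hK, mem_iInf_ker_mk_iff]
    intro i hi
    obtain ⟨s, hs, h⟩ := hy i hi
    exact ⟨s, hs, by rw [← map_smul, h, map_zero]⟩
  have hgK : ∀ (T : Set ι) x, x ∈ K Yᶜ → g x ∈ K' T → x ∈ K T := by
    intro T x hx hgx
    rw [hK', mem_iInf_ker_mk_iff] at hgx
    rw [hK, mem_iInf_ker_mk_iff]
    rw [hK, mem_iInf_ker_mk_iff] at hx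
    intro i hi
    by_cases hiY : i ∈ Y
    · obtain ⟨s, hs, h⟩ := hgx i hi
      have hsx : s • x ∈ K Y := (hg_ker _).mp (by rw [map_smul, h])
      rw [hK, mem_iInf_ker_mk_iff] at hsx
      obtain ⟨t, ht, h'⟩ := hsx i hiY
      exact ⟨t * s, fun hts => ((inferInstance : (𝔓 i).IsPrime).mem_or_mem hts).elim ht hs,
        by rw [mul_smul, h']⟩
    · exact hx i hiY
  refine eq_top_iff.mpr (hY.symm.le.trans (sup_le ?_ ?_))
  · intro x hx
    induction x using Submodule.Quotient.induction_on with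
    | H m =>
      obtain ⟨a, ha, b, hb, hab⟩ := Submodule.mem_sup.mp
        (show Submodule.Quotient.mk (⟨m, (hmemP m).mpr hx⟩ : P) ∈ K' Z ⊔ K' Zᶜ by rw [hZ]; trivial)
      exact Submodule.mem_sup.mpr ⟨f a, hfK _ _ ha, f b, hfK _ _ hb, by rw [← map_add, hab]; rfl⟩
  · intro v hv
    obtain ⟨a, ha, b, hb, hab⟩ := Submodule.mem_sup.mp
      (show g v ∈ K' Z ⊔ K' Zᶜ by rw [hZ]; trivial)
    have hfg : f (g v) = 0 := by
      induction v using Submodule.Quotient.induction_on with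
      | H m =>
        change Submodule.Quotient.mk (π • m) = 0
        exact (Submodule.Quotient.mk_eq_zero _).mpr
          ((mem_span_singleton_smul_top_iff π _).mpr ⟨m, rfl⟩)
    have hsum : f a + f b = 0 := by rw [← map_add, hab, hfg]
    have hfa : f a = 0 := hinfK Z _ (hfK _ _ ha) (by
      rw [eq_neg_of_add_eq_zero_left hsum]; exact neg_mem (hfK _ _ hb))
    have hfb : f b = 0 := by rwa [hfa, zero_add] at hsum
    obtain ⟨a', ha', hga⟩ := hf_ker a hfa
    obtain ⟨b', hb', hgb⟩ := hf_ker b hfb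
    have hv' : a' + b' = v := sub_eq_zero.mp (hinfK Y _ ((hg_ker _).mp (by
      rw [map_sub, map_add, hga, hgb, hab, sub_self])) (sub_mem (add_mem ha' hb') hv))
    exact Submodule.mem_sup.mpr ⟨a', hgK _ _ ha' (hga ▸ ha), b', hgK _ _ hb' (hgb ▸ hb), hv'⟩

end Groth.Agent.H3CAlg
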