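import Mathlib.RingTheory.MvPolynomial.Homogeneous
import Mathlib.RingTheory.Polynomial.Basic
import Mathlib.RingTheory.Valuation.ValuationRing
import Mathlib.RingTheory.Flat.TorsionFree
import Mathlib.RingTheory.LocalRing.Module
import Mathlib.RingTheory.Nakayama
import Mathlib.RingTheory.Noetherian.Basic

/-!
Nagata: saturated submodules of finite free modules over polynomial rings over valuation rings are
finitely generated.

The proof homogenizes with an extra variable, so that every graded piece is a finite module over the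
valuation ring, and lifts degree bounds from the residue field by Nakayama.
-/

universe u v

namespace Groth.Agent.H3CAlg.NagataFP

open MvPolynomial IsLocalRing

variable {V : Type u} [CommRing V] {σ : Type v} {n : ℕ}

local notation "P" => MvPolynomial σ V
local notation "P'" => MvPolynomial (Option σ) V

/-- Dehomogenization. -/
noncomputable def dh : P' →ₐ[V] P := aeval fun o => o.elim 1 X

/-- Dehomogenization of vectors. -/
noncomputable def dhv : (Fin n → P') →ₗ[V] (Fin n → P) :=
  (dh (V := V) (σ := σ)).toLinearMap.compLeft (Fin n)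

theorem dhv_apply (w : Fin n → P') (i : Fin n) : dhv w i = dh (w i) := rfl

theorem dhv_smul (q : P') (w : Fin n → P') : dhv (q • w) = dh q • dhv w :=
  funext fun i => by simp [dhv_apply]

/-- Homogeneous vectors of degree `d`. -/
noncomputable def E (V : Type u) [CommRing V] (σ : Type v) (n d : ℕ) :
    Submodule V (Fin n → MvPolynomial (Option σ) V) :=
  Submodule.pi Set.univ fun _ => homogeneousSubmodule (Option σ) V d

theorem mem_E {d : ℕ} {w : Fin n → P'} : w ∈ E V σ n d ↔ ∀ i, (w i).IsHomogeneous d := by
  simp [E, Submodule.mem_pi]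

/-- Homogeneous vectors of degree `d` dehomogenizing into `K`. -/
noncomputable def Kh (K : Submodule P (Fin n → P)) (d : ℕ) : Submodule V (Fin n → P') :=
  E V σ n d ⊓ (K.restrictScalars V).comap dhv

theorem mem_Kh {K : Submodule P (Fin n → P)} {d : ℕ} {w : Fin n → P'} :
    w ∈ Kh K d ↔ (∀ i, (w i).IsHomogeneous d) ∧ dhv w ∈ K := by
  simp [Kh, mem_E]

theorem smul_mem_Kh {K : Submodule P (Fin n → P)} {d e : ℕ} {q : P'} (hq : q.IsHomogeneous e) {w : Fin n → P'}
    (hw : w ∈ Kh K d) : q • w ∈ Kh K (e + d) := by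
  rw [mem_Kh] at hw ⊢
  exact ⟨fun i => hq.mul (hw.1 i), by rw [dhv_smul]; exact K.smul_mem _ hw.2⟩

theorem exists_homogenize (v : Fin n → P) : ∃ d, ∃ w : Fin n → P', (∀ i, (w i).IsHomogeneous d) ∧ dhv w = v := by
  classical
  have h1 : ∀ (p : P) (d : ℕ), p.totalDegree ≤ d → ∃ w : P', w.IsHomogeneous d ∧ dh w = p := by
    intro p d hd
    refine ⟨∑ m ∈ p.support, monomial (m.embDomain Function.Embedding.some +
      Finsupp.single none (d - m.degree)) (p.coeff m), IsHomogeneous.sum _ _ _ fun m hm => ?_, ?_⟩
    · refine isHomogeneous_monomial _ ?_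
      have hmd : m.degree ≤ d := le_trans (le_totalDegree hm) hd
      rw [map_add, Finsupp.degree_single]
      have : (m.embDomain Function.Embedding.some : Option σ →₀ ℕ).degree = m.degree := by
        simp [Finsupp.degree_apply, Finsupp.support_embDomain, Finset.sum_map, Finsupp.embDomain_apply_self]
      omega
    · rw [map_sum]
      conv_rhs => rw [p.as_sum]
      refine Finset.sum_congr rfl fun m _ => ?_
      rw [dh, aeval_monomial, Finsupp.prod_add_index' (by simp) (fun _ => pow_add _)]
      simp only [Finsupp.prod_embDomain, Function.Embedding.some_apply, Option.elim_some, Finsupp.prod_single_index,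
        Option.elim_none, one_pow, mul_one]
      rw [monomial_eq, algebraMap_eq]
  refine ⟨Finset.univ.sup fun i => (v i).totalDegree, ?_⟩
  choose w hw hwv using fun i => h1 (v i) (Finset.univ.sup fun i => (v i).totalDegree)
    (Finset.le_sup (f := fun i => (v i).totalDegree) (Finset.mem_univ i))
  exact ⟨w, hw, funext hwv⟩

variable [IsDomain V] [ValuationRing V] [Finite σ]

theorem Kh_fg (K : Submodule P (Fin n → P))
    (hsat : ∀ (c : V) (v : Fin n → P), c ≠ 0 → c • v ∈ K → v ∈ K) (d : ℕ) : (Kh K d).FG := by
  classical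
  haveI : Module.Finite V (homogeneousSubmodule (Option σ) V d) := by
    have hfin : {m : Option σ →₀ ℕ | m.degree ≤ d}.Finite := Finsupp.finite_of_degree_le d
    rw [Module.Finite.iff_fg]
    have : homogeneousSubmodule (Option σ) V d =
        Submodule.span V ((fun m => monomial m (1 : V)) '' {m | m.degree = d}) := by
      refine le_antisymm (fun p hp => ?_) (Submodule.span_le.mpr ?_)
      · rw [p.as_sum]
        refine Submodule.sum_mem _ fun m hm => ?_
        have hmd : m.degree = d := by
          rw [Finsupp.degree_apply]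
          exact (IsHomogeneous.degree_eq_sum_deg_support hp hm).symm
        rw [show monomial m (p.coeff m) = p.coeff m • monomial m (1 : V) by rw [smul_monomial, smul_eq_mul, mul_one]]
        exact Submodule.smul_mem _ _ (Submodule.subset_span ⟨m, hmd, rfl⟩)
      · rintro _ ⟨m, hm, rfl⟩
        exact isHomogeneous_monomial _ hm
    rw [this]
    exact Submodule.fg_span ((hfin.subset fun m hm => le_of_eq hm).image _)
  haveI : Module.Finite V (E V σ n d) := by
    let Φ : (Fin n → homogeneousSubmodule (Option σ) V d) →ₗ[V] E V σ n d :=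
      LinearMap.codRestrict _ ((homogeneousSubmodule (Option σ) V d).subtype.compLeft (Fin n))
        (fun w => mem_E.mpr fun i => (w i).2)
    exact Module.Finite.of_surjective Φ fun w => ⟨fun i => ⟨w.1 i, mem_E.mp w.2 i⟩, rfl⟩
  let ψ : E V σ n d →ₗ[V] ((Fin n → P) ⧸ K.restrictScalars V) :=
    (K.restrictScalars V).mkQ.comp (dhv.comp (E V σ n d).subtype)
  haveI : Module.Flat V (LinearMap.range ψ) := by
    rw [Module.Flat.flat_iff_torsion_eq_bot_of_isBezout, eq_bot_iff]
    rintro ⟨_, w, rfl⟩ hz
    obtain ⟨⟨c, hc⟩, hcz⟩ := Submodule.mem_torsion_iff _ |>.mp hz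
    rw [Submodule.mem_bot]
    refine Subtype.ext ?_
    have h0 : c • ψ w = 0 := congrArg Subtype.val hcz
    rw [← map_smul] at h0
    change (K.restrictScalars V).mkQ (dhv (c • w : E V σ n d).1) = 0 at h0
    rw [Submodule.mkQ_apply, Submodule.Quotient.mk_eq_zero, Submodule.coe_smul, map_smul] at h0
    exact (Submodule.Quotient.mk_eq_zero _).mpr (hsat c _ (nonZeroDivisors.ne_zero hc) h0)
  haveI : Module.Free V (LinearMap.range ψ) := Module.free_of_flat_of_isLocalRing
  haveI : Module.FinitePresentation V (LinearMap.range ψ) := Module.finitePresentation_of_projective V _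
  have hfg := Module.FinitePresentation.fg_ker ψ.rangeRestrict ψ.surjective_rangeRestrict
  rw [LinearMap.ker_rangeRestrict] at hfg
  have : Kh K d = (LinearMap.ker ψ).map (E V σ n d).subtype := by
    ext w
    constructor
    · exact fun hw => ⟨⟨w, hw.1⟩, (Submodule.Quotient.mk_eq_zero _).mpr hw.2, rfl⟩
    · rintro ⟨u, hu, rfl⟩
      have hu' : ψ u = 0 := hu
      exact ⟨u.2, (Submodule.Quotient.mk_eq_zero (K.restrictScalars V)).mp hu'⟩
  rw [this]
  exact hfg.map _

/-- Reduction of vectors modulo the maximal ideal. -/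
noncomputable def ρ : (Fin n → P') →+ (Fin n → MvPolynomial (Option σ) (ResidueField V)) :=
  (MvPolynomial.map (residue V)).toAddMonoidHom.compLeft (Fin n)

theorem mem_smul_of_ρ_eq_zero {K : Submodule P (Fin n → P)}
    (hsat : ∀ (c : V) (v : Fin n → P), c ≠ 0 → c • v ∈ K → v ∈ K) {d : ℕ} {z : Fin n → P'}
    (hz : z ∈ Kh K d) (h0 : ρ z = 0) : z ∈ maximalIdeal V • Kh K d := by
  classical
  let s : Finset V := Finset.univ.biUnion fun i => (z i).support.image fun m => (z i).coeff m
  have hs : ∀ a ∈ s, a ∈ maximalIdeal V := by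
    intro a ha
    simp only [s, Finset.mem_biUnion, Finset.mem_image] at ha
    obtain ⟨i, -, m, -, rfl⟩ := ha
    have := congrArg (coeff m) (congrFun h0 i)
    simpa [ρ, coeff_map, residue_eq_zero_iff] using this
  obtain ⟨c, hc⟩ : (Ideal.span (s : Set V)).IsPrincipal := IsBezout.isPrincipal_of_FG _ ⟨s, rfl⟩
  have hc' : Ideal.span (s : Set V) = Ideal.span {c} := hc
  rcases eq_or_ne c 0 with rfl | hc0
  · have : z = 0 := funext fun i => MvPolynomial.ext _ _ fun m => by
      by_contra hne
      have hm : (z i).coeff m ∈ Ideal.span (s : Set V) := Ideal.subset_span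
        (Finset.mem_biUnion.mpr ⟨i, Finset.mem_univ i, Finset.mem_image.mpr ⟨m, mem_support_iff.mpr hne, rfl⟩⟩)
      rw [hc', Ideal.span_singleton_zero, Ideal.mem_bot] at hm
      exact hne (by simpa using hm)
    rw [this]; exact zero_mem _
  have hcm : c ∈ maximalIdeal V := by
    have : c ∈ Ideal.span (s : Set V) := hc' ▸ Ideal.mem_span_singleton_self c
    exact Ideal.span_le.mpr hs this
  have hdvd : ∀ i, C c ∣ z i := fun i => by
    rw [C_dvd_iff_dvd_coeff]
    intro m
    by_cases hm : (z i).coeff m = 0
    · rw [hm]; exact dvd_zero c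
    · rw [← Ideal.mem_span_singleton, ← hc']
      exact Ideal.subset_span
        (Finset.mem_biUnion.mpr ⟨i, Finset.mem_univ i, Finset.mem_image.mpr ⟨m, mem_support_iff.mpr hm, rfl⟩⟩)
  choose w hw using hdvd
  have hzw : z = c • w := funext fun i => by rw [Pi.smul_apply, hw i, smul_eq_C_mul]
  rw [mem_Kh] at hz
  have hwK : w ∈ Kh K d := by
    refine mem_Kh.mpr ⟨fun i m hm => ?_, hsat c _ hc0 ?_⟩
    · refine hz.1 i ?_
      rw [hw i, coeff_C_mul]
      exact mul_ne_zero hc0 hm
    · rw [← map_smul, ← hzw]; exact hz.2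
  rw [hzw]
  exact Submodule.smul_mem_smul hcm hwK

theorem exists_degree_bound (K : Submodule P (Fin n → P))
    (hsat : ∀ (c : V) (v : Fin n → P), c ≠ 0 → c • v ∈ K → v ∈ K) :
    ∃ D, ∀ d, D ≤ d → Kh K (d + 1) ≤ ⨆ o : Option σ, (Kh K d).map (LinearMap.lsmul P' (Fin n → P') (X o) |>.restrictScalars V) := by
  classical
  let U : ℕ →o Submodule (MvPolynomial (Option σ) (ResidueField V)) (Fin n → MvPolynomial (Option σ) (ResidueField V)) :=
    ⟨fun d => Submodule.span _ {f | ∃ e ≤ d, ∃ k ∈ Kh K e, ρ k = f}, fun d d' h =>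
      Submodule.span_mono fun f ⟨e, he, hk⟩ => ⟨e, he.trans h, hk⟩⟩
  obtain ⟨D, hD⟩ := monotone_stabilizes_iff_noetherian.mpr inferInstance U
  refine ⟨D, fun d hd => ?_⟩
  set G := ⨆ o : Option σ, (Kh K d).map (LinearMap.lsmul P' (Fin n → P') (X o) |>.restrictScalars V) with hG
  refine Submodule.le_of_le_smul_of_le_jacobson_bot (I := maximalIdeal V) (Kh_fg K hsat (d + 1))
    (IsLocalRing.maximalIdeal_le_jacobson ⊥) fun z hz => ?_
  have hGle : G ≤ Kh K (d + 1) := iSup_le fun o => Submodule.map_le_iff_le_comap.mpr fun w hw => by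
    have := smul_mem_Kh (isHomogeneous_X V o) hw
    rwa [add_comm] at this
  -- the component of degree `d + 1` of multiples of reductions comes from `G`
  have hmon : ∀ (e : ℕ), e ≤ D → ∀ k ∈ Kh K e, ∀ q : MvPolynomial (Option σ) (ResidueField V),
      ∃ y ∈ G, ρ y = fun i => homogeneousComponent (d + 1) (q * ρ k i) := by
    intro e he k hk q
    induction q using MvPolynomial.induction_on' with
    | add p q hp hq =>
      obtain ⟨y, hy, hye⟩ := hp
      obtain ⟨y', hy', hye'⟩ := hq
      exact ⟨y + y', add_mem hy hy', funext fun i => by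
        rw [map_add, Pi.add_apply, hye, hye', add_mul, map_add]⟩
    | monomial m a =>
      have hhom : ∀ i, (monomial m a * ρ k i).IsHomogeneous (m.degree + e) := fun i =>
        (isHomogeneous_monomial a rfl).mul (((mem_Kh.mp hk).1 i).map (residue V))
      by_cases hme : m.degree + e = d + 1
      · obtain ⟨o, ho⟩ : ∃ o, m o ≠ 0 := by
          by_contra hcon
          push Not at hcon
          rw [show m = 0 from Finsupp.ext hcon, map_zero] at hme
          omega
        obtain ⟨b, hb⟩ := residue_surjective a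
        have hm : m = Finsupp.single o 1 + (m - Finsupp.single o 1) := by
          ext x
          rcases eq_or_ne x o with rfl | hx
          · simp; omega
          · simp [hx]
        have hdeg : (m - Finsupp.single o 1).degree + e = d := by
          rw [hm, map_add, Finsupp.degree_single] at hme
          omega
        have hmk : monomial (m - Finsupp.single o 1) b • k ∈ Kh K d :=
          hdeg ▸ smul_mem_Kh (isHomogeneous_monomial b rfl) hk
        refine ⟨X o • (monomial (m - Finsupp.single o 1) b • k),
          Submodule.mem_iSup_of_mem o (Submodule.mem_map.mpr ⟨_, hmk, by simp only [LinearMap.coe_restrictScalars, LinearMap.lsmul_apply]; rfl⟩), funext fun i => ?_⟩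
        rw [homogeneousComponent_of_mem (hhom i), if_pos hme.symm]
        change MvPolynomial.map (residue V) (X o * (monomial (m - Finsupp.single o 1) b * k i)) = _
        rw [map_mul, map_mul, map_X, map_monomial, hb, ← mul_assoc, X, monomial_mul, one_mul, ← hm]
        rfl
      · exact ⟨0, zero_mem _, funext fun i => by
          rw [homogeneousComponent_of_mem (hhom i), if_neg (fun h => hme h.symm), map_zero]; rfl⟩
  have hmem : ρ z ∈ U D := by
    rw [hD (d + 1) (by omega)]
    exact Submodule.subset_span ⟨d + 1, le_rfl, z, hz, rfl⟩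
  have hgen : ∀ f ∈ U D, ∀ q : MvPolynomial (Option σ) (ResidueField V),
      ∃ y ∈ G, ρ y = fun i => homogeneousComponent (d + 1) (q * f i) := by
    intro f hf
    induction hf using Submodule.span_induction with
    | mem f hf =>
      obtain ⟨e, he, k, hk, rfl⟩ := hf
      exact hmon e he k hk
    | zero => exact fun q => ⟨0, zero_mem _, funext fun i => by simp⟩
    | add f g _ _ hf hg =>
      intro q
      obtain ⟨y, hy, hye⟩ := hf q
      obtain ⟨y', hy', hye'⟩ := hg q
      exact ⟨y + y', add_mem hy hy', funext fun i => by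
        rw [map_add, Pi.add_apply, hye, hye', Pi.add_apply, mul_add, map_add]⟩
    | smul a f _ hf =>
      intro q
      obtain ⟨y, hy, hye⟩ := hf (q * a)
      exact ⟨y, hy, hye.trans (funext fun i => by rw [Pi.smul_apply, smul_eq_mul, mul_assoc])⟩
  obtain ⟨y, hy, hye⟩ := hgen _ hmem 1
  have h0 : ρ (z - y) = 0 := by
    rw [map_sub, sub_eq_zero, hye]
    funext i
    have hh : (ρ z i).IsHomogeneous (d + 1) := ((mem_Kh.mp hz).1 i).map (residue V)
    rw [one_mul]
    exact ((homogeneousComponent_of_mem hh).trans (if_pos rfl)).symm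
  have := mem_smul_of_ρ_eq_zero hsat (sub_mem hz (hGle hy)) h0
  exact Submodule.mem_sup.mpr ⟨y, hy, _, this, add_sub_cancel _ _⟩

theorem dhv_mem_of_mem_iSup (K N : Submodule P (Fin n → P)) (d : ℕ) (h : ∀ u ∈ Kh K d, dhv u ∈ N)
    {w : Fin n → P'}
    (hw : w ∈ ⨆ o : Option σ, (Kh K d).map (LinearMap.lsmul P' (Fin n → P') (X o) |>.restrictScalars V)) :
    dhv w ∈ N := by
  induction hw using Submodule.iSup_induction' with
  | mem o x hx =>
    obtain ⟨u, hu, rfl⟩ := hx
    simp only [LinearMap.coe_restrictScalars, LinearMap.lsmul_apply, dhv_smul]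
    exact N.smul_mem _ (h u hu)
  | zero => rw [map_zero]; exact zero_mem _
  | add x y _ _ hx hy => rw [map_add]; exact add_mem hx hy

set_option maxHeartbeats 1000000 in
/-- Saturated submodules are finitely generated. -/
theorem fg_of_saturated (K : Submodule P (Fin n → P))
    (hsat : ∀ (c : V) (v : Fin n → P), c ≠ 0 → c • v ∈ K → v ∈ K) : K.FG := by
  classical
  obtain ⟨D, hD⟩ := exists_degree_bound K hsat
  let N : Submodule P (Fin n → P) := Submodule.span P (dhv '' (Kh K D : Set (Fin n → P')))
  have hN : ∀ d, ∀ w ∈ Kh K d, dhv w ∈ N := by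
    intro d
    induction d using Nat.strong_induction_on with
    | _ d ih =>
      intro w hw
      rcases le_or_gt d D with h | h
      · refine Submodule.subset_span ⟨(X none : P') ^ (D - d) • w, ?_, ?_⟩
        · have h1 := smul_mem_Kh ((isHomogeneous_X V (none : Option σ)).pow (D - d)) hw
          rwa [one_mul, Nat.sub_add_cancel h] at h1
        · rw [dhv_smul, map_pow, show dh (X none : MvPolynomial (Option σ) V) = 1 by simp [dh], one_pow, one_smul]
      · obtain ⟨d, rfl⟩ : ∃ d', d = d' + 1 := ⟨d - 1, by omega⟩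
        exact dhv_mem_of_mem_iSup K N d (fun u hu => ih d (by omega) u hu) (hD d (by omega) hw)
  have hKN : K = N := by
    refine le_antisymm (fun v hv => ?_) (Submodule.span_le.mpr ?_)
    · obtain ⟨d, w, hw, rfl⟩ := exists_homogenize v
      exact hN d w (mem_Kh.mpr ⟨hw, hv⟩)
    · rintro _ ⟨w, hw, rfl⟩
      exact (mem_Kh.mp hw).2
  obtain ⟨t, ht⟩ := Kh_fg K hsat D
  rw [hKN]
  refine ⟨t.image dhv, le_antisymm (Submodule.span_le.mpr ?_) (Submodule.span_le.mpr ?_)⟩
  · rw [Finset.coe_image]
    rintro _ ⟨w, hw, rfl⟩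
    exact Submodule.subset_span ⟨w, ht ▸ Submodule.subset_span hw, rfl⟩
  · rintro _ ⟨w, hw, rfl⟩
    have h1 : dhv w ∈ Submodule.span V (dhv '' (t : Set (Fin n → P'))) := by
      rw [← Submodule.map_span, ht]; exact ⟨w, hw, rfl⟩
    rw [← Finset.coe_image] at h1
    exact Submodule.span_le_restrictScalars V P _ h1

end Groth.Agent.H3CAlg.NagataFP
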