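import Mathlib.RingTheory.MvPolynomial.Ideal
import Mathlib.Algebra.MvPolynomial.PDeriv
import Mathlib.RingTheory.Polynomial.Basic
import Mathlib.RingTheory.Kaehler.Basic
import Mathlib.LinearAlgebra.TensorProduct.Quotient
import Mathlib.Tactic.LinearCombination

/-!
Injectivity of `K → B ⊗ Ω[B'/A]` for the nodal family over a split square-zero extension.
-/

universe u v w

open MvPolynomial

namespace Groth.Agent.H3CAlg.NodalKer

section

variable {A : Type u} [CommRing A]

/-- `XY - t` is a nonzerodivisor and `(X, Y)` is regular modulo it. -/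
theorem dvd_of_dvd_mul_X (t : A) (G : MvPolynomial (Fin 2) A)
    (hX : X 0 * X 1 - C t ∣ G * X 0) (hY : X 0 * X 1 - C t ∣ G * X 1) : X 0 * X 1 - C t ∣ G := by
  classical
  set g : MvPolynomial (Fin 2) A := X 0 * X 1 - C t with hg
  let e : Fin 2 →₀ ℕ := Finsupp.single 0 1 + Finsupp.single 1 1
  have hXY : (X 0 * X 1 : MvPolynomial (Fin 2) A) = monomial e 1 := by
    rw [X, X, monomial_mul, one_mul]
  have hnz : ∀ U, g * U = 0 → U = 0 := by
    intro U hU
    have hstep : ∀ m, coeff m U = t * coeff (e + m) U := by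
      intro m
      have := congrArg (coeff (e + m)) hU
      rw [hg, sub_mul, coeff_sub, hXY, coeff_monomial_mul, coeff_C_mul, coeff_zero, one_mul, sub_eq_zero] at this
      exact this
    have hpow : ∀ n m, coeff m U = t ^ n * coeff (n • e + m) U := by
      intro n
      induction n with
      | zero => intro m; simp
      | succ n ih => intro m; rw [ih m, hstep (n • e + m), pow_succ, succ_nsmul', add_assoc e, mul_assoc]
    ext m
    rw [hpow (U.totalDegree + 1) m, coeff_zero]
    by_contra h
    have hmem : (U.totalDegree + 1) • e + m ∈ U.support := mem_support_iff.mpr (right_ne_zero_of_mul h)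
    have h2 := le_totalDegree hmem
    rw [Finsupp.sum_fintype _ _ (fun _ => rfl), Fin.sum_univ_two] at h2
    simp [e] at h2
    omega
  obtain ⟨U, hU⟩ := hX
  obtain ⟨V, hV⟩ := hY
  have huv : U * X 1 = V * X 0 := by
    refine sub_eq_zero.mp (hnz _ ?_)
    linear_combination -(X 1) * hU + (X 0) * hV
  have hUX : U ∈ Ideal.span ((X : Fin 2 → MvPolynomial (Fin 2) A) '' {0}) := by
    refine mem_ideal_span_X_image.mpr fun m hm => ⟨0, rfl, fun h0 => mem_support_iff.mp hm ?_⟩
    have := congrArg (coeff (m + Finsupp.single 1 1)) huv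
    rw [coeff_mul_X, coeff_mul_X', if_neg] at this
    · exact this
    · simp [h0]
  rw [Set.image_singleton, Ideal.mem_span_singleton'] at hUX
  obtain ⟨W, rfl⟩ := hUX
  refine ⟨W, ?_⟩
  ext m
  have := congrArg (coeff (m + Finsupp.single 0 1)) (hU.trans (by ring : g * (W * X 0) = g * W * X 0))
  rwa [coeff_mul_X, coeff_mul_X] at this

end

variable {A : Type u} [CommRing A] {S : Type v} [CommRing S] [Algebra A S] (π : S →ₐ[A] A)
  (hπ : RingHom.ker π ^ 2 = ⊥) (τ : S)
  {B' : Type w} [CommRing B'] [Algebra A B'] [Algebra S B'] [IsScalarTower A S B'] (x y : B')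

/-- The lift of a polynomial minus its split part. -/
noncomputable def δ : MvPolynomial (Fin 2) S →ₗ[A] B' :=
  ((aeval ![x, y] : MvPolynomial (Fin 2) S →ₐ[S] B').restrictScalars A).toLinearMap -
    ((aeval ![x, y] : MvPolynomial (Fin 2) A →ₐ[A] B').comp (MvPolynomial.mapAlgHom π)).toLinearMap

set_option maxHeartbeats 1000000 in
include hπ in
theorem injective
    (hsurj : Function.Surjective (aeval ![x, y] : MvPolynomial (Fin 2) S →ₐ[S] B'))
    (hker : RingHom.ker (aeval ![x, y] : MvPolynomial (Fin 2) S →ₐ[S] B') = Ideal.span {X 0 * X 1 - C τ})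
    (k : B') (hk : k ∈ (RingHom.ker π).map (algebraMap S B'))
    (hDk : KaehlerDifferential.D A B' k ∈
      (RingHom.ker π).map (algebraMap S B') • (⊤ : Submodule B' (Ω[B'⁄A]))) : k = 0 := by
  classical
  set K : Ideal B' := (RingHom.ker π).map (algebraMap S B') with hKdef
  let q : MvPolynomial (Fin 2) S →ₐ[S] B' := aeval ![x, y]
  let φ : MvPolynomial (Fin 2) S →ₐ[A] MvPolynomial (Fin 2) A := MvPolynomial.mapAlgHom π
  let g : MvPolynomial (Fin 2) S := X 0 * X 1 - C τ
  have hφg : φ g = X 0 * X 1 - C (π τ) := by simp [φ, g]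
  have hKK : ∀ a ∈ K, ∀ b ∈ K, a * b = 0 := by
    intro a ha b hb
    have : a * b ∈ K * K := Ideal.mul_mem_mul ha hb
    rwa [hKdef, ← Ideal.map_mul, ← pow_two, hπ, Ideal.map_bot, Ideal.mem_bot] at this
  -- kernel of the reduction
  have hφK : ∀ G, φ G = 0 → q G ∈ K := by
    intro G hG
    have h1 : G ∈ (RingHom.ker (π : S →+* A)).map (C : S →+* MvPolynomial (Fin 2) S) := by
      rw [← MvPolynomial.ker_map]; exact hG
    have h2 := Ideal.mem_map_of_mem (q : MvPolynomial (Fin 2) S →+* B') h1
    rw [Ideal.map_map] at h2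
    have : (q : MvPolynomial (Fin 2) S →+* B').comp C = algebraMap S B' := RingHom.ext fun s => aeval_C _ s
    rw [this] at h2
    exact h2
  have hsec : ∀ G, φ (MvPolynomial.map (algebraMap A S) G) = G := by
    intro G
    change MvPolynomial.map (π : S →+* A) (MvPolynomial.map (algebraMap A S) G) = G
    rw [MvPolynomial.map_map]
    rw [show (π : S →+* A).comp (algebraMap A S) = RingHom.id A from RingHom.ext fun a => π.commutes a, map_id]
  have hρ : ∀ G : MvPolynomial (Fin 2) A,
      (aeval ![x, y] : MvPolynomial (Fin 2) A →ₐ[A] B') G = q (MvPolynomial.map (algebraMap A S) G) :=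
    fun G => by simp [q, aeval_def, eval₂_map, IsScalarTower.algebraMap_eq A S B']
  have hδ : ∀ G, δ π x y G = q (G - MvPolynomial.map (algebraMap A S) (φ G)) := fun G => by
    rw [map_sub, ← hρ]; rfl
  have hδK : ∀ G, δ π x y G ∈ K := fun G => by
    rw [hδ]; exact hφK _ (by rw [map_sub, hsec, sub_self])
  have hKδ : ∀ G, φ G = 0 → δ π x y G = q G := fun G hG => by rw [hδ, hG, map_zero, sub_zero]
  have hδmul : ∀ F G, δ π x y (F * G) = q F * δ π x y G + q G * δ π x y F := by
    intro F G
    have := hKK _ (hδK F) _ (hδK G)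
    simp only [hδ, map_mul, map_sub] at this ⊢
    linear_combination -this
  -- the regularity
  have hreg : ∀ G, q G * x ∈ K → q G * y ∈ K → q G ∈ K := by
    intro G hx hy
    have key : ∀ z : MvPolynomial (Fin 2) S, q z ∈ K → φ g ∣ φ z := by
      intro z hz
      have hK' : K = ((RingHom.ker (π : S →+* A)).map (C : S →+* MvPolynomial (Fin 2) S)).map
          (q : MvPolynomial (Fin 2) S →+* B') := by
        rw [Ideal.map_map]
        rw [show (q : MvPolynomial (Fin 2) S →+* B').comp C = algebraMap S B' from RingHom.ext fun s => aeval_C _ s]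
        rfl
      rw [hK'] at hz
      obtain ⟨w, hw, hwz⟩ := (Ideal.mem_map_iff_of_surjective _ hsurj).mp hz
      rw [← MvPolynomial.ker_map] at hw
      have : z - w ∈ RingHom.ker q := by
        rw [RingHom.mem_ker, map_sub, sub_eq_zero]; exact hwz.symm
      rw [hker, Ideal.mem_span_singleton] at this
      have := map_dvd φ this
      rw [map_sub (f := φ) z w, show φ w = 0 from hw, sub_zero] at this
      exact this
    have h0 := key (G * X 0) (by simpa [q] using hx)
    have h1 := key (G * X 1) (by simpa [q] using hy)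
    rw [map_mul, hφg] at h0 h1
    obtain ⟨W, hW⟩ := dvd_of_dvd_mul_X (π τ) (φ G) (by simpa [φ] using h0) (by simpa [φ] using h1)
    rw [← hφg] at hW
    have hg0 : q g = 0 := by
      rw [← RingHom.mem_ker, hker]; exact Ideal.mem_span_singleton_self _
    have := hφK (G - g * MvPolynomial.map (algebraMap A S) W) (by rw [map_sub, map_mul, hsec W]; exact sub_eq_zero.mpr hW)
    rwa [map_sub, map_mul, hg0, zero_mul, sub_zero] at this
  let Dh : MvPolynomial (Fin 2) S →ₗ[A] B' × B' × B' :=
    (δ π x y).prod (((q.toLinearMap.comp (pderiv (0 : Fin 2)).toLinearMap).restrictScalars A).prod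
      ((q.toLinearMap.comp (pderiv (1 : Fin 2)).toLinearMap).restrictScalars A))
  have hDh : ∀ F, Dh F = (δ π x y F, q (pderiv 0 F), q (pderiv 1 F)) := fun _ => rfl
  have hDmul : ∀ F G, Dh (F * G) = q F • Dh G + q G • Dh F := by
    intro F G
    refine Prod.ext ?_ (Prod.ext ?_ ?_) <;>
      simp only [hDh, hδmul, pderiv_mul, map_add, map_mul, Prod.fst_add, Prod.snd_add, Prod.smul_fst, Prod.smul_snd, smul_eq_mul] <;> ring
  let N : Submodule B' (B' × B' × B') :=
    Submodule.span B' {Dh g} ⊔ Submodule.prod (⊥ : Submodule B' B') (Submodule.prod K K)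
  have hg0 : q g = 0 := by
    rw [← RingHom.mem_ker, hker]; exact Ideal.mem_span_singleton_self _
  have hwd : ∀ F G, q F = q G → N.mkQ (Dh F) = N.mkQ (Dh G) := by
    intro F G h
    have : F - G ∈ RingHom.ker q := by rw [RingHom.mem_ker, map_sub, h, sub_self]
    rw [hker, Ideal.mem_span_singleton] at this
    obtain ⟨c, hc⟩ := this
    simp only [Submodule.mkQ_apply]
    rw [Submodule.Quotient.eq, ← map_sub, hc, hDmul, show q (X 0 * X 1 - C τ) = 0 from hg0, zero_smul, zero_add]
    exact Submodule.smul_mem _ _ (le_sup_left (a := Submodule.span B' {Dh g}) (Submodule.subset_span rfl))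
  let ι : B' → MvPolynomial (Fin 2) S := Function.surjInv hsurj
  have hι : ∀ b, q (ι b) = b := Function.surjInv_eq hsurj
  let D₀ : B' →ₗ[A] (B' × B' × B') ⧸ N :=
    { toFun := fun b => N.mkQ (Dh (ι b))
      map_add' := fun b c => by
        rw [← map_add, ← map_add]; exact hwd _ _ (by rw [map_add, hι, hι, hι])
      map_smul' := fun a b => by
        rw [RingHom.id_apply, ← LinearMap.map_smul_of_tower, ← map_smul]
        exact hwd _ _ (by rw [hι, AlgHom.map_smul_of_tower, hι]) }
  have hD₀ : ∀ F, D₀ (q F) = N.mkQ (Dh F) := fun F => hwd _ _ (hι _)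
  let D : Derivation A B' ((B' × B' × B') ⧸ N) := Derivation.mk' D₀ fun b c => by
    obtain ⟨F, rfl⟩ := hsurj b
    obtain ⟨G, rfl⟩ := hsurj c
    rw [← map_mul, hD₀, hD₀, hD₀, hDmul, map_add, map_smul, map_smul]
  let L := D.liftKaehlerDifferential
  have hLD : ∀ b, L (KaehlerDifferential.D A B' b) = D₀ b := fun b => D.liftKaehlerDifferential_comp_D b
  let R : Submodule B' ((B' × B' × B') ⧸ N) :=
    (Submodule.prod (show Submodule B' B' from K) (⊤ : Submodule B' (B' × B'))).map N.mkQ
  have hR : ∀ ω, L ω ∈ R := by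
    intro ω
    have : ω ∈ (⊤ : Submodule B' (Ω[B'⁄A])) := trivial
    rw [← KaehlerDifferential.span_range_derivation] at this
    refine Submodule.span_le (p := R.comap L).mpr ?_ this
    rintro _ ⟨b, rfl⟩
    change L _ ∈ R
    rw [hLD]
    exact ⟨Dh (ι b), ⟨hδK _, trivial⟩, rfl⟩
  have hL0 : ∀ ω ∈ K • (⊤ : Submodule B' (Ω[B'⁄A])), L ω = 0 := by
    intro ω hω
    refine Submodule.smul_induction_on hω ?_ fun a b ha hb => by rw [map_add, ha, hb, add_zero]
    intro s hs w _
    obtain ⟨v, hv, hve⟩ := hR w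
    rw [map_smul, ← hve, ← map_smul, Submodule.mkQ_apply, Submodule.Quotient.mk_eq_zero]
    exact le_sup_right (a := Submodule.span B' {Dh g})
      ⟨hKK _ hs _ hv.1, K.mul_mem_right _ hs, K.mul_mem_right _ hs⟩
  -- evaluate at `k`
  have hlift : ∃ F, φ F = 0 ∧ q F = k := by
    have hk' : k ∈ ((RingHom.ker (π : S →+* A)).map (C : S →+* MvPolynomial (Fin 2) S)).map
          (q : MvPolynomial (Fin 2) S →+* B') := by
      rw [Ideal.map_map]
      rw [show (q : MvPolynomial (Fin 2) S →+* B').comp C = algebraMap S B' from RingHom.ext fun s => aeval_C _ s]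
      exact hk
    obtain ⟨F, hF, hFk⟩ := (Ideal.mem_map_iff_of_surjective _ hsurj).mp hk'
    rw [← MvPolynomial.ker_map] at hF
    exact ⟨F, hF, hFk⟩
  obtain ⟨F, hF, rfl⟩ := hlift
  have h0 := hL0 _ hDk
  rw [hLD, hD₀, Submodule.mkQ_apply, Submodule.Quotient.mk_eq_zero] at h0
  have hpd : ∀ i, q (pderiv i F) ∈ K := fun i => hφK _ (by
    change MvPolynomial.map (π : S →+* A) (pderiv i F) = 0
    rw [← pderiv_map]
    rw [show MvPolynomial.map (π : S →+* A) F = 0 from hF, map_zero])
  obtain ⟨a, ha, b, hb, hab⟩ := Submodule.mem_sup.mp h0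
  obtain ⟨s, rfl⟩ := Submodule.mem_span_singleton.mp ha
  obtain ⟨G, rfl⟩ := hsurj s
  have e0 : q (pderiv 0 g) = y := by simp [g, q, pderiv_X]
  have e1 : q (pderiv 1 g) = x := by simp [g, q, pderiv_X]
  have c1 := congrArg Prod.fst hab
  have c2 := congrArg (fun v => v.2.1) hab
  have c3 := congrArg (fun v => v.2.2) hab
  simp only [hDh, Prod.fst_add, Prod.snd_add, Prod.smul_fst, Prod.smul_snd, smul_eq_mul, e0, e1] at c1 c2 c3
  have hy : q G * y ∈ K := by
    rw [show q G * y = q (pderiv 0 F) - b.2.1 from eq_sub_of_add_eq c2]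
    exact sub_mem (hpd 0) hb.2.1
  have hx : q G * x ∈ K := by
    rw [show q G * x = q (pderiv 1 F) - b.2.2 from eq_sub_of_add_eq c3]
    exact sub_mem (hpd 1) hb.2.2
  rw [hKδ F hF, (Submodule.mem_bot B').mp hb.1, add_zero, hKK _ (hreg G hx hy) _ (hδK g)] at c1
  exact c1.symm

end Groth.Agent.H3CAlg.NodalKer
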