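import Mathlib

/-!
# A map from a semistable node which is étale on the generic fibre has zero differential on a branch
-/

set_option autoImplicit false
set_option linter.style.haveILetI false
set_option linter.unusedSectionVars false
universe u

open IsLocalRing

namespace Groth.Agent.H3CAlg.NodeDifferential

section Aux

variable {V A B : Type u} [CommRing V] [CommRing A] [CommRing B] [Algebra V A] [Algebra V B] [Algebra A B]
  [IsScalarTower V A B]

/-- Derivations of `A` extend to a localisation. -/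
theorem exists_lift (S : Submonoid A) [IsLocalization S B] {M : Type u} [AddCommGroup M] [Module V M]
    [Module A M] [Module B M] [IsScalarTower A B M] [IsScalarTower V A M] (δ : Derivation V A M) :
    ∃ Φ : Ω[B⁄V] →ₗ[B] M, ∀ a, Φ (KaehlerDifferential.D V B (algebraMap A B a)) = δ a := by
  haveI : Algebra.FormallyEtale A B := Algebra.FormallyEtale.of_isLocalization S
  have hb := KaehlerDifferential.isBaseChange_of_formallyEtale V A B
  refine ⟨hb.lift δ.liftKaehlerDifferential, fun a => ?_⟩
  rw [← KaehlerDifferential.map_D V V A B, hb.lift_eq, Derivation.liftKaehlerDifferential_comp_D]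

/-- Linear maps on the differentials of a localisation agree if they agree on generators. -/
theorem linearMap_ext (S : Submonoid A) [IsLocalization S B] {x y : A}
    (hgen : Algebra.adjoin V ({x, y} : Set A) = ⊤) {M : Type u} [AddCommGroup M] [Module B M]
    {F G : Ω[B⁄V] →ₗ[B] M}
    (hx : F (KaehlerDifferential.D V B (algebraMap A B x)) = G (KaehlerDifferential.D V B (algebraMap A B x)))
    (hy : F (KaehlerDifferential.D V B (algebraMap A B y)) = G (KaehlerDifferential.D V B (algebraMap A B y))) :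
    F = G := by
  haveI : Algebra.FormallyEtale A B := Algebra.FormallyEtale.of_isLocalization S
  have hD : ∀ a ∈ Algebra.adjoin V ({x, y} : Set A),
      F (KaehlerDifferential.D V B (algebraMap A B a)) = G (KaehlerDifferential.D V B (algebraMap A B a)) := by
    intro a ha
    induction ha using Algebra.adjoin_induction with
    | mem z hz =>
      rcases hz with rfl | hz
      · exact hx
      · rw [Set.mem_singleton_iff] at hz; subst hz; exact hy
    | algebraMap r => rw [← IsScalarTower.algebraMap_apply, Derivation.map_algebraMap, map_zero, map_zero]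
    | add a b _ _ ha hb => rw [map_add, map_add, map_add, map_add, ha, hb]
    | mul a b _ _ ha hb => rw [map_mul, Derivation.leibniz, map_add, map_add, map_smul, map_smul, map_smul, map_smul, ha, hb]
  refine (KaehlerDifferential.isBaseChange_of_formallyEtale V A B).algHom_ext _ _ fun ω => ?_
  have hω : ω ∈ Submodule.span A (Set.range (KaehlerDifferential.D V A)) := by
    rw [KaehlerDifferential.span_range_derivation]; trivial
  induction hω using Submodule.span_induction with
  | mem z hz =>
    obtain ⟨a, rfl⟩ := hz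
    rw [KaehlerDifferential.map_D]
    exact hD a (hgen ▸ Algebra.mem_top)
  | zero => simp
  | add a b _ _ ha hb => rw [map_add, map_add, map_add, ha, hb]
  | smul a z _ hz => rw [map_smul, ← algebraMap_smul B a, map_smul, map_smul, hz]

end Aux

theorem exists_reduced_factor {k : Type u} [Field k] (a b : Polynomial k) (hb : b ≠ 0) :
    ∃ a' b' g : Polynomial k, IsCoprime a' b' ∧ a = g * a' ∧ b = g * b' := by
  classical
  obtain ⟨a', b', g, hrel, ha, hb'⟩ := UniqueFactorizationMonoid.exists_reduced_factors' a b hb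
  exact ⟨a', b', g, hrel.isCoprime, ha.symm, hb'.symm⟩

section Branch

variable {V : Type u} [CommRing V] [IsLocalRing V] (ϖ : V) (hϖm : maximalIdeal V = Ideal.span {ϖ})
variable {A : Type u} [CommRing A] [Algebra V A] {x y : A} (hxy : x * y = algebraMap V A ϖ)
  (hgen : Algebra.adjoin V ({x, y} : Set A) = ⊤)
  (π : A →ₐ[V] Polynomial (ResidueField V)) (hπx : π x = 0) (hπy : π y = Polynomial.X)
  (hker : ∀ a, π a = 0 → a ∈ Ideal.span {x})
variable (h : A) (hh : h ∉ Ideal.span ({x, y} : Set A))
variable {B : Type u} [CommRing B] [Algebra V B] [Algebra A B] [IsScalarTower V A B]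
  [IsLocalization.Away h B]

include hπx hker in
theorem span_isPrime : (Ideal.span {x}).IsPrime := by
  have : Ideal.span {x} = RingHom.ker π :=
    le_antisymm ((Ideal.span_singleton_le_iff_mem _).2 hπx) fun a ha => hker a ha
  rw [this]
  exact RingHom.ker_isPrime π

include hh in
theorem disjoint_powers (hp : (Ideal.span {x}).IsPrime) :
    Disjoint ((Submonoid.powers h : Submonoid A) : Set A) (Ideal.span {x} : Ideal A) := by
  rw [Set.disjoint_left]
  rintro _ ⟨n, rfl⟩ hn
  exact hh (Ideal.span_mono (by simp) (hp.mem_of_pow_mem n hn))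

include hπx hπy hker hh in
theorem span_B_spec : (Ideal.span {algebraMap A B x}).IsPrime ∧
    (∀ a, algebraMap A B a ∈ Ideal.span {algebraMap A B x} → π a = 0) ∧
    algebraMap A B y ∉ Ideal.span {algebraMap A B x} := by
  have hp := span_isPrime π hπx hker
  have hd := disjoint_powers h hh hp
  have e : Ideal.span {algebraMap A B x} = (Ideal.span {x}).map (algebraMap A B) := by
    rw [Ideal.map_span, Set.image_singleton]
  have key : ∀ a, algebraMap A B a ∈ Ideal.span {algebraMap A B x} → π a = 0 := by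
    intro a ha
    rw [e] at ha
    replace ha : a ∈ ((Ideal.span {x}).map (algebraMap A B)).under A := ha
    rw [IsLocalization.under_map_of_isPrime_disjoint (Submonoid.powers h) B hp hd,
      Ideal.mem_span_singleton'] at ha
    obtain ⟨b, rfl⟩ := ha
    rw [map_mul, hπx, mul_zero]
  refine ⟨?_, key, fun hy => ?_⟩
  · rw [e]; exact IsLocalization.isPrime_of_isPrime_disjoint (Submonoid.powers h) B _ hp hd
  · have := key y hy
    rw [hπy] at this
    exact Polynomial.X_ne_zero this

include ϖ hϖm hxy hgen hπx hπy hker hh in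
/-- A function on which the Euler field vanishes modulo a branch has zero differential there, and is
constant on the branch in residue characteristic zero. -/
theorem D_quotient_eq_zero (Λ : Ω[B⁄V] →ₗ[B] B)
    (hΛx : ∃ c : B, Λ (KaehlerDifferential.D V B (algebraMap A B x)) = c * algebraMap A B x)
    (ε : B) (hε : IsUnit ε)
    (hΛy : Λ (KaehlerDifferential.D V B (algebraMap A B y)) = ε * algebraMap A B y)
    (f : B) (hu : Λ (KaehlerDifferential.D V B f) ∈ Ideal.span {algebraMap A B x}) :
    KaehlerDifferential.D V (B ⧸ Ideal.span {algebraMap A B x}) (Ideal.Quotient.mk _ f) = 0 ∧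
      (CharZero (ResidueField V) → ∃ v : V, f - algebraMap V B v ∈ Ideal.span {algebraMap A B x}) := by
  obtain ⟨hpr, hkey, hyne⟩ := span_B_spec π hπx hπy hker h hh (B := B)
  set I := Ideal.span {algebraMap A B x} with hI
  haveI : I.IsPrime := hpr
  have hx0 : (Ideal.Quotient.mk I) (algebraMap A B x) = 0 :=
    Ideal.Quotient.eq_zero_iff_mem.2 (Ideal.mem_span_singleton_self _)
  have hy0 : (Ideal.Quotient.mk I) (algebraMap A B y) ≠ 0 := fun h0 => hyne (Ideal.Quotient.eq_zero_iff_mem.1 h0)
  let σ₀ : ResidueField V →+* B ⧸ I := Ideal.Quotient.lift (maximalIdeal V)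
    ((Ideal.Quotient.mk I).comp (algebraMap V B)) (fun v hv => by
      rw [hϖm, Ideal.mem_span_singleton'] at hv
      obtain ⟨w, rfl⟩ := hv
      rw [map_mul, RingHom.comp_apply _ _ ϖ, IsScalarTower.algebraMap_apply V A B, ← hxy, map_mul, map_mul, hx0,
        zero_mul, mul_zero])
  let σ : Polynomial (ResidueField V) →ₐ[V] B ⧸ I :=
    { Polynomial.eval₂RingHom σ₀ (Ideal.Quotient.mk I (algebraMap A B y)) with
      commutes' := fun v => by
        show Polynomial.eval₂ σ₀ _ (Polynomial.C (algebraMap V (ResidueField V) v)) = _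
        rw [Polynomial.eval₂_C]
        rfl }
  have hσX : σ Polynomial.X = Ideal.Quotient.mk I (algebraMap A B y) := Polynomial.eval₂_X _ _
  have hσπ : ∀ a, σ (π a) = Ideal.Quotient.mk I (algebraMap A B a) := by
    intro a
    have : σ.comp π = (Ideal.Quotient.mkₐ V I).comp (IsScalarTower.toAlgHom V A B) := by
      refine AlgHom.ext_of_adjoin_eq_top hgen ?_
      rintro z (rfl | hz)
      · show σ (π z) = Ideal.Quotient.mk I (algebraMap A B z)
        rw [hπx, map_zero, hx0]
      · rw [Set.mem_singleton_iff] at hz; subst hz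
        show σ (π z) = Ideal.Quotient.mk I (algebraMap A B z)
        rw [hπy, hσX]
    exact AlgHom.congr_fun this a
  have hπsurj : Function.Surjective π := by
    intro G
    induction G using Polynomial.induction_on' with
    | add p q hp hq =>
      obtain ⟨a, rfl⟩ := hp; obtain ⟨b, rfl⟩ := hq
      exact ⟨a + b, map_add _ _ _⟩
    | monomial n c =>
      obtain ⟨v, rfl⟩ := residue_surjective c
      refine ⟨algebraMap V A v * y ^ n, ?_⟩
      rw [map_mul, map_pow, hπy, π.commutes, ← Polynomial.C_mul_X_pow_eq_monomial]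
      rfl
  have hσinj : Function.Injective σ := by
    rw [injective_iff_map_eq_zero]
    intro G hG
    obtain ⟨a, rfl⟩ := hπsurj G
    rw [hσπ, Ideal.Quotient.eq_zero_iff_mem] at hG
    exact hkey a hG
  let δ : Derivation V A (B ⧸ I) := Derivation.mk'
    (σ.toLinearMap ∘ₗ (Polynomial.derivative.restrictScalars V) ∘ₗ π.toLinearMap) (fun a b => by
      simp only [LinearMap.comp_apply, LinearMap.restrictScalars_apply, AlgHom.toLinearMap_apply, map_mul,
        Polynomial.derivative_mul, map_add, hσπ]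
      rw [Algebra.smul_def, Algebra.smul_def, IsScalarTower.algebraMap_apply A B (B ⧸ I),
        IsScalarTower.algebraMap_apply A B (B ⧸ I), Ideal.Quotient.algebraMap_eq]
      ring)
  obtain ⟨Φ, hΦ⟩ := exists_lift (V := V) (B := B) (Submonoid.powers h) δ
  have hΦx : Φ (KaehlerDifferential.D V B (algebraMap A B x)) = 0 := by
    rw [hΦ]; show σ (Polynomial.derivative (π x)) = 0
    rw [hπx, Polynomial.derivative_zero, map_zero]
  have hΦy : Φ (KaehlerDifferential.D V B (algebraMap A B y)) = 1 := by
    rw [hΦ]; show σ (Polynomial.derivative (π y)) = 1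
    rw [hπy, Polynomial.derivative_X, map_one]
  have hΛ : (Ideal.Quotient.mkₐ B I).toLinearMap ∘ₗ Λ =
      (LinearMap.mulLeft B (Ideal.Quotient.mk I (ε * algebraMap A B y))) ∘ₗ Φ := by
    refine linearMap_ext (Submonoid.powers h) hgen ?_ ?_
    · obtain ⟨c, hc⟩ := hΛx
      simp [hc, hΦx, hx0, map_mul]
    · simp [hΛy, hΦy]
  have hΦf : Φ (KaehlerDifferential.D V B f) = 0 := by
    have h1 : Ideal.Quotient.mk I (Λ (KaehlerDifferential.D V B f)) =
        Ideal.Quotient.mk I (ε * algebraMap A B y) * Φ (KaehlerDifferential.D V B f) :=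
      LinearMap.congr_fun hΛ _
    rw [Ideal.Quotient.eq_zero_iff_mem.2 hu] at h1
    refine (mul_eq_zero.1 h1.symm).resolve_left ?_
    rw [map_mul]
    exact mul_ne_zero (hε.map _).ne_zero hy0
  refine ⟨?_, fun hchar => ?_⟩
  · have hD : KaehlerDifferential.map V V B (B ⧸ I) =
        ((LinearMap.toSpanSingleton (B ⧸ I) _ (KaehlerDifferential.D V (B ⧸ I)
          (Ideal.Quotient.mk I (algebraMap A B y)))).restrictScalars B) ∘ₗ Φ := by
      refine linearMap_ext (Submonoid.powers h) hgen ?_ ?_
      · simp [hΦx, hx0, KaehlerDifferential.map_D]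
      · simp [hΦy, KaehlerDifferential.map_D]
    have h2 := LinearMap.congr_fun hD (KaehlerDifferential.D V B f)
    rw [KaehlerDifferential.map_D] at h2
    refine h2.trans ?_
    simp [hΦf]
  · obtain ⟨⟨a, ⟨_, n, rfl⟩⟩, hn⟩ := IsLocalization.surj (Submonoid.powers h) f
    simp only at hn
    have hn1 : σ (π a) = Ideal.Quotient.mk I f * σ (π (h ^ n)) := by rw [hσπ, hσπ, ← map_mul, hn]
    have h3 := congrArg Φ (congrArg (KaehlerDifferential.D V B) hn)
    rw [Derivation.leibniz, map_add, map_smul, map_smul, hΦ, hΦ, hΦf, smul_zero, add_zero,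
      Algebra.smul_def, Ideal.Quotient.algebraMap_eq] at h3
    replace h3 : Ideal.Quotient.mk I f * σ (Polynomial.derivative (π (h ^ n))) = σ (Polynomial.derivative (π a)) := h3
    have hW : π (h ^ n) * Polynomial.derivative (π a) = Polynomial.derivative (π (h ^ n)) * π a := by
      refine hσinj ?_
      rw [map_mul, map_mul, ← h3, hn1]
      ring
    have hH : π (h ^ n) ≠ 0 := fun h0 => hh (Ideal.span_mono (by simp)
      ((span_isPrime π hπx hker).mem_of_pow_mem n (hker _ h0)))
    obtain ⟨a', H', g, hcop, hga, hgH⟩ := exists_reduced_factor (π a) (π (h ^ n)) hH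
    obtain ⟨c, hc⟩ : ∃ c, π a = Polynomial.C c * π (h ^ n) := by
      have hg0 : g ≠ 0 := fun h0 => hH (by rw [hgH, h0, zero_mul])
      have hW' : Polynomial.wronskian H' a' = 0 := by
        have : g ^ 2 * Polynomial.wronskian H' a' = 0 := by
          rw [hga, hgH, Polynomial.derivative_mul, Polynomial.derivative_mul] at hW
          rw [Polynomial.wronskian]
          linear_combination hW
        exact (mul_eq_zero.1 this).resolve_left (pow_ne_zero _ hg0)
      obtain ⟨hH', ha'⟩ := hcop.symm.wronskian_eq_zero_iff.1 hW'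
      obtain ⟨cH, rfl⟩ : ∃ c, H' = Polynomial.C c :=
        ⟨_, Polynomial.eq_C_of_natDegree_eq_zero (Polynomial.derivative_eq_zero.1 hH')⟩
      obtain ⟨ca, rfl⟩ : ∃ c, a' = Polynomial.C c :=
        ⟨_, Polynomial.eq_C_of_natDegree_eq_zero (Polynomial.derivative_eq_zero.1 ha')⟩
      have hcH : cH ≠ 0 := fun h0 => hH (by rw [hgH, h0, map_zero, mul_zero])
      refine ⟨ca / cH, ?_⟩
      rw [hga, hgH, mul_comm g (Polynomial.C cH), ← mul_assoc, ← map_mul, div_mul_cancel₀ _ hcH, mul_comm]
    obtain ⟨v, rfl⟩ := residue_surjective c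
    refine ⟨v, Ideal.Quotient.eq_zero_iff_mem.1 ?_⟩
    have hne : σ (π (h ^ n)) ≠ 0 := fun h0 => hH (hσinj (h0.trans (map_zero σ).symm))
    have hcv : σ (Polynomial.C (residue V v)) = Ideal.Quotient.mk I (algebraMap V B v) := σ.commutes v
    rw [hc, map_mul, hcv] at hn1
    rw [map_sub, sub_eq_zero]
    exact (mul_right_cancel₀ hne hn1).symm

end Branch

section Main

variable {V : Type u} [CommRing V] [IsLocalRing V] (ϖ : V) (hϖm : maximalIdeal V = Ideal.span {ϖ})
variable {A : Type u} [CommRing A] [Algebra V A] {x y : A} (hxy : x * y = algebraMap V A ϖ)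
  (hgen : Algebra.adjoin V ({x, y} : Set A) = ⊤)
  (hreg : IsSMulRegular A (algebraMap V A ϖ))
  (π₁ : A →ₐ[V] Polynomial (ResidueField V)) (hπ₁x : π₁ x = 0) (hπ₁y : π₁ y = Polynomial.X)
  (hker₁ : ∀ a, π₁ a = 0 → a ∈ Ideal.span {x})
  (π₂ : A →ₐ[V] Polynomial (ResidueField V)) (hπ₂x : π₂ y = 0) (hπ₂y : π₂ x = Polynomial.X)
  (hker₂ : ∀ a, π₂ a = 0 → a ∈ Ideal.span {y})
variable (h : A) (hh : h ∉ Ideal.span ({x, y} : Set A))

include hπ₁x hπ₁y hker₁ in
theorem span_pair_isPrime : (Ideal.span ({x, y} : Set A)).IsPrime := by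
  have hsurj : Function.Surjective π₁ := by
    intro G
    induction G using Polynomial.induction_on' with
    | add p q hp hq =>
      obtain ⟨a, rfl⟩ := hp; obtain ⟨b, rfl⟩ := hq
      exact ⟨a + b, map_add _ _ _⟩
    | monomial n c =>
      obtain ⟨v, rfl⟩ := residue_surjective c
      refine ⟨algebraMap V A v * y ^ n, ?_⟩
      rw [map_mul, map_pow, hπ₁y, π₁.commutes, ← Polynomial.C_mul_X_pow_eq_monomial]
      rfl
  have : Ideal.span ({x, y} : Set A) =
      RingHom.ker (Polynomial.constantCoeff.comp π₁.toRingHom) := by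
    refine le_antisymm (Ideal.span_le.2 ?_) fun a ha => ?_
    · rintro z (rfl | rfl) <;> simp [RingHom.mem_ker, hπ₁x, hπ₁y]
    · obtain ⟨G, hG⟩ := Polynomial.X_dvd_iff.2 (ha : (π₁ a).coeff 0 = 0)
      obtain ⟨g, rfl⟩ := hsurj G
      obtain ⟨c, hc⟩ := Ideal.mem_span_singleton'.1 (hker₁ (a - y * g) (by rw [map_sub, map_mul, hπ₁y]; exact sub_eq_zero.2 hG))
      exact Ideal.mem_span_pair.2 ⟨c, g, by linear_combination hc⟩
  rw [this]
  exact RingHom.ker_isPrime _

variable {B : Type u} [CommRing B] [Algebra V B] [Algebra A B] [IsScalarTower V A B]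
  [IsLocalization.Away h B]

theorem dvd_or_dvd {R : Type u} [CommRing R] {a b : R} (ha : (Ideal.span {a}).IsPrime)
    (hb : (Ideal.span {b}).IsPrime) (hra : IsSMulRegular R a) (hrb : IsSMulRegular R b) {u : R}
    (hu : ¬ IsUnit u) : ∀ (n m : ℕ) (w : R), u * w = a ^ n * b ^ m →
      u ∈ Ideal.span {a} ∨ u ∈ Ideal.span {b} := by
  intro n
  induction n with
  | zero =>
    intro m
    induction m with
    | zero =>
      intro w hw
      exact absurd (IsUnit.of_mul_eq_one w (by simpa using hw)) hu
    | succ m ih =>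
      intro w hw
      rcases hb.mem_or_mem (show u * w ∈ Ideal.span {b} from
        Ideal.mem_span_singleton'.2 ⟨b ^ m, by rw [hw, pow_succ]; ring⟩) with h1 | h1
      · exact Or.inr h1
      · obtain ⟨w', rfl⟩ := Ideal.mem_span_singleton'.1 h1
        exact ih w' (hrb (show b • (u * w') = b • (a ^ 0 * b ^ m) by
          simp only [smul_eq_mul]; linear_combination hw))
  | succ n ih =>
    intro m w hw
    rcases ha.mem_or_mem (show u * w ∈ Ideal.span {a} from
      Ideal.mem_span_singleton'.2 ⟨a ^ n * b ^ m, by rw [hw, pow_succ]; ring⟩) with h1 | h1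
    · exact Or.inl h1
    · obtain ⟨w', rfl⟩ := Ideal.mem_span_singleton'.1 h1
      exact ih m w' (hra (show a • (u * w') = a • (a ^ n * b ^ m) by
        simp only [smul_eq_mul]; linear_combination hw))

include hπ₁x hπ₁y hker₁ hh in
theorem span_pair_B_ne_top : Ideal.span ({algebraMap A B x, algebraMap A B y} : Set B) ≠ ⊤ := by
  have hp := span_pair_isPrime π₁ hπ₁x hπ₁y hker₁
  rw [← Set.image_pair (algebraMap A B), ← Ideal.map_span]
  intro htop
  have hd : Disjoint ((Submonoid.powers h : Submonoid A) : Set A) (Ideal.span ({x, y} : Set A) : Ideal A) := by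
    rw [Set.disjoint_left]
    rintro _ ⟨n, rfl⟩ hn
    exact hh (hp.mem_of_pow_mem n hn)
  exact (IsLocalization.isPrime_of_isPrime_disjoint (Submonoid.powers h) B _ hp hd).ne_top htop

include ϖ hϖm hπ₁x hπ₁y hker₁ hh hxy in
theorem not_quasiFinite_of_const [CharZero (ResidueField V)] (f : B) (v : V)
    (hv : f - algebraMap V B v ∈ Ideal.span {algebraMap A B x}) :
    ¬ (Polynomial.aeval f : Polynomial V →ₐ[V] B).toRingHom.QuasiFinite := by
  intro hq
  obtain ⟨hpr, -, hyne⟩ := span_B_spec π₁ hπ₁x hπ₁y hker₁ h hh (B := B)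
  set I := Ideal.span {algebraMap A B x} with hI
  haveI : I.IsPrime := hpr
  letI : Algebra (Polynomial V) B := (Polynomial.aeval f : Polynomial V →ₐ[V] B).toRingHom.toAlgebra
  haveI : Algebra.QuasiFinite (Polynomial V) B := hq
  let σ₀ : ResidueField V →+* B ⧸ I := Ideal.Quotient.lift (maximalIdeal V)
    ((Ideal.Quotient.mk I).comp (algebraMap V B)) (fun a ha => by
      rw [hϖm, Ideal.mem_span_singleton'] at ha
      obtain ⟨w, rfl⟩ := ha
      rw [map_mul, RingHom.comp_apply _ _ ϖ, IsScalarTower.algebraMap_apply V A B, ← hxy, map_mul, map_mul,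
        Ideal.Quotient.eq_zero_iff_mem.2 (Ideal.mem_span_singleton_self (algebraMap A B x)), zero_mul, mul_zero])
  letI : Algebra (ResidueField V) (B ⧸ I) := σ₀.toAlgebra
  letI : Algebra (Polynomial V) (ResidueField V) :=
    (Polynomial.eval₂RingHom (residue V) (residue V v)).toAlgebra
  haveI : IsScalarTower (Polynomial V) (ResidueField V) (B ⧸ I) := by
    refine IsScalarTower.of_algebraMap_eq' (Polynomial.ringHom_ext (fun a => ?_) ?_)
    · rw [RingHom.comp_apply, IsScalarTower.algebraMap_apply (Polynomial V) B (B ⧸ I)]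
      show Ideal.Quotient.mk I (Polynomial.aeval f (Polynomial.C a)) = σ₀ (Polynomial.eval₂ (residue V) _ (Polynomial.C a))
      rw [Polynomial.aeval_C, Polynomial.eval₂_C]
      rfl
    · rw [RingHom.comp_apply, IsScalarTower.algebraMap_apply (Polynomial V) B (B ⧸ I)]
      show Ideal.Quotient.mk I (Polynomial.aeval f Polynomial.X) = σ₀ (Polynomial.eval₂ (residue V) _ Polynomial.X)
      rw [Polynomial.aeval_X, Polynomial.eval₂_X]
      exact Ideal.Quotient.eq.2 hv
  haveI : Algebra.QuasiFinite (ResidueField V) (B ⧸ I) :=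
    Algebra.QuasiFinite.of_restrictScalars (Polynomial V) (ResidueField V) (B ⧸ I)
  haveI : Module.Finite (ResidueField V) (B ⧸ I) := Module.Finite.of_quasiFinite
  have hF : IsField (B ⧸ I) := isField_of_isIntegral_of_isField' (Field.toIsField (ResidueField V))
  obtain ⟨z, hz⟩ := hF.mul_inv_cancel
    (a := Ideal.Quotient.mk I (algebraMap A B y)) (fun h0 => hyne (Ideal.Quotient.eq_zero_iff_mem.1 h0))
  obtain ⟨z, rfl⟩ := Ideal.Quotient.mk_surjective z
  rw [← map_mul, ← map_one (Ideal.Quotient.mk I), Ideal.Quotient.eq, hI, Ideal.mem_span_singleton'] at hz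
  obtain ⟨c, hc⟩ := hz
  refine span_pair_B_ne_top π₁ hπ₁x hπ₁y hker₁ h hh (B := B) ((Ideal.eq_top_iff_one _).2 ?_)
  exact Ideal.mem_span_pair.2 ⟨-c, z, by linear_combination -hc⟩

include ϖ hϖm hxy hgen hreg hπ₁x hπ₁y hker₁ hπ₂x hπ₂y hker₂ hh in
theorem main (θ : Derivation V A A) (hθx : θ x = x) (hθy : θ y = -y) (f : B) {L : Type u} [CommRing L]
    [Algebra V L] [Algebra B L] [IsScalarTower V B L] [IsLocalization.Away (algebraMap V B ϖ) L]
    (hf : ((algebraMap B L).comp (Polynomial.aeval f : Polynomial V →ₐ[V] B).toRingHom).Etale) :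
    (KaehlerDifferential.D V (B ⧸ Ideal.span {algebraMap A B x}) (Ideal.Quotient.mk _ f) = 0 ∨
      KaehlerDifferential.D V (B ⧸ Ideal.span {algebraMap A B y}) (Ideal.Quotient.mk _ f) = 0) ∧
    (CharZero (ResidueField V) → ¬ (Polynomial.aeval f : Polynomial V →ₐ[V] B).toRingHom.QuasiFinite) := by
  obtain ⟨Λ, hΛ⟩ := exists_lift (V := V) (B := B) (Submonoid.powers h) ((Algebra.linearMap A B).compDer θ)
  have hΛx : Λ (KaehlerDifferential.D V B (algebraMap A B x)) = algebraMap A B x := by
    rw [hΛ]; exact congrArg (algebraMap A B) hθx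
  have hΛy : Λ (KaehlerDifferential.D V B (algebraMap A B y)) = -algebraMap A B y := by
    rw [hΛ, ← map_neg]; exact congrArg (algebraMap A B) hθy
  obtain ⟨Φ, hΦ⟩ := exists_lift (V := V) (B := L) (Submonoid.powers (algebraMap V B ϖ))
    (((Algebra.linearMap B L).comp Λ).compDer (KaehlerDifferential.D V B))
  set u := Λ (KaehlerDifferential.D V B f) with hu
  have hϖL : IsUnit (algebraMap B L (algebraMap V B ϖ)) :=
    IsLocalization.map_units L (⟨_, Submonoid.mem_powers _⟩ : Submonoid.powers (algebraMap V B ϖ))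
  have hxyB : algebraMap A B x * algebraMap A B y = algebraMap V B ϖ := by
    rw [← map_mul, hxy, ← IsScalarTower.algebraMap_apply]
  have huL : IsUnit (algebraMap B L u) := by
    letI : Algebra (Polynomial V) L :=
      ((algebraMap B L).comp (Polynomial.aeval f : Polynomial V →ₐ[V] B).toRingHom).toAlgebra
    haveI : IsScalarTower V (Polynomial V) L := IsScalarTower.of_algebraMap_eq fun a => by
      show algebraMap V L a = algebraMap B L (Polynomial.aeval f (Polynomial.C a))
      rw [Polynomial.aeval_C, ← IsScalarTower.algebraMap_apply]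
    haveI : Algebra.Etale (Polynomial V) L := RingHom.etale_algebraMap.1 hf
    haveI : Subsingleton (Ω[L⁄Polynomial V]) := Algebra.FormallyUnramified.subsingleton_kaehlerDifferential
    let df := KaehlerDifferential.D V L (algebraMap B L f)
    have hspan : ∀ ω : Ω[L⁄V], ω ∈ Submodule.span L {df} := by
      intro ω
      obtain ⟨t, rfl⟩ := (KaehlerDifferential.exact_mapBaseChange_map V (Polynomial V) L ω).1 (Subsingleton.elim _ _)
      induction t using TensorProduct.induction_on with
      | zero => simp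
      | tmul r η =>
        rw [KaehlerDifferential.mapBaseChange_tmul]
        refine Submodule.smul_mem _ _ ?_
        have hη : η ∈ Submodule.span (Polynomial V) (Set.range (KaehlerDifferential.D V (Polynomial V))) := by
          rw [KaehlerDifferential.span_range_derivation]; trivial
        induction hη using Submodule.span_induction with
        | mem z hz =>
          obtain ⟨q, rfl⟩ := hz
          rw [KaehlerDifferential.map_D]
          show KaehlerDifferential.D V L (algebraMap B L (Polynomial.aeval f q)) ∈ _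
          rw [← Polynomial.aeval_algebraMap_apply, Derivation.map_aeval]
          exact Submodule.smul_mem _ _ (Submodule.mem_span_singleton_self _)
        | zero => rw [map_zero]; exact zero_mem _
        | add a b _ _ ha hb => rw [map_add]; exact add_mem ha hb
        | smul a z _ hz =>
          rw [map_smul, ← algebraMap_smul L a]
          exact Submodule.smul_mem _ _ hz
      | add a b ha hb => rw [map_add]; exact add_mem ha hb
    obtain ⟨c, hc⟩ := Submodule.mem_span_singleton.1 (hspan (KaehlerDifferential.D V L (algebraMap B L (algebraMap A B x))))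
    have h4 := congrArg Φ hc
    rw [map_smul, hΦ, hΦ] at h4
    replace h4 : c * algebraMap B L u = algebraMap B L (Λ (KaehlerDifferential.D V B (algebraMap A B x))) := h4
    rw [hΛx] at h4
    rw [← hxyB, map_mul, IsUnit.mul_iff] at hϖL
    have h5 := hϖL.1
    rw [← h4, IsUnit.mul_iff] at h5
    exact h5.2
  obtain ⟨N, w, hw⟩ : ∃ (N : ℕ) (w : B), u * w = algebraMap V B ϖ ^ N := by
    obtain ⟨c, hc⟩ := huL.exists_right_inv
    obtain ⟨⟨b, ⟨_, k, rfl⟩⟩, hk⟩ := IsLocalization.surj (Submonoid.powers (algebraMap V B ϖ)) c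
    simp only at hk
    obtain ⟨⟨_, m, rfl⟩, hm⟩ := (IsLocalization.eq_iff_exists (Submonoid.powers (algebraMap V B ϖ)) L).1
      (show algebraMap B L (u * b) = algebraMap B L (algebraMap V B ϖ ^ k) by
        rw [map_mul, ← hk, ← mul_assoc, hc, one_mul])
    exact ⟨m + k, algebraMap V B ϖ ^ m * b, by simp only at hm; rw [pow_add, ← hm]; ring⟩
  have hregB : IsSMulRegular B (algebraMap V B ϖ) := by
    rw [IsScalarTower.algebraMap_apply V A B]
    haveI := IsLocalization.flat B (Submonoid.powers h)
    exact IsSMulRegular.of_flat hreg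
  rw [← hxyB] at hregB hw
  have hrx : IsSMulRegular B (algebraMap A B x) := fun a b hab => hregB (by
    simp only [smul_eq_mul] at hab ⊢
    linear_combination algebraMap A B y * hab)
  have hry : IsSMulRegular B (algebraMap A B y) := fun a b hab => hregB (by
    simp only [smul_eq_mul] at hab ⊢
    linear_combination algebraMap A B x * hab)
  have hne := span_pair_B_ne_top π₁ hπ₁x hπ₁y hker₁ h hh (B := B)
  have hunit : ¬ IsUnit u := by
    refine fun hu' => hne (Ideal.eq_top_of_isUnit_mem _ ?_ hu')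
    set m := Ideal.span ({algebraMap A B x, algebraMap A B y} : Set B)
    have hz : (Ideal.Quotient.mkₐ B m).toLinearMap ∘ₗ Λ = 0 := by
      refine linearMap_ext (Submonoid.powers h) hgen ?_ ?_
      · show Ideal.Quotient.mk m (Λ _) = 0
        rw [hΛx]; exact Ideal.Quotient.eq_zero_iff_mem.2 (Ideal.subset_span (by simp))
      · show Ideal.Quotient.mk m (Λ _) = 0
        rw [hΛy, map_neg, neg_eq_zero]; exact Ideal.Quotient.eq_zero_iff_mem.2 (Ideal.subset_span (by simp))
    exact Ideal.Quotient.eq_zero_iff_mem.1 (LinearMap.congr_fun hz _)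
  have hh₂ : h ∉ Ideal.span ({y, x} : Set A) := by rwa [Set.pair_comm]
  obtain ⟨hp₁, -, -⟩ := span_B_spec π₁ hπ₁x hπ₁y hker₁ h hh (B := B)
  obtain ⟨hp₂, -, -⟩ := span_B_spec π₂ hπ₂x hπ₂y hker₂ h hh₂ (B := B)
  have hgen₂ : Algebra.adjoin V ({y, x} : Set A) = ⊤ := by rwa [Set.pair_comm]
  have hyx : y * x = algebraMap V A ϖ := by rw [mul_comm]; exact hxy
  rw [mul_pow] at hw
  rcases dvd_or_dvd hp₁ hp₂ hrx hry hunit N N w hw with hx' | hy'
  · obtain ⟨hD, hc⟩ := D_quotient_eq_zero ϖ hϖm hxy hgen π₁ hπ₁x hπ₁y hker₁ h hh Λ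
      ⟨1, by rw [one_mul]; exact hΛx⟩ (-1) isUnit_one.neg (by rw [hΛy, neg_one_mul]) f hx'
    refine ⟨Or.inl hD, fun hchar => ?_⟩
    obtain ⟨v, hv⟩ := hc hchar
    exact not_quasiFinite_of_const ϖ hϖm hxy π₁ hπ₁x hπ₁y hker₁ h hh f v hv
  · obtain ⟨hD, hc⟩ := D_quotient_eq_zero ϖ hϖm hyx hgen₂ π₂ hπ₂x hπ₂y hker₂ h hh₂ Λ
      ⟨-1, by rw [neg_one_mul]; exact hΛy⟩ 1 isUnit_one (by rw [hΛx, one_mul]) f hy'
    refine ⟨Or.inr hD, fun hchar => ?_⟩
    obtain ⟨v, hv⟩ := hc hchar
    exact not_quasiFinite_of_const ϖ hϖm hyx π₂ hπ₂x hπ₂y hker₂ h hh₂ f v hv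

end Main

section Node

variable (V : Type u) [CommRing V] (ϖ : V)

/-- The node ring. -/
abbrev Node : Type u :=
  MvPolynomial (Fin 2) V ⧸ Ideal.span {(MvPolynomial.X 0 * MvPolynomial.X 1 - MvPolynomial.C ϖ : MvPolynomial (Fin 2) V)}

/-- A coordinate on the node ring. -/
noncomputable abbrev coord (i : Fin 2) : Node V ϖ := Ideal.Quotient.mk _ (MvPolynomial.X i)

theorem adjoin_coord : Algebra.adjoin V ({coord V ϖ 0, coord V ϖ 1} : Set (Node V ϖ)) = ⊤ := by
  have h1 := congrArg (Subalgebra.map (Ideal.Quotient.mkₐ V (Ideal.span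
    {(MvPolynomial.X 0 * MvPolynomial.X 1 - MvPolynomial.C ϖ : MvPolynomial (Fin 2) V)})))
    (MvPolynomial.adjoin_range_X (R := V) (σ := Fin 2))
  rw [Algebra.map_top, AlgHom.map_adjoin, (AlgHom.range_eq_top _).2 (Ideal.Quotient.mkₐ_surjective V _)] at h1
  rw [← h1]
  congr 1
  ext z
  simp [Fin.exists_fin_two, coord, eq_comm]

theorem coord_mul : coord V ϖ 0 * coord V ϖ 1 = algebraMap V (Node V ϖ) ϖ := by
  rw [← map_mul]
  exact Ideal.Quotient.eq.2 (Ideal.subset_span rfl)

theorem exists_euler : ∃ θ : Derivation V (Node V ϖ) (Node V ϖ),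
    θ (coord V ϖ 0) = coord V ϖ 0 ∧ θ (coord V ϖ 1) = -coord V ϖ 1 := by
  set g : MvPolynomial (Fin 2) V := MvPolynomial.X 0 * MvPolynomial.X 1 - MvPolynomial.C ϖ with hg
  let d : Derivation V (MvPolynomial (Fin 2) V) (MvPolynomial (Fin 2) V) :=
    MvPolynomial.mkDerivation V ![MvPolynomial.X 0, -MvPolynomial.X 1]
  have hdg : d g = 0 := by
    rw [hg, map_sub, Derivation.leibniz, MvPolynomial.derivation_C, sub_zero]
    simp [d, MvPolynomial.mkDerivation_X, mul_comm]
  have hd : ∀ F, Ideal.Quotient.mkₐ V (Ideal.span {g}) F = 0 → Ideal.Quotient.mkₐ V (Ideal.span {g}) (d F) = 0 := by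
    intro F hF
    obtain ⟨H, rfl⟩ := Ideal.mem_span_singleton'.1 (Ideal.Quotient.eq_zero_iff_mem.1 hF)
    refine Ideal.Quotient.eq_zero_iff_mem.2 (Ideal.mem_span_singleton'.2 ⟨d H, ?_⟩)
    rw [Derivation.leibniz, hdg, smul_zero, zero_add, smul_eq_mul, mul_comm]
  refine ⟨Derivation.liftOfSurjective (Ideal.Quotient.mkₐ_surjective V _) hd, ?_, ?_⟩
  · exact (Derivation.liftOfSurjective_apply (Ideal.Quotient.mkₐ_surjective V _) hd (MvPolynomial.X 0)).trans
      (congrArg _ (MvPolynomial.mkDerivation_X _ _ _))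
  · exact (Derivation.liftOfSurjective_apply (Ideal.Quotient.mkₐ_surjective V _) hd (MvPolynomial.X 1)).trans
      ((congrArg _ (MvPolynomial.mkDerivation_X _ _ _)).trans (map_neg _ _))

variable [IsDomain V] [IsLocalRing V]

theorem exists_branch (hϖm : maximalIdeal V = Ideal.span {ϖ}) (i j : Fin 2) (hij : i ≠ j) :
    ∃ π : Node V ϖ →ₐ[V] Polynomial (ResidueField V), π (coord V ϖ i) = 0 ∧ π (coord V ϖ j) = Polynomial.X ∧
      ∀ a, π a = 0 → a ∈ Ideal.span {coord V ϖ i} := by
  let c : Fin 2 → Polynomial (ResidueField V) := fun l => if l = j then Polynomial.X else 0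
  have hres : residue V ϖ = 0 := by
    rw [residue_eq_zero_iff, hϖm]; exact Ideal.mem_span_singleton_self _
  have hg : MvPolynomial.aeval c
      (MvPolynomial.X 0 * MvPolynomial.X 1 - MvPolynomial.C ϖ : MvPolynomial (Fin 2) V) = 0 := by
    have : c 0 * c 1 = 0 := by fin_cases i <;> fin_cases j <;> simp_all [c]
    rw [map_sub, map_mul, MvPolynomial.aeval_X, MvPolynomial.aeval_X, MvPolynomial.aeval_C, this, zero_sub, neg_eq_zero]
    show Polynomial.C (residue V ϖ) = 0
    rw [hres, map_zero]
  let π : Node V ϖ →ₐ[V] Polynomial (ResidueField V) := Ideal.Quotient.liftₐ _ (MvPolynomial.aeval c) (fun F hF => by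
    obtain ⟨H, rfl⟩ := Ideal.mem_span_singleton'.1 hF
    rw [map_mul, hg, mul_zero])
  have hπc : ∀ l, π (coord V ϖ l) = c l := fun l => MvPolynomial.aeval_X c l
  refine ⟨π, by rw [hπc]; simp [c, hij], by rw [hπc]; simp [c], fun a ha => ?_⟩
  obtain ⟨F, rfl⟩ := Ideal.Quotient.mk_surjective a
  -- reduce modulo the `i`-th coordinate
  let G : Polynomial V := MvPolynomial.aeval (fun l => if l = j then Polynomial.X else 0) F
  let P : Polynomial V →ₐ[V] Node V ϖ := Polynomial.aeval (coord V ϖ j)
  have hcong : Ideal.Quotient.mk _ F - P G ∈ Ideal.span {coord V ϖ i} := by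
    rw [← Ideal.Quotient.eq]
    let q := (Ideal.Quotient.mkₐ V (Ideal.span {coord V ϖ i}))
    have : q.comp (Ideal.Quotient.mkₐ V _) =
        q.comp (P.comp (MvPolynomial.aeval (fun l => if l = j then Polynomial.X else 0))) := by
      refine MvPolynomial.algHom_ext fun l => ?_
      by_cases hl : l = j
      · subst hl; simp [P, coord]
      · obtain rfl : l = i := by fin_cases i <;> fin_cases j <;> fin_cases l <;> simp_all
        simp only [AlgHom.comp_apply, MvPolynomial.aeval_X, if_neg hl, map_zero]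
        exact Ideal.Quotient.eq_zero_iff_mem.2 (Ideal.subset_span rfl)
    exact AlgHom.congr_fun this F
  have hGbar : G.map (residue V) = 0 := by
    have : (Polynomial.mapAlgHom (Algebra.ofId V (ResidueField V))).comp
        (MvPolynomial.aeval (fun l => if l = j then Polynomial.X else 0)) = MvPolynomial.aeval c := by
      refine MvPolynomial.algHom_ext fun l => ?_
      by_cases hl : l = j <;> simp [c, hl]
    exact (AlgHom.congr_fun this F).trans ha
  have hP : P G ∈ Ideal.span {coord V ϖ i} := by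
    have hGmem : G ∈ Ideal.span {Polynomial.C ϖ} := by
      rw [← Set.image_singleton, ← Ideal.map_span, ← hϖm, Ideal.mem_map_C_iff]
      intro n
      rw [← residue_eq_zero_iff, ← Polynomial.coeff_map, hGbar, Polynomial.coeff_zero]
    obtain ⟨H, hH⟩ := Ideal.mem_span_singleton'.1 hGmem
    rw [← hH, map_mul]
    refine Ideal.mul_mem_left _ _ ?_
    show Polynomial.aeval _ (Polynomial.C ϖ) ∈ _
    rw [Polynomial.aeval_C, ← coord_mul, Ideal.mem_span_singleton]
    fin_cases i
    · exact dvd_mul_right _ _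
    · exact dvd_mul_left _ _
  simpa using add_mem hcong hP

theorem regular (hϖ : Prime ϖ) : IsSMulRegular (Node V ϖ) (algebraMap V (Node V ϖ) ϖ) := by
  rw [isSMulRegular_iff_right_eq_zero_of_smul]
  intro a ha
  obtain ⟨F, rfl⟩ := Ideal.Quotient.mk_surjective a
  set g : MvPolynomial (Fin 2) V := MvPolynomial.X 0 * MvPolynomial.X 1 - MvPolynomial.C ϖ with hg
  replace ha : Ideal.Quotient.mk (Ideal.span {g}) (MvPolynomial.C ϖ * F) = 0 := by rw [map_mul]; exact ha
  obtain ⟨H, hH⟩ := Ideal.mem_span_singleton'.1 (Ideal.Quotient.eq_zero_iff_mem.1 ha)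
  have hp : Prime (MvPolynomial.C ϖ : MvPolynomial (Fin 2) V) := (MvPolynomial.prime_C_iff (Fin 2)).2 hϖ
  obtain ⟨H', rfl⟩ : MvPolynomial.C ϖ ∣ H := by
    refine (hp.dvd_or_dvd ⟨F, hH⟩).resolve_right fun h0 => ?_
    have h1 := MvPolynomial.C_dvd_iff_dvd_coeff ϖ g |>.1 h0 (Finsupp.single 0 1 + Finsupp.single 1 1)
    rw [hg, MvPolynomial.coeff_sub, MvPolynomial.coeff_C, MvPolynomial.X, MvPolynomial.X, MvPolynomial.monomial_mul,
      MvPolynomial.coeff_monomial, if_pos rfl, one_mul, if_neg, sub_zero] at h1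
    · exact hϖ.not_dvd_one h1
    · intro h2
      have := DFunLike.congr_fun h2 0
      simp at this
  refine Ideal.Quotient.eq_zero_iff_mem.2 (Ideal.mem_span_singleton'.2 ⟨H', ?_⟩)
  exact mul_left_cancel₀ hp.ne_zero (by rw [← hH]; ring)

end Node

end Groth.Agent.H3CAlg.NodeDifferential
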