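import Groth.Agent.H02CA.NodeCoord
import Mathlib.RingTheory.LaurentSeries
import Mathlib.RingTheory.MvPowerSeries.Rename
import Mathlib.RingTheory.PowerSeries.Trunc
import Mathlib.RingTheory.Ideal.Quotient.Operations
import Mathlib.RingTheory.HahnSeries.Multiplication

/-!
Maps from node rings to rings of Laurent series over bases where the node parameter is nilpotent.
-/

universe u v w

open MvPowerSeries SpinCurv Groth.Agent.H02CA

namespace Groth.Agent.H3CAlg.NodeLaurent

section EvalNil

variable {T : Type u} {S : Type v} [CommRing T] [CommRing S] (f : T →+* S) (y₀ : S) (N : ℕ) (hy : y₀ ^ N = 0)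

include hy in
theorem eval₂_trunc_coe (p : Polynomial T) :
    (PowerSeries.trunc N (p : PowerSeries T)).eval₂ f y₀ = p.eval₂ f y₀ := by
  obtain ⟨q, hq⟩ : Polynomial.X ^ N ∣ p - PowerSeries.trunc N (p : PowerSeries T) := by
    rw [Polynomial.X_pow_dvd_iff]
    intro d hd
    rw [Polynomial.coeff_sub, PowerSeries.coeff_trunc, if_pos hd, Polynomial.coeff_coe, sub_self]
  have := congrArg (Polynomial.eval₂ f y₀) hq
  rw [Polynomial.eval₂_sub, Polynomial.eval₂_mul, Polynomial.eval₂_X_pow, hy, zero_mul, sub_eq_zero] at this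
  exact this.symm

/-- Evaluation of power series at a nilpotent element. -/
noncomputable def evNil : PowerSeries T →+* S where
  toFun P := (PowerSeries.trunc N P).eval₂ f y₀
  map_one' := by
    have := eval₂_trunc_coe f y₀ N hy 1
    rwa [Polynomial.coe_one, Polynomial.eval₂_one] at this
  map_mul' P Q := by
    rw [← Polynomial.eval₂_mul, ← eval₂_trunc_coe f y₀ N hy (_ * _), Polynomial.coe_mul,
      PowerSeries.trunc_trunc_mul_trunc]
  map_zero' := by simp
  map_add' P Q := by simp [Polynomial.eval₂_add]

theorem evNil_apply (P : PowerSeries T) :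
    evNil f y₀ N hy P = ∑ b ∈ Finset.range N, f (PowerSeries.coeff b P) * y₀ ^ b :=
  PowerSeries.eval₂_trunc_eq_sum_range y₀ f N P

end EvalNil

variable {R : Type u} [CommRing R]

/-- The variable `i` becomes the inner variable. -/
def ε (i : Fin 2) : Fin 2 ≃ Option Unit where
  toFun k := if k = i then some () else none
  invFun o := o.elim (Fin.rev i) fun _ => i
  left_inv k := by fin_cases i <;> fin_cases k <;> rfl
  right_inv o := by fin_cases i <;> (rcases o with _ | ⟨⟩ <;> rfl)

/-- `R⟦x, y⟧` as iterated power series. -/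
noncomputable def toPP (i : Fin 2) : MvPowerSeries (Fin 2) R →+* PowerSeries (PowerSeries R) :=
  ((renameEquiv R (ε i)).trans (optionEquivLeft Unit R)).toRingEquiv.toRingHom

theorem coeff_toPP (i : Fin 2) (P : MvPowerSeries (Fin 2) R) (a b : ℕ) :
    PowerSeries.coeff a (PowerSeries.coeff b (toPP i P)) =
      coeff (Finsupp.single i a + Finsupp.single (Fin.rev i) b) P := by
  change coeff (Finsupp.single () a) (PowerSeries.coeff b (optionEquivLeft Unit R (rename (ε i) P))) = _
  rw [coeff_coeff_optionEquivLeft]
  have he : (Finsupp.single () a).optionElim b =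
      Finsupp.embDomain (ε i).toEmbedding (Finsupp.single i a + Finsupp.single (Fin.rev i) b) := by
    rw [Finsupp.embDomain_add, Finsupp.embDomain_single, Finsupp.embDomain_single]
    ext o
    fin_cases i <;> (rcases o with _ | ⟨⟩ <;> simp [ε, Finsupp.single_apply])
  rw [he]
  exact coeff_embDomain_rename (ε i).toEmbedding P _

variable [IsLocalRing R] [IsAdicComplete (IsLocalRing.maximalIdeal R) R] {r : R}
  (hr : r ∈ IsLocalRing.maximalIdeal R) {S₀ : Type v} [CommRing S₀] (g : R →+* S₀) (N : ℕ) (hN : g r ^ N = 0)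

/-- The inner variable to `x`, the outer one to `r / x`. -/
noncomputable def Φ (i : Fin 2) : MvPowerSeries (Fin 2) R →+* LaurentSeries S₀ :=
  (evNil ((HahnSeries.ofPowerSeries ℤ S₀).comp (PowerSeries.map g)) (HahnSeries.single (-1) (g r)) N
    (by rw [HahnSeries.single_pow, hN, map_zero])).comp (toPP i)

omit [IsLocalRing R] [IsAdicComplete (IsLocalRing.maximalIdeal R) R] in
theorem coeff_Φ (i : Fin 2) (P : MvPowerSeries (Fin 2) R) (e : ℤ) :
    (Φ g N hN i P).coeff e = ∑ b ∈ Finset.range N, if 0 ≤ e + b then
      g r ^ b * g (coeff (Finsupp.single i (e + b).toNat + Finsupp.single (Fin.rev i) b) P) else 0 := by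
  rw [Φ, RingHom.comp_apply, evNil_apply, HahnSeries.coeff_sum]
  refine Finset.sum_congr rfl fun b _ => ?_
  rw [HahnSeries.single_pow, RingHom.comp_apply]
  have e1 : (HahnSeries.ofPowerSeries ℤ S₀ (PowerSeries.map g (PowerSeries.coeff b (toPP i P))) *
      HahnSeries.single (b • (-1 : ℤ)) (g r ^ b)).coeff e =
      (HahnSeries.ofPowerSeries ℤ S₀ (PowerSeries.map g (PowerSeries.coeff b (toPP i P)))).coeff (e + b) * g r ^ b := by
    have := HahnSeries.coeff_mul_single_add (x := HahnSeries.ofPowerSeries ℤ S₀ (PowerSeries.map g (PowerSeries.coeff b (toPP i P))))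
      (r := g r ^ b) (a := e + b) (b := b • (-1 : ℤ))
    rwa [show e + b + b • (-1 : ℤ) = e by simp] at this
  rw [e1]
  split_ifs with h
  · obtain ⟨n, hn⟩ := Int.eq_ofNat_of_zero_le h
    rw [hn, HahnSeries.ofPowerSeries_apply_coeff, PowerSeries.coeff_map, coeff_toPP, Int.toNat_natCast, mul_comm]
  · rw [show (HahnSeries.ofPowerSeries ℤ S₀ (PowerSeries.map g (PowerSeries.coeff b (toPP i P)))).coeff (e + b) = 0 from ?_,
      zero_mul]
    rw [HahnSeries.ofPowerSeries_apply, HahnSeries.embDomain_notin_range]
    rintro ⟨n, hn⟩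
    exact h (hn ▸ Int.natCast_nonneg n)

omit [IsLocalRing R] [IsAdicComplete (IsLocalRing.maximalIdeal R) R] in
theorem Φ_X_self (i : Fin 2) : Φ g N hN i (X i) = if N = 0 then 0 else HahnSeries.single 1 1 := by
  ext e
  rw [coeff_Φ]
  rcases Nat.eq_zero_or_pos N with h0 | h0
  · simp [h0]
  rw [if_neg h0.ne', Finset.sum_eq_single 0]
  · by_cases he : 0 ≤ e
    · rw [if_pos (by simpa using he)]
      simp only [pow_zero, one_mul, Nat.cast_zero, add_zero, Finsupp.single_zero, coeff_X, Finsupp.single_left_inj,
        HahnSeries.coeff_single]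
      by_cases h1 : e = 1
      · simp [h1]
      · rw [if_neg h1, if_neg, map_zero]
        intro h2
        have := DFunLike.congr_fun h2 i
        simp at this
        omega
    · rw [if_neg (by simpa using he), HahnSeries.coeff_single, if_neg (by omega)]
  · intro b _ hb
    split_ifs with h
    · rw [coeff_X, if_neg, map_zero, mul_zero]
      intro h2
      have := DFunLike.congr_fun h2 (Fin.rev i)
      fin_cases i <;> simp [hb] at this
    · rfl
  · intro h; exact absurd (Finset.mem_range.mpr h0) h

omit [IsLocalRing R] [IsAdicComplete (IsLocalRing.maximalIdeal R) R] in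
theorem Φ_X_rev (i : Fin 2) : Φ g N hN i (X (Fin.rev i)) = HahnSeries.single (-1) (g r) := by
  ext e
  rw [coeff_Φ, HahnSeries.coeff_single]
  rcases Nat.lt_or_ge 1 N with h1 | h1
  · rw [Finset.sum_eq_single 1]
    · by_cases he : e = -1
      · subst he
        simp
      · rw [if_neg he]
        split_ifs with h
        · rw [coeff_X, if_neg, map_zero, mul_zero]
          intro h2
          have := DFunLike.congr_fun h2 i
          fin_cases i <;> simp at this <;> omega
        · rfl
    · intro b _ hb
      split_ifs with h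
      · rw [coeff_X, if_neg, map_zero, mul_zero]
        intro h2
        have := DFunLike.congr_fun h2 (Fin.rev i)
        fin_cases i <;> simp at this <;> exact hb this
      · rfl
    · intro h; exact absurd (Finset.mem_range.mpr h1) h
  · have hg : g r = 0 := by
      rcases Nat.le_one_iff_eq_zero_or_eq_one.mp h1 with h | h
      · subst h
        rw [pow_zero] at hN
        rw [← mul_one (g r), hN, mul_zero]
      · subst h; simpa using hN
    rw [hg, ite_self]
    refine Finset.sum_eq_zero fun b hb => ?_
    have hb0 : b = 0 := by have := Finset.mem_range.mp hb; omega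
    subst hb0
    split_ifs with h
    · rw [coeff_X, if_neg, map_zero, mul_zero]
      intro h2
      have := DFunLike.congr_fun h2 (Fin.rev i)
      fin_cases i <;> simp at this
    · rfl

omit [IsLocalRing R] [IsAdicComplete (IsLocalRing.maximalIdeal R) R] in
theorem Φ_C (i : Fin 2) (a : R) : Φ g N hN i (C a) = if N = 0 then 0 else HahnSeries.single 0 (g a) := by
  classical
  ext e
  rw [coeff_Φ]
  rcases Nat.eq_zero_or_pos N with h0 | h0
  · simp [h0]
  rw [if_neg h0.ne', Finset.sum_eq_single 0, HahnSeries.coeff_single]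
  · by_cases he : e = 0
    · subst he; simp
    · rw [if_neg he]
      split_ifs with h
      · rw [coeff_C, if_neg, map_zero, mul_zero]
        intro h2
        have := DFunLike.congr_fun h2 i
        simp only [Nat.cast_zero, add_zero, Finsupp.single_zero, Finsupp.single_eq_same, Finsupp.coe_zero,
          Pi.zero_apply] at this h
        omega
      · rfl
  · intro b _ hb
    split_ifs with h
    · rw [coeff_C, if_neg, map_zero, mul_zero]
      intro h2
      have := DFunLike.congr_fun h2 (Fin.rev i)
      fin_cases i <;> simp at this <;> exact hb this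
    · rfl
  · intro h; exact absurd (Finset.mem_range.mpr h0) h

omit [IsLocalRing R] [IsAdicComplete (IsLocalRing.maximalIdeal R) R] in
theorem Φ_rel (i : Fin 2) : Φ g N hN i (X 0 * X 1 - C r) = 0 := by
  have h01 : (X 0 * X 1 : MvPowerSeries (Fin 2) R) = X i * X (Fin.rev i) := by
    fin_cases i
    · rfl
    · exact mul_comm _ _
  rw [map_sub, h01, map_mul, Φ_X_self, Φ_X_rev, Φ_C]
  rcases Nat.eq_zero_or_pos N with h | h
  · simp [h]
  · rw [if_neg h.ne', if_neg h.ne', HahnSeries.single_mul_single, one_mul, add_neg_cancel, sub_self]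

/-- The induced map on the node ring. -/
noncomputable def Ψ (i : Fin 2) : NodeRing R r →+* LaurentSeries S₀ :=
  Ideal.Quotient.lift _ (Φ g N hN i) fun z hz => by
    obtain ⟨q, rfl⟩ := Ideal.mem_span_singleton'.mp hz
    rw [map_mul, Φ_rel, mul_zero]

/-- Coordinates seen from the branch `i`. -/
noncomputable def coord (i : Fin 2) (e : ℤ) : NodeRing R r →ₗ[R] R :=
  NodeCoord.κ hr (if i = 0 then e else -e)

theorem coord_mk (i : Fin 2) (e : ℤ) (P : MvPowerSeries (Fin 2) R) :
    coord hr i e (Ideal.Quotient.mk _ P) =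
      NodeCoord.lim hr fun k => coeff (Finsupp.single i (e.toNat + k) + Finsupp.single (Fin.rev i) ((-e).toNat + k)) P := by
  rw [coord, NodeCoord.κ_mk]
  congr 1
  funext k
  fin_cases i
  · rfl
  · change coeff (NodeCoord.ex ((-e).toNat + k) ((- -e).toNat + k)) P = _
    rw [neg_neg, NodeCoord.ex, add_comm (Finsupp.single _ _)]
    rfl

theorem lim_sub_S (c : ℕ → R) (n : ℕ) :
    NodeCoord.lim hr c - NodeCoord.S r c n = r ^ n * NodeCoord.lim hr (fun k => c (n + k)) := by
  induction n with
  | zero => simp [NodeCoord.S]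
  | succ n ih =>
    rw [NodeCoord.S, Finset.sum_range_succ, ← NodeCoord.S, ← sub_sub, ih, NodeCoord.lim_rec hr (fun k => c (n + k))]
    simp only [add_zero, Nat.add_left_comm, ← add_assoc]
    rw [show (fun k => c (n + k + 1)) = fun k => c (n + 1 + k) from funext fun k => by rw [Nat.add_right_comm]]
    ring

/-- The coefficients of the image. -/
theorem coeff_Ψ (i : Fin 2) (z : NodeRing R r) (e : ℤ) :
    (Ψ g N hN i z).coeff e = g (r ^ (-e).toNat * coord hr i e z) := by
  obtain ⟨P, rfl⟩ := Ideal.Quotient.mk_surjective z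
  change (Φ g N hN i P).coeff e = _
  rw [coeff_Φ, coord_mk]
  set m := (-e).toNat with hm
  set c : ℕ → R := fun k => coeff (Finsupp.single i (e.toNat + k) + Finsupp.single (Fin.rev i) (m + k)) P with hc
  rcases Nat.lt_or_ge N m with hlt | hge
  · rw [Finset.sum_eq_zero, map_mul, map_pow, show m = N + (m - N) by omega, pow_add, hN, zero_mul, zero_mul]
    intro b hb
    rw [if_neg]
    have := Finset.mem_range.mp hb
    omega
  · obtain ⟨d, rfl⟩ : ∃ d, N = m + d := ⟨N - m, by omega⟩
    rw [Finset.sum_range_add, Finset.sum_eq_zero, zero_add]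
    · rw [show r ^ m * NodeCoord.lim hr c =
          r ^ m * NodeCoord.S r c d + r ^ (m + d) * NodeCoord.lim hr (fun k => c (d + k)) by
        rw [pow_add, mul_assoc, ← mul_add, ← lim_sub_S hr c d]; ring]
      rw [map_add, map_mul g (r ^ (m + d)), map_pow g r (m + d), hN, zero_mul, add_zero, NodeCoord.S, Finset.mul_sum, map_sum]
      refine Finset.sum_congr rfl fun k _ => ?_
      rw [if_pos (by omega), show (e + ((m + k : ℕ) : ℤ)).toNat = e.toNat + k by omega, ← map_pow, ← map_mul, pow_add, mul_assoc]
    · intro b hb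
      rw [if_neg]
      have := Finset.mem_range.mp hb
      omega

theorem Ψ_algebraMap_mul_monomial (i : Fin 2) (a : R) (p q : ℕ) :
    Ψ g N hN i (algebraMap R _ a * (Ideal.Quotient.mk _ (X i)) ^ p * (Ideal.Quotient.mk _ (X (Fin.rev i))) ^ q) =
      HahnSeries.single ((p : ℤ) - q) (g (r ^ q * a)) := by
  rw [map_mul, map_mul, map_pow, map_pow]
  change Φ g N hN i (algebraMap R _ a) * Φ g N hN i (X i) ^ p * Φ g N hN i (X (Fin.rev i)) ^ q = _
  rw [MvPowerSeries.algebraMap_apply, Algebra.algebraMap_self_apply, Φ_C, Φ_X_self, Φ_X_rev]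
  rcases Nat.eq_zero_or_pos N with h | h
  · subst h
    rw [pow_zero] at hN
    rw [if_pos rfl, zero_mul, zero_mul, show g (r ^ q * a) = 0 by rw [← mul_one (g _), hN, mul_zero], map_zero]
  · rw [if_neg h.ne', if_neg h.ne', HahnSeries.single_pow, HahnSeries.single_pow, HahnSeries.single_mul_single,
      HahnSeries.single_mul_single, one_pow, mul_one, map_mul g, map_pow g, mul_comm (g a),
      show (0 : ℤ) + p • 1 + q • (-1 : ℤ) = (p : ℤ) - q by simp; ring]

end Groth.Agent.H3CAlg.NodeLaurent
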