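import Groth.Agent.S11278
import Groth.Agent.S5784
import Groth.Agent.H28Alg.RegularUFD
import Groth.Agent.H4Depth.Regular
import Groth.Agent.H02CA.RegularQuotient
import Groth.Agent.H24Art.PowerSeries
import Groth.Agent.H3CAlg.NodeLaurent
import Groth.Agent.H05EGA4.RadicalExtension
import Mathlib.RingTheory.PowerSeries.WeierstrassPreparation
import Mathlib.Algebra.Polynomial.RingDivision
import Mathlib.Algebra.DualNumber

/-!
Node rings over complete regular local rings are factorial when the node parameter is prime.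
-/

universe u

open Ideal

namespace Groth.Agent.H3CAlg.NodeFactorial

section Nagata

variable {A : Type u} [CommRing A] [IsDomain A] [IsNoetherianRing A] (S : Submonoid A)

/-- Nagata's criterion for a submonoid whose height-one primes are principal. -/
theorem ufd_of_localization (hS : S ≤ nonZeroDivisors A) [UniqueFactorizationMonoid (Localization S)]
    (hP : ∀ P : Ideal A, P.IsPrime → P.height ≤ 1 → P ≠ ⊥ → (∃ s ∈ S, s ∈ P) →
      ∃ π, Prime π ∧ P = Ideal.span {π}) : UniqueFactorizationMonoid A := by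
  classical
  have : IsDomain (Localization S) := IsLocalization.isDomain_localization hS
  have hinj : Function.Injective (algebraMap A (Localization S)) := IsLocalization.injective _ hS
  have hs0 : ∀ s ∈ S, s ≠ (0 : A) := fun s hs => nonZeroDivisors.ne_zero (hS hs)
  have hcancel : ∀ s : A, (∃ t ∈ S, s ∣ t) → ∀ g a c : A,
      (∀ π, Prime π → (∃ t ∈ S, π ∣ t) → ¬ π ∣ g) → s * a = g * c → g ∣ a := by
    intro s
    induction s using (wellFounded_dvdNotUnit (α := A)).induction with
    | _ s ih =>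
      intro hst g a c hg he
      by_cases hu : IsUnit s
      · obtain ⟨u, rfl⟩ := hu
        exact ⟨↑u⁻¹ * c, by rw [mul_left_comm, ← he, Units.inv_mul_cancel_left]⟩
      obtain ⟨t, htS, hdt⟩ := hst
      have hne : s ≠ 0 := ne_zero_of_dvd_ne_zero (hs0 t htS) hdt
      obtain ⟨P, hPmem⟩ := Ideal.nonempty_minimalPrimes (I := Ideal.span {s})
        (by rwa [Ne, Ideal.span_singleton_eq_top])
      have := hPmem.1.1
      have hsP : s ∈ P := hPmem.1.2 (Ideal.mem_span_singleton_self s)
      obtain ⟨π, hπ, rfl⟩ := hP P this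
        (Ideal.height_le_one_of_isPrincipal_of_mem_minimalPrimes (Ideal.span {s}) P hPmem)
        (fun h => hne (by simpa [h] using hsP)) ⟨t, htS, by
          obtain ⟨d, rfl⟩ := hdt; exact Ideal.mul_mem_right _ _ hsP⟩
      obtain ⟨s', rfl⟩ := Ideal.mem_span_singleton.mp hsP
      have hπt : π ∣ t := (dvd_mul_right π s').trans hdt
      rcases hπ.dvd_or_dvd (show π ∣ g * c from ⟨s' * a, by rw [← he]; ring⟩) with h | ⟨c', rfl⟩
      · exact absurd h (hg π hπ ⟨t, htS, hπt⟩)
      · refine ih s' ⟨right_ne_zero_of_mul hne, π, hπ.not_unit, mul_comm _ _⟩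
          ⟨t, htS, (dvd_mul_left s' π).trans hdt⟩ g a c' hg (mul_left_cancel₀ hπ.ne_zero ?_)
        linear_combination he
  rw [UniqueFactorizationMonoid.iff_exists_prime_mem_of_isPrime]
  intro Q hQ0 hQ
  haveI := hQ
  obtain ⟨b, hbQ, hb0⟩ := Submodule.exists_mem_ne_zero_of_ne_bot hQ0
  obtain ⟨P, hPmem, hPQ⟩ := Ideal.exists_minimalPrimes_le ((Ideal.span_singleton_le_iff_mem _).mpr hbQ)
  have hPp := hPmem.1.1
  have hbP : b ∈ P := hPmem.1.2 (Ideal.mem_span_singleton_self b)
  have hP0 : P ≠ ⊥ := fun h => hb0 (by simpa [h] using hbP)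
  by_cases hmeet : ∃ s ∈ S, s ∈ P
  · obtain ⟨π, hπ, rfl⟩ := hP P hPp
      (Ideal.height_le_one_of_isPrincipal_of_mem_minimalPrimes (Ideal.span {b}) P hPmem) hP0 hmeet
    exact ⟨π, hPQ (Ideal.mem_span_singleton_self π), hπ⟩
  push Not at hmeet
  have hdisj : Disjoint (S : Set A) (P : Set A) := Set.disjoint_left.mpr hmeet
  haveI hP' : (P.map (algebraMap A (Localization S))).IsPrime :=
    IsLocalization.isPrime_of_isPrime_disjoint S _ P hPp hdisj
  have hP'0 : P.map (algebraMap A (Localization S)) ≠ ⊥ := by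
    rwa [Ne, Ideal.map_eq_bot_iff_of_injective hinj]
  obtain ⟨q, hqP, hq⟩ := UniqueFactorizationMonoid.iff_exists_prime_mem_of_isPrime.1
    ‹UniqueFactorizationMonoid (Localization S)› _ hP'0 hP'
  obtain ⟨⟨a, s⟩, has⟩ := IsLocalization.surj S q
  have haP : a ∈ P := by
    rw [← IsLocalization.comap_map_of_isPrime_disjoint S (Localization S) hPp hdisj, Ideal.mem_comap]
    rw [← has]; exact Ideal.mul_mem_right _ _ hqP
  have haprime : Prime (algebraMap A (Localization S) a) :=
    (show Associated q _ from (associated_mul_unit_right q _ (IsLocalization.map_units _ s)).trans (has ▸ Associated.refl _)).prime hq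
  obtain ⟨J, ⟨g, ⟨hgP, hgprime⟩, rfl⟩, hJ⟩ := set_has_maximal_iff_noetherian.mpr ‹IsNoetherianRing A›
    ((fun g => Ideal.span {g}) '' {g | g ∈ P ∧ Prime (algebraMap A (Localization S) g)})
    ⟨_, a, ⟨haP, haprime⟩, rfl⟩
  have hg : ∀ π, Prime π → (∃ t ∈ S, π ∣ t) → ¬ π ∣ g := by
    rintro π hπ ⟨t, htS, hπt⟩ ⟨e, rfl⟩
    have hu : IsUnit (algebraMap A (Localization S) π) :=
      isUnit_of_dvd_unit (map_dvd _ hπt) (IsLocalization.map_units _ ⟨t, htS⟩)
    have hπP : π ∉ P := fun h => hmeet t htS (by obtain ⟨d, rfl⟩ := hπt; exact Ideal.mul_mem_right _ _ h)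
    have heP : e ∈ P := (hPp.mem_or_mem hgP).resolve_left hπP
    have heprime : Prime (algebraMap A (Localization S) e) := by
      rw [map_mul] at hgprime
      exact (associated_unit_mul_left _ _ hu).prime hgprime
    refine hJ _ ⟨e, ⟨heP, heprime⟩, rfl⟩ (lt_of_le_of_ne
      (Ideal.span_singleton_le_span_singleton.mpr (dvd_mul_left e π)) fun h => hπ.not_unit ?_)
    obtain ⟨d, hd⟩ := Ideal.span_singleton_le_span_singleton.mp h.ge
    have he0 : e ≠ 0 := fun h0 => heprime.ne_zero (by rw [h0, map_zero])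
    exact IsUnit.of_mul_eq_one d (mul_left_cancel₀ he0 (by linear_combination -hd))
  have hdvd : ∀ z, algebraMap A (Localization S) g ∣ algebraMap A (Localization S) z → g ∣ z := by
    rintro z ⟨w, hw⟩
    obtain ⟨⟨c, s'⟩, hc⟩ := IsLocalization.surj S w
    refine hcancel s' ⟨s', s'.2, dvd_rfl⟩ g z c hg (hinj ?_)
    simp only at hc
    rw [map_mul, map_mul, ← hc, hw]; ring
  refine ⟨g, hPQ hgP, fun h0 => hgprime.ne_zero (by rw [h0, map_zero]),
    fun hu => hgprime.not_unit (hu.map _), fun x y hxy => ?_⟩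
  exact (hgprime.dvd_or_dvd (by rw [← map_mul]; exact map_dvd _ hxy)).imp (hdvd x) (hdvd y)

end Nagata

section Linear

open Polynomial

variable {C : Type u} [CommRing C] (x Δ : C)

/-- `C[Y]/(xY - Δ)`. -/
abbrev Lin : Type u := C[X] ⧸ Ideal.span {Polynomial.C x * Polynomial.X - Polynomial.C Δ}

/-- The quotient map. -/
noncomputable abbrev mkL : C[X] →+* Lin x Δ := Ideal.Quotient.mk _

theorem mkL_rel : mkL x Δ (Polynomial.C x) * mkL x Δ Polynomial.X = mkL x Δ (Polynomial.C Δ) := by
  rw [← map_mul, Ideal.Quotient.eq]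
  exact Ideal.mem_span_singleton_self _

variable [IsDomain C] [UniqueFactorizationMonoid C] {x Δ}

theorem isDomain_lin (hx : Prime x) (hxΔ : ¬ x ∣ Δ) : IsDomain (Lin x Δ) := by
  have hirr : Irreducible (Polynomial.C x * Polynomial.X - Polynomial.C Δ) := by
    rw [sub_eq_add_neg, ← Polynomial.C_neg]
    exact irreducible_C_mul_X_add_C hx.ne_zero
      ((hx.irreducible.isRelPrime_iff_not_dvd).mpr fun h => hxΔ (dvd_neg.mp h))
  exact (Ideal.Quotient.isDomain_iff_prime _).mpr
    ((Ideal.span_singleton_prime hirr.ne_zero).mpr hirr.prime)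

theorem exists_pow_mul_eq (b : Lin x Δ) : ∃ n c, mkL x Δ (Polynomial.C x) ^ n * b = mkL x Δ (Polynomial.C c) := by
  obtain ⟨p, rfl⟩ := Ideal.Quotient.mk_surjective b
  induction p using Polynomial.induction_on' with
  | add p q hp hq =>
    obtain ⟨n, c, hn⟩ := hp
    obtain ⟨m, d, hm⟩ := hq
    exact ⟨n + m, x ^ m * c + x ^ n * d, by
      simp only [map_add, map_mul, map_pow, ← hn, ← hm, pow_add]; ring⟩
  | monomial k a =>
    exact ⟨k, a * Δ ^ k, by
      simp only [← Polynomial.C_mul_X_pow_eq_monomial, map_mul, map_pow, ← mkL_rel, mul_pow]; ring⟩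

variable [IsNoetherianRing C]

theorem ufd_lin (hx : Prime x) (hxΔ : ¬ x ∣ Δ) (hp : (Ideal.span {x, Δ}).IsPrime) :
    UniqueFactorizationMonoid (Lin x Δ) := by
  haveI := isDomain_lin hx hxΔ
  have hM : Submonoid.powers x ≤ nonZeroDivisors C := powers_le_nonZeroDivisors_of_noZeroDivisors hx.ne_zero
  haveI : IsDomain (Localization.Away x) := IsLocalization.isDomain_localization hM
  obtain ⟨v, hv⟩ : IsUnit (algebraMap C (Localization.Away x) x) := IsLocalization.Away.algebraMap_isUnit x
  let φ : Lin x Δ →+* Localization.Away x := Ideal.Quotient.lift _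
    (Polynomial.eval₂RingHom (algebraMap C _) (algebraMap C _ Δ * ↑v⁻¹)) (fun p hp => by
      obtain ⟨q, rfl⟩ := Ideal.mem_span_singleton'.mp hp
      simp only [map_mul, map_sub, Polynomial.coe_eval₂RingHom, Polynomial.eval₂_C, Polynomial.eval₂_X]
      rw [← hv, mul_left_comm (↑v : Localization.Away x), Units.mul_inv, mul_one, sub_self, mul_zero])
  have hφC : ∀ c, φ (mkL x Δ (Polynomial.C c)) = algebraMap C _ c := fun c => by
    simp only [φ, mkL, Ideal.Quotient.lift_mk, Polynomial.coe_eval₂RingHom, Polynomial.eval₂_C]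
  have hxne : mkL x Δ (Polynomial.C x) ≠ 0 := fun h => by
    have := hφC x
    rw [h, map_zero, ← hv] at this
    exact v.ne_zero this.symm
  have hφinj : Function.Injective φ := by
    refine (injective_iff_map_eq_zero φ).mpr fun b hb => ?_
    obtain ⟨n, c, hc⟩ := exists_pow_mul_eq b
    have : algebraMap C (Localization.Away x) c = 0 := by rw [← hφC, ← hc, map_mul, hb, mul_zero]
    rw [IsLocalization.to_map_eq_zero_iff _ hM] at this
    rw [this, Polynomial.C_0, map_zero] at hc
    exact (mul_eq_zero.mp hc).resolve_left (pow_ne_zero _ hxne)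
  letI : Algebra (Lin x Δ) (Localization.Away x) := φ.toAlgebra
  haveI : IsLocalization.Away (mkL x Δ (Polynomial.C x)) (Localization.Away x) := by
    refine ⟨fun ⟨_, n, rfl⟩ => ?_, fun z => ?_, fun {a b} h => ⟨1, by rw [hφinj h]⟩⟩
    · show IsUnit (φ (mkL x Δ (Polynomial.C x) ^ n))
      rw [map_pow, hφC]; exact (IsLocalization.Away.algebraMap_isUnit x).pow n
    · obtain ⟨n, c, hc⟩ := IsLocalization.Away.surj x z
      refine ⟨(mkL x Δ (Polynomial.C c), ⟨_, n, rfl⟩), ?_⟩
      show z * φ (mkL x Δ (Polynomial.C x) ^ n) = φ (mkL x Δ (Polynomial.C c))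
      rw [map_pow, hφC, hφC, hc]
  have hxp : Prime (mkL x Δ (Polynomial.C x)) := by
    have hmap : (Ideal.span {x, Δ}).map Polynomial.C = Ideal.span {Polynomial.C x, Polynomial.C Δ} := by
      rw [Ideal.map_span, Set.image_pair]
    haveI := hp
    have hp' : (Ideal.span {Polynomial.C x, Polynomial.C Δ}).IsPrime :=
      hmap ▸ Ideal.isPrime_map_C_of_isPrime
    have hmem : ∀ p ∈ Ideal.span {Polynomial.C x, Polynomial.C Δ}, mkL x Δ (Polynomial.C x) ∣ mkL x Δ p := by
      intro p hp
      obtain ⟨a, b, rfl⟩ := Ideal.mem_span_pair.mp hp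
      exact ⟨mkL x Δ a + mkL x Δ b * mkL x Δ Polynomial.X, by
        rw [map_add, map_mul, map_mul, ← mkL_rel]; ring⟩
    refine ⟨hxne, fun hu => ?_, fun a b hab => ?_⟩
    · refine hp'.ne_top ((Ideal.eq_top_iff_one _).mpr ?_)
      obtain ⟨c, hc⟩ := hu.exists_right_inv
      obtain ⟨c, rfl⟩ := Ideal.Quotient.mk_surjective c
      rw [← map_mul, ← map_one (mkL x Δ), Ideal.Quotient.eq] at hc
      obtain ⟨q, hq⟩ := Ideal.mem_span_singleton'.mp hc
      refine Ideal.mem_span_pair.mpr ⟨c - q * Polynomial.X, q, ?_⟩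
      linear_combination -hq
    · obtain ⟨a, rfl⟩ := Ideal.Quotient.mk_surjective a
      obtain ⟨b, rfl⟩ := Ideal.Quotient.mk_surjective b
      obtain ⟨c, hc⟩ := hab
      obtain ⟨c, rfl⟩ := Ideal.Quotient.mk_surjective c
      rw [← map_mul, ← map_mul, Ideal.Quotient.eq] at hc
      obtain ⟨q, hq⟩ := Ideal.mem_span_singleton'.mp hc
      have : a * b ∈ Ideal.span {Polynomial.C x, Polynomial.C Δ} :=
        Ideal.mem_span_pair.mpr ⟨c + q * Polynomial.X, -q, by linear_combination hq⟩
      exact (hp'.mem_or_mem this).imp (hmem a) (hmem b)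
  haveI hu : UniqueFactorizationMonoid (Localization.Away x) :=
    UniqueFactorizationMonoid.of_isLocalization (Submonoid.powers x) (Localization.Away x)
  refine Groth.Agent.S11278.ufd_of_ufd_away hxp ?_
  exact (IsLocalization.algEquiv (Submonoid.powers (mkL x Δ (Polynomial.C x))) (Localization.Away x)
    (Localization.Away (mkL x Δ (Polynomial.C x)))).toMulEquiv.uniqueFactorizationMonoid hu

end Linear

section Completion

open PowerSeries IsLocalRing

variable {R : Type u} [CommRing R] (Δ : R)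

/-- The relation `xY - Δ` in `R⟦x⟧⟦Y⟧`. -/
noncomputable abbrev rel : PowerSeries (PowerSeries R) :=
  C (X : PowerSeries R) * X - C (C Δ)

/-- `R⟦x⟧⟦Y⟧/(xY - Δ)`. -/
abbrev Comp : Type u := PowerSeries (PowerSeries R) ⧸ Ideal.span {rel Δ}

variable [IsLocalRing R]

/-- Reduce modulo the maximal ideal and `x`. -/
noncomputable def red : PowerSeries (PowerSeries R) →+* PowerSeries (ResidueField R) :=
  PowerSeries.map ((residue R).comp constantCoeff)

theorem red_rel (hΔ : Δ ∈ maximalIdeal R) : red (rel Δ) = 0 := by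
  have h1 : (residue R).comp (constantCoeff (R := R)) (X : PowerSeries R) = 0 := by simp
  have h2 : (residue R).comp (constantCoeff (R := R)) (C Δ) = 0 := by
    simp [residue_eq_zero_iff, hΔ]
  simp only [red, rel, map_sub, map_mul, map_C, map_X, h1, h2, map_zero, zero_mul, sub_zero]

theorem residue_cc_eq (c : PowerSeries R) :
    (residue R).comp constantCoeff c = 0 ↔ c ∈ maximalIdeal (PowerSeries R) := by
  rw [RingHom.comp_apply, residue_eq_zero_iff, mem_maximalIdeal, mem_maximalIdeal, mem_nonunits_iff,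
    mem_nonunits_iff, isUnit_iff_constantCoeff]

/-- First order data in the maximal ideal and `x`. -/
noncomputable def θ : PowerSeries R →+* DualNumber (ResidueField R) where
  toFun c := TrivSqZeroExt.inl (residue R (coeff 0 c)) + TrivSqZeroExt.inr (residue R (coeff 1 c))
  map_one' := by ext <;> simp [coeff_one]
  map_zero' := by ext <;> simp
  map_add' a b := by ext <;> simp
  map_mul' a b := by
    ext
    · simp [coeff_mul, Finset.Nat.antidiagonal_succ]
    · simp [coeff_mul, Finset.Nat.antidiagonal_succ, mul_comm]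

theorem mem_ker_of_mul_rel_mem_sq (hΔ : Δ ∈ maximalIdeal R) (w : PowerSeries (PowerSeries R))
    (hw : w * rel Δ ∈ RingHom.ker (red (R := R)) ^ 2) : w ∈ RingHom.ker (red (R := R)) := by
  have hfst : ∀ F ∈ RingHom.ker (red (R := R)), ∀ n, (θ (coeff n F)).fst = 0 := fun F hF n => by
    have := congrArg (coeff n) (RingHom.mem_ker.mp hF)
    rw [red, coeff_map, map_zero, RingHom.comp_apply] at this
    simp [θ, this]
  have hsq : RingHom.ker (red (R := R)) ^ 2 ≤ RingHom.ker (PowerSeries.map (θ (R := R))) := by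
    rw [pow_two, Ideal.mul_le]
    intro F hF G hG
    rw [RingHom.mem_ker, map_mul]
    refine PowerSeries.ext fun n => ?_
    rw [coeff_mul, map_zero, Finset.sum_eq_zero]
    intro ij _
    ext <;> simp [hfst F hF, hfst G hG]
  have h0 := RingHom.mem_ker.mp (hsq hw)
  have hθΔ : θ (C Δ) = 0 := by
    ext <;> simp [θ, residue_eq_zero_iff, hΔ, coeff_C]
  have hθX : (θ (X : PowerSeries R)) = TrivSqZeroExt.inr 1 := by
    ext <;> simp [θ, coeff_X]
  rw [rel, map_mul, map_sub, map_mul, map_C, map_C, map_X, hθΔ, hθX, map_zero, sub_zero] at h0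
  rw [RingHom.mem_ker]
  ext n
  have := congrArg (fun F => (coeff (n + 1) F).snd) h0
  simp only [← mul_assoc, coeff_succ_mul_X, coeff_mul_C, coeff_map, map_zero, TrivSqZeroExt.snd_zero] at this
  rw [red, coeff_map, map_zero, RingHom.comp_apply]
  simpa [θ] using this

variable [IsNoetherianRing R] [IsAdicComplete (maximalIdeal R) R]

/-- One variable power series rings. -/
noncomputable def eqv (R : Type u) [CommRing R] : PowerSeries R ≃+* MvPowerSeries (Fin 1) R :=
  (MvPowerSeries.renameEquiv R finOneEquiv.symm).toRingEquiv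

theorem isAdicComplete_powerSeries :
    IsAdicComplete (maximalIdeal (PowerSeries R)) (PowerSeries R) := by
  rw [← IsAdicComplete.congr_ringEquiv _ (eqv R)]
  have h : (maximalIdeal (PowerSeries R)).map (eqv R) = maximalIdeal (MvPowerSeries (Fin 1) R) := by
    rw [← Ideal.comap_symm]
    exact eq_maximalIdeal (Ideal.comap_isMaximal_of_equiv (eqv R).symm)
  rw [h]
  exact Groth.Agent.H24Art.isAdicComplete_mvPowerSeries

omit [IsNoetherianRing R] [IsAdicComplete (maximalIdeal R) R] in
theorem red_coe_ne_zero_iff (F : PowerSeries (PowerSeries R)) :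
    red F ≠ 0 ↔ F.map (residue (PowerSeries R)) ≠ 0 := by
  refine not_congr ⟨fun h => PowerSeries.ext fun n => ?_, fun h => PowerSeries.ext fun n => ?_⟩
  · have := congrArg (coeff n) h
    rw [red, coeff_map, map_zero, residue_cc_eq] at this
    rw [coeff_map, map_zero, residue_eq_zero_iff]; exact this
  · have := congrArg (coeff n) h
    rw [coeff_map, map_zero, residue_eq_zero_iff] at this
    rw [red, coeff_map, map_zero, residue_cc_eq]; exact this

/-- The map `R⟦x⟧[Y]/(xY - Δ) → R⟦x⟧⟦Y⟧/(xY - Δ)`. -/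
noncomputable def ι : Lin (X : PowerSeries R) (C Δ) →+* Comp Δ :=
  Ideal.Quotient.lift _ ((Ideal.Quotient.mk _).comp Polynomial.coeToPowerSeries.ringHom) (fun p hp => by
    obtain ⟨q, rfl⟩ := Ideal.mem_span_singleton'.mp hp
    rw [RingHom.comp_apply, Ideal.Quotient.eq_zero_iff_mem, map_mul]
    exact Ideal.mul_mem_left _ _ (by simpa [rel] using Ideal.mem_span_singleton_self (rel Δ)))

omit [IsNoetherianRing R] [IsAdicComplete (maximalIdeal R) R] [IsLocalRing R] in
theorem ι_mkL (p : Polynomial (PowerSeries R)) : ι Δ (mkL _ _ p) = Ideal.Quotient.mk _ (p : PowerSeries (PowerSeries R)) := rfl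

/-- Reduction on the quotient. -/
noncomputable def redQ (hΔ : Δ ∈ maximalIdeal R) : Comp Δ →+* PowerSeries (ResidueField R) :=
  Ideal.Quotient.lift _ red fun a ha => by
    obtain ⟨b, rfl⟩ := Ideal.mem_span_singleton'.mp ha
    rw [map_mul, red_rel Δ hΔ, mul_zero]

omit [IsNoetherianRing R] [IsAdicComplete (maximalIdeal R) R] in
theorem isUnit_of_constantCoeff_ne (hΔ : Δ ∈ maximalIdeal R) (a : Comp Δ)
    (h : constantCoeff (redQ Δ hΔ a) ≠ 0) : IsUnit a := by
  obtain ⟨F, rfl⟩ := Ideal.Quotient.mk_surjective a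
  refine (isUnit_iff_constantCoeff.mpr (isUnit_iff_constantCoeff.mpr ?_)).map _
  by_contra hn
  apply h
  rw [redQ, Ideal.Quotient.lift_mk, red, ← coeff_zero_eq_constantCoeff_apply, coeff_map,
    coeff_zero_eq_constantCoeff_apply, RingHom.comp_apply, residue_eq_zero_iff]
  exact hn

variable [IsRegularLocalRing R]

theorem isRegularLocalRing_powerSeries : IsRegularLocalRing (PowerSeries R) := by
  have : IsRegularRing R := Groth.Agent.H05EGA4.isRegularRing_of_isRegularLocalRing R
  have : IsRegularRing (MvPowerSeries (Fin 1) R) := Groth.Agent.S5784.result R 1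
  have : IsRegularRing (PowerSeries R) := IsRegularRing.of_ringEquiv (eqv R).symm
  exact IsRegularLocalRing.of_isRegularRing_of_isLocalRing _

theorem isRegularRing_iterated : IsRegularRing (PowerSeries (PowerSeries R)) := by
  haveI := isRegularLocalRing_powerSeries (R := R)
  have : IsRegularRing (PowerSeries R) := Groth.Agent.H05EGA4.isRegularRing_of_isRegularLocalRing _
  have : IsRegularRing (MvPowerSeries (Fin 1) (PowerSeries R)) := Groth.Agent.S5784.result _ 1
  exact IsRegularRing.of_ringEquiv (eqv (PowerSeries R)).symm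

theorem ufd_atPrime (hΔ : Δ ∈ maximalIdeal R) (Q : Ideal (Comp Δ)) [Q.IsPrime] (hQ : Q = RingHom.ker (redQ Δ hΔ)) :
    IsRegularLocalRing (Localization.AtPrime Q) := by
  let π : PowerSeries (PowerSeries R) →+* Comp Δ := Ideal.Quotient.mk _
  have hπ : Function.Surjective π := Ideal.Quotient.mk_surjective
  have hker : Q.comap π = RingHom.ker (red (R := R)) := by
    rw [hQ]; ext F; rfl
  haveI := isRegularRing_iterated (R := R)
  haveI : IsRegularLocalRing (Localization.AtPrime (Q.comap π)) := inferInstance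
  let f : Fin 1 → Localization.AtPrime (Q.comap π) := fun _ => algebraMap _ _ (rel Δ)
  have hmax : maximalIdeal (Localization.AtPrime (Q.comap π)) = (Q.comap π).map (algebraMap _ _) :=
    Localization.AtPrime.map_eq_maximalIdeal.symm
  obtain ⟨hreg, -⟩ := Groth.Agent.H02CA.regular_quotient_of_independent f (fun _ => by
      rw [hmax]
      exact Ideal.mem_map_of_mem _ (hker ▸ red_rel Δ hΔ)) (fun a ha j => by
      rw [Fin.sum_univ_one] at ha
      obtain ⟨⟨w, s⟩, hw⟩ := IsLocalization.surj (Q.comap π).primeCompl (a 0)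
      have h1 : algebraMap _ (Localization.AtPrime (Q.comap π)) (w * rel Δ) ∈
          ((Q.comap π) ^ 2).map (algebraMap _ _) := by
        rw [Ideal.map_pow, ← hmax, map_mul]
        simp only at hw
        rw [← hw, mul_right_comm]
        exact Ideal.mul_mem_right _ _ ha
      obtain ⟨t, ht, h2⟩ := (IsLocalization.algebraMap_mem_map_algebraMap_iff (Q.comap π).primeCompl
        (Localization.AtPrime (Q.comap π)) _ _).mp h1
      have h3 : t * w ∈ RingHom.ker (red (R := R)) :=
        mem_ker_of_mul_rel_mem_sq Δ hΔ _ (by rwa [← hker, mul_assoc])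
      rw [← hker] at h3
      have h4 : w ∈ Q.comap π := ((Ideal.IsPrime.mem_or_mem inferInstance h3).resolve_left ht)
      rw [Fin.eq_zero j, hmax]
      have h5 := Ideal.mem_map_of_mem (algebraMap _ (Localization.AtPrime (Q.comap π))) h4
      simp only at hw
      rw [← hw] at h5
      exact (Ideal.mul_unit_mem_iff_mem _ (IsLocalization.map_units _ s)).mp h5)
  let φ := Localization.localRingHom (Q.comap π) Q π rfl
  have hφ : Function.Surjective φ :=
    (RingHom.surjectiveOnStalks_of_surjective hπ).localRingHom_surjective _ Q rfl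
  have hkφ : RingHom.ker φ = Ideal.span (Set.range f) := by
    rw [Groth.Agent.H05EGA4.ker_localRingHom_of_surjective π hπ (Q.comap π) Q rfl, Ideal.mk_ker, Ideal.map_span,
      Set.image_singleton, Set.range_const]
  exact IsRegularLocalRing.of_ringEquiv (R := _ ⧸ Ideal.span (Set.range f))
    ((Ideal.quotEquivOfEq hkφ.symm).trans (RingHom.quotientKerEquivOfSurjective hφ))

theorem prime_principal (hΔ : Δ ∈ maximalIdeal R) (hp : Prime Δ) [IsDomain (Comp Δ)] (P : Ideal (Comp Δ))
    [P.IsPrime] (hP : P.height ≤ 1) (hne : ∃ f ∈ P, redQ Δ hΔ f ≠ 0) :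
    ∃ π, Prime π ∧ P = Ideal.span {π} := by
  classical
  haveI := isRegularLocalRing_powerSeries (R := R)
  haveI := Groth.Agent.H4Depth.isDomain_of_isRegularLocalRing R
  haveI := Groth.Agent.H4Depth.isDomain_of_isRegularLocalRing (PowerSeries R)
  haveI := Groth.Agent.H28Alg.ufd_of_regular (PowerSeries R)
  haveI := isAdicComplete_powerSeries (R := R)
  have hx : Prime (X : PowerSeries R) := X_prime
  have hxΔ : ¬ (X : PowerSeries R) ∣ C Δ := by
    rw [X_dvd_iff, constantCoeff_C]; exact hp.ne_zero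
  have hxp : (Ideal.span {(X : PowerSeries R), C Δ}).IsPrime := by
    haveI : (Ideal.span {Δ}).IsPrime := (Ideal.span_singleton_prime hp.ne_zero).mpr hp
    have : Ideal.span {(X : PowerSeries R), C Δ} = (Ideal.span {Δ}).comap constantCoeff := by
      refine le_antisymm (Ideal.span_le.mpr ?_) fun c hc => ?_
      · rintro z (rfl | rfl)
        · simp
        · simp [Ideal.mem_span_singleton_self]
      · obtain ⟨d, hd⟩ := Ideal.mem_span_singleton'.mp (Ideal.mem_comap.mp hc)
        obtain ⟨e, he⟩ : (X : PowerSeries R) ∣ c - C d * C Δ := by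
          rw [X_dvd_iff, map_sub, map_mul, constantCoeff_C, constantCoeff_C, hd, sub_self]
        exact Ideal.mem_span_pair.mpr ⟨e, C d, by linear_combination -he⟩
    rw [this]; infer_instance
  haveI := isDomain_lin hx hxΔ
  haveI := ufd_lin hx hxΔ hxp
  obtain ⟨f, hfP, hf⟩ := hne
  obtain ⟨F, rfl⟩ := Ideal.Quotient.mk_surjective f
  obtain ⟨h, u, H⟩ := exists_isWeierstrassFactorization (A := PowerSeries R) ((red_coe_ne_zero_iff F).mp hf)
  have hhP : ι Δ (mkL _ _ h) ∈ P := by
    rw [H.eq_mul, map_mul] at hfP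
    rcases Ideal.IsPrime.mem_or_mem inferInstance hfP with h1 | h1
    · exact h1
    · exact absurd (Ideal.eq_top_of_isUnit_mem _ h1 (H.isUnit.map _)) (Ideal.IsPrime.ne_top inferInstance)
  have hhne : redQ Δ hΔ (ι Δ (mkL _ _ h)) ≠ 0 := fun h0 => hf (by
    rw [H.eq_mul, map_mul, map_mul, ← ι_mkL, h0, zero_mul])
  -- a prime factor in `P`
  obtain ⟨π, hπ, hπP, hπne⟩ : ∃ π, Prime π ∧ ι Δ π ∈ P ∧ redQ Δ hΔ (ι Δ π) ≠ 0 := by
    have h0 : mkL (X : PowerSeries R) (C Δ) h ≠ 0 := fun h0 => hhne (by rw [h0, map_zero, map_zero])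
    revert hhP hhne h0
    generalize mkL (X : PowerSeries R) (C Δ) h = b
    intro hbP hbne hb0
    induction b using UniqueFactorizationMonoid.induction_on_prime with
    | h₁ => exact absurd rfl hb0
    | h₂ v hv => exact absurd (Ideal.eq_top_of_isUnit_mem _ hbP (hv.map _)) (Ideal.IsPrime.ne_top inferInstance)
    | h₃ a p ha hp ih =>
      rw [map_mul] at hbP hbne
      rw [map_mul] at hbne
      rcases Ideal.IsPrime.mem_or_mem inferInstance hbP with h1 | h1
      · exact ⟨p, hp, h1, left_ne_zero_of_mul hbne⟩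
      · exact ih h1 (right_ne_zero_of_mul hbne) ha
  obtain ⟨p, rfl⟩ := Ideal.Quotient.mk_surjective π
  -- division
  have hdiv : ∀ a : Comp Δ, ∃ b c, a = ι Δ b + ι Δ (mkL _ _ p) * c := by
    intro a
    obtain ⟨G, rfl⟩ := Ideal.Quotient.mk_surjective a
    obtain ⟨q, r, hqr⟩ := exists_isWeierstrassDivision G ((red_coe_ne_zero_iff (p : PowerSeries (PowerSeries R))).mp hπne)
    exact ⟨mkL _ _ r, Ideal.Quotient.mk _ q, by rw [hqr.eq_mul_add, map_add, map_mul, add_comm]; rfl⟩
  have hnu : ¬ IsUnit (ι Δ (mkL _ _ p)) := fun hu =>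
    (Ideal.IsPrime.ne_top inferInstance) (Ideal.eq_top_of_isUnit_mem _ hπP hu)
  haveI : (Ideal.span {mkL (X : PowerSeries R) (C Δ) p}).IsPrime := (Ideal.span_singleton_prime hπ.ne_zero).mpr hπ
  let mkD := Ideal.Quotient.mk (Ideal.span {mkL (X : PowerSeries R) (C Δ) p})
  have hYu : ¬ IsUnit (mkD (mkL _ _ Polynomial.X)) := by
    intro hu
    obtain ⟨c, hc⟩ := hu.exists_right_inv
    obtain ⟨c, rfl⟩ := Ideal.Quotient.mk_surjective c
    rw [← map_mul, ← map_one mkD, Ideal.Quotient.eq] at hc
    obtain ⟨d, hd⟩ := Ideal.mem_span_singleton'.mp hc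
    have h1 := congrArg (fun z => constantCoeff (redQ Δ hΔ (ι Δ z))) hd
    have hX : constantCoeff (redQ Δ hΔ (ι Δ (mkL _ _ Polynomial.X))) = 0 := by
      rw [ι_mkL, Polynomial.coe_X, redQ, Ideal.Quotient.lift_mk, red, map_X, constantCoeff_X]
    have hπ0 : constantCoeff (redQ Δ hΔ (ι Δ (mkL _ _ p))) = 0 := by
      by_contra hcon; exact hnu (isUnit_of_constantCoeff_ne Δ hΔ _ hcon)
    simp only [map_mul, map_sub, map_one, hX, hπ0, mul_zero, zero_mul, zero_sub] at h1
    exact one_ne_zero (neg_eq_zero.mp h1.symm)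
  have hkey : ∀ b c, ι Δ b = ι Δ (mkL _ _ p) * c → mkL (X : PowerSeries R) (C Δ) p ∣ b := by
    intro b c hbc
    obtain ⟨q, rfl⟩ := Ideal.Quotient.mk_surjective b
    obtain ⟨G, rfl⟩ := Ideal.Quotient.mk_surjective c
    rw [ι_mkL, ι_mkL, ← map_mul, Ideal.Quotient.eq] at hbc
    obtain ⟨E, hE⟩ := Ideal.mem_span_singleton'.mp hbc
    have hmem : ∀ N : ℕ, mkD (mkL _ _ q) ∈ Ideal.span {mkD (mkL _ _ Polynomial.X)} ^ N := by
      intro N
      set r : Polynomial (PowerSeries R) := Polynomial.C (X : PowerSeries R) * Polynomial.X - Polynomial.C (C Δ) with hr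
      have hrc : (r : PowerSeries (PowerSeries R)) = rel Δ := by simp [hr, rel]
      obtain ⟨w, hw⟩ : Polynomial.X ^ N ∣ q - (p * trunc N G + r * trunc N E) := by
        rw [Polynomial.X_pow_dvd_iff]
        intro d hd
        have key : ∀ (a : Polynomial (PowerSeries R)) (B : PowerSeries (PowerSeries R)),
            coeff d ((a : PowerSeries (PowerSeries R)) * (trunc N B : PowerSeries (PowerSeries R))) =
              coeff d ((a : PowerSeries (PowerSeries R)) * B) := fun a B => by
          rw [coeff_mul, coeff_mul]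
          refine Finset.sum_congr rfl fun ij hij => ?_
          rw [Finset.HasAntidiagonal.mem_antidiagonal] at hij
          rw [Polynomial.coeff_coe (trunc N B), coeff_trunc, if_pos (by omega)]
        rw [← Polynomial.coeff_coe, Polynomial.coe_sub, Polynomial.coe_add, Polynomial.coe_mul, Polynomial.coe_mul,
          map_sub, map_add, key, key, ← map_add, ← map_sub]
        rw [hrc, show (q : PowerSeries (PowerSeries R)) - ((p : PowerSeries (PowerSeries R)) * G + rel Δ * E) = 0 by
          linear_combination -hE, map_zero]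
      have hr0 : mkL (X : PowerSeries R) (C Δ) r = 0 := Ideal.Quotient.eq_zero_iff_mem.mpr (Ideal.mem_span_singleton_self _)
      have hp0 : mkD (mkL _ _ p) = 0 := Ideal.Quotient.eq_zero_iff_mem.mpr (Ideal.mem_span_singleton_self _)
      have := congrArg (fun z => mkD (mkL _ _ z)) hw
      simp only [map_sub, map_add, map_mul, map_pow, hr0, map_zero, hp0, zero_mul, add_zero, sub_zero] at this
      rw [show mkD (mkL _ _ q) = mkD (mkL _ _ w) * mkD (mkL _ _ Polynomial.X) ^ N by linear_combination this]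
      exact Ideal.mul_mem_left _ _ (Ideal.pow_mem_pow (Ideal.mem_span_singleton_self _) N)
    have hbot := Ideal.iInf_pow_eq_bot_of_isDomain (Ideal.span {mkD (mkL _ _ Polynomial.X)})
      (by rwa [Ne, Ideal.span_singleton_eq_top])
    have h0 : mkD (mkL _ _ q) ∈ (⊥ : Ideal _) := hbot ▸ Ideal.mem_iInf.mpr hmem
    exact Ideal.mem_span_singleton.mp (Ideal.Quotient.eq_zero_iff_mem.mp h0)
  have hne0 : ι Δ (mkL _ _ p) ≠ 0 := fun h0 => hπne (by rw [h0, map_zero])
  have hprime : Prime (ι Δ (mkL _ _ p)) := by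
    refine ⟨hne0, hnu, fun a b hab => ?_⟩
    obtain ⟨a₀, a₁, rfl⟩ := hdiv a
    obtain ⟨b₀, b₁, rfl⟩ := hdiv b
    obtain ⟨c, hc⟩ := hab
    rcases hπ.dvd_or_dvd (hkey (a₀ * b₀) (c - a₁ * ι Δ b₀ - ι Δ a₀ * b₁ - ι Δ (mkL _ _ p) * a₁ * b₁)
      (by rw [map_mul]; linear_combination hc)) with ⟨d, hd⟩ | ⟨d, hd⟩
    · exact Or.inl ⟨ι Δ d + a₁, by rw [hd, map_mul]; ring⟩
    · exact Or.inr ⟨ι Δ d + b₁, by rw [hd, map_mul]; ring⟩
  refine ⟨_, hprime, ?_⟩
  haveI : (Ideal.span {ι Δ (mkL _ _ p)}).IsPrime := (Ideal.span_singleton_prime hne0).mpr hprime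
  by_contra hne'
  have hle : Ideal.span {ι Δ (mkL _ _ p)} ≤ P := (Ideal.span_singleton_le_iff_mem _).mpr hπP
  have hb := Groth.Agent.H28Alg.eq_bot_of_lt_of_height_le_one hP (lt_of_le_of_ne hle (Ne.symm hne'))
  rw [Ideal.span_singleton_eq_bot] at hb
  exact hne0 hb

theorem ufd_comp (hp : Prime Δ) [IsDomain (Comp Δ)] : UniqueFactorizationMonoid (Comp Δ) := by
  have hΔ : Δ ∈ maximalIdeal R := hp.not_unit
  haveI hk : (RingHom.ker (redQ Δ hΔ)).IsPrime := RingHom.ker_isPrime _
  haveI := ufd_atPrime Δ hΔ (RingHom.ker (redQ Δ hΔ)) rfl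
  haveI := Groth.Agent.H4Depth.isDomain_of_isRegularLocalRing (Localization.AtPrime (RingHom.ker (redQ Δ hΔ)))
  haveI : UniqueFactorizationMonoid (Localization (RingHom.ker (redQ Δ hΔ)).primeCompl) :=
    Groth.Agent.H28Alg.ufd_of_regular (Localization.AtPrime (RingHom.ker (redQ Δ hΔ)))
  refine ufd_of_localization (RingHom.ker (redQ Δ hΔ)).primeCompl (Ideal.primeCompl_le_nonZeroDivisors _)
    fun P hP h1 _ ⟨s, hs, hsP⟩ => ?_
  haveI := hP
  exact prime_principal Δ hΔ hp P h1 ⟨s, hsP, fun h => hs (RingHom.mem_ker.mpr h)⟩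

end Completion

section Converse

open PowerSeries IsLocalRing

variable {R : Type u} [CommRing R] [IsLocalRing R] {Δ : R}

theorem prime_of_ufd (hΔ : Δ ∈ maximalIdeal R) [IsDomain (Comp Δ)] [UniqueFactorizationMonoid (Comp Δ)] :
    Prime Δ := by
  let mk := Ideal.Quotient.mk (Ideal.span {rel Δ})
  have hlift : ∀ {T : Type u} [CommRing T] (φ : PowerSeries (PowerSeries R) →+* T), φ (rel Δ) = 0 →
      ∃ ψ : Comp Δ →+* T, ∀ F, ψ (mk F) = φ F := fun φ h =>
    ⟨Ideal.Quotient.lift _ φ (fun a ha => by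
      obtain ⟨b, rfl⟩ := Ideal.mem_span_singleton'.mp ha
      rw [map_mul, h, mul_zero]), fun F => Ideal.Quotient.lift_mk _ _ _⟩
  haveI : Nontrivial (R ⧸ Ideal.span {Δ}) := Ideal.Quotient.nontrivial_iff.mpr
    (by rw [Ne, Ideal.span_singleton_eq_top]; exact hΔ)
  obtain ⟨f, hf⟩ := hlift ((PowerSeries.map (residue R)).comp constantCoeff) (by
    simp [rel, residue_eq_zero_iff, hΔ])
  obtain ⟨g, hg⟩ := hlift (PowerSeries.map ((Ideal.Quotient.mk (Ideal.span {Δ})).comp constantCoeff)) (by
    simp [rel, Ideal.Quotient.eq_zero_iff_mem, Ideal.mem_span_singleton_self])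
  let x := mk (C (X : PowerSeries R))
  have hfx : f x = X := by rw [hf]; simp
  have hgx : g x = 0 := by rw [hg]; simp
  have hgC : ∀ c : R, g (mk (C (C c))) = C (Ideal.Quotient.mk (Ideal.span {Δ}) c) := fun c => by
    rw [hg]; simp
  have hx0 : x ≠ 0 := fun h => X_ne_zero (by rw [← hfx, h, map_zero])
  have hy0 : mk X ≠ 0 := fun h => X_ne_zero (R := R ⧸ Ideal.span {Δ}) (by
    rw [← map_X ((Ideal.Quotient.mk (Ideal.span {Δ})).comp (constantCoeff (R := R))), ← hg, h, map_zero])
  have hxy : x * mk X = mk (C (C Δ)) := by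
    rw [← map_mul, Ideal.Quotient.eq]; exact Ideal.mem_span_singleton_self _
  have hfu : ∀ a, ¬ IsUnit a → X ∣ f a := by
    intro a ha
    obtain ⟨F, rfl⟩ := Ideal.Quotient.mk_surjective a
    rw [hf, RingHom.comp_apply, X_dvd_iff, ← coeff_zero_eq_constantCoeff_apply, coeff_map,
      coeff_zero_eq_constantCoeff_apply, residue_eq_zero_iff]
    by_contra hu
    exact ha ((isUnit_iff_constantCoeff.mpr (isUnit_iff_constantCoeff.mpr
      (by rwa [mem_maximalIdeal, mem_nonunits_iff, not_not] at hu))).map mk)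
  have hirr : Irreducible x := by
    refine ⟨fun hu => ?_, fun a b hab => ?_⟩
    · have := hu.map f
      rw [hfx, isUnit_iff_constantCoeff, constantCoeff_X] at this
      exact not_isUnit_zero this
    · by_contra hcon
      push Not at hcon
      obtain ⟨a', ha'⟩ := hfu a hcon.1
      obtain ⟨b', hb'⟩ := hfu b hcon.2
      have h1 : (X : PowerSeries (ResidueField R)) = X * (a' * X * b') := by
        have h0 := congrArg f hab
        rw [hfx, map_mul, ha', hb'] at h0
        linear_combination h0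
      have h2 := congrArg (coeff 1) h1
      rw [coeff_one_X, show X * (a' * X * b') = (a' * b') * X ^ 2 by ring, coeff_mul_X_pow', if_neg (by omega)] at h2
      exact one_ne_zero h2
  have hx : Prime x := hirr.prime
  refine ⟨fun h => mul_ne_zero hx0 hy0 (hxy.trans ((congrArg (fun t => mk (C (C t))) h).trans (by simp))), hΔ, fun p q hpq => ?_⟩
  obtain ⟨c, hc⟩ := hpq
  have hd : x ∣ mk (C (C p)) * mk (C (C q)) :=
    ⟨mk X * mk (C (C c)), by rw [← map_mul, ← map_mul, ← map_mul, hc, map_mul, map_mul, map_mul, ← mul_assoc, hxy]⟩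
  have key : ∀ p, x ∣ mk (C (C p)) → Δ ∣ p := fun p ⟨d, hd⟩ => by
    have h1 := congrArg g hd
    rw [map_mul, hgx, zero_mul, hgC, map_eq_zero_iff _ PowerSeries.C_injective, Ideal.Quotient.eq_zero_iff_mem,
      Ideal.mem_span_singleton] at h1
    exact h1
  exact (hx.dvd_or_dvd hd).imp (key p) (key q)

end Converse

section Transfer

open Groth.Agent.H3CAlg.NodeLaurent

variable {R : Type u} [CommRing R]

/-- `R⟦x, y⟧ = R⟦x⟧⟦y⟧`. -/
noncomputable def iterEquiv : MvPowerSeries (Fin 2) R ≃+* PowerSeries (PowerSeries R) :=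
  ((MvPowerSeries.renameEquiv R (ε 0)).trans (MvPowerSeries.optionEquivLeft Unit R)).toRingEquiv

theorem iterEquiv_rel (r : R) :
    iterEquiv (MvPowerSeries.X 0 * MvPowerSeries.X 1 - MvPowerSeries.C r : MvPowerSeries (Fin 2) R) = rel r := by
  change MvPowerSeries.optionEquivLeft Unit R (MvPowerSeries.rename (ε 0) _) = _
  rw [map_sub, map_mul, MvPowerSeries.rename_X, MvPowerSeries.rename_X, MvPowerSeries.rename_C,
    map_sub, map_mul, show ε 0 0 = some () from rfl, show ε 0 1 = none from rfl,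
    MvPowerSeries.optionEquivLeft_X_some, MvPowerSeries.optionEquivLeft_X_none, MvPowerSeries.optionEquivLeft_C]
  rfl

/-- The node ring in iterated coordinates. -/
noncomputable def nodeEquiv (r : R) :
    (MvPowerSeries (Fin 2) R ⧸ Ideal.span {(MvPowerSeries.X 0 * MvPowerSeries.X 1 - MvPowerSeries.C r : MvPowerSeries (Fin 2) R)}) ≃+*
      Comp r :=
  Ideal.quotientEquiv _ _ iterEquiv (by rw [Ideal.map_span, Set.image_singleton]; exact congrArg _ (congrArg _ (iterEquiv_rel r).symm))

end Transfer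

end Groth.Agent.H3CAlg.NodeFactorial
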