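import Groth.Agent.H3CAlg.NodeUnits
import Groth.Agent.H02CA.PolyNode
import Mathlib.RingTheory.Localization.Ideal
import Mathlib.RingTheory.Localization.AtPrime.Basic
import Mathlib.RingTheory.Ideal.Height
import Mathlib.RingTheory.Ideal.KrullsHeightTheorem

/-!
Height-one primes with non-zero contraction in node rings and their polynomial models.
-/

universe u

open MvPowerSeries SpinCurv Groth.Agent.H02CA

namespace Groth.Agent.H3CAlg.NodeFibral

section Abstract

/-- Comparison of height-one primes described by a common family of shapes. -/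
theorem bijOn_comap {R B A L : Type u} [CommRing R] [IsDomain R] [CommRing B] [CommRing A] [CommRing L]
    [IsDomain A] [IsNoetherianRing A] [IsNoetherianRing L]
    [Algebra R B] [Algebra R A] [Algebra R L] [Algebra B L] [IsScalarTower R B L]
    (P : Ideal B) [P.IsPrime] [IsLocalization.AtPrime L P]
    (hRA : Function.Injective (algebraMap R A))
    (ι : B →+* A) (hι : ι.comp (algebraMap R B) = algebraMap R A)
    (φ : L →+* A) (hφ : φ.comp (algebraMap B L) = ι)
    (T : R → Set (Ideal B))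
    (hT : ∀ ℓ, Prime ℓ → ∀ I ∈ T ℓ, algebraMap R B ℓ ∈ I ∧ (I.map ι).IsPrime ∧ (I.map ι).comap ι = I ∧ I ≤ P ∧
      ∀ I' ∈ T ℓ, I' ≤ I → I' = I)
    (hcov : ∀ ℓ, Prime ℓ → ∀ J : Ideal B, J.IsPrime → algebraMap R B ℓ ∈ J → J ≤ P → ∃ I ∈ T ℓ, I ≤ J)
    (hfac : ∀ p : Ideal R, p.IsPrime → p ≠ ⊥ → ∃ ℓ ∈ p, Prime ℓ)
    (hPmax : ∀ J : Ideal A, J.IsPrime → J.comap ι ≤ P) :
    Set.BijOn (fun 𝔓 => Ideal.comap φ 𝔓)
      {𝔓 | 𝔓.IsPrime ∧ 𝔓.height = 1 ∧ Ideal.comap (algebraMap R _) 𝔓 ≠ ⊥}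
      {𝔮 : Ideal L | 𝔮.IsPrime ∧ 𝔮.height = 1 ∧ Ideal.comap (algebraMap R L) 𝔮 ≠ ⊥} := by
  have hloc : ∀ I : Ideal B, I.IsPrime → I ≤ P → (I.map (algebraMap B L)).IsPrime ∧
      (I.map (algebraMap B L)).comap (algebraMap B L) = I := fun I hI hle => by
    have hd : Disjoint (P.primeCompl : Set B) (I : Set B) :=
      Set.disjoint_left.mpr fun _ ha hb => ha (hle hb)
    exact ⟨IsLocalization.isPrime_of_isPrime_disjoint P.primeCompl L I hI hd,
      IsLocalization.comap_map_of_isPrime_disjoint P.primeCompl L hI hd⟩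
  have hle : ∀ J : Ideal L, J.IsPrime → J.comap (algebraMap B L) ≤ P := fun J hJ => by
    have := ((IsLocalization.isPrime_iff_isPrime_disjoint P.primeCompl L J).mp hJ).2
    intro b hb
    by_contra hc
    exact Set.disjoint_left.mp this hc hb
  have hιφ : ∀ J : Ideal A, (J.comap φ).comap (algebraMap B L) = J.comap ι := fun J => by
    rw [Ideal.comap_comap, hφ]
  have hRB : ∀ ℓ, φ (algebraMap R L ℓ) = algebraMap R A ℓ := fun ℓ => by
    rw [IsScalarTower.algebraMap_apply R B L, ← RingHom.comp_apply φ, hφ, ← hι, RingHom.comp_apply]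
  have hne : ∀ ℓ, Prime ℓ → algebraMap R A ℓ ≠ 0 := fun ℓ hℓ h =>
    hℓ.ne_zero (hRA (by rw [h, map_zero]))
  have hA : ∀ ℓ, Prime ℓ → ∀ I ∈ T ℓ, (I.map ι).height = 1 ∧ (I.map (algebraMap B L)).height = 1 := by
    intro ℓ hℓ I hI
    obtain ⟨hℓI, hp, hcm, hIP, hmin⟩ := hT ℓ hℓ I hI
    have hIp : I.IsPrime := by rw [← hcm]; exact Ideal.IsPrime.comap ι
    obtain ⟨hp', hcm'⟩ := hloc I hIp hIP
    have hℓA : algebraMap R A ℓ ∈ I.map ι := by rw [← hι]; exact Ideal.mem_map_of_mem ι hℓI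
    have hℓL : algebraMap R L ℓ ∈ I.map (algebraMap B L) := by
      rw [IsScalarTower.algebraMap_apply R B L]; exact Ideal.mem_map_of_mem _ hℓI
    have key : ∀ J : Ideal B, J.IsPrime → algebraMap R B ℓ ∈ J → J ≤ I → J = I := fun J hJ hℓJ hJI => by
      obtain ⟨I', hI', hI'J⟩ := hcov ℓ hℓ J hJ hℓJ (hJI.trans hIP)
      exact le_antisymm hJI (hmin I' hI' (hI'J.trans hJI) ▸ hI'J)
    refine ⟨le_antisymm ?_ ?_, le_antisymm ?_ ?_⟩
    · refine Ideal.height_le_one_of_isPrincipal_of_mem_minimalPrimes (Ideal.span {algebraMap R A ℓ}) _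
        ⟨⟨hp, (Ideal.span_singleton_le_iff_mem _).mpr hℓA⟩, fun J hJ hJI => ?_⟩
      haveI := hJ.1
      have := key (J.comap ι) inferInstance (by
          rw [Ideal.mem_comap, ← RingHom.comp_apply ι, hι]
          exact hJ.2 (Ideal.mem_span_singleton_self _))
        ((Ideal.comap_mono hJI).trans hcm.le)
      exact Ideal.map_le_iff_le_comap.mpr this.ge
    · haveI := hp
      refine Order.one_le_iff_pos.mpr (pos_iff_ne_zero.mpr fun h0 => hne ℓ hℓ ?_)
      rw [Ideal.height_eq_zero_iff, IsDomain.minimalPrimes_eq_singleton_bot] at h0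
      rwa [h0, Ideal.mem_bot] at hℓA
    · refine Ideal.height_le_one_of_isPrincipal_of_mem_minimalPrimes (Ideal.span {algebraMap R L ℓ}) _
        ⟨⟨hp', (Ideal.span_singleton_le_iff_mem _).mpr hℓL⟩, fun J hJ hJI => ?_⟩
      haveI := hJ.1
      have := key (J.comap (algebraMap B L)) inferInstance (by
          rw [Ideal.mem_comap, ← IsScalarTower.algebraMap_apply]
          exact hJ.2 (Ideal.mem_span_singleton_self _))
        ((Ideal.comap_mono hJI).trans hcm'.le)
      exact Ideal.map_le_iff_le_comap.mpr this.ge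
    · haveI := hp'
      refine Order.one_le_iff_pos.mpr (pos_iff_ne_zero.mpr fun h0 => ?_)
      haveI : (Ideal.comap φ (⊥ : Ideal A)).IsPrime := Ideal.IsPrime.comap φ
      rw [Ideal.height_eq_zero_iff] at h0
      have hbot : Ideal.comap φ (⊥ : Ideal A) ≤ I.map (algebraMap B L) := by
        refine (IsLocalization.map_comap P.primeCompl L _).ge.trans (Ideal.map_mono ?_)
        show (Ideal.comap φ (⊥ : Ideal A)).comap (algebraMap B L) ≤ I
        rw [hιφ, ← hcm]
        exact Ideal.comap_mono bot_le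
      have h2 := h0.2 ⟨inferInstance, bot_le⟩ hbot hℓL
      rw [Ideal.mem_comap, hRB, Ideal.mem_bot] at h2
      exact hne ℓ hℓ h2
  have hS1 : ∀ 𝔓 : Ideal A, 𝔓.IsPrime → 𝔓.height = 1 → Ideal.comap (algebraMap R A) 𝔓 ≠ ⊥ →
      ∃ ℓ, Prime ℓ ∧ ∃ I ∈ T ℓ, 𝔓 = I.map ι := by
    intro 𝔓 h𝔓 hh hne𝔓
    haveI := h𝔓
    obtain ⟨ℓ, hℓ𝔓, hℓ⟩ := hfac _ (Ideal.IsPrime.comap _) hne𝔓
    obtain ⟨I, hI, hle'⟩ := hcov ℓ hℓ (𝔓.comap ι) inferInstance
      (by rw [Ideal.mem_comap, ← RingHom.comp_apply ι, hι]; exact hℓ𝔓) (hPmax 𝔓 h𝔓)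
    haveI := (hT ℓ hℓ I hI).2.1
    refine ⟨ℓ, hℓ, I, hI, (Ideal.eq_of_le_of_height_le (I := I.map ι) (Ideal.map_le_iff_le_comap.mpr hle') ?_).symm⟩
    rw [(hA ℓ hℓ I hI).1, hh]
  have himg : ∀ ℓ, Prime ℓ → ∀ I ∈ T ℓ, (I.map ι).comap φ = I.map (algebraMap B L) := by
    intro ℓ hℓ I hI
    obtain ⟨-, hp, hcm, -, -⟩ := hT ℓ hℓ I hI
    refine (IsLocalization.map_comap P.primeCompl L ((I.map ι).comap φ)).symm.trans ?_
    show (((I.map ι).comap φ).comap (algebraMap B L)).map (algebraMap B L) = _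
    rw [hιφ, hcm]
  refine ⟨?_, ?_, ?_⟩
  · rintro 𝔓 ⟨h𝔓, hh, hne𝔓⟩
    obtain ⟨ℓ, hℓ, I, hI, rfl⟩ := hS1 𝔓 h𝔓 hh hne𝔓
    refine ⟨Ideal.IsPrime.comap φ (hK := h𝔓), ?_, ?_⟩
    · show (Ideal.comap φ (I.map ι)).height = 1
      rw [himg ℓ hℓ I hI]; exact (hA ℓ hℓ I hI).2
    · refine Submodule.ne_bot_iff _ |>.mpr ⟨ℓ, ?_, hℓ.ne_zero⟩
      show φ (algebraMap R L ℓ) ∈ I.map ι
      rw [hRB, ← hι]; exact Ideal.mem_map_of_mem ι (hT ℓ hℓ I hI).1
  · rintro 𝔓 ⟨h𝔓, hh, hne𝔓⟩ 𝔓' ⟨h𝔓', hh', hne𝔓'⟩ heq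
    obtain ⟨ℓ, hℓ, I, hI, rfl⟩ := hS1 𝔓 h𝔓 hh hne𝔓
    obtain ⟨ℓ', hℓ', I', hI', rfl⟩ := hS1 𝔓' h𝔓' hh' hne𝔓'
    have := congrArg (Ideal.comap (algebraMap B L)) heq
    simp only [hιφ, (hT ℓ hℓ I hI).2.2.1, (hT ℓ' hℓ' I' hI').2.2.1] at this
    rw [this]
  · rintro 𝔮 ⟨h𝔮, hh, hne𝔮⟩
    haveI := h𝔮
    obtain ⟨ℓ, hℓ𝔮, hℓ⟩ := hfac _ (Ideal.IsPrime.comap _) hne𝔮
    obtain ⟨I, hI, hle'⟩ := hcov ℓ hℓ (𝔮.comap (algebraMap B L)) inferInstance
      (by rw [Ideal.mem_comap, ← IsScalarTower.algebraMap_apply]; exact hℓ𝔮) (hle 𝔮 h𝔮)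
    obtain ⟨hℓI, hp, hcm, hIP, -⟩ := hT ℓ hℓ I hI
    refine ⟨I.map ι, ⟨hp, (hA ℓ hℓ I hI).1, Submodule.ne_bot_iff _ |>.mpr ⟨ℓ, ?_, hℓ.ne_zero⟩⟩, ?_⟩
    · show algebraMap R A ℓ ∈ I.map ι
      rw [← hι]; exact Ideal.mem_map_of_mem ι hℓI
    · show (I.map ι).comap φ = 𝔮
      haveI := (hloc I (hcm ▸ Ideal.IsPrime.comap ι (hK := hp)) hIP).1
      rw [himg ℓ hℓ I hI]
      refine Ideal.eq_of_le_of_height_le (I := I.map (algebraMap B L)) (Ideal.map_le_iff_le_comap.mpr hle') ?_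
      rw [(hA ℓ hℓ I hI).2, hh]

end Abstract

section Node

variable {R : Type u} [CommRing R] [IsLocalRing R] [IsAdicComplete (IsLocalRing.maximalIdeal R) R] {r : R}
  (hr : r ∈ IsLocalRing.maximalIdeal R)

/-- Coordinate criterion. -/
theorem κ_ι_eq_coord (ι : PolyNodeRing R r →ₐ[R] NodeRing R r) (hx : ι (PolyNodeRing.x R r) = NodeRing.x R r)
    (hy : ι (PolyNodeRing.y R r) = NodeRing.y R r) (z : PolyNodeRing R r) (j : ℤ) :
    NodeCoord.κ hr j (ι z) = PolyNode.coord r z j := by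
  classical
  have key : (NodeCoord.κ hr j).comp ι.toLinearMap = (Finsupp.lapply j).comp (PolyNode.coord r) := by
    refine (PolyNode.bas r).symm.injective |> fun _ => ?_
    apply LinearMap.ext fun z => ?_
    obtain ⟨c, rfl⟩ := (PolyNode.bas r).surjective z
    induction c using Finsupp.induction_linear with
    | zero => simp only [map_zero]
    | add a b ha hb => rw [map_add, map_add, map_add, ha, hb]
    | single i a =>
      rw [PolyNode.bas_single, map_smul, map_smul]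
      congr 1
      simp only [LinearMap.comp_apply, AlgHom.toLinearMap_apply, Finsupp.lapply_apply, PolyNode.coord_e]
      rcases le_total 0 i with hi | hi
      · obtain ⟨a, rfl⟩ := Int.eq_ofNat_of_zero_le hi
        rw [PolyNode.e_natCast, map_pow, hx,
          show NodeRing.x R r ^ a = NodeRing.ofX R r (PowerSeries.X ^ a) by
            rw [NodeRing.ofX, map_pow, map_pow, PowerSeries.toMvPowerSeries_X],
          NodeCoord.κ_ofX, PowerSeries.coeff_X_pow, Finsupp.single_apply]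
        split_ifs <;> first | rfl | omega
      · obtain ⟨a, rfl⟩ : ∃ a : ℕ, i = -(a : ℤ) := ⟨(-i).toNat, by omega⟩
        rw [PolyNode.e_neg_natCast, map_pow, hy,
          show NodeRing.y R r ^ a = NodeRing.ofY R r (PowerSeries.X ^ a) by
            rw [NodeRing.ofY, map_pow, map_pow, PowerSeries.toMvPowerSeries_X],
          NodeCoord.κ_ofY, PowerSeries.coeff_X_pow, Finsupp.single_apply]
        split_ifs <;> first | rfl | omega
  exact LinearMap.congr_fun key z

theorem mem_of_coord_mem (I : Ideal (PolyNodeRing R r)) (z : PolyNodeRing R r)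
    (h : ∀ j, algebraMap R _ (PolyNode.coord r z j) ∈ I ∨ PolyNode.e r j ∈ I) : z ∈ I := by
  obtain ⟨c, rfl⟩ := (PolyNode.bas r).surjective z
  have hc : ∀ j, PolyNode.coord r (PolyNode.bas r c) j = c j := fun j => by
    rw [← PolyNode.bas_symm, LinearEquiv.symm_apply_apply]
  rw [← Finsupp.sum_single c, map_finsuppSum]
  refine Submodule.sum_mem _ fun j _ => ?_
  show PolyNode.bas r (Finsupp.single j (c j)) ∈ I
  rw [PolyNode.bas_single, show ∀ (a : R) (z : PolyNodeRing R r), a • z = algebraMap R _ a * z from fun a z => Algebra.smul_def a z]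
  exact (h j).elim (fun h' => Ideal.mul_mem_right _ _ (hc j ▸ h')) (Ideal.mul_mem_left _ _)

omit [IsLocalRing R] [IsAdicComplete (IsLocalRing.maximalIdeal R) R] in
theorem span_C_X_isPrime {ℓ : R} (hℓ : Prime ℓ) (i : Fin 2) :
    (Ideal.span {(C ℓ : MvPowerSeries (Fin 2) R), X i}).IsPrime := by
  classical
  haveI : (Ideal.span {ℓ}).IsPrime := (Ideal.span_singleton_prime hℓ.ne_zero).mpr hℓ
  let ψ : MvPowerSeries (Fin 2) R →+* PowerSeries (R ⧸ Ideal.span {ℓ}) :=
    (PowerSeries.map ((Ideal.Quotient.mk (Ideal.span {ℓ})).comp PowerSeries.constantCoeff)).comp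
      (NodeLaurent.toPP i)
  have hψ : ∀ F n, PowerSeries.coeff n (ψ F) =
      Ideal.Quotient.mk _ (coeff (Finsupp.single (Fin.rev i) n) F) := fun F n => by
    simp only [ψ, RingHom.comp_apply, PowerSeries.coeff_map]
    rw [← PowerSeries.coeff_zero_eq_constantCoeff_apply, NodeLaurent.coeff_toPP, Finsupp.single_zero, zero_add]
  suffices h : Ideal.span {(C ℓ : MvPowerSeries (Fin 2) R), X i} = RingHom.ker ψ by
    rw [h]; exact RingHom.ker_isPrime ψ
  refine le_antisymm (Ideal.span_le.mpr ?_) fun F hF => ?_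
  · rintro F (rfl | rfl) <;> refine RingHom.mem_ker.mpr (PowerSeries.ext fun n => ?_) <;> rw [hψ, map_zero]
    · rw [coeff_C]; split_ifs <;> simp [Ideal.Quotient.eq_zero_iff_mem, Ideal.mem_span_singleton_self]
    · rw [coeff_X, if_neg, map_zero]
      intro h
      have := DFunLike.congr_fun h i
      fin_cases i <;> simp at this
  · have hdiv : ∀ n, ℓ ∣ coeff (Finsupp.single (Fin.rev i) n) F := fun n => by
      rw [← Ideal.mem_span_singleton, ← Ideal.Quotient.eq_zero_iff_mem, ← hψ, RingHom.mem_ker.mp hF, map_zero]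
    choose c hc using hdiv
    let G : MvPowerSeries (Fin 2) R := fun d => c (d (Fin.rev i))
    obtain ⟨H, hH⟩ : (X i : MvPowerSeries (Fin 2) R) ∣ F - C ℓ * G := by
      rw [X_dvd_iff]
      intro d hd
      have hds : d = Finsupp.single (Fin.rev i) (d (Fin.rev i)) := by
        ext k; fin_cases i <;> fin_cases k <;> simp_all
      rw [map_sub, coeff_C_mul, show coeff d G = c (d (Fin.rev i)) from rfl, ← hc, ← hds, sub_self]
    exact Ideal.mem_span_pair.mpr ⟨G, H, by linear_combination -hH⟩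

include hr in
theorem isPrime_map_span_algebraMap [IsNoetherianRing R] [IsDomain R] {ℓ : R} (hℓ : Prime ℓ) (hℓr : ¬ ℓ ∣ r) :
    (Ideal.span {algebraMap R (NodeRing R r) ℓ}).IsPrime := by
  haveI : (Ideal.span {ℓ}).IsPrime := (Ideal.span_singleton_prime hℓ.ne_zero).mpr hℓ
  refine ⟨fun h => ?_, fun {z w} h => ?_⟩
  · obtain ⟨t, ht⟩ := Ideal.mem_span_singleton.mp ((Ideal.eq_top_iff_one _).mp h)
    have := congrArg (NodeCoord.κ hr 0) ht
    rw [NodeCoord.κ_algebraMap_mul, show (1 : NodeRing R r) = NodeRing.ofX R r 1 by rw [NodeRing.ofX, map_one, map_one],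
      NodeCoord.κ_ofX] at this
    simp at this
    exact hℓ.not_unit (IsUnit.of_mul_eq_one _ this.symm)
  · obtain ⟨B, _, _, _, ι, p, hp, hpr, hιr, hι⟩ :=
      NodeUnits.exists_dvr (Ideal.span {ℓ}) (fun h => hℓr (Ideal.mem_span_singleton.mp h)) hr
    obtain ⟨t, ht⟩ := Ideal.mem_span_singleton.mp h
    simp only [Ideal.mem_span_singleton]
    exact (NodeUnits.coords_eq_zero_or hr ι hp hpr hιr ((hι ℓ).mpr (Ideal.mem_span_singleton_self ℓ)) ht).imp
      (fun h => NodeUnits.dvd_of_forall_dvd hr z fun e => Ideal.mem_span_singleton.mp ((hι _).mp (h e)))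
      (fun h => NodeUnits.dvd_of_forall_dvd hr w fun e => Ideal.mem_span_singleton.mp ((hι _).mp (h e)))

/-- The shapes of height-one primes over a prime element. -/
def shapes (r ℓ : R) : Set (Ideal (PolyNodeRing R r)) :=
  {I | (¬ ℓ ∣ r ∧ I = Ideal.span {algebraMap R _ ℓ}) ∨
    (ℓ ∣ r ∧ ∃ i : Fin 2, I = Ideal.span {algebraMap R _ ℓ, Ideal.Quotient.mk _ (MvPolynomial.X i)})}

/-- The side of the coordinates not divisible by the variable `i`. -/
def side (i : Fin 2) (j : ℤ) : Prop := if i = 0 then j ≤ 0 else 0 ≤ j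

theorem κ_mem_of_mem {ℓ : R} (hℓr : ℓ ∣ r) (i : Fin 2) {w : NodeRing R r}
    (hw : w ∈ Ideal.span {algebraMap R (NodeRing R r) ℓ, Ideal.Quotient.mk _ (X i)}) (j : ℤ) (hj : side i j) :
    ℓ ∣ NodeCoord.κ hr j w := by
  obtain ⟨a, b, rfl⟩ := Ideal.mem_span_pair.mp hw
  rw [map_add, mul_comm a, mul_comm b, NodeCoord.κ_algebraMap_mul]
  refine dvd_add (dvd_mul_right _ _) ?_
  fin_cases i
  · simp only [side, Fin.zero_eta, if_true] at hj
    exact (show NodeCoord.κ hr j (NodeRing.x R r * b) = _ from NodeCoord.κ_x_mul_nonpos hr j hj b) ▸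
      hℓr.mul_right _
  · simp only [side, Fin.mk_one, one_ne_zero, if_false] at hj
    exact (show NodeCoord.κ hr j (NodeRing.y R r * b) = _ from NodeCoord.κ_y_mul_nonneg hr j hj b) ▸
      hℓr.mul_right _

include hr in
theorem shapes_spec [IsNoetherianRing R] [IsDomain R]
    (ι : PolyNodeRing R r →ₐ[R] NodeRing R r) (hx : ι (PolyNodeRing.x R r) = NodeRing.x R r)
    (hy : ι (PolyNodeRing.y R r) = NodeRing.y R r) (P : Ideal (PolyNodeRing R r))
    (hPm : ∀ ℓ ∈ IsLocalRing.maximalIdeal R, algebraMap R _ ℓ ∈ P)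
    (hPX : ∀ i : Fin 2, Ideal.Quotient.mk _ (MvPolynomial.X i) ∈ P) {ℓ : R} (hℓ : Prime ℓ)
    (I : Ideal (PolyNodeRing R r)) (hI : I ∈ shapes r ℓ) :
    algebraMap R _ ℓ ∈ I ∧ (I.map (ι : PolyNodeRing R r →+* NodeRing R r)).IsPrime ∧
      (I.map (ι : PolyNodeRing R r →+* NodeRing R r)).comap (ι : PolyNodeRing R r →+* NodeRing R r) = I ∧ I ≤ P ∧
      ∀ I' ∈ shapes r ℓ, I' ≤ I → I' = I := by
  classical
  have hℓP : algebraMap R (PolyNodeRing R r) ℓ ∈ P := hPm ℓ hℓ.not_unit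
  have hιC : (ι : PolyNodeRing R r →+* NodeRing R r) (algebraMap R _ ℓ) = algebraMap R _ ℓ := ι.commutes ℓ
  rcases hI with ⟨hℓr, rfl⟩ | ⟨hℓr, i, rfl⟩
  · refine ⟨Ideal.mem_span_singleton_self _, ?_, ?_, (Ideal.span_singleton_le_iff_mem _).mpr hℓP, ?_⟩
    · rw [Ideal.map_span, Set.image_singleton, hιC]
      exact isPrime_map_span_algebraMap hr hℓ hℓr
    · refine le_antisymm (fun z hz => ?_) Ideal.le_comap_map
      rw [Ideal.mem_comap, Ideal.map_span, Set.image_singleton, hιC, Ideal.mem_span_singleton] at hz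
      refine mem_of_coord_mem _ z fun j => Or.inl ?_
      obtain ⟨t, ht⟩ := hz
      rw [← κ_ι_eq_coord hr ι hx hy z j, show ι z = algebraMap R _ ℓ * t from ht, NodeCoord.κ_algebraMap_mul, map_mul]
      exact Ideal.mul_mem_right _ _ (Ideal.mem_span_singleton_self _)
    · rintro I' (⟨-, rfl⟩ | ⟨h, -⟩) _
      · rfl
      · exact absurd h hℓr
  · have hιX : (ι : PolyNodeRing R r →+* NodeRing R r) (Ideal.Quotient.mk _ (MvPolynomial.X i)) = Ideal.Quotient.mk _ (X i) := by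
      fin_cases i
      · exact hx
      · exact hy
    have hmap : (Ideal.span {algebraMap R (PolyNodeRing R r) ℓ, Ideal.Quotient.mk _ (MvPolynomial.X i)}).map
        (ι : PolyNodeRing R r →+* NodeRing R r) =
        Ideal.span {algebraMap R (NodeRing R r) ℓ, Ideal.Quotient.mk _ (X i)} := by
      rw [Ideal.map_span, Set.image_pair, hιC, hιX]
    refine ⟨Ideal.subset_span (by simp), ?_, ?_, Ideal.span_le.mpr ?_, ?_⟩
    · rw [hmap]
      haveI := span_C_X_isPrime hℓ i
      have hrel : RingHom.ker (Ideal.Quotient.mk (Ideal.span {(X 0 * X 1 - C r : MvPowerSeries (Fin 2) R)})) ≤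
          Ideal.span {(C ℓ : MvPowerSeries (Fin 2) R), X i} := by
        rw [Ideal.mk_ker, Ideal.span_singleton_le_iff_mem]
        obtain ⟨s, rfl⟩ := hℓr
        fin_cases i
        · exact Ideal.mem_span_pair.mpr ⟨-C s, X 1, by simp [map_mul]; ring⟩
        · exact Ideal.mem_span_pair.mpr ⟨-C s, X 0, by simp [map_mul]; ring⟩
      have := Ideal.map_isPrime_of_surjective Ideal.Quotient.mk_surjective hrel
      rw [Ideal.map_span, Set.image_pair] at this
      exact this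
    · refine le_antisymm (fun z hz => ?_) Ideal.le_comap_map
      rw [Ideal.mem_comap, hmap] at hz
      refine mem_of_coord_mem _ z fun j => ?_
      by_cases hj : side i j
      · obtain ⟨t, ht⟩ := κ_mem_of_mem hr hℓr i hz j hj
        left
        rw [← κ_ι_eq_coord hr ι hx hy z j, show NodeCoord.κ hr j (ι z) = ℓ * t from ht, map_mul]
        exact Ideal.mul_mem_right _ _ (Ideal.subset_span (by simp))
      · right
        fin_cases i
        · simp only [side, Fin.zero_eta, if_true, not_le] at hj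
          rw [PolyNode.e, show j.toNat = (j.toNat - 1) + 1 by omega, pow_succ, mul_right_comm]
          exact Ideal.mul_mem_left _ _ (Ideal.subset_span (by simp))
        · simp only [side, Fin.mk_one, one_ne_zero, if_false, not_le] at hj
          rw [PolyNode.e, show (-j).toNat = ((-j).toNat - 1) + 1 by omega, pow_succ, ← mul_assoc]
          exact Ideal.mul_mem_left _ _ (Ideal.subset_span (by simp))
    · rintro z (rfl | rfl)
      · exact hℓP
      · exact hPX i
    · rintro I' (⟨h, -⟩ | ⟨-, i', rfl⟩) hle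
      · exact absurd hℓr h
      have hmem := Ideal.mem_map_of_mem (ι : PolyNodeRing R r →+* NodeRing R r)
        (hle (Ideal.subset_span (s := {algebraMap R _ ℓ, Ideal.Quotient.mk _ (MvPolynomial.X i')}) (by simp :
          Ideal.Quotient.mk _ (MvPolynomial.X i') ∈ _)))
      rw [hmap] at hmem
      by_cases h : i' = i
      · rw [h]
      exfalso
      have key := κ_mem_of_mem hr hℓr i hmem (if i = 0 then -1 else 1) (by fin_cases i <;> simp [side])
      fin_cases i <;> fin_cases i' <;> try exact h rfl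
      · have h1 : (ι : PolyNodeRing R r →+* NodeRing R r) (Ideal.Quotient.mk _ (MvPolynomial.X 1)) = NodeRing.y R r * 1 := by
          rw [mul_one]; exact hy
        simp only [Fin.zero_eta, Fin.mk_one, if_true] at key
        rw [h1, NodeCoord.κ_y_mul_neg hr _ (by omega),
          show (1 : NodeRing R r) = NodeRing.ofX R r 1 by rw [NodeRing.ofX, map_one, map_one], NodeCoord.κ_ofX] at key
        simp at key
        exact hℓ.not_unit (isUnit_of_dvd_one key)
      · have h1 : (ι : PolyNodeRing R r →+* NodeRing R r) (Ideal.Quotient.mk _ (MvPolynomial.X 0)) = NodeRing.x R r * 1 := by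
          rw [mul_one]; exact hx
        simp only [Fin.zero_eta, Fin.mk_one, one_ne_zero, if_false] at key
        rw [h1, NodeCoord.κ_x_mul_pos hr _ (by omega),
          show (1 : NodeRing R r) = NodeRing.ofX R r 1 by rw [NodeRing.ofX, map_one, map_one], NodeCoord.κ_ofX] at key
        simp at key
        exact hℓ.not_unit (isUnit_of_dvd_one key)

omit [IsLocalRing R] [IsAdicComplete (IsLocalRing.maximalIdeal R) R] in
theorem shapes_cover {ℓ : R} (J : Ideal (PolyNodeRing R r)) [J.IsPrime] (hJ : algebraMap R _ ℓ ∈ J) :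
    ∃ I ∈ shapes r ℓ, I ≤ J := by
  by_cases hℓr : ℓ ∣ r
  · obtain ⟨s, hs⟩ := hℓr
    have h : PolyNodeRing.x R r * PolyNodeRing.y R r ∈ J := by
      rw [PolyNode.xy, congrArg (algebraMap R (PolyNodeRing R r)) hs, map_mul]
      exact Ideal.mul_mem_right _ _ hJ
    rcases Ideal.IsPrime.mem_or_mem inferInstance h with h | h
    · exact ⟨_, Or.inr ⟨⟨s, hs⟩, 0, rfl⟩, Ideal.span_le.mpr (by rintro z (rfl | rfl) <;> assumption)⟩
    · exact ⟨_, Or.inr ⟨⟨s, hs⟩, 1, rfl⟩, Ideal.span_le.mpr (by rintro z (rfl | rfl) <;> assumption)⟩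
  · exact ⟨_, Or.inl ⟨hℓr, rfl⟩, (Ideal.span_singleton_le_iff_mem _).mpr hJ⟩

end Node

end Groth.Agent.H3CAlg.NodeFibral
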