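import Mathlib.RingTheory.MvPowerSeries.Inverse
import Mathlib.RingTheory.MvPowerSeries.Basic
import Mathlib.LinearAlgebra.Dimension.RankNullity
import Mathlib.LinearAlgebra.Dimension.DivisionRing
import Mathlib.LinearAlgebra.FiniteDimensional.Basic
import Mathlib.LinearAlgebra.Quotient.Basic
import Mathlib.RingTheory.Ideal.Quotient.Operations
import Mathlib.RingTheory.Artinian.Module
import Mathlib.Tactic.LinearCombination

/-!
Finite-colength ideals of `k⟦x,y⟧` containing `xy`.
-/

universe u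

open MvPowerSeries

namespace Groth.Agent.H3CAlg.NodeIdeals

variable {k : Type u} [Field k]

local notation "P" => MvPowerSeries (Fin 2) k

/-- `(xy, x^a, y^b)` -/
noncomputable def J₀ (k : Type u) [Field k] (a b : ℕ) : Ideal (MvPowerSeries (Fin 2) k) :=
  Ideal.span {X 0 * X 1, X 0 ^ a, X 1 ^ b}

/-- A series given by its coefficients. -/
def mkS (g : (Fin 2 →₀ ℕ) → k) : P := g

theorem coeff_mkS (g : (Fin 2 →₀ ℕ) → k) (m : Fin 2 →₀ ℕ) : coeff m (mkS g) = g m := rfl

/-- Division by monomials. -/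
theorem exists_eq_add (a b : ℕ) (f : P) (h0 : ∀ i < a, coeff (Finsupp.single 0 i) f = 0)
    (h1 : ∀ j, 1 ≤ j → j < b → coeff (Finsupp.single 1 j) f = 0) (hb : 1 ≤ b) :
    ∃ h u v : P, f = X 0 * X 1 * h + X 0 ^ a * u + X 1 ^ b * v ∧
      constantCoeff u = coeff (Finsupp.single 0 a) f ∧ constantCoeff v = coeff (Finsupp.single 1 b) f := by
  classical
  let h : P := mkS fun m => coeff (m + (Finsupp.single 0 1 + Finsupp.single 1 1)) f
  let u : P := mkS fun m => if m 1 = 0 then coeff (m + Finsupp.single 0 a) f else 0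
  let v : P := mkS fun m => if m 0 = 0 then coeff (m + Finsupp.single 1 b) f else 0
  refine ⟨h, u, v, ?_, ?_, ?_⟩
  · ext m
    have e : (X 0 * X 1 : P) = monomial (Finsupp.single 0 1 + Finsupp.single 1 1) 1 := by
      rw [X_def, X_def, monomial_mul_monomial, one_mul]
    rw [map_add, map_add, e, X_pow_eq, X_pow_eq, coeff_monomial_mul, coeff_monomial_mul, coeff_monomial_mul]
    simp only [one_mul, h, u, v, coeff_mkS, Finsupp.le_def, Fin.forall_fin_two]
    have hm : m = Finsupp.single 0 (m 0) + Finsupp.single 1 (m 1) := by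
      ext i; fin_cases i <;> simp
    rcases Nat.eq_zero_or_pos (m 1) with hm1 | hm1
    · have hm' : m = Finsupp.single 0 (m 0) := by rw [hm, hm1]; simp
      by_cases hma : a ≤ m 0
      · have hsub : m - Finsupp.single 0 a + Finsupp.single 0 a = m := by
          ext i; fin_cases i <;> simp; omega
        simp [hm1, hma, hsub, show ¬ b ≤ 0 by omega]
      · have := h0 (m 0) (by omega)
        rw [← hm'] at this
        simp [hm1, this, hma, show ¬ b ≤ 0 by omega]
    · rcases Nat.eq_zero_or_pos (m 0) with hm0 | hm0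
      · have hm' : m = Finsupp.single 1 (m 1) := by rw [hm, hm0]; simp
        by_cases hmb : b ≤ m 1
        · have hsub : m - Finsupp.single 1 b + Finsupp.single 1 b = m := by
            ext i; fin_cases i <;> simp; omega
          simp [hm0, hmb, hsub, hm1.ne']
        · have := h1 (m 1) (by omega) (by omega)
          rw [← hm'] at this
          simp [hm0, this, hmb, hm1.ne']
      · have hsub : m - (Finsupp.single 0 1 + Finsupp.single 1 1) + (Finsupp.single 0 1 + Finsupp.single 1 1) = m := by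
          ext i; fin_cases i <;> simp <;> omega
        simp [hm0.ne', hm1.ne', hsub, Nat.one_le_iff_ne_zero]
  · simp only [u, ← coeff_zero_eq_constantCoeff_apply, coeff_mkS]
    simp
  · simp only [v, ← coeff_zero_eq_constantCoeff_apply, coeff_mkS]
    simp

variable (a b : ℕ)

/-- The coefficients below `x^a` and `y^b`. -/
noncomputable def Ψ : P →ₗ[k] (Fin a → k) × (Fin (b - 1) → k) :=
  (LinearMap.pi fun i : Fin a => coeff (Finsupp.single 0 (i : ℕ))).prod
    (LinearMap.pi fun j : Fin (b - 1) => coeff (Finsupp.single 1 ((j : ℕ) + 1)))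

theorem Ψ_surjective : Function.Surjective (Ψ (k := k) a b) := by
  classical
  intro w
  let f : P := mkS fun m =>
    if h : m 1 = 0 ∧ m 0 < a then w.1 ⟨m 0, h.2⟩
    else if h' : m 0 = 0 ∧ 1 ≤ m 1 ∧ m 1 - 1 < b - 1 then w.2 ⟨m 1 - 1, h'.2.2⟩ else 0
  refine ⟨f, Prod.ext (funext fun i => ?_) (funext fun j => ?_)⟩
  · change coeff (Finsupp.single 0 (i : ℕ)) f = w.1 i
    simp [f, coeff_mkS]
  · change coeff (Finsupp.single 1 ((j : ℕ) + 1)) f = w.2 j
    simp [f, coeff_mkS]

theorem ker_Ψ (ha : 1 ≤ a) (hb : 1 ≤ b) (f : P) : Ψ a b f = 0 ↔ f ∈ J₀ k a b := by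
  classical
  constructor
  · intro h
    obtain ⟨h', u, v, rfl, -, -⟩ := exists_eq_add a b f
      (fun i hi => congrFun (congrArg Prod.fst h) ⟨i, hi⟩)
      (fun j h1 hj => by
        have := congrFun (congrArg Prod.snd h) ⟨j - 1, by omega⟩
        change coeff (Finsupp.single 1 (j - 1 + 1)) f = 0 at this
        rwa [Nat.sub_add_cancel h1] at this) hb
    refine add_mem (add_mem ?_ ?_) ?_ <;> exact Ideal.mul_mem_right _ _ (Ideal.subset_span (by simp))
  · intro h
    rw [J₀, Ideal.mem_span_insert] at h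
    obtain ⟨p, z, hz, rfl⟩ := h
    obtain ⟨q, r, rfl⟩ := Ideal.mem_span_pair.mp hz
    have e : (X 0 * X 1 : P) = monomial (Finsupp.single 0 1 + Finsupp.single 1 1) 1 := by
      rw [X_def, X_def, monomial_mul_monomial, one_mul]
    refine Prod.ext (funext fun i => ?_) (funext fun j => ?_)
    · change coeff (Finsupp.single 0 (i : ℕ)) (p * (X 0 * X 1) + (q * X 0 ^ a + r * X 1 ^ b) : P) = 0
      rw [map_add, map_add, e, X_pow_eq, X_pow_eq, coeff_mul_monomial, coeff_mul_monomial, coeff_mul_monomial]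
      have := i.isLt
      simp [Finsupp.le_def, Fin.forall_fin_two, show ¬ a ≤ (i : ℕ) by omega, show b ≠ 0 by omega]
    · change coeff (Finsupp.single 1 ((j : ℕ) + 1)) (p * (X 0 * X 1) + (q * X 0 ^ a + r * X 1 ^ b) : P) = 0
      rw [map_add, map_add, e, X_pow_eq, X_pow_eq, coeff_mul_monomial, coeff_mul_monomial, coeff_mul_monomial]
      have := j.isLt
      simp [Finsupp.le_def, Fin.forall_fin_two, show ¬ b ≤ (j : ℕ) + 1 by omega, show a ≠ 0 by omega]

theorem finrank_quot_eq {R : Type*} [Field R] {M N : Type*} [AddCommGroup M] [Module R M]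
    [AddCommGroup N] [Module R N] (f : M →ₗ[R] N) (hf : Function.Surjective f) (I : Submodule R M)
    (hker : LinearMap.ker f = I) : Module.finrank R (M ⧸ I) = Module.finrank R N :=
  ((Submodule.quotEquivOfEq _ _ hker.symm).trans (f.quotKerEquivOfSurjective hf)).finrank_eq

theorem finrank_quot_ideal_eq {R : Type*} [Field R] {A : Type*} [CommRing A] [Algebra R A] {N : Type*}
    [AddCommGroup N] [Module R N] (f : A →ₗ[R] N) (hf : Function.Surjective f) (I : Ideal A)
    (hker : LinearMap.ker f = I.restrictScalars R) : Module.finrank R (A ⧸ I) = Module.finrank R N :=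
  (Submodule.Quotient.restrictScalarsEquiv R I).finrank_eq.symm.trans (finrank_quot_eq f hf _ hker)

theorem finrank_quotient_J₀ (ha : 1 ≤ a) (hb : 1 ≤ b) :
    Module.finrank k (P ⧸ J₀ k a b) = a + (b - 1) := by
  rw [finrank_quot_ideal_eq (Ψ (k := k) a b) (Ψ_surjective a b) (J₀ k a b)
    (Submodule.ext fun f => ker_Ψ a b ha hb f)]
  simp

/-- Classification. -/
theorem classification (J : Ideal P) (hxy : (X 0 * X 1 : P) ∈ J)
    [Module.Finite k (P ⧸ J)] (n : ℕ) (hn : Module.finrank k (P ⧸ J) = n) (h2 : 2 ≤ n) :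
    ∃ a b : ℕ, 1 ≤ a ∧ 1 ≤ b ∧
      ((a + b = n + 1 ∧ J = Ideal.span {X 0 * X 1, X 0 ^ a, X 1 ^ b}) ∨
       (a + b = n ∧ ∃ α : k, α ≠ 0 ∧ J = Ideal.span {X 0 * X 1, X 0 ^ a + C α * X 1 ^ b})) := by
  classical
  have hne : J ≠ ⊤ := by
    rintro rfl
    haveI : Subsingleton (P ⧸ (⊤ : Ideal P)) := Ideal.Quotient.subsingleton_iff.mpr rfl
    rw [Module.finrank_zero_of_subsingleton] at hn
    omega
  have hex : ∀ s : Fin 2, ∃ e, (X s : P) ^ e ∈ J := by
    intro s
    haveI : IsArtinian k (P ⧸ J) := inferInstance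
    obtain ⟨e, he⟩ := IsArtinian.monotone_stabilizes (R := k) (M := P ⧸ J)
      ⟨fun e => OrderDual.toDual ((Ideal.span {Ideal.Quotient.mk J (X s ^ e)}).restrictScalars k), fun e l h => by
        intro z hz
        obtain ⟨w, rfl⟩ := Ideal.mem_span_singleton'.mp hz
        refine Ideal.mem_span_singleton'.mpr ⟨w * Ideal.Quotient.mk J (X s ^ (l - e)), ?_⟩
        rw [mul_assoc, ← map_mul, ← pow_add, Nat.sub_add_cancel h]⟩
    have hm : Ideal.Quotient.mk J (X s ^ e) ∈ Ideal.span {Ideal.Quotient.mk J (X s ^ (e + 1))} :=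
      (OrderDual.toDual.injective (he (e + 1) e.le_succ)).le (Ideal.mem_span_singleton_self _)
    obtain ⟨w, hw⟩ := Ideal.mem_span_singleton'.mp hm
    obtain ⟨w, rfl⟩ := Ideal.Quotient.mk_surjective w
    rw [← map_mul, Ideal.Quotient.eq] at hw
    have hu : IsUnit (w * X s - 1 : P) := isUnit_iff_constantCoeff.mpr (by simp)
    refine ⟨e, (Ideal.unit_mul_mem_iff_mem J hu).mp ?_⟩
    rw [show (w * X s - 1) * X s ^ e = w * X s ^ (e + 1) - X s ^ e by ring]
    exact hw
  let a := Nat.find (hex 0)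
  let b := Nat.find (hex 1)
  have hpos : ∀ s, 1 ≤ Nat.find (hex s) := by
    intro s
    by_contra h
    have h0 := Nat.find_spec (hex s)
    rw [show Nat.find (hex s) = 0 by omega, pow_zero] at h0
    exact hne ((Ideal.eq_top_iff_one J).mpr h0)
  have ha : (X 0 : P) ^ a ∈ J := Nat.find_spec (hex 0)
  have hb : (X 1 : P) ^ b ∈ J := Nat.find_spec (hex 1)
  have hle : J₀ k a b ≤ J := Ideal.span_le.mpr (by
    simp only [Set.insert_subset_iff, Set.singleton_subset_iff]
    exact ⟨hxy, ha, hb⟩)
  -- only the top coefficients survive in `J`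
  have hc0 : ∀ f ∈ J, constantCoeff f = 0 := fun f hf => by
    by_contra h
    exact hne (Ideal.eq_top_of_isUnit_mem J hf (isUnit_iff_constantCoeff.mpr (isUnit_iff_ne_zero.mpr h)))
  have hlow : ∀ (s t : Fin 2), s ≠ t → ∀ f ∈ J, ∀ i, i + 1 < Nat.find (hex s) →
      coeff (Finsupp.single s i) f = 0 := by
    intro s t hst f hf i
    induction i using Nat.strong_induction_on with
    | _ i ih =>
      intro hi
      by_contra hne0
      have hi1 : 1 ≤ i := by
        by_contra h
        rw [show i = 0 by omega, Finsupp.single_zero] at hne0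
        exact hne0 (by rw [coeff_zero_eq_constantCoeff_apply]; exact hc0 f hf)
      -- split off `x_s^i`
      obtain ⟨h, u, v, hfuv, huc⟩ : ∃ h u v : P, f = X s * X t * h + X s ^ i * u + X t * v ∧
          constantCoeff u = coeff (Finsupp.single s i) f := by
        fin_cases s <;> fin_cases t
        · exact absurd rfl hst
        · obtain ⟨h, u, v, e, eu, -⟩ := exists_eq_add i 1 f (fun l hl => ih l hl (by omega)) (fun j h1 h2 => by omega) le_rfl
          exact ⟨h, u, v, by simpa using e, eu⟩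
        · obtain ⟨h, u, v, e, -, ev⟩ := exists_eq_add 1 i f
            (fun l hl => by
              rw [show l = 0 by omega, Finsupp.single_zero, coeff_zero_eq_constantCoeff_apply]
              exact hc0 f hf)
            (fun j h1 h2 => ih j h2 (by omega)) hi1
          exact ⟨h, v, u, by rw [e]; simp; ring, ev⟩
        · exact absurd rfl hst
      have hu : IsUnit u := isUnit_iff_constantCoeff.mpr (isUnit_iff_ne_zero.mpr (huc ▸ hne0))
      refine Nat.find_min (hex s) hi ((Ideal.unit_mul_mem_iff_mem J hu).mp ?_)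
      have hst' : X s * X t ∈ J := by
        fin_cases s <;> fin_cases t <;> first | exact absurd rfl hst | exact hxy | (rw [mul_comm]; exact hxy)
      have : u * X s ^ (i + 1) = X s * f - X s * X t * (X s * h + v) := by rw [hfuv]; ring
      rw [this]
      exact sub_mem (J.mul_mem_left _ hf) (J.mul_mem_right _ hst')
  have hlow0 : ∀ f ∈ J, ∀ i, i + 1 < a → coeff (Finsupp.single 0 i) f = 0 := hlow 0 1 (by decide)
  have hlow1 : ∀ f ∈ J, ∀ i, i + 1 < b → coeff (Finsupp.single 1 i) f = 0 := hlow 1 0 (by decide)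
  have hb1 : 1 ≤ b := hpos 1
  have ha1 : 1 ≤ a := hpos 0
  by_cases hall : ∀ f ∈ J, Ψ a b f = 0
  · have hJ : J = J₀ k a b := le_antisymm (fun f hf => (ker_Ψ a b ha1 hb1 f).mp (hall f hf)) hle
    refine ⟨a, b, ha1, hb1, Or.inl ⟨?_, hJ⟩⟩
    rw [← hn, hJ, finrank_quotient_J₀ a b ha1 hb1]
    omega
  push Not at hall
  obtain ⟨g, hg, hg0⟩ := hall
  have hcd : ∀ f ∈ J, coeff (Finsupp.single 0 (a - 1)) f = 0 → coeff (Finsupp.single 1 (b - 1)) f = 0 := by
    intro f hf hc
    by_contra hd
    have hb2 : 2 ≤ b := by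
      by_contra h
      rw [show b - 1 = 0 by omega, Finsupp.single_zero, coeff_zero_eq_constantCoeff_apply] at hd
      exact hd (hc0 f hf)
    obtain ⟨h, u, v, e, -, ev⟩ := exists_eq_add a (b - 1) f
      (fun i hi => by
        rcases Nat.lt_or_ge (i + 1) a with h | h
        · exact hlow0 f hf i h
        · rw [show i = a - 1 by omega]; exact hc)
      (fun j h1 h2 => hlow1 f hf j (by omega)) (by omega)
    have hv : IsUnit v := isUnit_iff_constantCoeff.mpr (isUnit_iff_ne_zero.mpr (ev ▸ hd))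
    refine Nat.find_min (hex 1) (show b - 1 < b by omega) ((Ideal.unit_mul_mem_iff_mem J hv).mp ?_)
    rw [show v * X 1 ^ (b - 1) = f - (X 0 * X 1 * h + X 0 ^ a * u) by rw [e]; ring]
    exact sub_mem hf (add_mem (J.mul_mem_right _ hxy) (J.mul_mem_right _ ha))
  have hdc : ∀ f ∈ J, coeff (Finsupp.single 1 (b - 1)) f = 0 → coeff (Finsupp.single 0 (a - 1)) f = 0 := by
    intro f hf hd
    by_contra hc
    obtain ⟨h, u, v, e, eu, -⟩ := exists_eq_add (a - 1) b f
      (fun i hi => hlow0 f hf i (by omega))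
      (fun j h1 h2 => by
        rcases Nat.lt_or_ge (j + 1) b with h | h
        · exact hlow1 f hf j h
        · rw [show j = b - 1 by omega]; exact hd) hb1
    have hu : IsUnit u := isUnit_iff_constantCoeff.mpr (isUnit_iff_ne_zero.mpr (eu ▸ hc))
    refine Nat.find_min (hex 0) (show a - 1 < a by omega) ((Ideal.unit_mul_mem_iff_mem J hu).mp ?_)
    rw [show u * X 0 ^ (a - 1) = f - (X 0 * X 1 * h + X 1 ^ b * v) by rw [e]; ring]
    exact sub_mem hf (add_mem (J.mul_mem_right _ hxy) (J.mul_mem_right _ hb))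
  have hzero : ∀ f ∈ J, coeff (Finsupp.single 0 (a - 1)) f = 0 → Ψ a b f = 0 := by
    intro f hf hc
    refine Prod.ext (funext fun i => ?_) (funext fun j => ?_)
    · rcases Nat.lt_or_ge ((i : ℕ) + 1) a with h | h
      · exact hlow0 f hf i h
      · have := i.isLt
        change coeff (Finsupp.single 0 (i : ℕ)) f = 0
        rw [show (i : ℕ) = a - 1 by omega]; exact hc
    · rcases Nat.lt_or_ge ((j : ℕ) + 1 + 1) b with h | h
      · exact hlow1 f hf _ h
      · have := j.isLt
        change coeff (Finsupp.single 1 ((j : ℕ) + 1)) f = 0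
        rw [show (j : ℕ) + 1 = b - 1 by omega]; exact hcd f hf hc
  let cg := coeff (Finsupp.single 0 (a - 1)) g
  let dg := coeff (Finsupp.single 1 (b - 1)) g
  have hcg : cg ≠ 0 := fun h => hg0 (hzero g hg h)
  have hdg : dg ≠ 0 := fun h => hcg (hdc g hg h)
  have ha2 : 2 ≤ a := by
    by_contra h
    refine hcg ?_
    simp only [cg]
    rw [show a - 1 = 0 by omega, Finsupp.single_zero, coeff_zero_eq_constantCoeff_apply]
    exact hc0 g hg
  have hb2 : 2 ≤ b := by
    by_contra h
    refine hdg ?_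
    simp only [dg]
    rw [show b - 1 = 0 by omega, Finsupp.single_zero, coeff_zero_eq_constantCoeff_apply]
    exact hc0 g hg
  let α : k := dg / cg
  have hα : α ≠ 0 := div_ne_zero hdg hcg
  let G : P := X 0 ^ (a - 1) + C α * X 1 ^ (b - 1)
  have hΨg : Ψ a b g = cg • Ψ a b G := by
    have ne01 : ∀ m l : ℕ, 1 ≤ l → Finsupp.single (0 : Fin 2) m ≠ Finsupp.single 1 l := fun m l hl h => by
      have := DFunLike.congr_fun h 1
      simp at this; omega
    refine Prod.ext (funext fun i => ?_) (funext fun j => ?_)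
    · change coeff (Finsupp.single 0 (i : ℕ)) g = cg * coeff (Finsupp.single 0 (i : ℕ)) G
      rw [map_add, coeff_C_mul, coeff_X_pow, coeff_X_pow, if_neg (ne01 _ _ (by omega)), mul_zero, add_zero]
      have := i.isLt
      by_cases h : (i : ℕ) = a - 1
      · rw [h, if_pos rfl, mul_one]
      · rw [if_neg (fun e => h (Finsupp.single_injective 0 e)), mul_zero]
        exact hlow0 g hg i (by omega)
    · change coeff (Finsupp.single 1 ((j : ℕ) + 1)) g = cg * coeff (Finsupp.single 1 ((j : ℕ) + 1)) G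
      rw [map_add, coeff_C_mul, coeff_X_pow, coeff_X_pow, if_neg (fun e => ne01 _ _ (by omega) e.symm), zero_add]
      have := j.isLt
      by_cases h : (j : ℕ) + 1 = b - 1
      · rw [h, if_pos rfl, mul_one, mul_div_cancel₀ dg hcg]
      · rw [if_neg (fun e => h (Finsupp.single_injective 1 e)), mul_zero, mul_zero]
        exact hlow1 g hg _ (by omega)
  let Ψ' := Ψ (k := k) a b
  have hΨf : ∀ f ∈ J, ∃ t : k, Ψ' f = t • Ψ' G := by
    intro f hf
    let t := coeff (Finsupp.single 0 (a - 1)) f / cg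
    have hmem : f - t • g ∈ J := sub_mem hf (J.smul_of_tower_mem t hg)
    have := hzero _ hmem (by rw [map_sub, map_smul, smul_eq_mul, div_mul_cancel₀ _ hcg, sub_self])
    rw [map_sub, map_smul, sub_eq_zero] at this
    exact ⟨t * cg, by simp only [Ψ']; rw [this, hΨg, smul_smul]⟩
  have hGJ : G ∈ J := by
    have h1 : g - cg • G ∈ J := hle ((ker_Ψ a b ha1 hb1 _).mp (by rw [map_sub, map_smul, hΨg, sub_self]))
    have h2 : cg • G ∈ J := by simpa using sub_mem hg h1
    simpa [smul_smul, inv_mul_cancel₀ hcg] using J.smul_of_tower_mem cg⁻¹ h2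
  let W : Submodule k ((Fin a → k) × (Fin (b - 1) → k)) := Submodule.span k {Ψ' G}
  have hJW : J.restrictScalars k = W.comap Ψ' := by
    ext f
    constructor
    · intro hf
      obtain ⟨t, ht⟩ := hΨf f hf
      exact Submodule.mem_span_singleton.mpr ⟨t, ht.symm⟩
    · intro hf
      obtain ⟨t, ht⟩ := Submodule.mem_span_singleton.mp hf
      have h1 : f - t • G ∈ J := hle ((ker_Ψ a b ha1 hb1 _).mp (by rw [map_sub, map_smul]; exact sub_eq_zero.mpr ht.symm))
      simpa using add_mem h1 (J.smul_of_tower_mem t hGJ)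
  have hdim : Module.finrank k (P ⧸ J) + 1 = a + (b - 1) := by
    have hG0 : Ψ' G ≠ 0 := fun h => hg0 (by rw [hΨg, show Ψ a b G = 0 from h, smul_zero])
    have hsurj : Function.Surjective (W.mkQ.comp Ψ') := (Submodule.mkQ_surjective W).comp (Ψ_surjective a b)
    have hker : LinearMap.ker (W.mkQ.comp Ψ') = J.restrictScalars k := by
      rw [LinearMap.ker_comp, Submodule.ker_mkQ, hJW]
    rw [finrank_quot_ideal_eq (W.mkQ.comp Ψ') hsurj J hker]
    have h1 := Submodule.finrank_quotient_add_finrank W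
    rw [show Module.finrank k W = 1 from finrank_span_singleton hG0] at h1
    rw [h1]
    simp
  refine ⟨a - 1, b - 1, by omega, by omega, Or.inr ⟨by omega, α, hα, le_antisymm ?_ ?_⟩⟩
  · intro f hf
    obtain ⟨t, ht⟩ := hΨf f hf
    have h1 : f - t • G ∈ J₀ k a b := (ker_Ψ a b ha1 hb1 _).mp (by rw [map_sub, map_smul]; exact sub_eq_zero.mpr ht)
    have hsub : J₀ k a b ≤ Ideal.span {X 0 * X 1, G} := by
      refine Ideal.span_le.mpr ?_
      simp only [Set.insert_subset_iff, Set.singleton_subset_iff]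
      refine ⟨Ideal.subset_span (by simp), Ideal.mem_span_pair.mpr ⟨-(C α * X 1 ^ (b - 2)), X 0, ?_⟩,
        Ideal.mem_span_pair.mpr ⟨-(C α⁻¹ * X 0 ^ (a - 2)), C α⁻¹ * X 1, ?_⟩⟩
      · simp only [G]
        obtain ⟨a', hae⟩ : ∃ a', a = a' + 2 := ⟨a - 2, by omega⟩
        obtain ⟨b', hbe⟩ : ∃ b', b = b' + 2 := ⟨b - 2, by omega⟩
        simp only [hae, hbe, Nat.add_sub_cancel, show ∀ m, m + 2 - 1 = m + 1 from fun _ => rfl]
        ring
      · simp only [G]
        obtain ⟨a', hae⟩ : ∃ a', a = a' + 2 := ⟨a - 2, by omega⟩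
        obtain ⟨b', hbe⟩ : ∃ b', b = b' + 2 := ⟨b - 2, by omega⟩
        have hCC : (C α⁻¹ : P) * C α = 1 := by rw [← map_mul, inv_mul_cancel₀ hα, map_one]
        simp only [hae, hbe, Nat.add_sub_cancel, show ∀ m, m + 2 - 1 = m + 1 from fun _ => rfl]
        linear_combination (X 1 ^ (b' + 2)) * hCC
    have := add_mem (hsub h1) (Submodule.smul_of_tower_mem _ t (Ideal.subset_span (Set.mem_insert_of_mem _ (Set.mem_singleton G))))
    simpa using this
  · refine Ideal.span_le.mpr ?_
    simp only [Set.insert_subset_iff, Set.singleton_subset_iff]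
    exact ⟨hxy, hGJ⟩


end Groth.Agent.H3CAlg.NodeIdeals
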