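import Groth.Agent.H3CAlg.NodeLaurent
import Groth.Agent.S4433
import Mathlib.RingTheory.Filtration
import Mathlib.RingTheory.DiscreteValuationRing.Basic
import Mathlib.RingTheory.UniqueFactorizationDomain.Basic
import Mathlib.RingTheory.UniqueFactorizationDomain.Multiplicative
import Mathlib.RingTheory.MvPowerSeries.Equiv
import Mathlib.RingTheory.LocalRing.Quotient
import Mathlib.RingTheory.Valuation.ValuationSubring

/-!
Divisors of constants in node rings are constants times powers of the branch variables times units.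
-/

universe u

open MvPowerSeries SpinCurv Groth.Agent.H02CA Groth.Agent.H3CAlg.NodeLaurent

namespace Groth.Agent.H3CAlg.NodeUnits

/-- Gauss lemma for Laurent series modulo a prime power. -/
theorem coeff_mul_coeff_eq_zero {B : Type u} [CommRing B] [IsDomain B] {p : B} (hp : Prime p) (N : ℕ)
    (g h : LaurentSeries (B ⧸ Ideal.span {p ^ N})) (hgh : g * h = 0) (k l : ℤ) : g.coeff k * h.coeff l = 0 := by
  classical
  let mk := Ideal.Quotient.mk (Ideal.span {p ^ N})
  let I : ℕ → Ideal (B ⧸ Ideal.span {p ^ N}) := fun a => Ideal.span {mk p ^ a}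
  have hI0 : ∀ a, N ≤ a → ∀ x ∈ I a, x = 0 := by
    intro a ha x hx
    obtain ⟨y, rfl⟩ := Ideal.mem_span_singleton'.mp hx
    rw [← map_pow, show mk (p ^ a) = 0 from Ideal.Quotient.eq_zero_iff_mem.mpr
      (Ideal.mem_span_singleton.mpr (pow_dvd_pow p ha)), mul_zero]
  let ga := Nat.findGreatest (fun a => ∀ k, g.coeff k ∈ I a) N
  let hb := Nat.findGreatest (fun a => ∀ k, h.coeff k ∈ I a) N
  have hg0 : ∀ k, g.coeff k ∈ I ga := Nat.findGreatest_spec (P := fun a => ∀ k, g.coeff k ∈ I a) (Nat.zero_le N)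
    (fun k => by simp [I])
  have hh0 : ∀ k, h.coeff k ∈ I hb := Nat.findGreatest_spec (P := fun a => ∀ k, h.coeff k ∈ I a) (Nat.zero_le N)
    (fun k => by simp [I])
  by_cases hN : N ≤ ga + hb
  · refine hI0 (ga + hb) hN _ ?_
    have := Ideal.mul_mem_mul (hg0 k) (hh0 l)
    rwa [Ideal.span_singleton_mul_span_singleton, ← pow_add] at this
  exfalso
  have hga : ga < N := by omega
  have hhb : hb < N := by omega
  have hgex : ∃ k, g.coeff k ∉ I (ga + 1) := by
    by_contra hcon
    push Not at hcon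
    have : ga + 1 ≤ ga := Nat.le_findGreatest (P := fun a => ∀ k, g.coeff k ∈ I a) (by omega) hcon
    omega
  have hhex : ∃ k, h.coeff k ∉ I (hb + 1) := by
    by_contra hcon
    push Not at hcon
    have : hb + 1 ≤ hb := Nat.le_findGreatest (P := fun a => ∀ k, h.coeff k ∈ I a) (by omega) hcon
    omega
  have hwfg : {k | g.coeff k ∉ I (ga + 1)}.IsWF :=
    g.isPWO_support.isWF.mono fun k hk h0 => hk (by rw [h0]; exact zero_mem _)
  have hwfh : {k | h.coeff k ∉ I (hb + 1)}.IsWF :=
    h.isPWO_support.isWF.mono fun k hk h0 => hk (by rw [h0]; exact zero_mem _)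
  let k₀ := hwfg.min hgex
  let l₀ := hwfh.min hhex
  have hk₀ : g.coeff k₀ ∉ I (ga + 1) := hwfg.min_mem hgex
  have hl₀ : h.coeff l₀ ∉ I (hb + 1) := hwfh.min_mem hhex
  have hkmin : ∀ k, k < k₀ → g.coeff k ∈ I (ga + 1) := fun k hk => by
    by_contra hc; exact hwfg.not_lt_min hgex hc hk
  have hlmin : ∀ k, k < l₀ → h.coeff k ∈ I (hb + 1) := fun k hk => by
    by_contra hc; exact hwfh.not_lt_min hhex hc hk
  have hsum : g.coeff k₀ * h.coeff l₀ ∈ I (ga + hb + 1) := by
    have h0 : (g * h).coeff (k₀ + l₀) = 0 := by rw [hgh]; rfl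
    rw [HahnSeries.coeff_mul] at h0
    by_cases hmem : (k₀, l₀) ∈ Finset.antidiagonal g.isPWO_support h.isPWO_support (k₀ + l₀)
    · rw [← Finset.add_sum_erase _ _ hmem, add_eq_zero_iff_eq_neg] at h0
      rw [h0]
      refine neg_mem (Submodule.sum_mem _ fun ij hij => ?_)
      obtain ⟨hne, hij'⟩ := Finset.mem_erase.mp hij
      obtain ⟨-, -, hsum⟩ := Finset.mem_antidiagonal.mp hij'
      rcases lt_trichotomy ij.1 k₀ with hlt | heq | hgt
      · have := Ideal.mul_mem_mul (hkmin _ hlt) (hh0 ij.2)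
        rw [Ideal.span_singleton_mul_span_singleton, ← pow_add, add_right_comm] at this
        exact this
      · exact absurd (Prod.ext heq (show ij.2 = l₀ by omega)) hne
      · have := Ideal.mul_mem_mul (hg0 ij.1) (hlmin ij.2 (by omega))
        rw [Ideal.span_singleton_mul_span_singleton, ← pow_add, ← add_assoc] at this
        exact this
    · rw [Finset.mem_antidiagonal] at hmem
      by_cases hz : g.coeff k₀ = 0
      · rw [hz, zero_mul]; exact zero_mem _
      · by_cases hz' : h.coeff l₀ = 0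
        · rw [hz', mul_zero]; exact zero_mem _
        · exact absurd ⟨hz, hz', rfl⟩ hmem
  obtain ⟨s, hs⟩ := Ideal.mem_span_singleton'.mp (hg0 k₀)
  obtain ⟨t, ht⟩ := Ideal.mem_span_singleton'.mp (hh0 l₀)
  obtain ⟨w, hw⟩ := Ideal.mem_span_singleton'.mp hsum
  obtain ⟨s, rfl⟩ := Ideal.Quotient.mk_surjective s
  obtain ⟨t, rfl⟩ := Ideal.Quotient.mk_surjective t
  obtain ⟨w, rfl⟩ := Ideal.Quotient.mk_surjective w
  rw [← hs, ← ht] at hw
  simp only [mk, ← map_pow, ← map_mul, Ideal.Quotient.eq, Ideal.mem_span_singleton] at hw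
  have h1 : p ^ (ga + hb + 1) ∣ p ^ (ga + hb) * (s * t) := by
    have h2 := dvd_sub (dvd_mul_left (p ^ (ga + hb + 1)) w) ((pow_dvd_pow p (show ga + hb + 1 ≤ N by omega)).trans hw)
    convert h2 using 1
    ring
  rw [pow_succ, mul_dvd_mul_iff_left (pow_ne_zero _ hp.ne_zero)] at h1
  rcases hp.dvd_or_dvd h1 with ⟨s', rfl⟩ | ⟨t', rfl⟩
  · refine hk₀ (hs ▸ Ideal.mem_span_singleton'.mpr ⟨mk s', ?_⟩)
    simp only [mk, map_mul, pow_succ]; ring
  · refine hl₀ (ht ▸ Ideal.mem_span_singleton'.mpr ⟨mk t', ?_⟩)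
    simp only [mk, map_mul, pow_succ]; ring

variable {R : Type u} [CommRing R] [IsLocalRing R] [IsAdicComplete (IsLocalRing.maximalIdeal R) R] {r : R}
  (hr : r ∈ IsLocalRing.maximalIdeal R)

/-- The monomial of degree `e`. -/
noncomputable def mon (r : R) (e : ℤ) (a : R) : NodeRing R r :=
  algebraMap R _ a * NodeRing.x R r ^ e.toNat * NodeRing.y R r ^ (-e).toNat

/-- Component of degree `e`. -/
noncomputable def comp (e : ℤ) (z : NodeRing R r) : NodeRing R r := mon r e (NodeCoord.κ hr e z)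

theorem Ψ_comp {S₀ : Type u} [CommRing S₀] (g : R →+* S₀) (N : ℕ) (hN : g r ^ N = 0) (i : Fin 2) (e : ℤ)
    (z : NodeRing R r) :
    Ψ g N hN i (comp hr e z) =
      HahnSeries.single (if i = 0 then e else -e) ((Ψ g N hN i z).coeff (if i = 0 then e else -e)) := by
  rw [coeff_Ψ hr g N hN i z, comp, mon]
  fin_cases i
  · rw [show NodeRing.x R r = Ideal.Quotient.mk _ (X (0 : Fin 2)) from rfl,
      show NodeRing.y R r = Ideal.Quotient.mk _ (X (Fin.rev (0 : Fin 2))) from rfl]
    refine (Ψ_algebraMap_mul_monomial g N hN (0 : Fin 2) _ _ _).trans ?_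
    simp [coord, Int.toNat_sub_toNat_neg]
  · rw [mul_right_comm, show NodeRing.x R r = Ideal.Quotient.mk _ (X (Fin.rev (1 : Fin 2))) from rfl,
      show NodeRing.y R r = Ideal.Quotient.mk _ (X (1 : Fin 2)) from rfl]
    refine (Ψ_algebraMap_mul_monomial g N hN (1 : Fin 2) _ _ _).trans ?_
    simp only [Fin.mk_one, Fin.isValue, one_ne_zero, ↓reduceIte, neg_neg, coord]
    rw [show (((-e).toNat : ℤ) - e.toNat) = -e by omega]

theorem dvd_of_forall_dvd {c : R} (z : NodeRing R r) (h : ∀ e, c ∣ NodeCoord.κ hr e z) :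
    algebraMap R (NodeRing R r) c ∣ z := by
  classical
  choose q hq using h
  refine ⟨NodeRing.ofX R r (PowerSeries.mk fun n => q n) +
    NodeRing.ofY R r (PowerSeries.mk fun n => if n = 0 then 0 else q (-(n : ℤ))), NodeCoord.κ_ext hr fun e => ?_⟩
  rw [NodeCoord.κ_algebraMap_mul, map_add, NodeCoord.κ_ofX, NodeCoord.κ_ofY, hq e]
  congr 1
  rcases lt_trichotomy e 0 with he | he | he
  · rw [if_neg (by omega), if_pos (by omega), PowerSeries.coeff_mk, if_neg (by omega), zero_add,
      show (-((-e).toNat : ℤ)) = e by omega]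
  · subst he; simp
  · rw [if_pos (by omega), if_neg (by omega), PowerSeries.coeff_mk, add_zero, show ((e.toNat : ℕ) : ℤ) = e by omega]

include hr in
theorem dvd_of_Ψ_eq_zero {ℓ : R} (N : ℕ) (hN : Ideal.Quotient.mk (Ideal.span {ℓ ^ N}) r ^ N = 0) (z : NodeRing R r)
    (h : ∀ i, Ψ (Ideal.Quotient.mk (Ideal.span {ℓ ^ N})) N hN i z = 0) :
    algebraMap R (NodeRing R r) (ℓ ^ N) ∣ z := by
  refine dvd_of_forall_dvd hr z fun e => ?_
  rw [← Ideal.mem_span_singleton, ← Ideal.Quotient.eq_zero_iff_mem]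
  rcases le_or_gt 0 e with he | he
  · have h1 := coeff_Ψ hr (Ideal.Quotient.mk (Ideal.span {ℓ ^ N})) N hN 0 z e
    rw [h 0, show (-e).toNat = 0 by omega, pow_zero, one_mul] at h1
    exact h1.symm.trans rfl |>.trans rfl
  · have h1 := coeff_Ψ hr (Ideal.Quotient.mk (Ideal.span {ℓ ^ N})) N hN 1 z (-e)
    rw [h 1, show (- -e).toNat = 0 by omega, pow_zero, one_mul, coord, if_neg (by decide), neg_neg] at h1
    exact h1.symm.trans rfl |>.trans rfl

variable [IsDomain R]

include hr in
theorem algebraMap_mul_cancel {c : R} (hc : c ≠ 0) {z w : NodeRing R r}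
    (h : algebraMap R _ c * z = algebraMap R _ c * w) : z = w :=
  NodeCoord.κ_ext hr fun e => mul_left_cancel₀ hc (by
    rw [← NodeCoord.κ_algebraMap_mul, ← NodeCoord.κ_algebraMap_mul, h])

theorem comp_mul_dvd_of_dvd_of_dvd {ℓ : R} (hℓ : Prime ℓ) (hℓr : ℓ ∣ r) (N : ℕ) (b z : NodeRing R r)
    (h : algebraMap R _ (ℓ ^ N) ∣ z * b) (e : ℤ) : algebraMap R _ (ℓ ^ N) ∣ comp hr e z * b := by
  have hN : Ideal.Quotient.mk (Ideal.span {ℓ ^ N}) r ^ N = 0 := by
    rw [← map_pow, Ideal.Quotient.eq_zero_iff_mem, Ideal.mem_span_singleton]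
    exact pow_dvd_pow_of_dvd hℓr N
  refine dvd_of_Ψ_eq_zero hr N hN _ fun i => ?_
  obtain ⟨t, ht⟩ := h
  have hzb : Ψ _ N hN i z * Ψ _ N hN i b = 0 := by
    rw [← map_mul, ht, map_mul]
    have : Ψ (Ideal.Quotient.mk (Ideal.span {ℓ ^ N})) N hN i (algebraMap R (NodeRing R r) (ℓ ^ N)) = 0 := by
      have := Ψ_algebraMap_mul_monomial (Ideal.Quotient.mk (Ideal.span {ℓ ^ N})) N hN i (ℓ ^ N) 0 0
      rw [pow_zero, pow_zero, mul_one, mul_one] at this
      rw [this, pow_zero, one_mul, Ideal.Quotient.eq_zero_iff_mem.mpr (Ideal.mem_span_singleton_self _), map_zero]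
    rw [this, zero_mul]
  rw [map_mul, Ψ_comp hr]
  ext n
  have := HahnSeries.coeff_single_mul_add
    (r := (Ψ (Ideal.Quotient.mk (Ideal.span {ℓ ^ N})) N hN i z).coeff (if i = 0 then e else -e))
    (x := Ψ (Ideal.Quotient.mk (Ideal.span {ℓ ^ N})) N hN i b) (a := n - (if i = 0 then e else -e))
    (b := if i = 0 then e else -e)
  rw [sub_add_cancel] at this
  rw [this, coeff_mul_coeff_eq_zero hℓ N _ _ hzb, HahnSeries.coeff_zero]

/-- Coordinates of a product vanishing under a map to a domain where the parameter is a non-zero element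
of a prime principal ideal. -/
theorem coords_eq_zero_or {B : Type u} [CommRing B] [IsDomain B] [IsNoetherianRing B] (ι : R →+* B) {p : B}
    (hp : Prime p) (hrp : p ∣ ι r) (hr0 : ι r ≠ 0) {z w t : NodeRing R r} {q : R} (hq : ι q = 0)
    (h : z * w = algebraMap R _ q * t) :
    (∀ e, ι (NodeCoord.κ hr e z) = 0) ∨ (∀ e, ι (NodeCoord.κ hr e w) = 0) := by
  by_contra hcon
  push Not at hcon
  obtain ⟨⟨e, he⟩, f, hf⟩ := hcon
  let P := ι (r ^ (-e).toNat * NodeCoord.κ hr e z) * ι (r ^ (-f).toNat * NodeCoord.κ hr f w)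
  have hP : P ≠ 0 := mul_ne_zero (by rw [map_mul, map_pow]; exact mul_ne_zero (pow_ne_zero _ hr0) he)
    (by rw [map_mul, map_pow]; exact mul_ne_zero (pow_ne_zero _ hr0) hf)
  refine hP ((Submodule.mem_bot B).mp ?_)
  rw [← Ideal.iInf_pow_eq_bot_of_isDomain (Ideal.span {p}) (by rw [Ne, Ideal.span_singleton_eq_top]; exact hp.not_unit),
    Submodule.mem_iInf]
  intro N
  rw [Ideal.span_singleton_pow, ← Ideal.Quotient.eq_zero_iff_mem]
  let g := (Ideal.Quotient.mk (Ideal.span {p ^ N})).comp ι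
  have hN : g r ^ N = 0 := by
    rw [← map_pow, RingHom.comp_apply, Ideal.Quotient.eq_zero_iff_mem, Ideal.mem_span_singleton, map_pow]
    exact pow_dvd_pow_of_dvd hrp N
  have hzw : Ψ g N hN 0 z * Ψ g N hN 0 w = 0 := by
    rw [← map_mul, h, map_mul]
    have := Ψ_algebraMap_mul_monomial g N hN (0 : Fin 2) q 0 0
    rw [pow_zero, pow_zero, mul_one, mul_one] at this
    rw [this, pow_zero, one_mul, show g q = 0 by rw [RingHom.comp_apply, hq, map_zero], map_zero, zero_mul]
  have hkey := coeff_mul_coeff_eq_zero hp N _ _ hzw e f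
  rw [coeff_Ψ hr g N hN 0 z, coeff_Ψ hr g N hN 0 w, coord, coord, if_pos rfl, if_pos rfl] at hkey
  rw [map_mul]
  exact hkey

theorem exists_dvr (P : Ideal R) [P.IsPrime] [IsNoetherianRing R] (hrP : r ∉ P) (hr : r ∈ IsLocalRing.maximalIdeal R) :
    ∃ (B : Type u) (_ : CommRing B) (_ : IsDomain B) (_ : IsNoetherianRing B) (ι : R →+* B) (p : B),
      Prime p ∧ p ∣ ι r ∧ ι r ≠ 0 ∧ ∀ a, ι a = 0 ↔ a ∈ P := by
  let A := R ⧸ P
  haveI : IsLocalRing A := IsLocalRing.of_surjective' (Ideal.Quotient.mk P) Ideal.Quotient.mk_surjective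
  have hr' : Ideal.Quotient.mk P r ≠ 0 := fun h => hrP (Ideal.Quotient.eq_zero_iff_mem.mp h)
  have hrm : Ideal.Quotient.mk P r ∈ IsLocalRing.maximalIdeal A := by
    refine (IsLocalRing.mem_maximalIdeal _).mpr fun hu => (IsLocalRing.mem_maximalIdeal _).mp hr ?_
    obtain ⟨v, hv⟩ := hu.exists_right_inv
    obtain ⟨v, rfl⟩ := Ideal.Quotient.mk_surjective v
    rw [← map_mul, ← map_one (Ideal.Quotient.mk P), Ideal.Quotient.eq] at hv
    by_contra hnu
    have h1 : r * v ∈ IsLocalRing.maximalIdeal R := Ideal.mul_mem_right _ _ ((IsLocalRing.mem_maximalIdeal _).mpr hnu)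
    have := sub_mem h1 (IsLocalRing.le_maximalIdeal ‹P.IsPrime›.ne_top hv)
    rw [sub_sub_cancel] at this
    exact (IsLocalRing.maximalIdeal.isMaximal R).ne_top ((Ideal.eq_top_iff_one _).mpr this)
  have hA : ¬ IsField A := fun h => by
    rw [IsLocalRing.isField_iff_maximalIdeal_eq] at h
    rw [h] at hrm
    exact hr' (Ideal.mem_bot.mp hrm)
  obtain ⟨V, hV, hmem, hlt⟩ := S4433.result A hA (FractionRing A) (FractionRing A) (IntermediateField.fg_top _ _)
  let ι : R →+* V := ((algebraMap A (FractionRing A)).codRestrict V.toSubring hmem).comp (Ideal.Quotient.mk P)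
  obtain ⟨p, hp⟩ := IsDiscreteValuationRing.exists_irreducible V
  have hι : ∀ a, ι a = 0 ↔ a ∈ P := fun a => by
    rw [← Ideal.Quotient.eq_zero_iff_mem]
    constructor
    · exact fun h => IsFractionRing.injective A (FractionRing A) ((congrArg Subtype.val h).trans (map_zero _).symm)
    · intro h; refine Subtype.ext ?_
      change algebraMap A (FractionRing A) (Ideal.Quotient.mk P a) = 0
      rw [h, map_zero]
  refine ⟨V, inferInstance, inferInstance, inferInstance, ι, p, hp.prime, ?_, fun h => hrP ((hι r).mp h), hι⟩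
  rw [← Ideal.mem_span_singleton, ← hp.maximalIdeal_eq, IsLocalRing.mem_maximalIdeal]
  intro hu
  have h1 := (V.valuation_eq_one_iff _).mp hu
  exact absurd h1 (hlt _ hrm).ne

include hr in
theorem noZeroDivisors [IsNoetherianRing R] (hr0 : r ≠ 0) (z w : NodeRing R r) (h : z * w = 0) : z = 0 ∨ w = 0 := by
  haveI : (⊥ : Ideal R).IsPrime := Ideal.isPrime_bot
  obtain ⟨B, _, _, _, ι, p, hp, hpr, hιr, hι⟩ := exists_dvr (⊥ : Ideal R) (by simpa using hr0) hr
  refine (coords_eq_zero_or hr ι hp hpr hιr (q := 0) (t := 0) (map_zero ι) (by rw [h, mul_zero])).imp ?_ ?_ <;>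
    exact fun h0 => NodeCoord.κ_ext hr fun e => by rw [map_zero]; exact Ideal.mem_bot.mp ((hι _).mp (h0 e))

include hr in
theorem comp_mul_dvd [IsNoetherianRing R] {ℓ : R} (hℓ : Prime ℓ) (N : ℕ) (b z : NodeRing R r)
    (h : algebraMap R _ (ℓ ^ N) ∣ z * b) (e : ℤ) : algebraMap R _ (ℓ ^ N) ∣ comp hr e z * b := by
  by_cases hℓr : ℓ ∣ r
  · exact comp_mul_dvd_of_dvd_of_dvd hr hℓ hℓr N b z h e
  haveI : (Ideal.span {ℓ}).IsPrime := (Ideal.span_singleton_prime hℓ.ne_zero).mpr hℓ
  obtain ⟨B, _, _, _, ι, p, hp, hpr, hιr, hι⟩ :=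
    exists_dvr (Ideal.span {ℓ}) (fun h => hℓr (Ideal.mem_span_singleton.mp h)) hr
  induction N generalizing b z with
  | zero => simp
  | succ N ih =>
    obtain ⟨t, ht⟩ := h
    have hℓ0 : ι ℓ = 0 := (hι ℓ).mpr (Ideal.mem_span_singleton_self ℓ)
    rcases coords_eq_zero_or hr ι hp hpr hιr (q := ℓ) (t := algebraMap R _ (ℓ ^ N) * t) hℓ0
        (by rw [ht, pow_succ', map_mul, mul_assoc]) with hz | hw
    · obtain ⟨z', rfl⟩ := dvd_of_forall_dvd hr z fun e => Ideal.mem_span_singleton.mp ((hι _).mp (hz e))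
      have h' : z' * b = algebraMap R _ (ℓ ^ N) * t := algebraMap_mul_cancel hr hℓ.ne_zero (by
        rw [← mul_assoc, ht, pow_succ', map_mul, mul_assoc])
      have h2 := mul_dvd_mul_left (algebraMap R (NodeRing R r) ℓ) (ih b z' ⟨t, h'⟩)
      rw [← map_mul, ← pow_succ', ← mul_assoc] at h2
      convert h2 using 2
      rw [comp, comp, mon, mon, NodeCoord.κ_algebraMap_mul, map_mul]
      ring
    · obtain ⟨b', rfl⟩ := dvd_of_forall_dvd hr b fun e => Ideal.mem_span_singleton.mp ((hι _).mp (hw e))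
      have h' : z * b' = algebraMap R _ (ℓ ^ N) * t := algebraMap_mul_cancel hr hℓ.ne_zero (by
        rw [mul_left_comm, ht, pow_succ', map_mul, mul_assoc])
      have h2 := mul_dvd_mul_left (algebraMap R (NodeRing R r) ℓ) (ih b' z ⟨t, h'⟩)
      rw [← map_mul, ← pow_succ', mul_left_comm] at h2
      exact h2

include hr in
theorem isRelPrime_dvd {x y : R} (hxy : IsRelPrime x y) (hy0 : y ≠ 0) [UniqueFactorizationMonoid R] {w : NodeRing R r}
    (hx : algebraMap R _ x ∣ w) (hy : algebraMap R _ y ∣ w) : algebraMap R _ (x * y) ∣ w := by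
  refine dvd_of_forall_dvd hr w fun e => ?_
  obtain ⟨a, ha⟩ := hx
  obtain ⟨b, hb⟩ := hy
  exact hxy.mul_dvd ⟨_, by rw [ha, NodeCoord.κ_algebraMap_mul]⟩ ⟨_, by rw [hb, NodeCoord.κ_algebraMap_mul]⟩

include hr in
/-- A divisor of a non-zero constant divides each of the components of its multiples. -/
theorem dvd_comp [IsNoetherianRing R] [UniqueFactorizationMonoid R] {a b : NodeRing R r} {c : R} (hc : c ≠ 0)
    (hab : a * b = algebraMap R _ c) {z : NodeRing R r} (hz : a ∣ z) (e : ℤ) : a ∣ comp hr e z := by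
  classical
  have key : ∀ d : R, d ≠ 0 → algebraMap R _ d ∣ z * b → algebraMap R _ d ∣ comp hr e z * b := by
    intro d
    induction d using UniqueFactorizationMonoid.induction_on_coprime with
    | h0 => exact fun h => absurd rfl h
    | h1 hu => exact fun _ _ => (hu.map (algebraMap R (NodeRing R r))).dvd
    | hpr i hp => exact fun _ h => comp_mul_dvd hr hp i b z h e
    | hcp hxy hx hy =>
      intro hne h
      have hx0 := left_ne_zero_of_mul hne
      have hy0 := right_ne_zero_of_mul hne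
      rw [map_mul] at h
      exact isRelPrime_dvd hr hxy hy0 (hx hx0 (dvd_trans (dvd_mul_right _ _) h)) (hy hy0 (dvd_trans (dvd_mul_left _ _) h))
  obtain ⟨h, rfl⟩ := hz
  obtain ⟨q, hq⟩ := key c hc ⟨h, by rw [mul_right_comm, hab]⟩
  refine ⟨q, algebraMap_mul_cancel hr hc ?_⟩
  calc algebraMap R _ c * comp hr e (a * h) = a * (comp hr e (a * h) * b) := by rw [← hab]; ring
    _ = algebraMap R _ c * (a * q) := by rw [hq]; ring

set_option maxHeartbeats 1000000 in
include hr in
theorem eq_monomial_mul_unit [IsNoetherianRing R] [UniqueFactorizationMonoid R] {a b : NodeRing R r} {c : R}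
    (hc : c ≠ 0) (hab : a * b = algebraMap R _ c) :
    ∃ (e : ℤ) (s : R) (u : (NodeRing R r)ˣ), a = mon r e s * u := by
  classical
  let mk := Ideal.Quotient.mk (Ideal.span {(X 0 * X 1 - C r : MvPowerSeries (Fin 2) R)})
  have hrel : Ideal.span {(X 0 * X 1 - C r : MvPowerSeries (Fin 2) R)} ≠ ⊤ := by
    rw [Ne, Ideal.span_singleton_eq_top, isUnit_iff_constantCoeff]
    simpa using fun h => (IsLocalRing.mem_maximalIdeal r).mp hr h
  haveI : Nontrivial (NodeRing R r) := Ideal.Quotient.nontrivial_iff.mpr hrel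
  haveI : IsLocalRing (NodeRing R r) := IsLocalRing.of_surjective' mk Ideal.Quotient.mk_surjective
  set 𝔪 := IsLocalRing.maximalIdeal (NodeRing R r)
  have ha0 : a ≠ 0 := by
    rintro rfl
    rw [zero_mul] at hab
    exact hc (by
      have := congrArg (NodeCoord.κ hr 0) (hab.trans (mul_one _).symm)
      rw [map_zero, NodeCoord.κ_algebraMap_mul] at this
      have h1 : NodeCoord.κ hr 0 (1 : NodeRing R r) = 1 := by
        rw [show (1 : NodeRing R r) = mk 1 from (map_one mk).symm, NodeCoord.κ_mk, NodeCoord.lim_zero_of hr _ fun k => by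
          rw [coeff_one, if_neg]; intro h; have := DFunLike.congr_fun h 0; simp [NodeCoord.ex] at this]
        simp [NodeCoord.ex]
      rw [h1, mul_one] at this
      exact this.symm)
  by_contra hcon
  push Not at hcon
  let I := Ideal.span {a}
  have hcomp : ∀ e, comp hr e a ∈ 𝔪 * I := by
    intro e
    obtain ⟨h, hh⟩ := dvd_comp hr hc hab (dvd_refl a) e
    by_cases hu : IsUnit h
    · exact absurd (by rw [comp] at hh; rw [hh, mul_assoc, hu.mul_val_inv, mul_one]) (hcon e (NodeCoord.κ hr e a) hu.unit⁻¹)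
    · rw [hh, mul_comm a h]
      exact Ideal.mul_mem_mul ((IsLocalRing.mem_maximalIdeal _).mpr hu) (Ideal.mem_span_singleton_self a)
  obtain ⟨k, hk⟩ := Ideal.exists_pow_inf_eq_pow_smul 𝔪 (N := (I : Submodule (NodeRing R r) (NodeRing R r)))
  have hAR : 𝔪 ^ (k + 1) ⊓ I ≤ 𝔪 * I := by
    have h1 := hk (k + 1) (Nat.le_succ k)
    rw [Nat.add_sub_cancel_left, pow_one] at h1
    simp only [smul_eq_mul, Ideal.mul_top] at h1
    rw [h1]
    exact Ideal.mul_mono_right inf_le_right
  let f : PowerSeries R := PowerSeries.mk fun n => NodeCoord.κ hr n a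
  let g : PowerSeries R := PowerSeries.mk fun n => if n = 0 then 0 else NodeCoord.κ hr (-(n : ℤ)) a
  have hdec : a = NodeRing.ofX R r f + NodeRing.ofY R r g := NodeCoord.κ_ext hr fun e => by
    rw [map_add, NodeCoord.κ_ofX, NodeCoord.κ_ofY]
    rcases lt_trichotomy e 0 with he | he | he
    · rw [if_neg (by omega), if_pos (by omega), PowerSeries.coeff_mk, if_neg (by omega), zero_add,
        show (-((-e).toNat : ℤ)) = e by omega]
    · subst he; simp [f, g]
    · rw [if_pos (by omega), if_neg (by omega), PowerSeries.coeff_mk, add_zero, show ((e.toNat : ℕ) : ℤ) = e by omega]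
  have htail : ∀ (j : Fin 2) (F : PowerSeries R),
      mk (PowerSeries.toMvPowerSeries j F) - ∑ n ∈ Finset.range (k + 1),
        algebraMap R _ (PowerSeries.coeff n F) * mk (X j) ^ n ∈ 𝔪 ^ (k + 1) := by
    intro j F
    obtain ⟨F', hF'⟩ : (PowerSeries.X : PowerSeries R) ^ (k + 1) ∣ F - (PowerSeries.trunc (k + 1) F : PowerSeries R) := by
      rw [PowerSeries.X_pow_dvd_iff]
      intro m hm
      rw [map_sub, Polynomial.coeff_coe, PowerSeries.coeff_trunc, if_pos hm, sub_self]
    have hXj : mk (X j) ∈ 𝔪 := by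
      refine (IsLocalRing.mem_maximalIdeal _).mpr fun hu => ?_
      obtain ⟨v, hv⟩ := hu.exists_right_inv
      obtain ⟨v, rfl⟩ := Ideal.Quotient.mk_surjective v
      rw [← map_mul, ← map_one mk, Ideal.Quotient.eq] at hv
      obtain ⟨q, hq⟩ := Ideal.mem_span_singleton'.mp hv
      have := congrArg constantCoeff hq
      simp at this
      exact (IsLocalRing.maximalIdeal.isMaximal R).ne_top ((Ideal.eq_top_iff_one _).mpr
        (this ▸ Ideal.mul_mem_left _ _ hr))
    have hTX : PowerSeries.toMvPowerSeries j (PowerSeries.X : PowerSeries R) = X j := PowerSeries.toMvPowerSeries_X j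
    have e1 : PowerSeries.toMvPowerSeries j (PowerSeries.trunc (k + 1) F : PowerSeries R) =
        ∑ n ∈ Finset.range (k + 1), C (PowerSeries.coeff n F) * X j ^ n := by
      rw [PowerSeries.trunc_apply, Nat.Ico_zero_eq_range, ← Polynomial.coeToPowerSeries.ringHom_apply, map_sum, map_sum]
      refine Finset.sum_congr rfl fun n _ => ?_
      rw [Polynomial.coeToPowerSeries.ringHom_apply, Polynomial.coe_monomial, PowerSeries.monomial_eq_C_mul_X_pow,
        map_mul, map_pow, hTX]
      congr 1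
      exact (PowerSeries.toMvPowerSeries j).commutes _
    have e2 : mk (PowerSeries.toMvPowerSeries j F) - ∑ n ∈ Finset.range (k + 1),
        algebraMap R _ (PowerSeries.coeff n F) * mk (X j) ^ n = mk (X j) ^ (k + 1) * mk (PowerSeries.toMvPowerSeries j F') := by
      rw [sub_eq_iff_eq_add] at hF'
      conv_lhs => arg 1; rw [hF']
      rw [map_add, map_add, e1, map_mul, map_mul, map_pow, map_pow, hTX, map_sum, add_sub_assoc, add_eq_left, sub_eq_zero]
      refine Finset.sum_congr rfl fun n _ => ?_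
      rw [map_mul, map_pow]
      rfl
    rw [e2]
    exact Ideal.mul_mem_right _ _ (Ideal.pow_mem_pow hXj _)
  have hsumX : ∑ n ∈ Finset.range (k + 1), algebraMap R _ (PowerSeries.coeff n f) * mk (X 0) ^ n ∈ 𝔪 * I := by
    refine Ideal.sum_mem _ fun n _ => ?_
    have h1 := hcomp n
    simp only [comp, mon, Int.toNat_natCast, show (-(n : ℤ)).toNat = 0 by omega, pow_zero, mul_one] at h1
    simpa [f] using h1
  have hsumY : ∑ n ∈ Finset.range (k + 1), algebraMap R _ (PowerSeries.coeff n g) * mk (X 1) ^ n ∈ 𝔪 * I := by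
    refine Ideal.sum_mem _ fun n _ => ?_
    rcases Nat.eq_zero_or_pos n with h | h
    · subst h; simp [g]
    · have h1 := hcomp (-(n : ℤ))
      simp only [comp, mon, neg_neg, Int.toNat_natCast, show (-(n : ℤ)).toNat = 0 by omega, pow_zero, mul_one] at h1
      simpa [g, h.ne'] using h1
  have e0 : a = mk (PowerSeries.toMvPowerSeries 0 f) + mk (PowerSeries.toMvPowerSeries 1 g) := hdec
  clear_value f g
  have haI : a ∈ 𝔪 * I := by
    have hmem := add_mem hsumX hsumY
    have htl : a - (∑ n ∈ Finset.range (k + 1), algebraMap R _ (PowerSeries.coeff n f) * mk (X 0) ^ n +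
        ∑ n ∈ Finset.range (k + 1), algebraMap R _ (PowerSeries.coeff n g) * mk (X 1) ^ n) ∈ 𝔪 ^ (k + 1) ⊓ I :=
      ⟨by
        have := add_mem (htail 0 f) (htail 1 g)
        rw [← add_sub_add_comm, ← e0] at this
        exact this,
        sub_mem (Ideal.mem_span_singleton_self a) ((Ideal.mul_le_right : 𝔪 * I ≤ I) hmem)⟩
    have := add_mem (hAR htl) hmem
    rwa [sub_add_cancel] at this
  obtain ⟨m, hm, hma⟩ := Ideal.mem_mul_span_singleton.mp haI
  have hu : IsUnit (1 - m) := by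
    by_contra hnu
    have := add_mem ((IsLocalRing.mem_maximalIdeal _).mpr hnu : 1 - m ∈ 𝔪) hm
    rw [sub_add_cancel] at this
    exact (IsLocalRing.maximalIdeal.isMaximal _).ne_top ((Ideal.eq_top_iff_one _).mpr this)
  exact ha0 (hu.mul_right_eq_zero.mp (by rw [sub_mul, one_mul, hma, sub_self]))

end Groth.Agent.H3CAlg.NodeUnits
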