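import Mathlib.RingTheory.NoetherNormalization
import Mathlib.Algebra.MvPolynomial.Equiv
import Mathlib.Algebra.BigOperators.Fin
import Mathlib.RingTheory.Polynomial.Basic
import Mathlib.Tactic

/-!
Noether normalisation with coordinates having integer coefficients.
-/

namespace Groth.Agent.H3CAlg

open MvPolynomial

universe u

variable {k : Type u} [Field k]

theorem NoetherNorm.weight_injective {N n : ℕ} {a b : Fin n → ℕ} (ha : ∀ i, a i < N) (hb : ∀ i, b i < N)
    (h : ∑ i, a i * N ^ (i : ℕ) = ∑ i, b i * N ^ (i : ℕ)) : a = b := by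
  have := finFunctionFinEquiv.injective (a₁ := fun i => ⟨a i, ha i⟩) (a₂ := fun i => ⟨b i, hb i⟩)
    (Fin.ext (by rw [finFunctionFinEquiv_apply, finFunctionFinEquiv_apply]; exact h))
  exact funext fun i => congrArg Fin.val (congrFun this i)

/-- One step with prescribed exponent: modulo a nonzero polynomial of degree `< N - 1`, everything is
integral over the `n` integer polynomials `X (j+1) - X 0 ^ (N ^ (j+1))`. -/
theorem NoetherNorm.step' {n : ℕ} (I : Ideal (MvPolynomial (Fin (n + 1)) k)) {f : MvPolynomial (Fin (n + 1)) k}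
    (hfI : f ∈ I) (hf : f ≠ 0) (N : ℕ) (hNf : 2 + f.totalDegree ≤ N) :
    ((Ideal.Quotient.mkₐ k I).comp (MvPolynomial.aeval fun j : Fin n =>
      (X j.succ - X 0 ^ (N ^ (j.succ : ℕ)) : MvPolynomial (Fin (n + 1)) k))).toRingHom.IsIntegral := by
  classical
  let y : Fin n → MvPolynomial (Fin (n + 1)) k := fun j => X j.succ - X 0 ^ (N ^ (j.succ : ℕ))
  let g := (Ideal.Quotient.mkₐ k I).comp (MvPolynomial.aeval y)
  let φ : MvPolynomial (Fin (n + 1)) k →ₐ[k] Polynomial (MvPolynomial (Fin n) k) :=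
    aeval (Fin.cases Polynomial.X fun j => Polynomial.X ^ (N ^ (j.succ : ℕ)) + Polynomial.C (X j))
  let Ψ : Polynomial (MvPolynomial (Fin n) k) →+* MvPolynomial (Fin (n + 1)) k ⧸ I :=
    Polynomial.eval₂RingHom g.toRingHom (Ideal.Quotient.mk I (X 0))
  have hΨ : ∀ p, Ψ (φ p) = Ideal.Quotient.mk I p := by
    intro p
    induction p using MvPolynomial.induction_on with
    | C a =>
      rw [← MvPolynomial.algebraMap_eq, AlgHom.commutes, Polynomial.algebraMap_apply, Polynomial.coe_eval₂RingHom, Polynomial.eval₂_C]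
      exact g.commutes a
    | add p q hp hq => rw [map_add, map_add, hp, hq, map_add]
    | mul_X p i hp =>
      rw [map_mul, map_mul, hp, map_mul]
      congr 1
      refine Fin.cases ?_ (fun j => ?_) i
      · simp [φ, Ψ]
      · simp [φ, Ψ, g, y]
  -- the leading term
  have hN : ∀ i : Fin (n + 1), 0 < N ^ (i : ℕ) := fun i => pow_pos (by omega) _
  let P : (Fin (n + 1) →₀ ℕ) → Polynomial (MvPolynomial (Fin n) k) := fun d =>
    ∏ i, (Fin.cases Polynomial.X (fun j => Polynomial.X ^ (N ^ (j.succ : ℕ)) + Polynomial.C (X j)) i :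
      Polynomial (MvPolynomial (Fin n) k)) ^ (d i)
  have hb : ∀ i : Fin (n + 1), (Fin.cases Polynomial.X (fun j => Polynomial.X ^ (N ^ (j.succ : ℕ)) + Polynomial.C (X j)) i :
      Polynomial (MvPolynomial (Fin n) k)).Monic ∧
      (Fin.cases Polynomial.X (fun j => Polynomial.X ^ (N ^ (j.succ : ℕ)) + Polynomial.C (X j)) i :
      Polynomial (MvPolynomial (Fin n) k)).natDegree = N ^ (i : ℕ) := by
    intro i
    refine Fin.cases ⟨Polynomial.monic_X, by simp⟩ (fun j => ?_) i
    simp only [Fin.cases_succ]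
    exact ⟨Polynomial.monic_X_pow_add_C _ (hN j.succ).ne', Polynomial.natDegree_X_pow_add_C⟩
  have hPm : ∀ d, (P d).Monic := fun d => Polynomial.monic_prod_of_monic _ _ fun i _ => (hb i).1.pow _
  let D : (Fin (n + 1) →₀ ℕ) → ℕ := fun d => ∑ i, d i * N ^ (i : ℕ)
  have hPd : ∀ d, (P d).natDegree = D d := fun d => by
    rw [Polynomial.natDegree_prod_of_monic _ _ fun i _ => (hb i).1.pow _]
    exact Finset.sum_congr rfl fun i _ => by rw [(hb i).1.natDegree_pow, (hb i).2]
  have hlt : ∀ d ∈ f.support, ∀ i, d i < N := fun d hd i => by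
    have h1 : d i ≤ d.sum fun _ e => e := by
      rw [Finsupp.sum_fintype _ _ (fun _ => rfl)]; exact Finset.single_le_sum (fun _ _ => Nat.zero_le _) (Finset.mem_univ i)
    have h2 := MvPolynomial.le_totalDegree hd
    omega
  obtain ⟨d₀, hd₀, hmax⟩ := Finset.exists_max_image f.support D (support_nonempty.mpr hf)
  have hφf : φ f = ∑ d ∈ f.support, Polynomial.C (MvPolynomial.C (f.coeff d)) * P d := by
    conv_lhs => rw [f.as_sum, map_sum]
    refine Finset.sum_congr rfl fun d _ => ?_
    rw [aeval_monomial, Finsupp.prod_fintype _ _ (fun _ => pow_zero _)]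
    rfl
  have hdeg : (φ f).natDegree ≤ D d₀ := by
    rw [hφf]
    refine Polynomial.natDegree_sum_le_of_forall_le _ _ fun d hd => ?_
    exact (Polynomial.natDegree_C_mul_le _ _).trans ((hPd d).le.trans (hmax d hd))
  have hcoeff : (φ f).coeff (D d₀) = MvPolynomial.C (f.coeff d₀) := by
    rw [hφf, Polynomial.finsetSum_coeff, Finset.sum_eq_single d₀]
    · rw [Polynomial.coeff_C_mul, ← hPd, Polynomial.coeff_natDegree, (hPm d₀).leadingCoeff, mul_one]
    · intro d hd hne
      have : D d < D d₀ := lt_of_le_of_ne (hmax d hd) fun h => hne (Finsupp.ext fun i =>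
        congrFun (NoetherNorm.weight_injective (hlt d hd) (hlt d₀ hd₀) h) i)
      rw [Polynomial.coeff_C_mul, Polynomial.coeff_eq_zero_of_natDegree_lt ((hPd d).le.trans_lt this), mul_zero]
    · exact fun h => absurd hd₀ h
  have hc : f.coeff d₀ ≠ 0 := mem_support_iff.mp hd₀
  let Q := Polynomial.C (MvPolynomial.C (f.coeff d₀)⁻¹) * φ f
  have hQm : Q.Monic := by
    refine Polynomial.monic_of_natDegree_le_of_coeff_eq_one (D d₀) ((Polynomial.natDegree_C_mul_le _ _).trans hdeg) ?_
    rw [Polynomial.coeff_C_mul, hcoeff, ← map_mul, inv_mul_cancel₀ hc, map_one]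
  letI : Algebra (MvPolynomial (Fin n) k) (MvPolynomial (Fin (n + 1)) k ⧸ I) := g.toRingHom.toAlgebra
  have hX0 : IsIntegral (MvPolynomial (Fin n) k) (Ideal.Quotient.mk I (X 0)) := by
    refine ⟨Q, hQm, ?_⟩
    show Ψ Q = 0
    rw [map_mul, hΨ, Ideal.Quotient.eq_zero_iff_mem.mpr hfI, mul_zero]
  intro x
  obtain ⟨p, rfl⟩ := Ideal.Quotient.mk_surjective x
  rw [← hΨ p]
  show IsIntegral (MvPolynomial (Fin n) k) (Ψ (φ p))
  induction φ p using Polynomial.induction_on' with
  | add a b ha hb => rw [map_add]; exact ha.add hb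
  | monomial m a =>
    rw [Polynomial.coe_eval₂RingHom, Polynomial.eval₂_monomial]
    exact (isIntegral_algebraMap (x := a)).mul (hX0.pow m)

/-- One step: modulo a nonzero polynomial, everything is integral over `n` integer polynomials. -/
theorem NoetherNorm.step {n : ℕ} (I : Ideal (MvPolynomial (Fin (n + 1)) k)) (hI : I ≠ ⊥) :
    ∃ y : Fin n → MvPolynomial (Fin (n + 1)) k,
      (∀ i, y i ∈ Set.range (MvPolynomial.map (Int.castRingHom k) : MvPolynomial (Fin (n + 1)) ℤ → _)) ∧
      ((Ideal.Quotient.mkₐ k I).comp (MvPolynomial.aeval y)).toRingHom.IsIntegral := by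
  obtain ⟨f, hfI, hf⟩ := Submodule.exists_mem_ne_zero_of_ne_bot hI
  exact ⟨_, fun j => ⟨X j.succ - X 0 ^ ((2 + f.totalDegree) ^ (j.succ : ℕ)), by simp⟩,
    NoetherNorm.step' I hfI hf _ le_rfl⟩

/-- Noether normalisation by integer polynomials. -/
theorem NoetherNorm.exists_int_coords : ∀ (n : ℕ) (I : Ideal (MvPolynomial (Fin n) k)), I ≠ ⊤ →
    ∃ (r : ℕ) (y : Fin r → MvPolynomial (Fin n) k),
      (∀ i, y i ∈ Set.range (MvPolynomial.map (Int.castRingHom k) : MvPolynomial (Fin n) ℤ → _)) ∧
      Function.Injective ((Ideal.Quotient.mkₐ k I).comp (MvPolynomial.aeval y)) ∧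
      ((Ideal.Quotient.mkₐ k I).comp (MvPolynomial.aeval y)).toRingHom.IsIntegral := by
  intro n
  induction n with
  | zero =>
    intro I hI
    haveI := Ideal.Quotient.nontrivial_iff.mpr hI
    refine ⟨0, X, fun i => i.elim0, fun a b hab => ?_, ?_⟩
    · rw [eq_C_of_isEmpty a, eq_C_of_isEmpty b] at hab ⊢
      simp only [AlgHom.comp_apply, aeval_C, AlgHom.commutes] at hab
      rw [(algebraMap k (MvPolynomial (Fin 0) k ⧸ I)).injective hab]
    · exact RingHom.isIntegral_of_surjective _ (Ideal.Quotient.mk_surjective.comp fun p => ⟨p, by simp⟩)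
  | succ n ih =>
    intro I hI
    by_cases h0 : I = ⊥
    · subst h0
      refine ⟨n + 1, X, fun i => ⟨X i, by simp⟩, ?_, ?_⟩
      · rw [MvPolynomial.aeval_X_left]
        exact ((Ideal.Quotient.mk_bijective_iff_eq_bot _).mpr rfl).1
      · exact RingHom.isIntegral_of_surjective _ (Ideal.Quotient.mk_surjective.comp fun p => ⟨p, by simp⟩)
    · obtain ⟨y, hy, hint⟩ := NoetherNorm.step I h0
      haveI := Ideal.Quotient.nontrivial_iff.mpr hI
      let g := (Ideal.Quotient.mkₐ k I).comp (MvPolynomial.aeval y)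
      obtain ⟨r, z, hz, hzinj, hzint⟩ := ih (RingHom.ker g) (RingHom.ker_ne_top g)
      let ψ := Ideal.kerLiftAlg g
      have hcomp : ψ.comp (Ideal.Quotient.mkₐ k (RingHom.ker g)) = g := AlgHom.ext fun a => Ideal.kerLiftAlg_mk g a
      have hψ : ψ.toRingHom.IsIntegral :=
        RingHom.IsIntegral.tower_top (Ideal.Quotient.mkₐ k (RingHom.ker g)).toRingHom ψ.toRingHom
          (by show (ψ.comp (Ideal.Quotient.mkₐ k (RingHom.ker g))).toRingHom.IsIntegral; rw [hcomp]; exact hint)
      have heq : (Ideal.Quotient.mkₐ k I).comp (MvPolynomial.aeval fun i => MvPolynomial.aeval y (z i)) =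
          ψ.comp ((Ideal.Quotient.mkₐ k (RingHom.ker g)).comp (MvPolynomial.aeval z)) := by
        rw [← AlgHom.comp_assoc, hcomp]
        exact MvPolynomial.algHom_ext fun i => by simp [g]
      refine ⟨r, fun i => MvPolynomial.aeval y (z i), fun i => ?_, ?_, ?_⟩
      · choose y' hy' using hy
        obtain ⟨z', hz'⟩ := hz i
        refine ⟨MvPolynomial.aeval y' z', ?_⟩
        show _ = aeval y (z i)
        rw [← hz']
        show (MvPolynomial.map (Int.castRingHom k)) (aeval y' z') =
          (MvPolynomial.aeval y).toRingHom ((MvPolynomial.map (Int.castRingHom k)) z')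
        rw [← RingHom.comp_apply, ← AlgHom.coe_toRingHom (MvPolynomial.aeval y'), ← RingHom.comp_apply]
        congr 1
        refine MvPolynomial.ringHom_ext (fun a => by simp) fun j => ?_
        simp [hy' j]
      · rw [heq]
        exact (Ideal.kerLiftAlg_injective g).comp hzinj
      · rw [heq]
        exact hzint.trans _ _ hψ

end Groth.Agent.H3CAlg
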