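import Mathlib
import Groth.Agent.H3CAlg.McCoy

/-!
# Norms of integral elements after extending the coefficients
-/

set_option autoImplicit false

universe u

namespace Groth.Agent.H3CAlg.NormTensor

open scoped TensorProduct

/-- McCoy for square matrices. -/
theorem det_mem_nonZeroDivisors {R : Type u} [CommRing R] {n : ℕ} (M : Matrix (Fin n) (Fin n) R)
    (h : Function.Injective M.mulVec) : M.det ∈ nonZeroDivisors R := by
  classical
  have ha := McCoy.annihilator_of_injective M h
  rw [mem_nonZeroDivisors_iff_right]
  intro t ht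
  have hmem : t ∈ (CAlgX.minorIdeal M n).annihilator := Submodule.mem_annihilator.mpr fun z hz => by
    induction hz using Submodule.span_induction with
    | mem y hy =>
      obtain ⟨⟨f, g⟩, rfl⟩ := hy
      show t • (M.submatrix f g).det = 0
      by_cases hf : Function.Injective f
      · by_cases hg : Function.Injective g
        · let ef : Equiv.Perm (Fin n) := Equiv.ofBijective f (Finite.injective_iff_bijective.mp hf)
          let eg : Equiv.Perm (Fin n) := Equiv.ofBijective g (Finite.injective_iff_bijective.mp hg)
          have : (M.submatrix f g).det = (Equiv.Perm.sign ef * Equiv.Perm.sign eg : ℤˣ) * M.det := by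
            rw [show M.submatrix f g = (M.submatrix ef id).submatrix id eg from rfl,
              Matrix.det_permute', Matrix.det_permute, Units.val_mul, Int.cast_mul]
            ring
          rw [smul_eq_mul, this, mul_left_comm, ht, mul_zero]
        · rw [smul_eq_mul]
          obtain ⟨a, b, hab, hne⟩ := Function.not_injective_iff.mp hg
          rw [Matrix.det_zero_of_column_eq hne (fun k => by simp [hab]), mul_zero]
      · rw [smul_eq_mul]
        obtain ⟨a, b, hab, hne⟩ := Function.not_injective_iff.mp hf
        rw [Matrix.det_zero_of_row_eq hne (funext fun k => by simp [hab]), mul_zero]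
    | zero => rw [smul_zero]
    | add b c _ _ hb hc => rw [smul_add, hb, hc, add_zero]
    | smul c b _ hb => rw [smul_comm, hb, smul_zero]
  rwa [ha, Submodule.mem_bot] at hmem

/-- The determinant of a matrix killed by a monic polynomial with integral coefficients is integral. -/
theorem isIntegral_det {C F : Type u} [CommRing C] [CommRing F] [IsDomain F] [Algebra C F] {n : ℕ}
    (N : Matrix (Fin n) (Fin n) F) (p : Polynomial C) (hp : p.Monic) (hN : Polynomial.aeval N p = 0) :
    IsIntegral C N.det := by
  classical
  let Ω := AlgebraicClosure (FractionRing F)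
  let φ : F →ₐ[C] Ω := IsScalarTower.toAlgHom C F Ω
  have hφ : Function.Injective φ := by
    show Function.Injective (algebraMap F Ω)
    rw [IsScalarTower.algebraMap_eq F (FractionRing F) Ω, RingHom.coe_comp]
    exact (algebraMap (FractionRing F) Ω).injective.comp (IsFractionRing.injective F _)
  refine (isIntegral_algHom_iff φ hφ).mp ?_
  let N' : Matrix (Fin n) (Fin n) Ω := N.map φ
  have hN' : Polynomial.aeval N' p = 0 := by
    rw [show N' = (φ.mapMatrix : Matrix (Fin n) (Fin n) F →ₐ[C] Matrix (Fin n) (Fin n) Ω) N from rfl,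
      Polynomial.aeval_algHom_apply, hN, map_zero]
  rw [show φ N.det = N'.det from AlgHom.map_det φ N, Matrix.det_eq_prod_roots_charpoly]
  refine IsIntegral.multiset_prod fun μ hμ => ?_
  refine ⟨p, hp, ?_⟩
  have hspec : μ ∈ spectrum Ω N' := Matrix.mem_spectrum_iff_isRoot_charpoly.mpr
    (Polynomial.mem_roots'.mp hμ).2
  have h := spectrum.subset_polynomial_aeval N' (p.map (algebraMap C Ω)) ⟨μ, hspec, rfl⟩
  rw [Polynomial.aeval_map_algebraMap, hN'] at h
  simp only [Polynomial.eval_map] at h
  haveI : Nonempty (Fin n) := by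
    by_contra hne
    haveI := not_nonempty_iff.mp hne
    simp [Matrix.charpoly, Matrix.det_isEmpty] at hμ
  rw [spectrum.zero_eq, Set.mem_singleton_iff] at h
  exact h

variable {k A K L R : Type u} [Field k] [CommRing A] [IsDomain A] [IsIntegrallyClosed A] [Algebra k A]
  [Field K] [Algebra A K] [IsFractionRing A K] [Algebra k K] [IsScalarTower k A K]
  [Field L] [Algebra K L] [Algebra A L] [IsScalarTower A K L]
  [Algebra k L] [IsScalarTower k K L] [IsScalarTower k A L]
  [CommRing R] [Algebra k R]

variable (k K L R) in
/-- The structure map. -/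
noncomputable abbrev struct : K ⊗[k] R →+* L ⊗[k] R :=
  (Algebra.TensorProduct.map (IsScalarTower.toAlgHom k K L) (AlgHom.id k R)).toRingHom

theorem struct_tmul (c : K) (r : R) : struct k K L R (c ⊗ₜ r) = algebraMap K L c ⊗ₜ r := rfl

/-- A basis of the extended algebra. -/
theorem exists_basis [Algebra (K ⊗[k] R) (L ⊗[k] R)]
    (halg : ∀ x, algebraMap (K ⊗[k] R) (L ⊗[k] R) x = struct k K L R x)
    {n : ℕ} (b : Module.Basis (Fin n) K L) :
    ∃ β : Module.Basis (Fin n) (K ⊗[k] R) (L ⊗[k] R), ∀ i, β i = b i ⊗ₜ 1 := by
  classical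
  let e : Fin n → L ⊗[k] R := fun i => b i ⊗ₜ 1
  let Φ : (Fin n → K ⊗[k] R) →ₗ[K ⊗[k] R] L ⊗[k] R := Fintype.linearCombination (K ⊗[k] R) e
  let θ : L ⊗[k] R ≃ₗ[k] (Fin n → K ⊗[k] R) :=
    TensorProduct.congr (b.equivFun.restrictScalars k) (LinearEquiv.refl k R) ≪≫ₗ TensorProduct.piLeft k R (fun _ : Fin n => K)
  have hθ : ∀ v, Φ v = θ.symm v := by
    intro v
    rw [← Finset.univ_sum_single v, map_sum, map_sum]
    refine Finset.sum_congr rfl fun i _ => ?_
    generalize v i = x
    induction x using TensorProduct.induction_on with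
    | zero => rw [Pi.single_zero, map_zero, map_zero]
    | add x y hx hy => rw [Pi.single_add, map_add, map_add, hx, hy]
    | tmul c r =>
      rw [eq_comm, LinearEquiv.symm_apply_eq]
      simp only [Φ, Fintype.linearCombination_apply_single, e, Algebra.smul_def, halg, struct_tmul,
        Algebra.TensorProduct.tmul_mul_tmul, mul_one]
      ext j
      simp only [θ, LinearEquiv.trans_apply, TensorProduct.congr_tmul, LinearEquiv.refl_apply,
        TensorProduct.piLeft, LinearEquiv.piCongrRight_apply, TensorProduct.comm_tmul, TensorProduct.piRight_apply,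
        TensorProduct.piRightHom_tmul, LinearEquiv.restrictScalars_apply]
      rw [← Algebra.smul_def]
      by_cases h : i = j
      · subst h; simp
      · simp [h, Finsupp.single_eq_of_ne' h]
  have hΦ : Function.Bijective Φ := by
    have : (Φ : (Fin n → K ⊗[k] R) → L ⊗[k] R) = θ.symm := funext hθ
    rw [this]; exact θ.symm.bijective
  refine ⟨Module.Basis.ofEquivFun (LinearEquiv.ofBijective Φ hΦ).symm, fun i => ?_⟩
  rw [Module.Basis.ofEquivFun]
  simp [Φ, e, Fintype.linearCombination_apply_single]

theorem main_norm [Algebra (K ⊗[k] R) (L ⊗[k] R)] [FiniteDimensional K L]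
    (halg : ∀ x, algebraMap (K ⊗[k] R) (L ⊗[k] R) x = struct k K L R x) :
    Module.Free (K ⊗[k] R) (L ⊗[k] R) ∧ Module.Finite (K ⊗[k] R) (L ⊗[k] R) ∧
      ∀ b : (integralClosure A L) ⊗[k] R,
        Algebra.norm (K ⊗[k] R)
            (Algebra.TensorProduct.map ((integralClosure A L).val.restrictScalars k) (AlgHom.id k R) b) ∈
          Set.range (Algebra.TensorProduct.map (IsScalarTower.toAlgHom k A K) (AlgHom.id k R)) ∧
        (IsRegular b ↔ IsRegular (Algebra.norm (K ⊗[k] R)
            (Algebra.TensorProduct.map ((integralClosure A L).val.restrictScalars k) (AlgHom.id k R) b))) := by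
  classical
  let n := Module.finrank K L
  let bb : Module.Basis (Fin n) K L := Module.finBasis K L
  obtain ⟨β, hβ⟩ := exists_basis (R := R) halg bb
  refine ⟨Module.Free.of_basis β, Module.Finite.of_basis β, fun b => ?_⟩
  let ι := Algebra.TensorProduct.map ((integralClosure A L).val.restrictScalars k) (AlgHom.id k R)
  have hinj : Function.Injective ι := by
    have h := Module.Flat.rTensor_preserves_injective_linearMap (M := R)
      ((integralClosure A L).val.restrictScalars k).toLinearMap Subtype.val_injective
    exact h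
  obtain ⟨s, hs⟩ := TensorProduct.exists_finset b
  -- entries of the matrix of multiplication by `ι b`
  have hM : ∀ (y : L) (r : R), Algebra.leftMulMatrix β (y ⊗ₜ r) =
      (Algebra.leftMulMatrix bb y).map fun c => c ⊗ₜ[k] r := by
    intro y r
    ext i j
    rw [Algebra.leftMulMatrix_eq_repr_mul, hβ, Algebra.TensorProduct.tmul_mul_tmul, mul_one,
      Matrix.map_apply, Algebra.leftMulMatrix_eq_repr_mul]
    have hexp : (y * bb j) ⊗ₜ[k] r = ∑ l, (bb.repr (y * bb j) l ⊗ₜ[k] r) • β l := by
      conv_lhs => rw [← bb.sum_repr (y * bb j), TensorProduct.sum_tmul]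
      refine Finset.sum_congr rfl fun l _ => ?_
      rw [hβ, Algebra.smul_def (A := L ⊗[k] R), halg, struct_tmul, Algebra.TensorProduct.tmul_mul_tmul, mul_one,
        ← Algebra.smul_def]
    rw [hexp, Module.Basis.repr_sum_self]
  let σ := {x // x ∈ s}
  let P : MvPolynomial σ K :=
    (∑ x : σ, (MvPolynomial.X x : MvPolynomial σ K) • (Algebra.leftMulMatrix bb (x.1.1 : L)).map MvPolynomial.C).det
  -- `P` has integral coefficients
  have hPint : P ∈ Set.range (MvPolynomial.map (algebraMap A K) : MvPolynomial σ A → MvPolynomial σ K) := by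
    letI : Algebra (MvPolynomial σ A) (MvPolynomial σ K) := (MvPolynomial.map (algebraMap A K)).toAlgebra
    let T := MvPolynomial σ K ⊗[K] L
    have hamap : ∀ x, algebraMap (MvPolynomial σ A) T x = MvPolynomial.map (algebraMap A K) x ⊗ₜ[K] (1 : L) :=
      fun _ => rfl
    let γ := Algebra.TensorProduct.basis (MvPolynomial σ K) bb
    let z : T := ∑ x : σ, (MvPolynomial.X x : MvPolynomial σ K) ⊗ₜ[K] (x.1.1 : L)
    have hz : IsIntegral (MvPolynomial σ A) z := by
      refine IsIntegral.sum _ fun x _ => ?_
      have e : (MvPolynomial.X x : MvPolynomial σ K) ⊗ₜ[K] (x.1.1 : L) =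
          algebraMap (MvPolynomial σ A) T (MvPolynomial.X x) * ((1 : MvPolynomial σ K) ⊗ₜ[K] (x.1.1 : L)) := by
        rw [hamap, MvPolynomial.map_X, Algebra.TensorProduct.tmul_mul_tmul, mul_one, one_mul]
      rw [e]
      refine isIntegral_algebraMap.mul ?_
      obtain ⟨q, hq, hq0⟩ := x.1.1.2
      refine ⟨q.map MvPolynomial.C, hq.map _, ?_⟩
      rw [Polynomial.eval₂_map]
      have hc : (algebraMap (MvPolynomial σ A) T).comp MvPolynomial.C =
          (Algebra.TensorProduct.includeRight : L →ₐ[K] T).toRingHom.comp (algebraMap A L) := by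
        ext a
        rw [RingHom.comp_apply, RingHom.comp_apply, hamap, MvPolynomial.map_C,
          IsScalarTower.algebraMap_apply A K L]
        show _ = (1 : MvPolynomial σ K) ⊗ₜ[K] (algebraMap K L (algebraMap A K a))
        rw [Algebra.algebraMap_eq_smul_one (algebraMap A K a), TensorProduct.tmul_smul,
          TensorProduct.smul_tmul', MvPolynomial.smul_eq_C_mul, mul_one]
      rw [hc]
      exact (Polynomial.hom_eval₂ q (algebraMap A L) _ _).symm.trans (by rw [hq0, map_zero])
    have hdet : P = (Algebra.leftMulMatrix γ z).det := by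
      show Matrix.det _ = Matrix.det _
      congr 1
      simp only [z, map_sum]
      refine Finset.sum_congr rfl fun x _ => ?_
      ext i j
      rw [Algebra.leftMulMatrix_eq_repr_mul, Algebra.TensorProduct.basis_apply,
        Algebra.TensorProduct.tmul_mul_tmul, mul_one, Algebra.TensorProduct.basis_repr_tmul,
        Matrix.smul_apply, Matrix.map_apply, Algebra.leftMulMatrix_eq_repr_mul]
      simp [Finsupp.smul_apply, Finsupp.mapRange_apply]
    obtain ⟨q, hq, hq0⟩ := hz
    have hi : IsIntegral (MvPolynomial σ A) P := by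
      rw [hdet]
      refine isIntegral_det _ q hq ?_
      rw [show Algebra.leftMulMatrix γ z = ((Algebra.leftMulMatrix γ).restrictScalars (MvPolynomial σ A)) z from rfl,
        Polynomial.aeval_algHom_apply, show Polynomial.aeval z q = 0 from hq0, map_zero]
    have hc := MvPolynomial.isIntegral_iff_isIntegral_coeff.mp hi
    refine MvPolynomial.mem_range_map_iff_coeffs_subset.mpr ?_
    intro c hc'
    obtain ⟨m, -, rfl⟩ := MvPolynomial.mem_coeffs_iff.mp hc'
    exact IsIntegrallyClosed.algebraMap_eq_of_integral (hc m)
  obtain ⟨P₀, hP₀⟩ := hPint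
  -- evaluation
  let evK : MvPolynomial σ K →+* K ⊗[k] R :=
    MvPolynomial.eval₂Hom Algebra.TensorProduct.includeLeftRingHom fun x : σ => (1 : K) ⊗ₜ[k] x.1.2
  have hnorm : Algebra.norm (K ⊗[k] R) (ι b) = evK P := by
    rw [Algebra.norm_eq_matrix_det β, RingHom.map_det]
    congr 1
    rw [hs, map_sum, map_sum, map_sum, ← Finset.sum_coe_sort s]
    refine Finset.sum_congr rfl fun x _ => ?_
    rw [Algebra.TensorProduct.map_tmul, hM]
    ext i j
    simp [evK]
  let evA : MvPolynomial σ A →+* A ⊗[k] R :=
    MvPolynomial.eval₂Hom Algebra.TensorProduct.includeLeftRingHom fun x : σ => (1 : A) ⊗ₜ[k] x.1.2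
  refine ⟨⟨evA P₀, ?_⟩, ?_⟩
  · rw [hnorm, ← hP₀]
    have hcomm : (Algebra.TensorProduct.map (IsScalarTower.toAlgHom k A K) (AlgHom.id k R)).toRingHom.comp evA =
        evK.comp (MvPolynomial.map (algebraMap A K)) := by
      apply MvPolynomial.ringHom_ext
      · intro a; simp [evA, evK]
      · intro x; simp [evA, evK]
    exact RingHom.congr_fun hcomm P₀
  -- regularity
  have hreg : IsRegular b ↔ IsRegular (ι b) := by
    constructor
    · intro hb
      rw [← isLeftRegular_iff_isRegular, isLeftRegular_iff_right_eq_zero_of_mul]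
      intro x hx
      have hclear : ∀ x : L ⊗[k] R, ∃ a : A, a ≠ 0 ∧
          ∃ c, ι c = (algebraMap A L a ⊗ₜ[k] (1 : R)) * x := by
        intro x
        induction x using TensorProduct.induction_on with
        | zero => exact ⟨1, one_ne_zero, 0, by rw [map_zero, mul_zero]⟩
        | tmul l r =>
          haveI : Algebra.IsAlgebraic A L := (IsFractionRing.comap_isAlgebraic_iff (A := A) (K := K) (C := L)).mpr inferInstance
          obtain ⟨a, ha, hint⟩ := (Algebra.IsAlgebraic.isAlgebraic (R := A) l).exists_integral_multiple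
          refine ⟨a, ha, (⟨_, hint⟩ : integralClosure A L) ⊗ₜ r, ?_⟩
          rw [Algebra.TensorProduct.tmul_mul_tmul, one_mul, ← Algebra.smul_def]
          rfl
        | add x y hx hy =>
          obtain ⟨a, ha, c, hc⟩ := hx
          obtain ⟨a', ha', c', hc'⟩ := hy
          refine ⟨a * a', mul_ne_zero ha ha',
            ((algebraMap A (integralClosure A L) a') ⊗ₜ 1) * c + ((algebraMap A (integralClosure A L) a) ⊗ₜ 1) * c', ?_⟩
          rw [map_add, map_mul, map_mul, Algebra.TensorProduct.map_tmul, Algebra.TensorProduct.map_tmul, hc, hc']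
          have e : (algebraMap A L (a * a')) ⊗ₜ[k] (1 : R) = (algebraMap A L a ⊗ₜ 1) * (algebraMap A L a' ⊗ₜ 1) := by
            rw [Algebra.TensorProduct.tmul_mul_tmul, mul_one, map_mul]
          rw [e, mul_add]
          simp only [AlgHom.restrictScalars_apply, Subalgebra.coe_val, map_one, AlgHom.id_apply, ι]
          rw [show ((algebraMap A (integralClosure A L) a' : integralClosure A L) : L) = algebraMap A L a' from rfl,
            show ((algebraMap A (integralClosure A L) a : integralClosure A L) : L) = algebraMap A L a from rfl]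
          ring
      obtain ⟨a, ha, c, hc⟩ := hclear x
      have hbc : b * c = 0 := hinj (by rw [map_mul, hc, map_zero, mul_left_comm, hx, mul_zero])
      have hc0 : c = 0 := hb.left (by simpa using hbc)
      rw [hc0, map_zero] at hc
      have hu : IsUnit (algebraMap A L a ⊗ₜ[k] (1 : R)) := by
        refine IsUnit.map (Algebra.TensorProduct.includeLeftRingHom : L →+* L ⊗[k] R) ?_
        refine isUnit_iff_ne_zero.mpr fun h => ha ?_
        rw [IsScalarTower.algebraMap_apply A K L, map_eq_zero] at h
        exact IsFractionRing.injective A K (h.trans (map_zero _).symm)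
      exact hu.mul_right_eq_zero.mp hc.symm
    · intro h
      rw [← isLeftRegular_iff_isRegular, isLeftRegular_iff_right_eq_zero_of_mul] at h ⊢
      intro y hy
      exact hinj ((h (ι y) (by rw [← map_mul, hy, map_zero])).trans (map_zero ι).symm)
  rw [hreg, Algebra.norm_eq_matrix_det β]
  have hlm : ∀ v, (Algebra.leftMulMatrix β (ι b)).mulVec v = β.equivFun (ι b * β.equivFun.symm v) := fun v => by
    have := Algebra.leftMulMatrix_mulVec_repr β (ι b) (β.equivFun.symm v)
    simpa [Module.Basis.equivFun] using this
  constructor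
  · intro h
    have h' := det_mem_nonZeroDivisors (Algebra.leftMulMatrix β (ι b)) fun v w hvw => by
      rw [hlm, hlm] at hvw
      exact β.equivFun.symm.injective (h.left (β.equivFun.injective hvw))
    exact isRegular_iff_mem_nonZeroDivisors.mpr h'
  · intro h
    have hd := Matrix.mulVec_injective_of_det_mem_nonZeroDivisors (isRegular_iff_mem_nonZeroDivisors.mp h)
    rw [← isLeftRegular_iff_isRegular]
    intro v w hvw
    apply β.equivFun.injective
    apply hd
    rw [hlm, hlm, β.equivFun.symm_apply_apply, β.equivFun.symm_apply_apply]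
    exact congrArg β.equivFun hvw

end Groth.Agent.H3CAlg.NormTensor
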