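import Groth.Agent.H3CAlg.ProdPt
import Groth.Agent.H3CAlg.TorComm
import Groth.Agent.H17.Reduced
import Groth.Agent.S1582
import Mathlib

/-! The generic point of a product of two point closures, and reduction to the diagonal. -/

set_option autoImplicit false
set_option linter.style.haveILetI false

universe u

open AlgebraicGeometry CategoryTheory CategoryTheory.Limits TopologicalSpace Topology
open Groth.Agent.H8Props.FieldDim

namespace Groth.Agent.H3CAlg.PairPt

theorem isIntegral_ptIdeal {X : Scheme.{u}} (a : X) : IsIntegral (IntMult.ptIdeal a).subscheme := by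
  haveI : IsReduced (IntMult.ptIdeal a).subscheme := H17.isReduced_vanishingIdeal_subscheme _
  have hr : Set.range (IntMult.ptIdeal a).subschemeι = closure {a} :=
    H17.range_vanishingIdeal_subschemeι (⟨closure {a}, isClosed_closure⟩ : Closeds X)
  haveI : IrreducibleSpace (IntMult.ptIdeal a).subscheme := by
    have he := (IntMult.ptIdeal a).subschemeι.isEmbedding
    obtain ⟨d, hd⟩ : a ∈ Set.range (IntMult.ptIdeal a).subschemeι := by rw [hr]; exact subset_closure rfl
    have hgen : IsGenericPoint d (Set.univ : Set (IntMult.ptIdeal a).subscheme) := by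
      refine (isGenericPoint_def).mpr (Set.eq_univ_of_forall fun e => ?_)
      rw [he.closure_eq_preimage_closure_image, Set.image_singleton, hd, Set.mem_preimage, ← hr]
      exact Set.mem_range_self e
    haveI : Nonempty (IntMult.ptIdeal a).subscheme := ⟨d⟩
    haveI : PreirreducibleSpace (IntMult.ptIdeal a).subscheme := ⟨hgen.isIrreducible.isPreirreducible⟩
    exact ⟨inferInstance⟩
  exact isIntegral_of_irreducibleSpace_of_isReduced _

theorem range_ptIdeal {X : Scheme.{u}} (a : X) : Set.range (IntMult.ptIdeal a).subschemeι = closure {a} :=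
  H17.range_vanishingIdeal_subschemeι (⟨closure {a}, isClosed_closure⟩ : Closeds X)

variable {K : Type u} [Field K] [IsAlgClosed K] {X Y : Scheme.{u}} (f : X ⟶ Spec (CommRingCat.of K))
  (g : Y ⟶ Spec (CommRingCat.of K))

/-- The product of two point closures inside the product. -/
noncomputable abbrev incl (a : X) (b : Y) :
    pullback ((IntMult.ptIdeal a).subschemeι ≫ f) ((IntMult.ptIdeal b).subschemeι ≫ g) ⟶ pullback f g :=
  pullback.map _ _ f g (IntMult.ptIdeal a).subschemeι (IntMult.ptIdeal b).subschemeι (𝟙 _)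
    (Category.comp_id _) (Category.comp_id _)

omit [IsAlgClosed K] in
theorem range_incl (a : X) (b : Y) :
    Set.range (incl f g a b) = pullback.fst f g ⁻¹' closure {a} ∩ pullback.snd f g ⁻¹' closure {b} := by
  rw [Scheme.Pullback.range_map, range_ptIdeal, range_ptIdeal]

variable [IsSeparated f] [IsSeparated g] [LocallyOfFiniteType f] [LocallyOfFiniteType g] [QuasiCompact f]
  [QuasiCompact g]

theorem isIntegral_source (a : X) (b : Y) :
    IsIntegral (pullback ((IntMult.ptIdeal a).subschemeι ≫ f) ((IntMult.ptIdeal b).subschemeι ≫ g)) := by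
  haveI := isIntegral_ptIdeal a
  haveI := isIntegral_ptIdeal b
  exact S1582.result K _ _ _ _

/-- The generic point of `closure a × closure b`. -/
noncomputable def pr (a : X) (b : Y) : ↥(pullback f g) :=
  haveI := isIntegral_source f g a b
  incl f g a b (genericPoint _)

theorem pr_specializes (a : X) (b : Y) {z : ↥(pullback f g)} (ha : a ⤳ pullback.fst f g z)
    (hb : b ⤳ pullback.snd f g z) : pr f g a b ⤳ z := by
  haveI := isIntegral_source f g a b
  obtain ⟨w, rfl⟩ : z ∈ Set.range (incl f g a b) := by
    rw [range_incl]; exact ⟨specializes_iff_mem_closure.mp ha, specializes_iff_mem_closure.mp hb⟩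
  exact (genericPoint_specializes w).map (incl f g a b).continuous

theorem fst_pr (a : X) (b : Y) : pullback.fst f g (pr f g a b) = a ∧ pullback.snd f g (pr f g a b) = b := by
  haveI := isIntegral_source f g a b
  obtain ⟨z, hpz, hqz, -⟩ := H06EGA9.exists_point_add (IsPullback.of_hasPullback f g) a b
  have h := pr_specializes f g a b (specializes_of_eq hpz.symm) (specializes_of_eq hqz.symm)
  have hm : pr f g a b ∈ Set.range (incl f g a b) := ⟨_, rfl⟩
  rw [range_incl] at hm
  refine ⟨((h.map (pullback.fst f g).continuous).trans (specializes_of_eq hpz)).antisymm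
      (specializes_iff_mem_closure.mpr hm.1) |>.eq, ?_⟩
  exact (((h.map (pullback.snd f g).continuous).trans (specializes_of_eq hqz)).antisymm
      (specializes_iff_mem_closure.mpr hm.2)).eq

theorem cdim_pr (a : X) (b : Y) : cdim (pr f g a b) = cdim a + cdim b := by
  refine le_antisymm ?_ ?_
  · have := H06EGA9.cdim_le_add (IsPullback.of_hasPullback f g) (pr f g a b)
    rwa [(fst_pr f g a b).1, (fst_pr f g a b).2] at this
  · obtain ⟨z, hpz, hqz, hd⟩ := H06EGA9.exists_point_add (IsPullback.of_hasPullback f g) a b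
    rw [← hd]
    exact dim_mono (specializes_iff_closure_subset.mp
      (pr_specializes f g a b (specializes_of_eq hpz.symm) (specializes_of_eq hqz.symm)))

theorem eq_pr (z : ↥(pullback f g))
    (hz : cdim z = cdim (pullback.fst f g z) + cdim (pullback.snd f g z)) :
    z = pr f g (pullback.fst f g z) (pullback.snd f g z) := by
  by_contra hne
  have := cdim_lt (pullback.fst f g ≫ f) (pr_specializes f g _ _ specializes_rfl specializes_rfl)
    (fun e => hne e.symm)
  rw [cdim_pr, hz] at this
  exact lt_irrefl _ this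

theorem stalkIdeal_pr (a : X) (b : Y) {z : ↥(pullback f g)} (ha : a ⤳ pullback.fst f g z)
    (hb : b ⤳ pullback.snd f g z) :
    IntMult.stalkIdeal (IntMult.ptIdeal (pr f g a b)) z =
      IntMult.stalkIdeal ((IntMult.ptIdeal a).comap (pullback.fst f g) ⊔
        (IntMult.ptIdeal b).comap (pullback.snd f g)) z := by
  haveI := isIntegral_source f g a b
  haveI : MorphismProperty.IsStableUnderComposition @IsClosedImmersion.{u} :=
    ⟨fun f g _ _ => inferInstance⟩
  haveI : IsClosedImmersion (incl f g a b) :=
    MorphismProperty.pullbackMap (P := @IsClosedImmersion.{u})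
      (inferInstanceAs (IsClosedImmersion (IntMult.ptIdeal a).subschemeι))
      (inferInstanceAs (IsClosedImmersion (IntMult.ptIdeal b).subschemeι)) rfl rfl
  rw [← DiagStalk.ker_map]
  obtain ⟨w, rfl⟩ : z ∈ Set.range (incl f g a b) := by
    rw [range_incl]; exact ⟨specializes_iff_mem_closure.mp ha, specializes_iff_mem_closure.mp hb⟩
  have hs : pr f g a b ⤳ incl f g a b w := (genericPoint_specializes w).map (incl f g a b).continuous
  refine le_antisymm ?_ (IntPt.stalkIdeal_le_of_mem_support _ hs ((incl f g a b).range_subset_ker_support ⟨_, rfl⟩))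
  have hp : (IntMult.stalkIdeal (incl f g a b).ker (incl f g a b w)).IsPrime := by
    rw [IntPt.stalkIdeal_ker]
    exact RingHom.ker_isPrime _
  let 𝔭 : PrimeSpectrum ((pullback f g).presheaf.stalk (incl f g a b w)) := ⟨_, hp⟩
  have h1 := (IntLocal.stalkIdeal_le_iff _ ((incl f g a b).range_subset_ker_support ⟨w, rfl⟩) 𝔭).mp le_rfl
  rw [← SetLike.mem_coe, Scheme.Hom.support_ker, (incl f g a b).isClosedEmbedding.isClosed_range.closure_eq] at h1
  obtain ⟨w', hw'⟩ := h1
  refine (IntLocal.stalkIdeal_le_iff _ (hs.mem_closed (IntMult.ptIdeal _).support.isClosed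
    (ProdPt.mem_support_ptIdeal _)) 𝔭).mpr ?_
  rw [← hw']
  exact ((genericPoint_specializes w').map (incl f g a b).continuous).mem_closed
    (IntMult.ptIdeal _).support.isClosed (ProdPt.mem_support_ptIdeal _)

theorem extProd_pr (δX : X → ℤ) (δY : Y → ℤ) (δ : ↥(pullback f g) → ℤ) (α : X → ℤ) (β : Y → ℤ) (a : X) (b : Y)
    (hd : δ (pr f g a b) = δX a + δY b) :
    IntMult.extProd f g δX δY δ α β (pr f g a b) = α a * β b := by
  have h := stalkIdeal_pr f g a b (z := pr f g a b) (specializes_of_eq (fst_pr f g a b).1.symm)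
    (specializes_of_eq (fst_pr f g a b).2.symm)
  obtain ⟨ea, eb⟩ := fst_pr f g a b
  revert h hd ea eb
  generalize pr f g a b = z
  intro hd h ea eb
  subst ea eb
  rw [IntPt.stalkIdeal_ptIdeal_self, DiagStalk.stalkIdeal_sup, ProdPt.stalkIdeal_comap_pt,
    ProdPt.stalkIdeal_comap_pt] at h
  rw [IntMult.extProd, if_pos hd, ← h]
  haveI := isSimpleModule_iff_isCoatom.mpr (IsLocalRing.maximalIdeal.isMaximal ((pullback f g).presheaf.stalk z)).out
  rw [Module.length_eq_one]
  simp

theorem stalkIdeal_generic {W P : Scheme.{u}} [IsIntegral W] (i : W ⟶ P) [IsClosedImmersion i] (x : W) :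
    IntMult.stalkIdeal (IntMult.ptIdeal (i (genericPoint W))) (i x) = RingHom.ker (i.stalkMap x).hom := by
  have hη : i (genericPoint W) ⤳ i x := (genericPoint_specializes x).map i.continuous
  rw [← IntPt.stalkIdeal_ker i x]
  refine le_antisymm ?_ (IntPt.stalkIdeal_le_of_mem_support _ hη (i.range_subset_ker_support ⟨_, rfl⟩))
  have hp : (IntMult.stalkIdeal i.ker (i x)).IsPrime := by
    rw [IntPt.stalkIdeal_ker]
    exact RingHom.ker_isPrime _
  let 𝔭 : PrimeSpectrum (P.presheaf.stalk (i x)) := ⟨_, hp⟩
  have h1 := (IntLocal.stalkIdeal_le_iff _ (i.range_subset_ker_support ⟨x, rfl⟩) 𝔭).mp le_rfl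
  rw [← SetLike.mem_coe, Scheme.Hom.support_ker, i.isClosedEmbedding.isClosed_range.closure_eq] at h1
  obtain ⟨w', hw'⟩ := h1
  refine (IntLocal.stalkIdeal_le_iff _ (hη.mem_closed (IntMult.ptIdeal _).support.isClosed
    (ProdPt.mem_support_ptIdeal _)) 𝔭).mpr ?_
  rw [← hw']
  exact ((genericPoint_specializes w').map i.continuous).mem_closed
    (IntMult.ptIdeal _).support.isClosed (ProdPt.mem_support_ptIdeal _)

omit [IsSeparated g] [LocallyOfFiniteType g] [QuasiCompact g] in
theorem mult_diag [Smooth f] [IsIntegral X] (n : ℕ) (hn : topologicalKrullDim X = n) (a b x : X)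
    (ha : a ⤳ x) (hb : b ⤳ x) :
    IntMult.mult (IntMult.ptIdeal (pullback.diagonal f (genericPoint X))) (IntMult.ptIdeal (pr f f a b))
        (pullback.diagonal f x) =
      IntMult.mult (IntMult.ptIdeal a) (IntMult.ptIdeal b) x := by
  haveI : IsLocallyNoetherian X := LocallyOfFiniteType.isLocallyNoetherian f
  haveI : IsLocallyNoetherian (pullback f f) := LocallyOfFiniteType.isLocallyNoetherian (pullback.fst f f ≫ f)
  haveI : IsClosedImmersion (pullback.diagonal f) := IsSeparated.isClosedImmersion_diagonal
  haveI := DiagRegular.smoothOfRelativeDimension f n hn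
  haveI : SmoothOfRelativeDimension n (pullback.fst f f) :=
    (smoothOfRelativeDimension_isStableUnderBaseChange (n := n)).of_isPullback
      (IsPullback.of_hasPullback f f).flip ‹_›
  obtain ⟨-, hsec⟩ := DiagRegular.isRegularImmersionOfCodim (pullback.fst f f) n
    (pullback.diagonal f) (pullback.diagonal_fst f)
  obtain ⟨U, hxU, hcl, rs, -, hreg, hker⟩ := hsec x
  let z := pullback.diagonal f x
  let gm := ((pullback f f).presheaf.germ U.1 z hxU).hom
  have hker' : RingHom.ker ((pullback.diagonal f).stalkMap x).hom = Ideal.ofList (rs.map gm) := by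
    haveI := hcl
    rw [H17.ker_stalkMap_eq_map (pullback.diagonal f) U.2 x hxU, hker, Ideal.map_ofList]
  have hwreg : RingTheory.Sequence.IsWeaklyRegular ((pullback f f).presheaf.stalk z) (rs.map gm) := by
    letI : Algebra Γ(pullback f f, U.1) ((pullback f f).presheaf.stalk z) := gm.toAlgebra
    haveI : IsLocalization.AtPrime ((pullback f f).presheaf.stalk z) (U.2.primeIdealOf ⟨z, hxU⟩).asIdeal :=
      U.2.isLocalization_stalk ⟨z, hxU⟩
    haveI : Module.Flat Γ(pullback f f, U.1) ((pullback f f).presheaf.stalk z) :=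
      IsLocalization.flat _ (U.2.primeIdealOf ⟨z, hxU⟩).asIdeal.primeCompl
    exact hreg.toIsWeaklyRegular.of_flat
  haveI : Flat (((IntMult.ptIdeal b).comap (pullback.snd f f)).subschemeι ≫ pullback.fst f f) := by
    have h : Flat (pullback.fst (pullback.snd f f) (IntMult.ptIdeal b).subschemeι ≫ pullback.fst f f) := by
      have hp := (IsPullback.of_hasPullback (pullback.snd f f) (IntMult.ptIdeal b).subschemeι).paste_horiz
        (IsPullback.of_hasPullback f f)
      exact MorphismProperty.of_isPullback hp.flip (inferInstance : Flat ((IntMult.ptIdeal b).subschemeι ≫ f))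
    rw [← Scheme.IdealSheafData.comapIso_hom_fst (IntMult.ptIdeal b) (pullback.snd f f), Category.assoc]
    infer_instance
  have hbmem : x ∈ (IntMult.ptIdeal b).support :=
    hb.mem_closed (IntMult.ptIdeal b).support.isClosed (ProdPt.mem_support_ptIdeal b)
  have hmem : z ∈ ((IntMult.ptIdeal b).comap (pullback.snd f f)).support := by
    rw [Scheme.IdealSheafData.support_comap]
    show pullback.snd f f (pullback.diagonal f x) ∈ (IntMult.ptIdeal b).support
    rw [← Scheme.Hom.comp_apply, pullback.diagonal_snd]
    exact hbmem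
  have hdiag : IntMult.stalkIdeal (IntMult.ptIdeal (pullback.diagonal f (genericPoint X))) z =
      RingHom.ker ((pullback.diagonal f).stalkMap x).hom := stalkIdeal_generic (pullback.diagonal f) x
  have e1 : pullback.fst f f z = x := by rw [← Scheme.Hom.comp_apply, pullback.diagonal_fst]; rfl
  have e2 : pullback.snd f f z = x := by rw [← Scheme.Hom.comp_apply, pullback.diagonal_snd]; rfl
  have hprod := stalkIdeal_pr f f a b (z := z) (by rw [e1]; exact ha) (by rw [e2]; exact hb)
  show IntMult.chi ((pullback f f).presheaf.stalk z)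
      ((pullback f f).presheaf.stalk z ⧸ IntMult.stalkIdeal (IntMult.ptIdeal (pr f f a b)) z)
      ((pullback f f).presheaf.stalk z ⧸
        IntMult.stalkIdeal (IntMult.ptIdeal (pullback.diagonal f (genericPoint X))) z) = _
  rw [hdiag, hprod]
  rw [DiagStalk.stalkIdeal_sup,
    DiagStalk.stalkIdeal_leg (pullback.diagonal f) (pullback.fst f f) (pullback.diagonal_fst f),
    DiagStalk.stalkIdeal_leg (pullback.diagonal f) (pullback.snd f f) (pullback.diagonal_snd f)]
  have hflat := DiagStalk.flat_quotient (pullback.diagonal f) (pullback.fst f f)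
    (pullback.diagonal_fst f) x ((IntMult.ptIdeal b).comap (pullback.snd f f)) hmem
  rw [DiagStalk.stalkIdeal_leg (pullback.diagonal f) (pullback.snd f f) (pullback.diagonal_snd f)] at hflat
  refine (TorComm.chi_comm _ _ _).trans (DiagStalk.chi_eq _ _ _
    (congrArg CommRingCat.Hom.hom (DiagStalk.leg_stalkMap (pullback.diagonal f) _ (pullback.diagonal_fst f) x))
    (congrArg CommRingCat.Hom.hom (DiagStalk.leg_stalkMap (pullback.diagonal f) _ (pullback.diagonal_snd f) x))
    (rs.map gm) hker'.symm hwreg (DiagStalk.flat_leg _ _ (pullback.diagonal_snd f) x) _ _ hflat).symm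

end Groth.Agent.H3CAlg.PairPt
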