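import Groth.Agent.H9Hens.StrictTensor
import Mathlib

/-!
# Extensions of a henselian discrete valuation ring with perfect residue field
-/

set_option autoImplicit false
set_option synthInstance.maxHeartbeats 80000
set_option linter.unusedSectionVars false
set_option linter.style.haveILetI false
universe u

open Polynomial IsLocalRing

noncomputable section

namespace Groth.Agent.H3CAlg.PerfResDvr

variable (R L : Type u) [CommRing R] [IsDomain R] [IsDiscreteValuationRing R] [Field L] [Algebra R L]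
  (ϖ : R) (p : ℕ)

/-- A finite stage. -/
structure Good (A : Subalgebra R L) : Prop where
  finite : Module.Finite R A
  free : Module.Free R A
  rank : ∃ m : ℕ, Module.finrank R A = p ^ m
  unit : ∀ x : A, IsUnit x ∨ algebraMap R A ϖ ∣ x
  insep : ∀ y : A, ∃ (m : ℕ) (z : R), algebraMap R A ϖ ∣ algebraMap R A z - y ^ (p ^ m)

variable {R L ϖ p}

omit [IsDomain R] [IsDiscreteValuationRing R] in
theorem exists_eq_pow_mul {B : Type*} [CommRing B] (π : B) (hu : ∀ x : B, IsUnit x ∨ π ∣ x)
    (hinf : ⨅ i : ℕ, Ideal.span {π} ^ i = ⊥) {x : B} (hx : x ≠ 0) : ∃ (n : ℕ) (v : Bˣ), x = π ^ n * v := by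
  classical
  have h : ∃ n, ¬ π ^ (n + 1) ∣ x := by
    by_contra hall
    push Not at hall
    refine hx ((Ideal.mem_bot).mp (hinf ▸ Ideal.mem_iInf.mpr fun i => ?_))
    rw [Ideal.span_singleton_pow, Ideal.mem_span_singleton]
    exact (pow_dvd_pow _ (Nat.le_succ i)).trans (hall i)
  obtain ⟨n, hn⟩ : ∃ n, Nat.find h = n := ⟨_, rfl⟩
  have hspec := Nat.find_spec h
  rw [hn] at hspec
  obtain ⟨v, hv⟩ : π ^ n ∣ x := by
    cases n with
    | zero => rw [pow_zero]; exact one_dvd _
    | succ n => exact not_not.mp (Nat.find_min h (by omega))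
  rcases hu v with hu' | ⟨w, hw⟩
  · exact ⟨n, hu'.unit, hv⟩
  · exact absurd (⟨w, hv.trans (by rw [hw, pow_succ, mul_assoc])⟩ : π ^ (n + 1) ∣ x) hspec

theorem not_isUnit_algebraMap (hinj : Function.Injective (algebraMap R L)) {A : Subalgebra R L}
    [Algebra.IsIntegral R A] (hϖ : ¬ IsUnit ϖ) : ¬ IsUnit (algebraMap R A ϖ) := fun h => by
  have hinj' : Function.Injective (algebraMap R A) := fun a b e => hinj (congrArg (fun x : A => (x : L)) e)
  haveI := (algebraMap_isIntegral_iff.mpr ‹Algebra.IsIntegral R A›).isLocalHom hinj'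
  exact hϖ (isUnit_of_map_unit (algebraMap R A) ϖ h)

theorem Good.unit_mul_pow (hinj : Function.Injective (algebraMap R L)) (hϖ : ¬ IsUnit ϖ) {A : Subalgebra R L}
    (hA : Good R L ϖ p A) {x : A} (hx : x ≠ 0) : ∃ (n : ℕ) (v : Aˣ), x = algebraMap R A ϖ ^ n * v := by
  haveI := hA.finite
  haveI : IsNoetherianRing A := IsNoetherianRing.of_finite R A
  exact exists_eq_pow_mul _ hA.unit (Ideal.iInf_pow_eq_bot_of_isDomain _ fun h =>
    not_isUnit_algebraMap hinj hϖ (Ideal.span_singleton_eq_top.mp h)) hx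

theorem good_bot (hinj : Function.Injective (algebraMap R L)) (hmax : maximalIdeal R = Ideal.span {ϖ}) :
    Good R L ϖ p ⊥ := by
  let e : (⊥ : Subalgebra R L) ≃ₐ[R] R := Algebra.botEquivOfInjective hinj
  refine ⟨Module.Finite.equiv e.toLinearEquiv.symm, Module.Free.of_equiv e.toLinearEquiv.symm,
    ⟨0, by rw [e.toLinearEquiv.finrank_eq, Module.finrank_self, pow_zero]⟩, fun x => ?_, fun y => ?_⟩
  · rcases em (IsUnit (e x)) with h | h
    · exact Or.inl (by simpa using h.map e.symm)
    · have h' : e x ∈ Ideal.span {ϖ} := by rw [← hmax]; exact h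
      obtain ⟨c, hc⟩ := Ideal.mem_span_singleton.mp h'
      refine Or.inr ⟨algebraMap R _ c, ?_⟩
      rw [← map_mul, ← hc]
      exact e.injective (by rw [AlgEquiv.commutes]; rfl)
  · refine ⟨0, e y, ⟨0, ?_⟩⟩
    rw [mul_zero, pow_zero, pow_one, sub_eq_zero]
    exact e.injective (by rw [AlgEquiv.commutes]; rfl)

/-- The properties of a stage transported along an isomorphism. -/
theorem Good.of_algEquiv {B : Type u} [CommRing B] [Algebra R B] [Module.Finite R B] [Module.Free R B]
    (hrank : ∃ m : ℕ, Module.finrank R B = p ^ m) (hunit : ∀ x : B, IsUnit x ∨ algebraMap R B ϖ ∣ x)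
    (hins : ∀ y : B, ∃ (m : ℕ) (z : R), algebraMap R B ϖ ∣ algebraMap R B z - y ^ (p ^ m))
    (A : Subalgebra R L) (e : B ≃ₐ[R] A) : Good R L ϖ p A := by
  refine ⟨Module.Finite.equiv e.toLinearEquiv, Module.Free.of_equiv e.toLinearEquiv,
    by rw [← e.toLinearEquiv.finrank_eq]; exact hrank, fun x => ?_, fun y => ?_⟩
  · rcases hunit (e.symm x) with hu | hd
    · exact Or.inl (e.apply_symm_apply x ▸ hu.map e)
    · have := map_dvd e hd
      rw [e.commutes, e.apply_symm_apply] at this
      exact Or.inr this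
  · obtain ⟨m, z, hz⟩ := hins (e.symm y)
    have := map_dvd e hz
    rw [map_sub, map_pow, e.commutes, e.commutes, e.apply_symm_apply] at this
    exact ⟨m, z, this⟩

set_option maxHeartbeats 1000000 in
/-- Adjoining a `p`-th root of an element whose residue class is not a `p`-th power. -/
theorem good_adjoin (hinj : Function.Injective (algebraMap R L)) (hϖ : ¬ IsUnit ϖ) (hp : p.Prime) (hϖ0 : ϖ ≠ 0)
    (hpϖ : ϖ ∣ (p : R)) {A : Subalgebra R L} (hA : Good R L ϖ p A) (a : A) (t : L) (ht : t ^ p = (a : L))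
    (hna : ∀ z : A, ¬ algebraMap R A ϖ ∣ z ^ p - a) : Good R L ϖ p (A ⊔ Algebra.adjoin R {t}) := by
  classical
  haveI := hA.finite
  haveI := hA.free
  haveI : IsNoetherianRing A := IsNoetherianRing.of_finite R A
  let π : A := algebraMap R A ϖ
  have hπ : ¬ IsUnit π := not_isUnit_algebraMap hinj hϖ
  have hmax : (Ideal.span {π}).IsMaximal := by
    refine Ideal.isMaximal_iff.mpr ⟨fun h => hπ ?_, fun J x hJ hx hxJ => ?_⟩
    · exact Ideal.span_singleton_eq_top.mp ((Ideal.eq_top_iff_one _).mpr h)
    · rcases hA.unit x with hu | hd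
      · exact (Ideal.eq_top_iff_one _).mp (Ideal.eq_top_of_isUnit_mem _ hxJ hu)
      · exact absurd (Ideal.mem_span_singleton.mpr hd) hx
  let f : A[X] := X ^ p - C a
  have hf : f.Monic := monic_X_pow_sub_C a hp.ne_zero
  let B := AdjoinRoot f
  haveI : Module.Finite A B := (AdjoinRoot.powerBasis' hf).finite
  haveI : Module.Free A B := Module.Free.of_basis (AdjoinRoot.powerBasis' hf).basis
  haveI : Module.Finite R B := Module.Finite.trans A B
  haveI : Module.Free R B := Module.Free.trans (R := R) (S := A) (M := B)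
  haveI : IsNoetherianRing B := IsNoetherianRing.of_finite A B
  let πB : B := algebraMap A B π
  -- the special fibre is a field
  have hfield : (Ideal.span {πB}).IsMaximal := by
    let k₀ := A ⧸ Ideal.span {π}
    letI : Field k₀ := Ideal.Quotient.field _
    have hirr : Irreducible (f.map (Ideal.Quotient.mk (Ideal.span {π}))) := by
      rw [Polynomial.map_sub, Polynomial.map_pow, map_X, map_C]
      refine X_pow_sub_C_irreducible_of_prime hp fun b hb => ?_
      obtain ⟨z, rfl⟩ := Ideal.Quotient.mk_surjective b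
      rw [← map_pow, Ideal.Quotient.eq] at hb
      exact hna z (Ideal.mem_span_singleton.mp hb)
    have hF : IsField (k₀[X] ⧸ Ideal.span {f.map (Ideal.Quotient.mk (Ideal.span {π}))}) :=
      (Ideal.Quotient.maximal_ideal_iff_isField_quotient _).mp (PrincipalIdealRing.isMaximal_of_irreducible hirr)
    have e := AdjoinRoot.quotAdjoinRootEquivQuotPolynomialQuot (Ideal.span {π}) f
    refine Ideal.Quotient.maximal_of_isField _ ?_
    refine MulEquiv.isField hF ((Ideal.quotEquivOfEq ?_).trans e).toMulEquiv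
    rw [Ideal.map_span, Set.image_singleton]
    rfl
  have hunit : ∀ x : B, IsUnit x ∨ πB ∣ x := fun x => by
    rcases em (IsUnit x) with h | h
    · exact Or.inl h
    · obtain ⟨M, hM, hxM⟩ := exists_max_ideal_of_mem_nonunits h
      haveI := hM
      haveI : (M.comap (algebraMap A B)).IsMaximal := Ideal.isMaximal_comap_of_isIntegral_of_isMaximal M
      have hπM : π ∈ M.comap (algebraMap A B) := by
        rcases hA.unit π with hu | -
        · exact absurd hu hπ
        · by_contra hn
          obtain ⟨y, i, hi, hy⟩ := (‹(M.comap (algebraMap A B)).IsMaximal›).exists_inv hn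
          rcases hA.unit i with hu | hd
          · exact ‹(M.comap (algebraMap A B)).IsMaximal›.ne_top (Ideal.eq_top_of_isUnit_mem _ hi hu)
          · exact hπ (isUnit_of_dvd_one (hy ▸ dvd_add (dvd_mul_left π y) hd))
      have : Ideal.span {πB} ≤ M := (Ideal.span_singleton_le_iff_mem _).mpr hπM
      rw [← hfield.eq_of_le hM.ne_top this] at hxM
      exact Or.inr (Ideal.mem_span_singleton.mp hxM)
  -- the map to L
  have haev : f.eval₂ (↑(Algebra.ofId A L) : A →+* L) t = 0 := by
    show Polynomial.aeval t f = 0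
    simp [f, ht]
  let φ : B →ₐ[A] L := AdjoinRoot.liftAlgHom f (Algebra.ofId A L) t haev
  have hφinj : Function.Injective φ := by
    haveI : IsLocalRing B := IsLocalRing.of_unique_max_ideal ⟨_, hfield, fun M hM => by
      refine hM.eq_of_le hfield.ne_top fun x hx => ?_
      rcases hunit x with hu | hd
      · exact absurd (Ideal.eq_top_of_isUnit_mem _ hx hu) hM.ne_top
      · exact Ideal.mem_span_singleton.mpr hd⟩
    rw [injective_iff_map_eq_zero]
    intro x hx
    by_contra hx0
    have hπL : φ πB ≠ 0 := by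
      rw [AlgHom.commutes]
      exact fun h0 => hϖ0 (hinj (by rw [map_zero]; exact h0))
    obtain ⟨n, v, rfl⟩ := exists_eq_pow_mul πB hunit (Ideal.iInf_pow_eq_bot_of_isLocalRing _ hfield.ne_top) hx0
    rw [map_mul, map_pow] at hx
    exact mul_ne_zero (pow_ne_zero _ hπL) (v.isUnit.map φ).ne_zero hx
  let ψ : B →ₐ[R] L := φ.restrictScalars R
  have hrange : ψ.range = A ⊔ Algebra.adjoin R {t} := by
    refine le_antisymm ?_ (sup_le ?_ (Algebra.adjoin_le ?_))
    · rintro _ ⟨y, rfl⟩
      induction y using AdjoinRoot.induction_on with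
      | ih g =>
        show AdjoinRoot.liftAlgHom f (Algebra.ofId A L) t haev (AdjoinRoot.mk f g) ∈ _
        rw [AdjoinRoot.liftAlgHom_mk]
        rw [Polynomial.eval₂_eq_sum]
        refine Subalgebra.sum_mem _ fun i _ => mul_mem (Algebra.mem_sup_left (g.coeff i).2) (pow_mem ?_ _)
        exact Algebra.mem_sup_right (Algebra.subset_adjoin rfl)
    · intro x hx
      exact ⟨algebraMap A B ⟨x, hx⟩, φ.commutes _⟩
    · intro x hx
      rw [Set.mem_singleton_iff.mp hx]
      exact ⟨AdjoinRoot.root f, AdjoinRoot.liftAlgHom_root f (Algebra.ofId A L) t haev⟩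
  let e : B ≃ₐ[R] (A ⊔ Algebra.adjoin R {t} : Subalgebra R L) :=
    (AlgEquiv.ofInjective ψ hφinj).trans (Subalgebra.equivOfEq _ _ hrange)
  have hπB : πB = algebraMap R B ϖ := (IsScalarTower.algebraMap_apply R A B ϖ).symm
  obtain ⟨m, hm⟩ := hA.rank
  refine Good.of_algEquiv ⟨m + 1, ?_⟩ (fun x => hπB ▸ hunit x) (fun y => ?_) _ e
  · rw [← Module.finrank_mul_finrank R A B, hm, (AdjoinRoot.powerBasis' hf).finrank, AdjoinRoot.powerBasis'_dim,
      natDegree_X_pow_sub_C, pow_succ]
  · have hpπ : πB ∣ (p : B) := by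
      have := map_dvd (algebraMap R B) hpϖ
      rwa [map_natCast, IsScalarTower.algebraMap_apply R A B ϖ] at this
    have hfrob : ∀ z : B, ∃ c : A, πB ∣ algebraMap A B c - z ^ p := by
      intro z
      induction z using AdjoinRoot.induction_on with
      | ih g =>
        induction g using Polynomial.induction_on' with
        | add g₁ g₂ h₁ h₂ =>
          obtain ⟨c₁, hc₁⟩ := h₁
          obtain ⟨c₂, hc₂⟩ := h₂
          obtain ⟨r, hr⟩ := exists_add_pow_prime_eq hp (AdjoinRoot.mk f g₁) (AdjoinRoot.mk f g₂)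
          refine ⟨c₁ + c₂, ?_⟩
          rw [map_add, map_add, hr]
          have e1 : ∀ x₁ x₂ z₁ z₂ w : B, x₁ + x₂ - (z₁ + z₂ + w) = (x₁ - z₁) + (x₂ - z₂) - w := fun _ _ _ _ _ => by ring
          rw [e1]
          exact dvd_sub (dvd_add hc₁ hc₂) (Dvd.dvd.mul_right (Dvd.dvd.mul_right (Dvd.dvd.mul_right hpπ _) _) _)
        | monomial n c =>
          refine ⟨c ^ p * a ^ n, ⟨0, ?_⟩⟩
          have hroot : AdjoinRoot.root f ^ p = algebraMap A B a := by
            have := AdjoinRoot.eval₂_root f
            rw [eval₂_sub, eval₂_pow, eval₂_X, eval₂_C, sub_eq_zero] at this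
            exact this
          rw [mul_zero, ← C_mul_X_pow_eq_monomial, map_mul, map_mul, map_pow, map_pow, map_pow, AdjoinRoot.mk_C,
            AdjoinRoot.mk_X, mul_pow, ← pow_mul, mul_comm n p, pow_mul, hroot]
          exact sub_self _
    obtain ⟨c, hc⟩ := hfrob y
    obtain ⟨m', z, hz⟩ := hA.insep c
    refine ⟨m' + 1, z, ?_⟩
    have h2 := map_dvd (algebraMap A B) hz
    rw [map_sub, map_pow] at h2
    have h3 : πB ∣ algebraMap A B c ^ (p ^ m') - (y ^ p) ^ (p ^ m') := hc.trans (sub_dvd_pow_sub_pow _ _ _)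
    have h4 := dvd_add h2 h3
    rw [sub_add_sub_cancel, ← pow_mul, ← pow_succ', ← IsScalarTower.algebraMap_apply,
      ← IsScalarTower.algebraMap_apply] at h4
    exact h4

end Groth.Agent.H3CAlg.PerfResDvr
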