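import Mathlib.RingTheory.IntegralClosure.IntegrallyClosed
import Mathlib.RingTheory.Localization.AtPrime.Basic
import Mathlib.RingTheory.Valuation.ValuationRing
import Mathlib.RingTheory.Localization.Integral

/-!
# Localisations of products of domains at primes
-/

universe u

namespace Groth.Agent.H3CAlg.PiLoc

variable {ι : Type u} {R : ι → Type u} [∀ i, CommRing (R i)]
variable (P : Ideal (∀ i, R i)) [P.IsPrime]

open scoped Classical in
/-- An idempotent of the product, or its complement, is outside the prime. -/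
theorem ind_notMem_or (s : Set ι) :
    (fun i => if i ∈ s then 1 else 0 : ∀ i, R i) ∉ P ∨
      (fun i => if i ∈ s then 0 else 1 : ∀ i, R i) ∉ P := by
  by_contra h
  push Not at h
  refine (Ideal.IsPrime.ne_top ‹P.IsPrime›) ((Ideal.eq_top_iff_one P).mpr ?_)
  convert P.add_mem h.1 h.2 using 1
  funext i
  by_cases hi : i ∈ s <;> simp [hi]

theorem clear_denom {K : Type*} [Field K] {c x y : K} (hy : y ≠ 0) {j n : ℕ} (h : j ≤ n) :
    y ^ n * (c * (x / y) ^ j) = c * x ^ j * y ^ (n - j) := by
  obtain ⟨d, rfl⟩ := Nat.exists_eq_add_of_le h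
  rw [Nat.add_sub_cancel_left, div_pow, pow_add]
  field_simp

variable [∀ i, IsDomain (R i)]

theorem isDomain [Nonempty ι] : IsDomain (Localization.AtPrime P) := by
  classical
  refine (isDomain_iff_noZeroDivisors_and_nontrivial _).mpr ⟨⟨fun {x y} hxy => ?_⟩, inferInstance⟩
  obtain ⟨⟨a, s⟩, rfl⟩ := IsLocalization.mk'_surjective P.primeCompl x
  obtain ⟨⟨b, t⟩, rfl⟩ := IsLocalization.mk'_surjective P.primeCompl y
  rw [← IsLocalization.mk'_mul, IsLocalization.mk'_eq_zero_iff] at hxy
  obtain ⟨⟨c, hc⟩, hc0⟩ := hxy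
  rcases ind_notMem_or P {i | a i = 0} with h | h
  · refine Or.inl ((IsLocalization.mk'_eq_zero_iff a s).mpr ⟨⟨_, h⟩, funext fun i => ?_⟩)
    by_cases hi : a i = 0 <;> simp [hi]
  · refine Or.inr ((IsLocalization.mk'_eq_zero_iff b t).mpr
      ⟨⟨_, P.primeCompl.mul_mem h hc⟩, funext fun i => ?_⟩)
    have := congrFun hc0 i
    simp only [Pi.mul_apply, Pi.zero_apply] at this ⊢
    by_cases hi : a i = 0
    · simp [hi]
    · rcases mul_eq_zero.mp this with h' | h'
      · simp [h']
      · simp [(mul_eq_zero.mp h').resolve_left hi]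

theorem preValuationRing [∀ i, ValuationRing (R i)] :
    PreValuationRing (Localization.AtPrime P) := by
  classical
  refine PreValuationRing.iff_dvd_total.mpr ⟨fun x y => ?_⟩
  obtain ⟨⟨a, s⟩, rfl⟩ := IsLocalization.mk'_surjective P.primeCompl x
  obtain ⟨⟨b, t⟩, rfl⟩ := IsLocalization.mk'_surjective P.primeCompl y
  have hu : ∀ (c : ∀ i, R i) (r : P.primeCompl), Associated (IsLocalization.mk' (Localization.AtPrime P) c r)
      (algebraMap _ (Localization.AtPrime P) c) := fun c r =>
    ⟨(IsLocalization.map_units (Localization.AtPrime P) r).unit, IsLocalization.mk'_spec _ _ _⟩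
  simp only [(hu a s).dvd_iff_dvd_left, (hu a s).dvd_iff_dvd_right, (hu b t).dvd_iff_dvd_left,
    (hu b t).dvd_iff_dvd_right]
  have key : ∀ (a b : ∀ i, R i) (e : ∀ i, R i), e ∉ P → (∀ i, ∃ c, e i * b i = a i * c) →
      algebraMap _ (Localization.AtPrime P) a ∣ algebraMap _ (Localization.AtPrime P) b := by
    intro a b e he h
    choose c hc using h
    have e' : algebraMap _ (Localization.AtPrime P) e * algebraMap _ _ b =
        algebraMap _ (Localization.AtPrime P) a * algebraMap _ _ c := by
      rw [← map_mul, ← map_mul]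
      exact congrArg _ (funext hc)
    have hd := Dvd.intro _ e'.symm
    exact (IsLocalization.map_units (Localization.AtPrime P) (⟨e, he⟩ : P.primeCompl)).dvd_mul_left.mp hd
  rcases ind_notMem_or P {i | a i ∣ b i} with h | h
  · refine Or.inl (key a b _ h fun i => ?_)
    by_cases hi : a i ∣ b i
    · obtain ⟨c, hc⟩ := hi
      exact ⟨c, by simp [hc]⟩
    · exact ⟨0, by simp [hi]⟩
  · refine Or.inr (key b a _ h fun i => ?_)
    by_cases hi : a i ∣ b i
    · exact ⟨0, by simp [hi]⟩
    · obtain ⟨c, hc⟩ := (ValuationRing.dvd_total (a i) (b i)).resolve_left hi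
      refine ⟨c, ?_⟩
      simp only [Set.mem_setOf_eq, if_neg hi, one_mul]
      exact hc

theorem isIntegrallyClosed [Nonempty ι] [∀ i, IsIntegrallyClosed (R i)] :
    IsIntegrallyClosed (Localization.AtPrime P) := by
  classical
  haveI := isDomain P
  rw [isIntegrallyClosed_iff (FractionRing (Localization.AtPrime P))]
  intro x hx
  obtain ⟨u, v, hv, rfl⟩ := IsFractionRing.div_surjective (Localization.AtPrime P) x
  obtain ⟨⟨a, sa⟩, rfl⟩ := IsLocalization.mk'_surjective P.primeCompl u
  obtain ⟨⟨b, sb⟩, rfl⟩ := IsLocalization.mk'_surjective P.primeCompl v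
  have hb : IsLocalization.mk' (Localization.AtPrime P) b sb ≠ 0 := nonZeroDivisors.ne_zero hv
  set S := Localization.AtPrime P
  set K := FractionRing S
  -- reduce to numerators and denominators in the product
  let A : ∀ i, R i := a * sb
  let B : ∀ i, R i := b * sa
  have hB : algebraMap _ S B ≠ 0 := by
    intro h
    refine hb ((mul_eq_zero.mp (?_ : IsLocalization.mk' S b sb * algebraMap _ S (sb * sa : ∀ i, R i) = 0)).resolve_right
      (IsLocalization.map_units S (sb * sa)).ne_zero)
    rw [map_mul, ← mul_assoc, IsLocalization.mk'_spec, ← map_mul]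
    exact h
  have hab : algebraMap S K (IsLocalization.mk' S a sa) / algebraMap S K (IsLocalization.mk' S b sb) =
      algebraMap S K (algebraMap _ S A) / algebraMap S K (algebraMap _ S B) := by
    rw [div_eq_div_iff ((map_ne_zero_iff _ (IsFractionRing.injective S K)).mpr hb)
      ((map_ne_zero_iff _ (IsFractionRing.injective S K)).mpr hB), ← map_mul, ← map_mul]
    congr 1
    simp only [A, B, map_mul]
    rw [← IsLocalization.mk'_spec S a sa, ← IsLocalization.mk'_spec S b sb]
    ring
  rw [hab] at hx ⊢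
  set z := algebraMap S K (algebraMap _ S A) / algebraMap S K (algebraMap _ S B) with hz
  have hsc : ∀ y : ∀ i, R i, algebraMap S K (algebraMap _ S y) = algebraMap (∀ i, R i) K y :=
    fun y => (IsScalarTower.algebraMap_apply (∀ i, R i) S K y).symm
  obtain ⟨⟨m, hm⟩, p, hp, hp0⟩ := hx.exists_multiple_integral_of_isLocalization P.primeCompl z
  have hmz : (⟨m, hm⟩ : P.primeCompl) • z = algebraMap (∀ i, R i) K (m * A) / algebraMap (∀ i, R i) K B := by
    rw [Submonoid.smul_def, Algebra.smul_def, map_mul, mul_div_assoc, hz, hsc, hsc]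
  rw [hmz] at hp0
  have hB' : algebraMap (∀ i, R i) K B ≠ 0 := by
    rw [← hsc]
    exact (map_ne_zero_iff _ (IsFractionRing.injective S K)).mpr hB
  let n := p.natDegree
  have hhom : algebraMap (∀ i, R i) K
      (∑ j ∈ Finset.range (n + 1), p.coeff j * (m * A) ^ j * B ^ (n - j)) = 0 := by
    rw [map_sum, ← mul_zero (algebraMap (∀ i, R i) K B ^ n), ← hp0,
      Polynomial.eval₂_eq_sum_range, Finset.mul_sum]
    refine Finset.sum_congr rfl fun j hj => ?_
    have hj' : j ≤ n := Nat.lt_succ_iff.mp (Finset.mem_range.mp hj)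
    rw [clear_denom hB' hj']
    simp only [map_mul, map_pow]
  have hkey : algebraMap _ S (∑ j ∈ Finset.range (n + 1), p.coeff j * (m * A) ^ j * B ^ (n - j)) = 0 :=
    IsFractionRing.injective S K (((hsc _).trans hhom).trans (map_zero _).symm)
  obtain ⟨⟨c, hc⟩, hc0⟩ := (IsLocalization.map_eq_zero_iff P.primeCompl S _).mp hkey
  let e : ∀ i, R i := fun i => if i ∈ {i | B i = 0} then 0 else 1
  have he : e ∉ P := by
    rcases ind_notMem_or P {i | B i = 0} with h | h
    · exfalso
      refine hB ((IsLocalization.map_eq_zero_iff P.primeCompl S _).mpr ⟨⟨_, h⟩, funext fun i => ?_⟩)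
      by_cases hi : B i = 0 <;> simp [hi]
    · exact h
  have hdvd : ∀ i, ∃ q, c i * e i * (m i * A i) = B i * q := by
    intro i
    by_cases hi : B i = 0
    · exact ⟨0, by simp [e, hi]⟩
    rcases eq_or_ne (c i) 0 with hci | hci
    · exact ⟨0, by simp [hci]⟩
    have h0 : ∑ j ∈ Finset.range (n + 1), p.coeff j i * (m i * A i) ^ j * B i ^ (n - j) = 0 := by
      have := congrFun hc0 i
      simp only [Pi.mul_apply, Pi.zero_apply, Finset.sum_apply, Pi.pow_apply, mul_eq_zero, hci,
        false_or] at this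
      exact this
    let q := p.map (Pi.evalRingHom R i)
    have hq : q.Monic := hp.map _
    let F := FractionRing (R i)
    have hB'' : algebraMap (R i) F (B i) ≠ 0 := (map_ne_zero_iff _ (IsFractionRing.injective _ _)).mpr hi
    have hint : IsIntegral (R i) (algebraMap (R i) F (m i * A i) / algebraMap (R i) F (B i)) := by
      refine ⟨q, hq, ?_⟩
      rw [← mul_right_inj' (pow_ne_zero n hB''), mul_zero, Polynomial.eval₂_map,
        Polynomial.eval₂_eq_sum_range, Finset.mul_sum, ← map_zero (algebraMap (R i) F), ← h0, map_sum]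
      refine Finset.sum_congr rfl fun j hj => ?_
      have hj' : j ≤ n := Nat.lt_succ_iff.mp (Finset.mem_range.mp hj)
      rw [RingHom.comp_apply, Pi.evalRingHom_apply, clear_denom hB'' hj']
      simp only [map_mul, map_pow]
    obtain ⟨q₀, hq₀⟩ := IsIntegrallyClosed.isIntegral_iff.mp hint
    refine ⟨c i * q₀, ?_⟩
    have : m i * A i = q₀ * B i :=
      IsFractionRing.injective (R i) F (by rw [map_mul (algebraMap (R i) F) q₀, hq₀, div_mul_cancel₀ _ hB''])
    simp only [e, Set.mem_setOf_eq, if_neg hi, this]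
    ring
  choose q hq using hdvd
  have hu : IsUnit (algebraMap _ S (c * e * m)) :=
    IsLocalization.map_units S (⟨c * e * m, P.primeCompl.mul_mem (P.primeCompl.mul_mem hc he) hm⟩ : P.primeCompl)
  obtain ⟨w, hw⟩ : ∃ w, algebraMap _ S A = algebraMap _ S B * w := by
    have e' : algebraMap _ S (c * e * m) * algebraMap _ S A = algebraMap _ S B * algebraMap _ S q := by
      rw [← map_mul, ← map_mul]
      exact congrArg _ (funext fun i => by simp only [Pi.mul_apply]; rw [← hq i]; ring)
    exact ⟨↑hu.unit⁻¹ * algebraMap _ S q, by rw [mul_left_comm, ← e', ← mul_assoc, IsUnit.val_inv_mul, one_mul]⟩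
  exact ⟨w, by rw [hz, hw, map_mul, mul_div_cancel_left₀ _ ((map_ne_zero_iff _ (IsFractionRing.injective S K)).mpr hB)]⟩

end Groth.Agent.H3CAlg.PiLoc
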