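import Groth.Agent.H3CAlg.TorBasic
import Groth.Agent.S0563
import Groth.Agent.H4Depth.Regular
import Mathlib

/-!
# Modules on planar curve singularities: matrix factorisations and vanishing of `Ext²` and `Tor₁`
-/

universe u

namespace Groth.Agent.H3CAlg.Planar

open CategoryTheory TensorProduct

/-- A module of depth at least one on a hypersurface in a regular surface has a matrix factorisation. -/
theorem exists_matrixFactorisation (S : Type u) [CommRing S] [IsRegularLocalRing S] (hS : ringKrullDim S = 2)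
    (f : S) (hf : f ≠ 0) (R : Type u) [CommRing R] [IsLocalRing R] (π : S →+* R) (hπ : Function.Surjective π)
    (hker : RingHom.ker π = Ideal.span {f}) (M : Type u) [AddCommGroup M] [Module R M] [Module.Finite R M]
    (x : R) (hx : x ∈ IsLocalRing.maximalIdeal R) (hxM : IsSMulRegular M x) :
    ∃ (a : ℕ) (A B : Matrix (Fin a) (Fin a) R) (q : (Fin a → R) →ₗ[R] M), Function.Surjective q ∧
      (∀ v, q v = 0 ↔ ∃ w, A.mulVec w = v) ∧
      (∀ v, A.mulVec v = 0 ↔ ∃ w, B.mulVec w = v) ∧ ∀ v, B.mulVec v = 0 ↔ ∃ w, A.mulVec w = v := by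
  classical
  haveI := isDomain_of_regular (S := S) hS
  let _ : Algebra S R := π.toAlgebra
  let _ : Module S M := Module.compHom M π
  haveI : IsScalarTower S R M := IsScalarTower.of_algebraMap_smul fun _ _ => rfl
  haveI : Module.Finite S R := Module.Finite.of_surjective (Algebra.linearMap S R) hπ
  haveI : Module.Finite S M := Module.Finite.trans R M
  obtain ⟨x', rfl⟩ := hπ x
  have hx' : x' ∈ IsLocalRing.maximalIdeal S := fun hu => hx (hu.map π)
  have hxS : IsSMulRegular M x' := fun u v h => hxM h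
  have hpd : HasProjectiveDimensionLT (ModuleCat.of S M) 2 := by
    have h3 : HasProjectiveDimensionLT (ModuleCat.of S (QuotSMulTop x' M)) 3 :=
      Groth.Agent.S0563.result S 2 hS _
    have h := ModuleCat.projectiveDimension_quotSMulTop_eq_succ_of_isSMulRegular (ModuleCat.of S M) x' hxS hx'
    have h2 : projectiveDimension (ModuleCat.of S (QuotSMulTop x' M)) ≤ (2 : ℕ) :=
      (projectiveDimension_le_iff _ 2).mpr h3
    have h' : projectiveDimension (ModuleCat.of S M) + ((1 : ℕ) : WithBot ℕ∞) ≤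
        ((1 : ℕ) : WithBot ℕ∞) + ((1 : ℕ) : WithBot ℕ∞) := by
      rw [h] at h2
      rw [Nat.cast_one]
      exact h2
    exact (projectiveDimension_le_iff _ 1).mp (ENat.WithBot.add_le_add_natCast_right_iff.mp h')
  obtain ⟨a, g, hg⟩ := Submodule.fg_iff_exists_fin_generating_family.mp (Module.Finite.fg_top (R := R) (M := M))
  let q : (Fin a → R) →ₗ[R] M := Fintype.linearCombination R g
  let qS : (Fin a → S) →ₗ[S] M := Fintype.linearCombination S g
  have hq : Function.Surjective q := by
    rw [← LinearMap.range_eq_top, Fintype.range_linearCombination]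
    exact hg
  have hqS : ∀ w, qS w = q (π ∘ w) := fun w => by
    simp only [qS, q, Fintype.linearCombination_apply]
    rfl
  have hπv : ∀ v : Fin a → R, ∃ w : Fin a → S, π ∘ w = v := fun v =>
    ⟨fun i => (hπ (v i)).choose, funext fun i => (hπ (v i)).choose_spec⟩
  have hqSs : Function.Surjective qS := fun m => by
    obtain ⟨v, rfl⟩ := hq m
    obtain ⟨w, rfl⟩ := hπv v
    exact ⟨w, hqS w⟩
  haveI hKproj : Projective (ModuleCat.of S (LinearMap.ker qS)) := by
    haveI : Projective qS.shortComplexKer.X₂ :=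
      (IsProjective.iff_projective (R := S) (Fin a → S)).mp inferInstance
    have hSES := LinearMap.shortExact_shortComplexKer hqSs
    rw [projective_iff_hasProjectiveDimensionLT_one]
    exact (hSES.hasProjectiveDimensionLT_X₃_iff 0 inferInstance).mp hpd
  haveI : Module.Projective S (LinearMap.ker qS) :=
    (IsProjective.iff_projective (R := S) (LinearMap.ker qS)).mpr hKproj
  haveI : Module.Free S (LinearMap.ker qS) := Module.free_of_flat_of_isLocalRing
  have hfM : ∀ w : Fin a → S, f • w ∈ LinearMap.ker qS := by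
    intro w
    rw [LinearMap.mem_ker, map_smul]
    change π f • qS w = 0
    rw [show π f = 0 from (RingHom.mem_ker).mp (hker ▸ Ideal.mem_span_singleton_self f), zero_smul]
  have hrank : Module.finrank S (LinearMap.ker qS) = a := by
    refine le_antisymm ?_ ?_
    · simpa using LinearMap.finrank_le_finrank_of_injective (f := (LinearMap.ker qS).subtype) Subtype.val_injective
    · have hi : Function.Injective ((f • (LinearMap.id : (Fin a → S) →ₗ[S] _)).codRestrict (LinearMap.ker qS) hfM) := by
        intro u v h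
        exact smul_right_injective _ hf (congrArg Subtype.val h)
      simpa using LinearMap.finrank_le_finrank_of_injective hi
  let e : (Fin a → S) ≃ₗ[S] LinearMap.ker qS := (Module.finBasisOfFinrankEq S _ hrank).equivFun.symm
  let α : (Fin a → S) →ₗ[S] (Fin a → S) := (LinearMap.ker qS).subtype ∘ₗ e.toLinearMap
  let β : (Fin a → S) →ₗ[S] (Fin a → S) :=
    e.symm.toLinearMap ∘ₗ (f • (LinearMap.id : (Fin a → S) →ₗ[S] _)).codRestrict (LinearMap.ker qS) hfM
  have hαi : Function.Injective α := Subtype.val_injective.comp e.injective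
  have hαβ : ∀ w, α (β w) = f • w := fun w => by
    change ((e (e.symm _)) : Fin a → S) = _
    rw [LinearEquiv.apply_symm_apply]
    rfl
  have hβα : ∀ w, β (α w) = f • w := fun w => hαi (by rw [hαβ, map_smul])
  let A := (LinearMap.toMatrix' α).map π
  let B := (LinearMap.toMatrix' β).map π
  have hA : ∀ w, A.mulVec (π ∘ w) = π ∘ α w := fun w => by
    funext i
    rw [← LinearMap.toMatrix'_mulVec α w]
    exact (RingHom.map_mulVec π _ w i).symm
  have hB : ∀ w, B.mulVec (π ∘ w) = π ∘ β w := fun w => by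
    funext i
    rw [← LinearMap.toMatrix'_mulVec β w]
    exact (RingHom.map_mulVec π _ w i).symm
  have hf0 : ∀ w : Fin a → S, π ∘ (f • w) = 0 := fun w => funext fun i => by
    simp [show π f = 0 from (RingHom.mem_ker).mp (hker ▸ Ideal.mem_span_singleton_self f)]
  have hlift : ∀ w : Fin a → S, π ∘ w = 0 → ∃ u, w = f • u := by
    intro w hw
    choose u hu using fun i => Ideal.mem_span_singleton'.mp (hker ▸ (RingHom.mem_ker.mpr (congrFun hw i)))
    exact ⟨u, funext fun i => by rw [Pi.smul_apply, smul_eq_mul, ← hu i, mul_comm]⟩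
  refine ⟨a, A, B, q, hq, fun v => ?_, fun v => ?_, fun v => ?_⟩
  · constructor
    · intro hv
      obtain ⟨w, rfl⟩ := hπv v
      have h : w ∈ LinearMap.ker qS := by rw [LinearMap.mem_ker, hqS, hv]
      obtain ⟨z, hz⟩ := e.surjective ⟨w, h⟩
      exact ⟨π ∘ z, by rw [hA]; exact congrArg (π ∘ ·) (congrArg Subtype.val hz)⟩
    · rintro ⟨w, rfl⟩
      obtain ⟨w, rfl⟩ := hπv w
      rw [hA, ← hqS]
      exact (e w).2
  · constructor
    · intro hv
      obtain ⟨w, rfl⟩ := hπv v
      rw [hA] at hv
      obtain ⟨u, hu⟩ := hlift _ hv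
      refine ⟨π ∘ u, ?_⟩
      rw [hB, hαi (show α (β u) = α w by rw [hαβ, hu])]
    · rintro ⟨w, rfl⟩
      obtain ⟨w, rfl⟩ := hπv w
      rw [hB, hA, hαβ, hf0]
  · constructor
    · intro hv
      obtain ⟨w, rfl⟩ := hπv v
      rw [hB] at hv
      obtain ⟨u, hu⟩ := hlift _ hv
      refine ⟨π ∘ u, ?_⟩
      rw [hA]
      have h : f • α u = f • w := by
        rw [← map_smul, ← hu, hαβ]
      rw [smul_right_injective _ hf h]
    · rintro ⟨w, rfl⟩
      obtain ⟨w, rfl⟩ := hπv w
      rw [hA, hB, hβα, hf0]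
where
  isDomain_of_regular {S : Type u} [CommRing S] [IsRegularLocalRing S] (_ : ringKrullDim S = 2) :
      IsDomain S := Groth.Agent.H4Depth.isDomain_of_isRegularLocalRing S

variable {R : Type u} [CommRing R]

/-- `Ext²(M, N) = 0` when `M` has a periodic resolution and `Hom(M, N) = 0`. -/
theorem ext_two_eq_zero {a : ℕ} {A B : Matrix (Fin a) (Fin a) R} {M N : Type u} [AddCommGroup M]
    [Module R M] [AddCommGroup N] [Module R N] {q : (Fin a → R) →ₗ[R] M} (hq : Function.Surjective q)
    (hqA : ∀ v, q v = 0 ↔ ∃ w, A.mulVec w = v) (hAB : ∀ v, A.mulVec v = 0 ↔ ∃ w, B.mulVec w = v)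
    (hBA : ∀ v, B.mulVec v = 0 ↔ ∃ w, A.mulVec w = v) (hom : ∀ η : M →ₗ[R] N, η = 0) :
    Subsingleton (Abelian.Ext (ModuleCat.of R M) (ModuleCat.of R N) 2) := by
  refine subsingleton_of_forall_eq 0 fun e => ?_
  haveI hproj : Projective (ModuleCat.of R (Fin a → R)) :=
    (IsProjective.iff_projective (R := R) (Fin a → R)).mp inferInstance
  let A' : (Fin a → R) →ₗ[R] LinearMap.ker q :=
    A.mulVecLin.codRestrict _ fun w => LinearMap.mem_ker.mpr ((hqA _).mpr ⟨w, rfl⟩)
  have hA' : Function.Surjective A' := fun v => by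
    obtain ⟨w, hw⟩ := (hqA v.1).mp v.2
    exact ⟨w, Subtype.ext hw⟩
  have h1 := LinearMap.shortExact_shortComplexKer hq
  have h2 := LinearMap.shortExact_shortComplexKer hA'
  haveI : Projective q.shortComplexKer.X₂ := hproj
  haveI : Projective A'.shortComplexKer.X₂ := hproj
  obtain ⟨e₁, rfl⟩ := Abelian.Ext.contravariant_sequence_exact₃ h1 (ModuleCat.of R N) e
    (Abelian.Ext.eq_zero_of_projective _) (n₀ := 1) rfl
  obtain ⟨e₀, rfl⟩ := Abelian.Ext.contravariant_sequence_exact₃ h2 (ModuleCat.of R N) e₁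
    (Abelian.Ext.eq_zero_of_projective _) (n₀ := 0) rfl
  obtain ⟨φ, rfl⟩ := (Abelian.Ext.mk₀_bijective _ _).2 e₀
  have hφ : φ = 0 := by
    ext v
    let B' : (Fin a → R) →ₗ[R] LinearMap.ker A' :=
      B.mulVecLin.codRestrict _ fun w => LinearMap.mem_ker.mpr (Subtype.ext ((hAB _).mpr ⟨w, rfl⟩))
    obtain ⟨w, hw⟩ := (hAB v.1).mp (congrArg Subtype.val (LinearMap.mem_ker.mp v.2))
    let ψ : (Fin a → R) →ₗ[R] N := φ.hom ∘ₗ B'
    have hψ : LinearMap.ker q ≤ LinearMap.ker ψ := fun u hu => by
      obtain ⟨w', rfl⟩ := (hqA u).mp hu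
      have : B' (A.mulVec w') = 0 := Subtype.ext ((hBA _).mpr ⟨w', rfl⟩)
      simp [ψ, this]
    have h0 := hom ((LinearMap.ker q).liftQ ψ hψ ∘ₗ (q.quotKerEquivOfSurjective hq).symm.toLinearMap)
    have h0' : ψ w = 0 := by
      have := LinearMap.congr_fun h0 (q w)
      rw [LinearMap.comp_apply, LinearEquiv.coe_coe,
        show (q.quotKerEquivOfSurjective hq).symm (q w) = Submodule.Quotient.mk w from
          (LinearEquiv.symm_apply_eq _).mpr rfl] at this
      exact this
    have : B' w = v := Subtype.ext hw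
    rw [← this]
    exact h0'
  rw [hφ, Abelian.Ext.mk₀_zero, Abelian.Ext.comp_zero, Abelian.Ext.comp_zero]

/-- If `A z = 0` then `det A` annihilates `z`. -/
theorem det_smul_eq_zero {a : ℕ} (A : Matrix (Fin a) (Fin a) R) {X : Type u} [AddCommGroup X] [Module R X]
    (z : Fin a → X) (h : ∀ i, ∑ j, A i j • z j = 0) (k : Fin a) : A.det • z k = 0 := by
  have h1 : ∑ i, A.adjugate k i • ∑ j, A i j • z j = A.det • z k := by
    simp_rw [Finset.smul_sum, smul_smul]
    rw [Finset.sum_comm]
    simp_rw [← Finset.sum_smul, ← Matrix.mul_apply, Matrix.adjugate_mul, Matrix.smul_apply,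
      Matrix.one_apply, smul_eq_mul, mul_ite, mul_one, mul_zero, ite_smul, zero_smul]
    rw [Finset.sum_ite_eq]
    simp
  simp_rw [h, smul_zero, Finset.sum_const_zero] at h1
  exact h1.symm

/-- `Tor₁(M, X) = 0` when `M` is presented by a square matrix that is injective on `X`. -/
theorem tor_one_isZero {a : ℕ} {A : Matrix (Fin a) (Fin a) R} {M X : Type u} [AddCommGroup M]
    [Module R M] [AddCommGroup X] [Module R X] {q : (Fin a → R) →ₗ[R] M} (hq : Function.Surjective q)
    (hqA : ∀ v, q v = 0 ↔ ∃ w, A.mulVec w = v)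
    (hinj : ∀ z : Fin a → X, (∀ i, ∑ j, A i j • z j = 0) → z = 0) :
    Limits.IsZero (((Tor (ModuleCat.{u} R) 1).obj (ModuleCat.of R M)).obj (ModuleCat.of R X)) := by
  obtain ⟨K, g, w, hS⟩ := Tor.exists_presentation (ModuleCat.of R X)
  haveI : Projective (ShortComplex.mk g _ w).X₂ := inferInstanceAs (Projective (Projective.over _))
  refine (Tor.isZero_one_iff_injective (ModuleCat.of R M) _ hS).mpr ?_
  haveI : Epi (Projective.π (ModuleCat.of R X)) := inferInstance
  refine lTensor_injective_of_exact_of_exact_of_rTensor_injective (f₁ := (LinearMap.ker q).subtype)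
    (LinearMap.exact_subtype_ker_map q) hq
    (LinearMap.exact_iff.mpr hS.exact.moduleCat_range_eq_ker.symm)
    ((ModuleCat.epi_iff_surjective _).mp this) ?_
    (Module.Flat.lTensor_preserves_injective_linearMap _ hS.moduleCat_injective_f)
  let A' : (Fin a → R) →ₗ[R] LinearMap.ker q :=
    A.mulVecLin.codRestrict _ fun w => LinearMap.mem_ker.mpr ((hqA _).mpr ⟨w, rfl⟩)
  have hA' : Function.Surjective A' := fun v => by
    obtain ⟨w, hw⟩ := (hqA v.1).mp v.2
    exact ⟨w, Subtype.ext hw⟩
  let e : (Fin a → R) ⊗[R] X ≃ₗ[R] (Fin a → X) :=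
    TensorProduct.comm R _ _ ≪≫ₗ TensorProduct.piScalarRight R R X (Fin a)
  have he : ∀ t i, e (A.mulVecLin.rTensor X t) i = ∑ j, A i j • e t j := by
    intro t i
    induction t with
    | zero => simp
    | tmul v x => simp [e, Matrix.mulVec, dotProduct, Finset.sum_smul, smul_smul]
    | add s t hs ht => simp [map_add, Finset.sum_add_distrib, hs, ht]
  rw [injective_iff_map_eq_zero]
  intro u hu
  obtain ⟨v, rfl⟩ := LinearMap.rTensor_surjective X hA' u
  rw [← LinearMap.comp_apply, ← LinearMap.rTensor_comp,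
    show (LinearMap.ker q).subtype ∘ₗ A' = A.mulVecLin from LinearMap.ext fun _ => rfl] at hu
  have : e v = 0 := hinj _ fun i => by rw [← he, hu, map_zero]; rfl
  rw [e.map_eq_zero_iff.mp this, map_zero]

theorem pow_smul_eq_of_smul_eq_zero {X : Type u} [AddCommGroup X] [Module R X] {c j : R}
    (hj : ∀ z : X, j • z = 0) (z : X) (k : ℕ) : (c + j) ^ k • z = c ^ k • z := by
  induction k generalizing z with
  | zero => simp
  | succ k ih => rw [pow_succ', pow_succ', mul_smul, mul_smul, ih, add_smul, hj, add_zero]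

/-- **S13992**. -/
theorem ext_two_subsingleton (S : Type u) [CommRing S] [IsRegularLocalRing S] (hS : ringKrullDim S = 2)
    (f : S) (hf : f ≠ 0) [IsLocalRing R] (π : S →+* R) (hπ : Function.Surjective π)
    (hker : RingHom.ker π = Ideal.span {f}) (I J : Ideal R) (n : ℕ)
    (hIJ : IsLocalRing.maximalIdeal R ^ n ≤ I ⊔ J) (M N : Type u) [AddCommGroup M] [Module R M]
    [Module.Finite R M] [AddCommGroup N] [Module R N] (hI : I ≤ Module.annihilator R M)
    (hJ : J ≤ Module.annihilator R N) (x : R) (hx : x ∈ IsLocalRing.maximalIdeal R)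
    (hxM : IsSMulRegular M x) (y : R) (hy : y ∈ IsLocalRing.maximalIdeal R) (hyN : IsSMulRegular N y) :
    Subsingleton (Abelian.Ext (ModuleCat.of R M) (ModuleCat.of R N) 2) := by
  obtain ⟨a, A, B, q, hq, hqA, hAB, hBA⟩ := exists_matrixFactorisation S hS f hf R π hπ hker M x hx hxM
  refine ext_two_eq_zero hq hqA hAB hBA fun η => LinearMap.ext fun m => ?_
  obtain ⟨c, hc, j, hj, hcj⟩ := Submodule.mem_sup.mp (hIJ (Ideal.pow_mem_pow hy n))
  apply hyN.pow n
  change y ^ n • η m = y ^ n • (0 : N)
  rw [smul_zero, ← hcj, add_smul, ← map_smul, Module.mem_annihilator.mp (hI hc) m, map_zero,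
    Module.mem_annihilator.mp (hJ hj) (η m), add_zero]

/-- **S13994**. -/
theorem tor_one_dual_isZero (S : Type u) [CommRing S] [IsRegularLocalRing S] (hS : ringKrullDim S = 2)
    (f : S) (hf : f ≠ 0) [IsLocalRing R] [IsReduced R] (π : S →+* R) (hπ : Function.Surjective π)
    (hker : RingHom.ker π = Ideal.span {f}) (I J : Ideal R) (n : ℕ)
    (hIJ : IsLocalRing.maximalIdeal R ^ n ≤ I ⊔ J) (M N : Type u) [AddCommGroup M] [Module R M]
    [Module.Finite R M] [AddCommGroup N] [Module R N] (hI : I ≤ Module.annihilator R M)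
    (hJ : J ≤ Module.annihilator R N) (x : R) (hx : x ∈ IsLocalRing.maximalIdeal R)
    (hxM : IsSMulRegular M x) :
    Limits.IsZero (((Tor (ModuleCat.{u} R) 1).obj (ModuleCat.of R M)).obj
      (ModuleCat.of R (Module.Dual R N))) := by
  obtain ⟨a, A, B, q, hq, hqA, -, -⟩ := exists_matrixFactorisation S hS f hf R π hπ hker M x hx hxM
  by_cases hx0 : x = 0
  · subst hx0
    haveI : Subsingleton M := ⟨fun u v => hxM (by simp)⟩
    obtain ⟨K, g, w, hS⟩ := Tor.exists_presentation (ModuleCat.of R (Module.Dual R N))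
    haveI : Projective (ShortComplex.mk g _ w).X₂ := inferInstanceAs (Projective (Projective.over _))
    exact (Tor.isZero_one_iff_injective (ModuleCat.of R M) _ hS).mpr fun u v _ => Subsingleton.elim _ _
  refine tor_one_isZero hq hqA fun z hz => funext fun k => LinearMap.ext fun n' => ?_
  have hJX : ∀ j ∈ J, ∀ φ : Module.Dual R N, j • φ = 0 := fun j hj φ => LinearMap.ext fun m => by
    rw [LinearMap.smul_apply, ← map_smul, Module.mem_annihilator.mp (hJ hj) m, map_zero]
    rfl
  have hIz : ∀ c ∈ I, c ^ a • z k = 0 := by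
    intro c hc
    choose C hC using fun i : Fin a =>
      (hqA (c • Pi.single i (1 : R))).mp (by rw [map_smul, Module.mem_annihilator.mp (hI hc)])
    have hAC : A * Matrix.of (fun l i => C i l) = Matrix.diagonal (fun _ => c) := by
      ext l i
      have := congrFun (hC i) l
      simp only [Matrix.mulVec, dotProduct, Pi.smul_apply, Pi.single_apply, smul_eq_mul] at this
      rw [Matrix.mul_apply, Matrix.diagonal_apply]
      simpa using this
    have hd := congrArg Matrix.det hAC
    rw [Matrix.det_mul, Matrix.det_diagonal, Finset.prod_const, Finset.card_univ, Fintype.card_fin,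
      mul_comm] at hd
    rw [← hd, mul_smul, det_smul_eq_zero A z hz k, smul_zero]
  have ht : ∀ t ∈ IsLocalRing.maximalIdeal R, (t ^ n) ^ a * z k n' = 0 := by
    intro t ht
    obtain ⟨c, hc, j, hj, hcj⟩ := Submodule.mem_sup.mp (hIJ (Ideal.pow_mem_pow ht n))
    have : (t ^ n) ^ a • z k = 0 := by
      rw [← hcj]
      exact (pow_smul_eq_of_smul_eq_zero (R := R) (X := Module.Dual R N) (hJX j hj) (z k) a).trans (hIz c hc)
    exact LinearMap.congr_fun this n'
  by_cases hmem : z k n' ∈ IsLocalRing.maximalIdeal R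
  · have h := ht _ hmem
    rw [← pow_mul, ← pow_succ] at h
    exact eq_zero_of_pow_eq_zero h
  · exfalso
    refine hx0 (eq_zero_of_pow_eq_zero (n := n * a) ?_)
    rw [pow_mul]
    exact ((IsLocalRing.notMem_maximalIdeal.mp hmem).mul_left_eq_zero).mp (ht x hx)

end Groth.Agent.H3CAlg.Planar
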