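import Groth.Agent.H3CAlg.GradedFree
import Groth.Agent.H3CAlg.HilbertBurch
import Groth.Agent.H05EGA4.Regular
import Mathlib.RingTheory.RegularLocalRing.Polynomial
import Mathlib.RingTheory.KrullDimension.Polynomial
import Mathlib.RingTheory.Ideal.Height
import Mathlib.RingTheory.Nakayama
import Mathlib.Algebra.Polynomial.AlgebraMap

/-!
Homogeneous ideals of finite sets of points of the plane: free resolutions of length one.
-/

namespace Groth.Agent.H3CAlg.PointsIdeal

open CategoryTheory IsLocalRing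

universe u

/-- Over a Noetherian local ring of global dimension `≤ g + 1`, a finite module with a regular element in
the maximal ideal has projective dimension `≤ g`. -/
theorem hasProjectiveDimensionLT_of_regular {A : Type u} [CommRing A] [IsNoetherianRing A] [IsLocalRing A]
    (g : ℕ) (hgl : ∀ M : ModuleCat.{u} A, HasProjectiveDimensionLT M (g + 2))
    (E : Type u) [AddCommGroup E] [Module A E] [Module.Finite A E]
    (a : A) (ha : a ∈ maximalIdeal A) (hreg : IsSMulRegular E a) :
    HasProjectiveDimensionLT (ModuleCat.of A E) (g + 1) := by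
  refine ModuleCat.hasProjectiveDimensionLT_of_forall_finite _ _ fun L hL => ?_
  by_contra hne
  have := not_subsingleton_iff_nontrivial.1 hne
  refine Submodule.top_ne_pointwise_smul_of_mem_jacobson_annihilator
    (M := Abelian.Ext (ModuleCat.of A E) L (g + 1)) ((IsLocalRing.maximalIdeal_le_jacobson _) ha) ?_
  rw [eq_comm, eq_top_iff]
  intro e _
  let f : E →ₗ[A] E := a • LinearMap.id
  have hinj : Function.Injective f := hreg
  let q : E →ₗ[A] E ⧸ LinearMap.range f := (LinearMap.range f).mkQ
  have hex : Function.Exact f q := LinearMap.exact_map_mkQ_range f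
  have hS : (ShortComplex.mk (ModuleCat.ofHom f) (ModuleCat.ofHom q)
      (ModuleCat.hom_ext hex.linearMap_comp_eq_zero)).ShortExact :=
    ModuleCat.shortComplex_shortExact _ hex hinj (Submodule.mkQ_surjective _)
  have h0 : Subsingleton (Abelian.Ext (ModuleCat.of A (E ⧸ LinearMap.range f)) L (g + 2)) :=
    (hgl _).subsingleton _ (g + 2) (g + 2) le_rfl L
  obtain ⟨y, hy⟩ := Abelian.Ext.contravariant_sequence_exact₁ hS L e (n₁ := g + 2) (add_comm 1 (g + 1)) (h0.elim _ _)
  have hy' : (Abelian.Ext.mk₀ (ModuleCat.ofHom f)).comp y (zero_add (g + 1)) = e := hy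
  rw [← hy', show ModuleCat.ofHom f = a • 𝟙 (ModuleCat.of A E) from rfl,
    Abelian.Ext.mk₀_smul, Abelian.Ext.smul_comp, Abelian.Ext.mk₀_id_comp]
  exact Submodule.smul_mem_pointwise_smul _ _ ⊤ trivial

/-- kernel of a map from a finite free module onto an ideal `J` with a regular element on `A ⧸ J` -/
theorem free_ker_of_regular {A : Type u} [CommRing A] [IsNoetherianRing A] [IsLocalRing A]
    (hgl : ∀ M : ModuleCat.{u} A, HasProjectiveDimensionLT M 4)
    {n : ℕ} (π : (Fin n → A) →ₗ[A] A) (a : A) (ha : a ∈ maximalIdeal A)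
    (hreg : IsSMulRegular (A ⧸ LinearMap.range π) a) :
    Module.Projective A (LinearMap.ker π) := by
  have h3 := hasProjectiveDimensionLT_of_regular 2 hgl (A ⧸ LinearMap.range π) a ha hreg
  have h2 : HasProjectiveDimensionLT (ModuleCat.of A (LinearMap.range π)) 2 :=
    ((Groth.Agent.H05EGA4.shortExact_of_submodule (LinearMap.range π)).hasProjectiveDimensionLT_X₃_iff 1
      (ModuleCat.projective_of_categoryTheory_projective _)).1 h3
  have hsurj := π.surjective_rangeRestrict
  have h1 : HasProjectiveDimensionLT (ModuleCat.of A (LinearMap.ker π.rangeRestrict)) 1 :=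
    ((LinearMap.shortExact_shortComplexKer hsurj).hasProjectiveDimensionLT_X₃_iff 0
      (ModuleCat.projective_of_categoryTheory_projective _)).1 h2
  have : Module.Projective A (LinearMap.ker π.rangeRestrict) := by
    rw [IsProjective.iff_projective, projective_iff_hasProjectiveDimensionLT_one]; exact h1
  exact Module.Projective.of_equiv (LinearEquiv.ofEq _ _ (LinearMap.ker_rangeRestrict π))

/-- A surjection onto a projective module with kernel inside `m·A^t` is injective. -/
theorem injective_of_minimal {A : Type u} [CommRing A] [IsNoetherianRing A] [IsLocalRing A] {t : ℕ}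
    {L : Type u} [AddCommGroup L] [Module A L] [Module.Projective A L] (f : (Fin t → A) →ₗ[A] L)
    (hf : Function.Surjective f) (hmin : ∀ w ∈ LinearMap.ker f, ∀ i, w i ∈ maximalIdeal A) :
    Function.Injective f := by
  classical
  obtain ⟨s, hs⟩ := Module.projective_lifting_property f LinearMap.id hf
  let q : (Fin t → A) →ₗ[A] (Fin t → A) := LinearMap.id - s.comp f
  have hq : ∀ v, q v ∈ LinearMap.ker f := fun v => by
    have h := LinearMap.congr_fun hs (f v)
    simp only [LinearMap.comp_apply, LinearMap.id_apply] at h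
    simp [q, LinearMap.mem_ker, map_sub, h]
  rw [← LinearMap.ker_eq_bot]
  refine Submodule.eq_bot_of_le_smul_of_le_jacobson_bot (maximalIdeal A) _ (IsNoetherian.noetherian _) (fun w hw => ?_)
    (IsLocalRing.maximalIdeal_le_jacobson _)
  have : w = q w := by simp [q, LinearMap.mem_ker.mp hw]
  rw [this, pi_eq_sum_univ' w, map_sum]
  refine Submodule.sum_mem _ fun i _ => ?_
  rw [map_smul]
  exact Submodule.smul_mem_smul (hmin w hw i) (hq _)

open MvPolynomial in
theorem hasProjectiveDimensionLT_localization {k : Type u} [Field k] (m : Ideal (MvPolynomial (Fin 3) k)) [m.IsPrime]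
    (M : ModuleCat.{u} (Localization.AtPrime m)) : HasProjectiveDimensionLT M 4 := by
  let A := Localization.AtPrime m
  haveI : IsRegularLocalRing A := inferInstance
  obtain ⟨d, hd, hk⟩ := Groth.Agent.H05EGA4.exists_pd_residueField A
  have hle : d ≤ 3 := by
    have h := Ideal.height_le_ringKrullDim_of_isPrime (I := m)
    rw [← IsLocalization.AtPrime.ringKrullDim_eq_height m A, hd, MvPolynomial.ringKrullDim_of_isNoetherianRing,
      ringKrullDim_eq_zero_of_field, zero_add] at h
    simpa using h
  exact @hasProjectiveDimensionLT_of_ge _ _ _ M (d + 1) 4 (by omega)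
    (Groth.Agent.H05EGA4.hasProjectiveDimensionLT_of_residueField d hk M)

theorem ker_eq_bot_of_minimal {R : Type u} [CommRing R] [IsDomain R] [IsNoetherianRing R] (m : Ideal R) [m.IsPrime]
    (hgl : ∀ M : ModuleCat.{u} (Localization.AtPrime m), HasProjectiveDimensionLT M 4) {n t : ℕ} (g : Fin n → R)
    (π : (Fin n → R) →ₗ[R] R) (hπ : π = Fintype.linearCombination R g)
    (Ψ : Matrix (Fin n) (Fin t) R) (hex : LinearMap.ker π = LinearMap.range Ψ.mulVecLin)
    (hymin : ∀ c, Ψ.mulVecLin c = 0 → ∀ l, c l ∈ m)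
    (x : R) (hxm : x ∈ m) (hreg : ∀ f, x * f ∈ LinearMap.range π → f ∈ LinearMap.range π) :
    LinearMap.ker Ψ.mulVecLin = ⊥ := by
  classical
  subst hπ
  set π := Fintype.linearCombination R g
  set I : Ideal R := LinearMap.range π with hIdef
  let A := Localization.AtPrime m
  let α := algebraMap R A
  have hα : Function.Injective α := IsLocalization.injective A (m.primeCompl_le_nonZeroDivisors)
  let πA := Fintype.linearCombination A (α ∘ g)
  have hπA : ∀ v : Fin n → R, πA (α ∘ v) = α (π v) := fun v => by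
    simp [πA, π, Fintype.linearCombination_apply, map_sum]
  have hrA : LinearMap.range πA = I.map α := by
    rw [Fintype.range_linearCombination, hIdef, Fintype.range_linearCombination, Set.range_comp]
    exact (Ideal.map_span α _).symm
  have hregA : IsSMulRegular (A ⧸ LinearMap.range πA) (α x) := by
    refine IsSMulRegular.of_right_eq_zero_of_smul fun w hw => ?_
    induction w using Submodule.Quotient.induction_on with
    | H w =>
      rw [← Submodule.Quotient.mk_smul, Submodule.Quotient.mk_eq_zero, hrA, smul_eq_mul] at hw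
      rw [Submodule.Quotient.mk_eq_zero, hrA]
      obtain ⟨⟨b, s⟩, hbs⟩ := IsLocalization.surj m.primeCompl w
      obtain ⟨s1, hs1, hmem⟩ : ∃ s1 ∈ m.primeCompl, s1 * (x * b) ∈ I := by
        rw [← IsLocalization.algebraMap_mem_map_algebraMap_iff m.primeCompl A, map_mul, ← hbs, ← mul_assoc]
        exact Ideal.mul_mem_right _ _ hw
      have hb : s1 * b ∈ I := hreg _ (by rw [← mul_assoc, mul_comm x, mul_assoc]; exact hmem)
      have : α b ∈ I.map α := (IsLocalization.algebraMap_mem_map_algebraMap_iff m.primeCompl A I b).mpr ⟨s1, hs1, hb⟩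
      rw [← hbs] at this
      exact (Ideal.mul_unit_mem_iff_mem _ (IsLocalization.map_units A s)).mp this
  haveI := free_ker_of_regular hgl πA (α x) (by
    rw [← Localization.AtPrime.map_eq_maximalIdeal]; exact Ideal.mem_map_of_mem _ hxm) hregA
  let ΨA := (Ψ.map α).mulVecLin
  have hmapΨ : ∀ c : Fin t → R, ΨA (α ∘ c) = α ∘ Ψ.mulVecLin c := fun c =>
    funext fun i => (RingHom.map_mulVec α Ψ c i).symm
  have hclear : ∀ {q : ℕ} (w : Fin q → A), ∃ (s : m.primeCompl) (c : Fin q → R), α s • w = α ∘ c := by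
    intro q w
    obtain ⟨s, hs⟩ := IsLocalization.exist_integer_multiples_of_finite m.primeCompl w
    choose c hc using hs
    exact ⟨s, c, funext fun i => by rw [Pi.smul_apply, Function.comp_apply, smul_eq_mul, hc i, Algebra.smul_def]⟩
  have hΨker : ∀ c, ΨA c ∈ LinearMap.ker πA := fun c => by
    obtain ⟨s, c', hc⟩ := hclear c
    have h := congrArg (fun v => πA (ΨA v)) hc
    simp only [map_smul, hmapΨ, hπA] at h
    rw [LinearMap.mem_ker.mp (hex ▸ ⟨c', rfl⟩ : Ψ.mulVecLin c' ∈ LinearMap.ker π), map_zero] at h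
    exact LinearMap.mem_ker.mpr (((IsLocalization.map_units A s).smul_eq_zero).mp h)
  let f := ΨA.codRestrict (LinearMap.ker πA) hΨker
  have hfsurj : Function.Surjective f := by
    rintro ⟨w, hw⟩
    obtain ⟨s, v, hv⟩ := hclear w
    have hv0 : π v = 0 := hα (by rw [← hπA, ← hv, map_smul, LinearMap.mem_ker.mp hw, smul_zero, map_zero])
    obtain ⟨c, hc⟩ : v ∈ LinearMap.range Ψ.mulVecLin := hex ▸ hv0
    obtain ⟨u, hu⟩ := IsLocalization.map_units A s
    refine ⟨(↑u⁻¹ : A) • (α ∘ c), Subtype.ext ?_⟩
    show ΨA _ = w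
    rw [map_smul, hmapΨ, hc, ← hv, ← hu, smul_smul, Units.inv_mul, one_smul]
  have hfmin : ∀ w ∈ LinearMap.ker f, ∀ i, w i ∈ maximalIdeal A := by
    intro w hw i
    have hw0 : ΨA w = 0 := congrArg Subtype.val (LinearMap.mem_ker.mp hw)
    obtain ⟨s, c, hc⟩ := hclear w
    have h := congrArg ΨA hc
    rw [map_smul, hw0, smul_zero, hmapΨ] at h
    have hc0 : Ψ.mulVecLin c = 0 := funext fun j => hα (by simpa using (congrFun h j).symm)
    have hci : α (c i) ∈ maximalIdeal A := by
      rw [← Localization.AtPrime.map_eq_maximalIdeal]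
      exact Ideal.mem_map_of_mem _ (hymin c hc0 i)
    have h2 := congrFun hc i
    rw [Pi.smul_apply, smul_eq_mul, Function.comp_apply] at h2
    rw [← h2] at hci
    exact (Ideal.unit_mul_mem_iff_mem _ (IsLocalization.map_units A s)).mp hci
  have hfinj := injective_of_minimal f hfsurj hfmin
  have hker : LinearMap.ker Ψ.mulVecLin = ⊥ := by
    rw [LinearMap.ker_eq_bot']
    intro c hc
    have h0 : f (α ∘ c) = 0 := Subtype.ext (by
      show ΨA _ = 0
      rw [hmapΨ, hc]; funext i; simp)
    have := hfinj (h0.trans (map_zero f).symm)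
    exact funext fun i => hα (by simpa using congrFun this i)
  exact hker

theorem spanFinrank_range_le {R : Type u} [CommRing R] {n : ℕ} (π : (Fin n → R) →ₗ[R] R) :
    Submodule.spanFinrank (LinearMap.range π) ≤ n := by
  classical
  let b : Fin n → R := fun i => π (Pi.single i 1)
  have h : LinearMap.range π = Submodule.span R (Set.range b) := by
    refine le_antisymm ?_ (Submodule.span_le.mpr (by rintro _ ⟨i, rfl⟩; exact ⟨_, rfl⟩))
    rintro _ ⟨v, rfl⟩
    rw [pi_eq_sum_univ' v, map_sum]
    refine Submodule.sum_mem _ fun i _ => ?_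
    rw [map_smul]
    exact Submodule.smul_mem _ _ (Submodule.subset_span ⟨i, rfl⟩)
  rw [h]
  refine (Submodule.spanFinrank_span_le_ncard_of_finite (Set.finite_range _)).trans ?_
  rw [← Nat.card_coe_set_eq]
  exact (Nat.card_le_card_of_surjective _ Set.rangeFactorization_surjective).trans (by simp)

open MvPolynomial in
set_option maxHeartbeats 800000 in
theorem exists_resolution (k : Type u) [Field k]
    (Z : Finset (Fin 3 → k)) (hZ : ∀ p ∈ Z, p ≠ 0) (I : Ideal (MvPolynomial (Fin 3) k))
    (hI : ∀ f : MvPolynomial (Fin 3) k, f ∈ I ↔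
      ∀ p ∈ Z, ∀ j : ℕ, MvPolynomial.eval p (MvPolynomial.homogeneousComponent j f) = 0) :
    ∃ (t : ℕ) (Ψ : Matrix (Fin (t + 1)) (Fin t) (MvPolynomial (Fin 3) k))
      (π : (Fin (t + 1) → MvPolynomial (Fin 3) k) →ₗ[MvPolynomial (Fin 3) k] MvPolynomial (Fin 3) k),
      LinearMap.ker Ψ.mulVecLin = ⊥ ∧ LinearMap.ker π = LinearMap.range Ψ.mulVecLin ∧ LinearMap.range π = I ∧
      I ≠ ⊥ ∧ ∀ a b, constantCoeff (Ψ a b) = 0 := by
  classical
  -- `I` is stable under components
  have hIhom : ∀ f ∈ I, ∀ j, homogeneousComponent j f ∈ I := fun f hf j => by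
    rw [hI]
    intro p hp i
    rw [homogeneousComponent_of_mem (homogeneousComponent_isHomogeneous j f)]
    split_ifs
    · exact (hI f).1 hf p hp j
    · simp
  have hIne : I ≠ ⊥ := by
    intro hbot
    have hl : ∀ p : Fin 3 → k, ∃ l : MvPolynomial (Fin 3) k, l ≠ 0 ∧ l.IsHomogeneous 1 ∧ eval p l = 0 := fun p => by
      by_cases h : p 0 = 0
      · exact ⟨X 0, X_ne_zero _, isHomogeneous_X _ _, by simp [h]⟩
      · refine ⟨C (p 1) * X 0 - C (p 0) * X 1, fun hz => h ?_, (isHomogeneous_C_mul_X _ _).sub (isHomogeneous_C_mul_X _ _),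
          by simp; ring⟩
        have := congrArg (eval (Pi.single (1 : Fin 3) (1 : k))) hz
        simpa using this
    choose l hl0 hl1 hlp using hl
    have hmem : ∏ p ∈ Z, l p ∈ I := by
      rw [hI]
      intro p hp j
      rw [homogeneousComponent_of_mem (IsHomogeneous.prod Z l (fun _ => 1) fun q _ => hl1 q)]
      split_ifs
      · rw [map_prod]; exact Finset.prod_eq_zero hp (hlp p)
      · simp
    rw [hbot, Ideal.mem_bot, Finset.prod_eq_zero_iff] at hmem
    obtain ⟨p, -, hp⟩ := hmem
    exact hl0 p hp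
  -- the prime of a point
  let ψ : (Fin 3 → k) → MvPolynomial (Fin 3) k →ₐ[k] Polynomial k := fun p => aeval fun i => Polynomial.C (p i) * Polynomial.X
  have hψ : ∀ p f j, (ψ p f).coeff j = eval p (homogeneousComponent j f) := by
    intro p f j
    have hmon : ∀ (s : Fin 3 →₀ ℕ) (c : k), ψ p (monomial s c) = Polynomial.monomial s.degree (eval p (monomial s c)) := by
      intro s c
      rw [aeval_monomial, eval_monomial, ← Polynomial.C_mul_X_pow_eq_monomial, map_mul, mul_assoc]
      congr 1
      rw [Finsupp.degree_apply, ← Finset.prod_pow_eq_pow_sum, Finsupp.prod, Finsupp.prod, map_prod, ← Finset.prod_mul_distrib]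
      exact Finset.prod_congr rfl fun i _ => by rw [mul_pow, map_pow]
    conv_lhs => rw [f.as_sum, map_sum, Polynomial.finsetSum_coeff]
    rw [homogeneousComponent_apply, map_sum, Finset.sum_filter]
    exact Finset.sum_congr rfl fun s _ => by rw [hmon, Polynomial.coeff_monomial]
  have hP : ∀ f, f ∈ I ↔ ∀ p ∈ Z, ψ p f = 0 := fun f => by
    rw [hI]
    simp only [Polynomial.ext_iff, hψ, Polynomial.coeff_zero]
  -- the irrelevant ideal
  let m : Ideal (MvPolynomial (Fin 3) k) := RingHom.ker (constantCoeff (R := k) (σ := Fin 3))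
  haveI hm : m.IsMaximal := RingHom.ker_isMaximal_of_surjective _ fun c => ⟨C c, constantCoeff_C _ c⟩
  obtain ⟨x, hxm, hxP⟩ : ∃ x ∈ m, ∀ p ∈ Z, ψ p x ≠ 0 := by
    by_contra! h
    obtain ⟨p, hp, hle⟩ := (Ideal.subset_union_prime (s := Z) (f := fun p => RingHom.ker (ψ p)) 0 0
      fun p _ _ _ => RingHom.ker_isPrime _).mp (fun x hx => by
        obtain ⟨p, hp, hx0⟩ := h x hx
        exact Set.mem_iUnion₂.mpr ⟨p, hp, hx0⟩)
    refine hZ p hp (funext fun i => ?_)
    have := hle (show X i ∈ m from constantCoeff_X k i)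
    simpa [ψ] using this
  have hreg : ∀ f, x * f ∈ I → f ∈ I := fun f hf => (hP f).2 fun p hp => by
    have := (hP _).1 hf p hp
    rw [map_mul, mul_eq_zero] at this
    exact this.resolve_left (hxP p hp)
  -- generators of `I`
  obtain ⟨n, g', eg, hg', hgspan, hgmin⟩ := GradedFree.exists_minimal_homogeneous (fun _ : Fin 1 => 0)
    (Submodule.comap (LinearMap.proj (0 : Fin 1)) I) fun v hv j => by
      simp only [Submodule.mem_comap, LinearMap.proj_apply] at hv ⊢
      rw [GradedFree.comp_apply, if_pos (Nat.zero_le _), Nat.sub_zero]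
      exact hIhom _ hv j
  let g : Fin n → MvPolynomial (Fin 3) k := fun l => g' l 0
  have hg : ∀ l, (g l).IsHomogeneous (eg l) := fun l => (hg' l 0).1 (Nat.zero_le _)
  let π := Fintype.linearCombination (MvPolynomial (Fin 3) k) g
  have hrange : LinearMap.range π = I := by
    rw [Fintype.range_linearCombination, show Set.range g = (LinearMap.proj (0 : Fin 1) : (Fin 1 → MvPolynomial (Fin 3) k) →ₗ[MvPolynomial (Fin 3) k] _) '' Set.range g'
      from by rw [← Set.range_comp]; rfl, ← Submodule.map_span, hgspan, Submodule.map_comap_eq_of_surjective]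
    exact fun f => ⟨fun _ => f, rfl⟩
  have hπmin : ∀ v ∈ LinearMap.ker π, ∀ l, constantCoeff (v l) = 0 := fun v hv => hgmin v (funext fun i => by
    have : ∑ l, v l • g l = 0 := hv
    rw [Finset.sum_apply, Pi.zero_apply, ← this, Subsingleton.elim i 0]
    rfl)
  -- generators of the syzygies
  have hKcomp : ∀ v ∈ LinearMap.ker π, ∀ j, GradedFree.comp eg j v ∈ LinearMap.ker π := by
    intro v hv j
    have h := congrArg (homogeneousComponent j) (LinearMap.mem_ker.mp hv)
    rw [map_zero, Fintype.linearCombination_apply, map_sum] at h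
    rw [LinearMap.mem_ker, Fintype.linearCombination_apply, ← h]
    refine Finset.sum_congr rfl fun l _ => ?_
    rw [smul_eq_mul, smul_eq_mul, GradedFree.comp_apply, GradedFree.homogeneousComponent_mul_homogeneous (hg l)]
    split_ifs <;> simp
  obtain ⟨t, y, ey, hy, hyspan, hymin⟩ := GradedFree.exists_minimal_homogeneous eg (LinearMap.ker π) hKcomp
  let Ψ : Matrix (Fin n) (Fin t) (MvPolynomial (Fin 3) k) := Matrix.of fun i l => y l i
  have hΨ : ∀ c, Ψ.mulVecLin c = ∑ l, c l • y l := fun c => funext fun i => by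
    simp [Ψ, Matrix.mulVec, dotProduct, mul_comm]
  have hex : LinearMap.ker π = LinearMap.range Ψ.mulVecLin := by
    ext v
    rw [← hyspan, Submodule.mem_span_range_iff_exists_fun, LinearMap.mem_range]
    simp only [hΨ]
  have hker := ker_eq_bot_of_minimal m (hasProjectiveDimensionLT_localization m) g π rfl Ψ hex (fun c hc => hymin c (by rw [← hΨ, hc])) x hxm (by rw [hrange]; exact hreg)
  obtain ⟨rfl, -, -⟩ := HilbertBurch.of_resolution Ψ π hker hex (by rw [hrange]; exact hIne)
  refine ⟨t, Ψ, π, hker, hex, hrange, hIne, fun a b => ?_⟩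
  exact hπmin (y b) (hyspan ▸ Submodule.subset_span ⟨b, rfl⟩) a

theorem range_le_pow {R : Type u} [CommRing R] {n t : ℕ} (π : (Fin n → R) →ₗ[R] R) (a : R)
    (Ψ : Matrix (Fin n) (Fin t) R) (J : Ideal R) (hΨ : ∀ i j, Ψ i j ∈ J)
    (ha : LinearMap.range π = Ideal.span {a} * CAlgX.minorIdeal Ψ t) (f : R) (hf : f ∈ LinearMap.range π) :
    f ∈ J ^ t := by
  classical
  rw [ha] at hf
  have hle : CAlgX.minorIdeal Ψ t ≤ J ^ t := by
    rw [CAlgX.minorIdeal, Ideal.span_le]
    rintro _ ⟨⟨u, v⟩, rfl⟩
    show (Ψ.submatrix u v).det ∈ _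
    rw [Matrix.det_apply]
    refine Submodule.sum_mem _ fun σ _ => ?_
    rw [Units.smul_def]
    refine Submodule.smul_of_tower_mem _ _ ?_
    rw [show J ^ t = ∏ _i : Fin t, J by simp]
    exact Ideal.prod_mem_prod fun i _ => hΨ _ _
  exact hle (Ideal.mul_le_right (I := Ideal.span {a}) (J := CAlgX.minorIdeal Ψ t) hf)

open MvPolynomial in
set_option maxHeartbeats 800000 in
theorem spanFinrank_le (k : Type u) [Field k]
    (Z : Finset (Fin 3 → k)) (hZ : ∀ p ∈ Z, p ≠ 0) (I : Ideal (MvPolynomial (Fin 3) k))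
    (hI : ∀ f : MvPolynomial (Fin 3) k, f ∈ I ↔
      ∀ p ∈ Z, ∀ j : ℕ, MvPolynomial.eval p (MvPolynomial.homogeneousComponent j f) = 0)
    (d : ℕ) (hf : ∃ f ∈ I, MvPolynomial.IsHomogeneous f d ∧ f ≠ 0) :
    Submodule.spanFinrank I ≤ d + 1 := by
  classical
  obtain ⟨t, Ψ, π, hker, hex, hrange, hIne, hm⟩ := exists_resolution k Z hZ I hI
  obtain ⟨-, ⟨a, -, ha⟩, -⟩ := HilbertBurch.of_resolution Ψ π hker hex (by rw [hrange]; exact hIne)
  obtain ⟨f, hfI, hfd, hf0⟩ := hf
  have htd : t ≤ d := by
    have hle : ∀ a b, Ψ a b ∈ idealOfVars (Fin 3) k := fun a b => by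
      rw [← pow_one (idealOfVars (Fin 3) k), mem_pow_idealOfVars_iff']
      intro x hx
      have hdeg : x.degree = 0 := by omega
      rw [(Finsupp.degree_eq_zero_iff x).mp hdeg]
      exact hm a b
    have hmem : f ∈ idealOfVars (Fin 3) k ^ t :=
      range_le_pow π a Ψ _ hle ha f (by rw [hrange]; exact hfI)
    obtain ⟨x, hx⟩ := ne_zero_iff.mp hf0
    by_contra hdt
    exact hx ((mem_pow_idealOfVars_iff' t f).mp hmem x (by
      have : x.degree = d := by
        by_contra h; exact hx (hfd.coeff_eq_zero h)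
      omega))
  rw [← hrange]
  exact (spanFinrank_range_le π).trans (Nat.succ_le_succ htd)

end Groth.Agent.H3CAlg.PointsIdeal
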