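import Groth.Prelude.Def_W4bk4bump814p2PDiff
import Mathlib

/-!
The filtration of Kaehler differentials by power differentials consists of subgroups.
-/

open MvPolynomial
open scoped BigOperators

namespace Groth.Agent.H3CAlg.PowDiff

open W4bk4bump814p2

universe u v

/-- The universal identity behind additivity of power differentials. -/
theorem exists_universal (p : ℕ) [hp : Fact p.Prime] (i : ℕ) :
    ∃ s : ℕ → MvPolynomial (Fin 2) ℤ, s 0 = X 0 + X 1 ∧ ∀ k : Fin 2,
      ∑ j ∈ Finset.range (i + 1), s j ^ (p ^ (i - j) - 1) * pderiv k (s j) = X k ^ (p ^ i - 1) := by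
  let v : WittVector p (MvPolynomial (Fin 2) ℤ) := WittVector.teichmuller p (X 0) + WittVector.teichmuller p (X 1)
  refine ⟨v.coeff, by simp [v, WittVector.add_coeff_zero, WittVector.teichmuller_coeff_zero], fun k => ?_⟩
  have hghost : ∑ j ∈ Finset.range (i + 1), C ((p : ℤ) ^ j) * v.coeff j ^ p ^ (i - j) =
      (X 0 : MvPolynomial (Fin 2) ℤ) ^ p ^ i + X 1 ^ p ^ i := by
    have h := map_add (WittVector.ghostComponent (p := p) i) (WittVector.teichmuller p (X 0 : MvPolynomial (Fin 2) ℤ))
      (WittVector.teichmuller p (X 1))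
    rw [WittVector.ghostComponent_teichmuller, WittVector.ghostComponent_teichmuller,
      WittVector.ghostComponent_apply, wittPolynomial_eq_sum_C_mul_X_pow, map_sum] at h
    rw [← h]
    refine Finset.sum_congr rfl fun j _ => ?_
    simp [v]
  have hd := congrArg (pderiv k) hghost
  rw [map_sum, map_add] at hd
  refine mul_left_cancel₀ (pow_ne_zero i (Nat.cast_ne_zero.mpr hp.out.ne_zero) : ((p : MvPolynomial (Fin 2) ℤ) ^ i) ≠ 0) ?_
  rw [Finset.mul_sum]
  refine Eq.trans ?_ (hd.trans ?_)
  · refine Finset.sum_congr rfl fun j hj => ?_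
    obtain ⟨t, ht⟩ := Nat.exists_eq_add_of_le (Nat.lt_succ_iff.mp (Finset.mem_range.mp hj))
    subst ht
    rw [pderiv_C_mul, pderiv_pow, Nat.add_sub_cancel_left, map_pow, map_natCast]
    push_cast
    ring
  · fin_cases k <;> simp [pderiv_pow, pderiv_X]

variable (K : Type u) (A : Type v) [CommRing K] [CommRing A] [Algebra K A] (p : ℕ)

theorem D_aeval (x : Fin 2 → A) (q : MvPolynomial (Fin 2) ℤ) :
    KaehlerDifferential.D K A (aeval x q) = ∑ k, aeval x (pderiv k q) • KaehlerDifferential.D K A (x k) := by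
  induction q using MvPolynomial.induction_on with
  | C a => simp
  | add f g hf hg => simp [hf, hg, add_smul, Finset.sum_add_distrib]
  | mul_X f j hf =>
    simp only [map_mul, aeval_X, Derivation.leibniz, hf, Finset.smul_sum, smul_smul, smul_eq_mul, map_add, add_smul,
      Finset.sum_add_distrib]
    congr 1
    rw [Finset.sum_eq_single j (fun b _ hb => by simp [pderiv_X, Pi.single_eq_of_ne hb.symm]) (by simp)]
    simp

/-- The subgroup generated by the power differentials of index `< i`. -/
noncomputable def G (i : ℕ) : AddSubgroup (Ω[A⁄K]) :=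
  AddSubgroup.closure (⋃ j ∈ Finset.range i, Set.range (delta K A p j))

theorem delta_mem_G {i j : ℕ} (h : j < i) (x : A) : delta K A p j x ∈ G K A p i :=
  AddSubgroup.subset_closure (Set.mem_biUnion (Finset.mem_coe.mpr (Finset.mem_range.mpr h)) ⟨x, rfl⟩)

theorem G_mono {i j : ℕ} (h : i ≤ j) : G K A p i ≤ G K A p j := by
  refine (AddSubgroup.closure_le _).mpr ?_
  simp only [Set.iUnion_subset_iff, Finset.mem_range]
  rintro k hk _ ⟨x, rfl⟩
  exact delta_mem_G K A p (lt_of_lt_of_le hk h) x

theorem delta_zero_arg [Fact p.Prime] (i : ℕ) : delta K A p i 0 = 0 := by simp [delta]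

theorem delta_add_sub_mem [Fact p.Prime] (i : ℕ) (x y : A) :
    delta K A p i (x + y) - delta K A p i x - delta K A p i y ∈ G K A p i := by
  obtain ⟨s, hs0, hs⟩ := exists_universal p i
  have key : ∑ j ∈ Finset.range (i + 1), delta K A p (i - j) (aeval ![x, y] (s j)) =
      delta K A p i x + delta K A p i y := by
    simp only [delta, D_aeval K A ![x, y], Finset.smul_sum, smul_smul]
    rw [Finset.sum_comm, Fin.sum_univ_two, ← Finset.sum_smul, ← Finset.sum_smul]
    have h0 := congrArg (aeval ![x, y]) (hs 0)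
    have h1 := congrArg (aeval ![x, y]) (hs 1)
    simp only [map_sum, map_mul, map_pow, aeval_X] at h0 h1
    rw [h0, h1]
    simp
  rw [Finset.sum_range_succ', Nat.sub_zero, hs0, map_add, aeval_X, aeval_X] at key
  have : delta K A p i (x + y) - delta K A p i x - delta K A p i y =
      - ∑ j ∈ Finset.range i, delta K A p (i - (j + 1)) (aeval ![x, y] (s (j + 1))) := by
    simp only [Matrix.cons_val_zero, Matrix.cons_val_one] at key
    rw [sub_sub, ← key]
    abel
  rw [this]
  exact neg_mem (sum_mem fun j hj => delta_mem_G K A p (by have := Finset.mem_range.mp hj; omega) _)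

theorem sigma_eq [Fact p.Prime] : ∀ i, sigma K A p i = (G K A p i : Set (Ω[A⁄K])) := by
  intro i
  induction i with
  | zero => simp [G]
  | succ i ih =>
    ext ω
    rw [mem_sigma_succ]
    simp only [ih, SetLike.mem_coe]
    constructor
    · rintro ⟨x, hx⟩
      rw [← sub_add_cancel ω (delta K A p i x)]
      exact add_mem (G_mono K A p i.le_succ hx) (delta_mem_G K A p i.lt_succ_self x)
    · intro hω
      induction hω using AddSubgroup.closure_induction with
      | mem z hz =>
        simp only [Set.mem_iUnion, Finset.mem_range] at hz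
        obtain ⟨j, hj, x, rfl⟩ := hz
        rcases Nat.lt_succ_iff_lt_or_eq.mp hj with h | rfl
        · exact ⟨0, by rw [delta_zero_arg, sub_zero]; exact delta_mem_G K A p h x⟩
        · exact ⟨x, by rw [sub_self]; exact zero_mem _⟩
      | zero => exact ⟨0, by rw [delta_zero_arg, sub_zero]; exact zero_mem _⟩
      | add a b _ _ ha hb =>
        obtain ⟨x, hx⟩ := ha
        obtain ⟨y, hy⟩ := hb
        refine ⟨x + y, ?_⟩
        have := sub_mem (add_mem hx hy) (delta_add_sub_mem K A p i x y)
        convert this using 1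
        abel
      | neg a _ ha =>
        obtain ⟨x, hx⟩ := ha
        refine ⟨-x, ?_⟩
        have h1 := delta_add_sub_mem K A p i x (-x)
        rw [add_neg_cancel, delta_zero_arg] at h1
        have := sub_mem h1 hx
        convert this using 1
        abel

theorem delta_mul_of_D_eq_zero [Fact p.Prime] (j : ℕ) (u y : A) (hu : KaehlerDifferential.D K A u = 0) :
    delta K A p j (u * y) = u ^ p ^ j • delta K A p j y := by
  have h : u ^ p ^ j = u ^ (p ^ j - 1) * u := by
    rw [← pow_succ, Nat.sub_add_cancel (Nat.one_le_pow _ _ (Fact.out : p.Prime).pos)]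
  simp only [delta, Derivation.leibniz, hu, smul_zero, add_zero, smul_smul, mul_pow, h]
  congr 1
  ring

theorem smul_mem_G [Fact p.Prime] (i : ℕ) (c : A)
    (hc : ∀ j < i, ∃ u : A, KaehlerDifferential.D K A u = 0 ∧ u ^ p ^ j = c)
    {ω : Ω[A⁄K]} (hω : ω ∈ G K A p i) : c • ω ∈ G K A p i := by
  induction hω using AddSubgroup.closure_induction with
  | mem z hz =>
    simp only [Set.mem_iUnion, Finset.mem_range] at hz
    obtain ⟨j, hj, x, rfl⟩ := hz
    obtain ⟨u, hu, huc⟩ := hc j hj
    rw [← huc, ← delta_mul_of_D_eq_zero K A p j u x hu]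
    exact delta_mem_G K A p hj _
  | zero => simp
  | add a b _ _ ha hb => rw [smul_add]; exact add_mem ha hb
  | neg a _ ha => rw [smul_neg]; exact neg_mem ha

theorem pow_smul_mem_G [Fact p.Prime] (hp0 : (p : A) = 0) (i : ℕ) (x : A) {ω : Ω[A⁄K]}
    (hω : ω ∈ G K A p i) : x ^ p ^ i • ω ∈ G K A p i := by
  refine smul_mem_G K A p i _ (fun j hj => ⟨x ^ p ^ (i - j), ?_, ?_⟩) hω
  · obtain ⟨k, hk⟩ : ∃ k, i - j = k + 1 := ⟨i - j - 1, by omega⟩
    rw [Derivation.leibniz_pow, hk, ← Nat.cast_smul_eq_nsmul A]
    simp [hp0]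
  · rw [← pow_mul, ← pow_add, Nat.sub_add_cancel hj.le]

end Groth.Agent.H3CAlg.PowDiff
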