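import Mathlib.RingTheory.LocalRing.Module
import Mathlib.RingTheory.Nakayama
import Mathlib.Algebra.Module.LocalizedModule.Exact
import Mathlib.RingTheory.Localization.AtPrime.Basic
import Mathlib.RingTheory.Ideal.KrullsHeightTheorem
import Mathlib.RingTheory.Localization.Module
import Mathlib.RingTheory.RingHom.Flat
import Mathlib.LinearAlgebra.Basis.VectorSpace

/-!
Modules with a single relation.
-/

universe u v w

namespace Groth.Agent.H3CAlg.PrincipalRel

open IsLocalRing

variable {A : Type u} [CommRing A] {M : Type v} [AddCommGroup M] [Module A M]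
  {N : Type w} [AddCommGroup N] [Module A N] (π : M →ₗ[A] N) (hπ : Function.Surjective π) (v : M)
  (hker : LinearMap.ker π = Submodule.span A {v})

include hπ hker in
theorem free_of_unimodular [IsLocalRing A] [Module.Free A M] [Module.Finite A M] (φ : M →ₗ[A] A) (hφ : φ v = 1) :
    Module.Free A N := by
  haveI : Module.Finite A N := Module.Finite.of_surjective π hπ
  let g : M →ₗ[A] M := LinearMap.id - φ.smulRight v
  have hg : LinearMap.ker π ≤ LinearMap.ker g := by
    rw [hker, Submodule.span_singleton_le_iff_mem, LinearMap.mem_ker]
    simp [g, hφ]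
  let s : N →ₗ[A] M := ((LinearMap.ker π).liftQ g hg).comp (π.quotKerEquivOfSurjective hπ).symm.toLinearMap
  have hs : π.comp s = LinearMap.id := by
    refine LinearMap.ext fun n => ?_
    obtain ⟨m, rfl⟩ := hπ n
    have e : (π.quotKerEquivOfSurjective hπ).symm (π m) = Submodule.Quotient.mk m := by
      rw [LinearEquiv.symm_apply_eq]; rfl
    have hv : π v = 0 := by rw [← LinearMap.mem_ker, hker]; exact Submodule.mem_span_singleton_self v
    simp [s, e, g, hv]
  haveI : Module.Projective A N := Module.Projective.of_split s π hs
  exact Module.free_of_flat_of_isLocalRing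

include hπ hker in
theorem eq_zero_of_free [IsLocalRing A] [Module.Finite A M] [Module.Free A N]
    (hv : v ∈ maximalIdeal A • (⊤ : Submodule A M)) : v = 0 := by
  obtain ⟨s, hs⟩ := π.exists_rightInverse_of_surjective (LinearMap.range_eq_top.mpr hπ)
  have htop : LinearMap.range s = ⊤ := by
    refine top_le_iff.mp (Submodule.le_of_le_smul_of_le_jacobson_bot Module.Finite.fg_top
      (IsLocalRing.maximalIdeal_le_jacobson ⊥) ?_)
    intro m _
    have : m - s (π m) ∈ LinearMap.ker π := by
      rw [LinearMap.mem_ker, map_sub, ← LinearMap.comp_apply, hs, LinearMap.id_apply, sub_self]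
    rw [hker, Submodule.mem_span_singleton] at this
    obtain ⟨a, ha⟩ := this
    exact Submodule.mem_sup.mpr ⟨_, ⟨π m, rfl⟩, _, Submodule.smul_mem _ a hv, by rw [ha, add_sub_cancel]⟩
  obtain ⟨n, rfl⟩ := LinearMap.range_eq_top.mp htop v
  have : π (s n) = 0 := by rw [← LinearMap.mem_ker, hker]; exact Submodule.mem_span_singleton_self _
  rw [← LinearMap.comp_apply, hs, LinearMap.id_apply] at this
  rw [this, map_zero]

include hπ hker in
/-- The locus where a one-relator quotient of a free module is not free has codimension at most the rank. -/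
theorem exists_prime [IsDomain A] [IsLocalRing A] [IsNoetherianRing A] [Module.Free A M] [Module.Finite A M]
    (hrk : (Module.finrank A M : WithBot ℕ∞) < ringKrullDim A) (hv : v ≠ 0) (hN : ¬ Module.Free A N) :
    ∃ Q : PrimeSpectrum A, Q.asIdeal ≠ maximalIdeal A ∧
      ¬ Module.Free (Localization.AtPrime Q.asIdeal) (LocalizedModule Q.asIdeal.primeCompl N) := by
  classical
  let b := Module.Free.chooseBasis A M
  let I : Ideal A := Ideal.span (Set.range fun i => b.repr v i)
  have hI : I ≠ ⊤ := by
    intro h
    have h1 : (1 : A) ∈ I := h ▸ trivial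
    obtain ⟨c, hc⟩ := Ideal.mem_span_range_iff_exists_fun.mp h1
    exact hN (free_of_unimodular π hπ v hker (∑ i, c i • b.coord i) (by simpa using hc))
  obtain ⟨Q, hQ⟩ := Ideal.nonempty_minimalPrimes hI
  haveI hQp : Q.IsPrime := hQ.1.1
  refine ⟨⟨Q, hQp⟩, fun h => ?_, fun hfree => hv ?_⟩
  · have h1 := Ideal.height_le_card_of_mem_minimalPrimes_span (Set.finite_range _) hQ
    rw [show Q = maximalIdeal A from h] at h1
    have h2 : ((maximalIdeal A).height : WithBot ℕ∞) = ringKrullDim A := IsLocalRing.maximalIdeal_height_eq_ringKrullDim
    have h3 : (Set.range fun i => b.repr v i).ncard ≤ Module.finrank A M := by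
      rw [← Set.image_univ, Module.finrank_eq_card_chooseBasisIndex, ← Finset.coe_univ, ← Finset.coe_image,
        Set.ncard_coe_finset]
      exact Finset.card_image_le
    have h4 : (maximalIdeal A).height ≤ (Module.finrank A M : ℕ∞) := h1.trans (by exact_mod_cast h3)
    rw [← h2] at hrk
    exact absurd (WithBot.coe_le_coe.mpr h4) (not_le.mpr hrk)
  · let L := Localization.AtPrime Q
    let S := Q.primeCompl
    let π' : LocalizedModule S M →ₗ[Localization S] LocalizedModule S N := LocalizedModule.map S π
    let ι := LocalizedModule.mkLinearMap S M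
    have hπ' : Function.Surjective π' := LocalizedModule.map_surjective S π hπ
    have hker' : LinearMap.ker π' = Submodule.span (Localization S) {ι v} := by
      refine le_antisymm (fun x hx => ?_) ?_
      · induction x using LocalizedModule.induction_on with
        | h m s =>
          rw [LinearMap.mem_ker] at hx
          rw [LocalizedModule.map_mk, ← LocalizedModule.zero_mk 1, LocalizedModule.mk_eq] at hx
          obtain ⟨t, ht⟩ := hx
          have h0 : π ((t : A) • m) = 0 := by simpa [Submonoid.smul_def] using ht
          rw [← LinearMap.mem_ker, hker, Submodule.mem_span_singleton] at h0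
          obtain ⟨a, ha⟩ := h0
          refine Submodule.mem_span_singleton.mpr ⟨Localization.mk a (t * s), ?_⟩
          rw [LocalizedModule.mkLinearMap_apply, LocalizedModule.mk_smul_mk, mul_one, ha,
            ← Submonoid.smul_def, LocalizedModule.mk_cancel_common_left]
      · rw [Submodule.span_singleton_le_iff_mem, LinearMap.mem_ker, LocalizedModule.mkLinearMap_apply,
          LocalizedModule.map_mk, show π v = 0 by rw [← LinearMap.mem_ker, hker]; exact Submodule.mem_span_singleton_self v,
          LocalizedModule.zero_mk]
    haveI : Module.Free (Localization S) (LocalizedModule S N) := hfree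
    haveI : IsLocalRing (Localization S) := inferInstanceAs (IsLocalRing L)
    haveI : Module.Finite (Localization S) (LocalizedModule S M) := Module.Finite.of_isLocalizedModule S ι
    have hmem : ι v ∈ maximalIdeal (Localization S) • (⊤ : Submodule (Localization S) (LocalizedModule S M)) := by
      rw [← b.sum_repr v, map_sum]
      refine Submodule.sum_mem _ fun i _ => ?_
      rw [map_smul, ← IsScalarTower.algebraMap_smul (Localization S) (b.repr v i)]
      refine Submodule.smul_mem_smul ?_ trivial
      exact (IsLocalization.AtPrime.to_map_mem_maximal_iff (Localization S) Q (b.repr v i)).mpr (hQ.1.2 (Ideal.subset_span ⟨i, rfl⟩))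
    have h0 := eq_zero_of_free π' hπ' (ι v) hker' hmem
    rw [LocalizedModule.mkLinearMap_apply, ← LocalizedModule.zero_mk 1, LocalizedModule.mk_eq] at h0
    obtain ⟨t, ht⟩ := h0
    have ht' : (t : A) • v = 0 := by simpa [Submonoid.smul_def] using ht
    exact (smul_eq_zero.mp ht').resolve_left fun h => t.2 (h ▸ Q.zero_mem)

end Groth.Agent.H3CAlg.PrincipalRel
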