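import Groth.Agent.H02CA.SmoothRegular
import Mathlib

/-!
# Smoothness of a quotient by one element
-/

set_option autoImplicit false

universe u

open TensorProduct

namespace Groth.Agent.H3CAlg.PrincipalSmooth

variable (k P S : Type u) [CommRing k] [CommRing P] [CommRing S] [Algebra k P] [Algebra k S]
  [Algebra P S] [IsScalarTower k P S]

/-- A derivation with `D g = 1` gives smoothness of `P/(g)`. -/
theorem formallySmooth_of_derivation [Algebra.FormallySmooth k P]
    (hsurj : Function.Surjective (algebraMap P S)) (g : P)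
    (hker : RingHom.ker (algebraMap P S) = Ideal.span {g})
    (D : Derivation k P S) (hD : D g = 1) : Algebra.FormallySmooth k S := by
  rw [Algebra.FormallySmooth.iff_split_injection hsurj]
  let ψ : S ⊗[P] Ω[P⁄k] →ₗ[P] S := (D.liftKaehlerDifferential.liftBaseChange S).restrictScalars P
  have hg : g ∈ RingHom.ker (algebraMap P S) := hker ▸ Ideal.mem_span_singleton_self g
  let c := Ideal.toCotangent _ (⟨g, hg⟩ : RingHom.ker (algebraMap P S))
  let σ : P →ₗ[P] (RingHom.ker (algebraMap P S)).Cotangent := LinearMap.toSpanSingleton P _ c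
  have hσ : RingHom.ker (algebraMap P S) ≤ LinearMap.ker σ := by
    intro x hx
    rw [LinearMap.mem_ker, LinearMap.toSpanSingleton_apply, ← map_smul,
      Ideal.toCotangent_eq_zero]
    simpa [pow_two] using Ideal.mul_mem_mul hx hg
  let e : (P ⧸ RingHom.ker (algebraMap P S)) ≃ₗ[P] S :=
    { (RingHom.quotientKerEquivOfSurjective hsurj).toAddEquiv with
      map_smul' := fun a x => by
        obtain ⟨x, rfl⟩ := Ideal.Quotient.mk_surjective x
        change algebraMap P S (a * x) = a • algebraMap P S x
        rw [map_mul, Algebra.smul_def] }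
  have he : ∀ x : P, e.symm (algebraMap P S x) = Submodule.Quotient.mk x := fun x =>
    e.symm_apply_eq.mpr rfl
  refine ⟨(Submodule.liftQ _ σ hσ) ∘ₗ e.symm.toLinearMap ∘ₗ ψ, LinearMap.ext fun x => ?_⟩
  obtain ⟨⟨x, hx⟩, rfl⟩ := Ideal.toCotangent_surjective _ x
  obtain ⟨p, rfl⟩ := Ideal.mem_span_singleton'.mp (hker ▸ hx : x ∈ Ideal.span {g})
  have h1 : (⟨p * g, hx⟩ : RingHom.ker (algebraMap P S)) = p • ⟨g, hg⟩ := Subtype.ext rfl
  rw [h1, map_smul, map_smul, LinearMap.id_apply]
  congr 1
  simp only [LinearMap.comp_apply, KaehlerDifferential.kerCotangentToTensor_toCotangent]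
  have h2 : ψ (1 ⊗ₜ[P] KaehlerDifferential.D k P g) = algebraMap P S 1 := by
    change (D.liftKaehlerDifferential.liftBaseChange S) _ = _
    rw [LinearMap.liftBaseChange_tmul, one_smul, Derivation.liftKaehlerDifferential_comp_D, hD,
      map_one]
  rw [h2, LinearEquiv.coe_coe, he, Submodule.liftQ_apply, LinearMap.toSpanSingleton_apply, one_smul]

/-- Conversely, when `(g)/(g²)` is free of rank one. -/
theorem exists_derivation [Algebra.FormallySmooth k P] [Algebra.FormallySmooth k S]
    (hsurj : Function.Surjective (algebraMap P S)) (g : P)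
    (hker : RingHom.ker (algebraMap P S) = Ideal.span {g})
    (hg : g ∈ nonZeroDivisors P) : ∃ D : Derivation k P S, D g = 1 := by
  obtain ⟨l, hl⟩ := (Algebra.FormallySmooth.iff_split_injection (R := k) hsurj).mp inferInstance
  have hgk : g ∈ RingHom.ker (algebraMap P S) := hker ▸ Ideal.mem_span_singleton_self g
  let τ : P →ₗ[P] RingHom.ker (algebraMap P S) := LinearMap.toSpanSingleton P _ ⟨g, hgk⟩
  have hτ : Function.Bijective τ := by
    refine ⟨fun a b hab => ?_, fun x => ?_⟩
    · have h := congrArg Subtype.val hab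
      exact (mul_cancel_right_mem_nonZeroDivisors hg).mp h
    · obtain ⟨p, hp⟩ := Ideal.mem_span_singleton'.mp (hker ▸ x.2 : (x : P) ∈ Ideal.span {g})
      exact ⟨p, Subtype.ext hp⟩
  let θ' : RingHom.ker (algebraMap P S) →ₗ[P] S :=
    (Algebra.linearMap P S) ∘ₗ (LinearEquiv.ofBijective τ hτ).symm.toLinearMap
  have hθ' : ∀ p, θ' (τ p) = algebraMap P S p := fun p => by
    change algebraMap P S ((LinearEquiv.ofBijective τ hτ).symm
      ((LinearEquiv.ofBijective τ hτ) p)) = _
    rw [LinearEquiv.symm_apply_apply]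
  have hθ : (RingHom.ker (algebraMap P S) • ⊤ : Submodule P (RingHom.ker (algebraMap P S))) ≤
      LinearMap.ker θ' := by
    rw [Submodule.smul_le]
    intro a ha x _
    rw [LinearMap.mem_ker, map_smul, Algebra.smul_def, RingHom.mem_ker.mp ha, zero_mul]
  let θ : (RingHom.ker (algebraMap P S)).Cotangent →ₗ[P] S := Submodule.liftQ _ θ' hθ
  let Φ : Ω[P⁄k] →ₗ[P] S := θ ∘ₗ l ∘ₗ (TensorProduct.mk P S Ω[P⁄k] 1)
  refine ⟨Φ.compDer (KaehlerDifferential.D k P), ?_⟩
  change θ (l (1 ⊗ₜ[P] KaehlerDifferential.D k P g)) = 1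
  rw [show (1 : S) ⊗ₜ[P] KaehlerDifferential.D k P g = KaehlerDifferential.kerCotangentToTensor k P S
      (Ideal.toCotangent _ ⟨g, hgk⟩) from
    (KaehlerDifferential.kerCotangentToTensor_toCotangent k P S ⟨g, hgk⟩).symm,
    show l (KaehlerDifferential.kerCotangentToTensor k P S (Ideal.toCotangent _ ⟨g, hgk⟩)) =
      Ideal.toCotangent _ ⟨g, hgk⟩ from LinearMap.congr_fun hl _]
  have h := hθ' 1
  simp only [τ, LinearMap.toSpanSingleton_apply, one_smul, map_one] at h
  exact h

/-- An irreducible element of a smooth algebra over a field is a non-zero-divisor. -/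
theorem mem_nonZeroDivisors_of_irreducible (k A : Type u) [Field k] [CommRing A] [Algebra k A]
    [Algebra.Smooth k A] {s : A} (hs : Irreducible s) : s ∈ nonZeroDivisors A := by
  have := H02CA.isRegularRing_of_smooth k A
  rw [mem_nonZeroDivisors_iff_right]
  intro z hz
  obtain ⟨u, hu, v, hv, huv⟩ : ∃ u ∈ LinearMap.ker (LinearMap.toSpanSingleton A A s),
      ∃ v ∈ LinearMap.ker (LinearMap.toSpanSingleton A A z), u + v = 1 := by
    rw [← Submodule.mem_sup]
    refine (Ideal.eq_top_iff_one _).mp ?_
    by_contra hne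
    obtain ⟨m, hm, hle⟩ := Ideal.exists_le_maximal _ hne
    have : IsRegularLocalRing (Localization.AtPrime m) :=
      IsRegularRing.isRegularLocalRing_localization m
    have := H4Depth.isDomain_of_isRegularLocalRing (Localization.AtPrime m)
    rcases mul_eq_zero.mp (show algebraMap A (Localization.AtPrime m) z *
        algebraMap A (Localization.AtPrime m) s = 0 by rw [← map_mul, hz, map_zero]) with h | h
    · obtain ⟨t, ht⟩ := (IsLocalization.map_eq_zero_iff m.primeCompl _ z).mp h
      exact t.2 (hle (Submodule.mem_sup_right (by simpa using ht)))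
    · obtain ⟨t, ht⟩ := (IsLocalization.map_eq_zero_iff m.primeCompl _ s).mp h
      exact t.2 (hle (Submodule.mem_sup_left (by simpa using ht)))
  have hus : u * s = 0 := by simpa using hu
  have hvz : v * z = 0 := by simpa using hv
  have hsv : s = v * s := by
    conv_lhs => rw [← one_mul s, ← huv, add_mul, hus, zero_add]
  rcases hs.isUnit_or_isUnit hsv with h | h
  · exact h.mul_right_eq_zero.mp hvz
  · exact absurd h hs.not_isUnit

end Groth.Agent.H3CAlg.PrincipalSmooth
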