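import Mathlib.LinearAlgebra.TensorProduct.Tower
import Mathlib.LinearAlgebra.Finsupp.LSum
import Mathlib.RingTheory.TensorProduct.Basic
import Mathlib.Algebra.Module.Projective
import Mathlib.Tactic

/-!
Rings where injective maps `R → R^n` split: injective maps of projective modules are universally
injective.
-/

namespace Groth.Agent.H3CAlg

open TensorProduct

universe u

variable {R : Type u} [CommRing R]
  (hsp : ∀ (n : ℕ) (u : R →ₗ[R] (Fin n → R)), Function.Injective u →
        ∃ v : (Fin n → R) →ₗ[R] R, v.comp u = LinearMap.id)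

include hsp in
theorem PropertyP.exists_retraction_one (P : Type u) [AddCommGroup P] [Module R P] [Module.Projective R P]
    (u : R →ₗ[R] P) (hu : Function.Injective u) : ∃ v : P →ₗ[R] R, v.comp u = LinearMap.id := by
  classical
  obtain ⟨s, hs⟩ := Module.projective_def'.mp ‹Module.Projective R P›
  let T := (s (u 1)).support
  let j : Fin T.card → P := fun i => (T.equivFin.symm i : P)
  let ρ : (P →₀ R) →ₗ[R] (Fin T.card → R) := LinearMap.pi fun i => Finsupp.lapply (j i)
  have hinj : Function.Injective (ρ.comp (s.comp u)) := by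
    rw [injective_iff_map_eq_zero]
    intro r hr
    have h1 : s (u r) = 0 := by
      have hr' : s (u r) = r • s (u 1) := by rw [← map_smul, ← map_smul, smul_eq_mul, mul_one]
      ext p
      by_cases hp : p ∈ T
      · have := congrFun hr (T.equivFin ⟨p, hp⟩)
        simpa [ρ, j] using this
      · rw [hr', Finsupp.smul_apply, Finsupp.notMem_support_iff.mp hp, smul_zero, Finsupp.zero_apply]
    have h2 : u r = 0 := by
      have := congrArg (Finsupp.linearCombination R id) h1
      rwa [map_zero, ← LinearMap.comp_apply, hs] at this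
    exact hu (by rw [h2, map_zero])
  obtain ⟨v, hv⟩ := hsp _ _ hinj
  exact ⟨(v.comp ρ).comp s, by rw [LinearMap.comp_assoc, LinearMap.comp_assoc, hv]⟩

include hsp in
theorem PropertyP.exists_retraction : ∀ (n : ℕ) (P : Type u) [AddCommGroup P] [Module R P] [Module.Projective R P]
    (u : (Fin n → R) →ₗ[R] P), Function.Injective u → ∃ v : P →ₗ[R] (Fin n → R), v.comp u = LinearMap.id := by
  intro n
  induction n with
  | zero => exact fun P _ _ _ u _ => ⟨0, LinearMap.ext fun x => funext fun i => i.elim0⟩
  | succ n ih =>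
    intro P _ _ _ u hu
    let cons : (R × (Fin n → R)) ≃ₗ[R] (Fin (n + 1) → R) := Fin.consLinearEquiv R (fun _ => R)
    let u' := u.comp cons.toLinearMap
    have hu' : Function.Injective u' := hu.comp cons.injective
    obtain ⟨v0, hv0⟩ := PropertyP.exists_retraction_one hsp P (u'.comp (LinearMap.inl R R (Fin n → R)))
      (hu'.comp LinearMap.inl_injective)
    have hv0' : ∀ r, v0 (u' (r, 0)) = r := fun r => LinearMap.congr_fun hv0 r
    let proj : P →ₗ[R] P := LinearMap.id - ((u'.comp (LinearMap.inl R R (Fin n → R))).comp v0)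
    have hproj : ∀ p, proj p ∈ LinearMap.ker v0 := fun p => by
      rw [LinearMap.mem_ker]; simp [proj, hv0']
    let π : P →ₗ[R] LinearMap.ker v0 := proj.codRestrict _ hproj
    haveI : Module.Projective R (LinearMap.ker v0) := by
      refine Module.Projective.of_split (LinearMap.ker v0).subtype π (LinearMap.ext fun p => Subtype.ext ?_)
      have : v0 p.1 = 0 := p.2
      simp [π, proj, this, ← Prod.zero_eq_mk]
    let w' : (Fin n → R) →ₗ[R] LinearMap.ker v0 := π.comp (u'.comp (LinearMap.inr R R (Fin n → R)))
    have hw' : Function.Injective w' := by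
      rw [injective_iff_map_eq_zero]
      intro x hx
      have h1 : u' (0, x) - u' (v0 (u' (0, x)), 0) = 0 := congrArg Subtype.val hx
      rw [← map_sub] at h1
      have := (injective_iff_map_eq_zero _).mp hu' _ h1
      simpa using congrArg Prod.snd this
    obtain ⟨w, hw⟩ := ih _ w' hw'
    let q : P →ₗ[R] (Fin n → R) := w.comp π
    let v1 : P →ₗ[R] R := v0 - v0.comp ((u'.comp (LinearMap.inr R R (Fin n → R))).comp q)
    refine ⟨cons.toLinearMap.comp (v1.prod q), LinearMap.ext fun x => ?_⟩
    obtain ⟨⟨r, y⟩, rfl⟩ := cons.surjective x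
    show cons (v1 (u' (r, y)), q (u' (r, y))) = cons (r, y)
    have hq : q (u' (r, y)) = y := by
      have hr : π (u' (r, 0)) = 0 := Subtype.ext (by simp [π, proj, hv0'])
      rw [show (r, y) = (r, 0) + ((0 : R), y) by simp, map_add, show q = w.comp π from rfl, LinearMap.comp_apply,
        map_add, hr, zero_add]
      exact LinearMap.congr_fun hw y
    congr 1
    refine Prod.ext ?_ hq
    show v0 (u' (r, y)) - v0 (u' (0, q (u' (r, y)))) = r
    rw [hq, ← map_sub, ← map_sub]
    simp [hv0']

include hsp in
theorem PropertyP.rTensor_injective {N M : Type u} [AddCommGroup N] [Module R N] [Module.Projective R N]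
    [AddCommGroup M] [Module R M] [Module.Projective R M] (u : N →ₗ[R] M) (hu : Function.Injective u)
    (Q : Type u) [AddCommGroup Q] [Module R Q] : Function.Injective (u.rTensor Q) := by
  classical
  obtain ⟨s, hs⟩ := Module.projective_def'.mp ‹Module.Projective R N›
  set π : (N →₀ R) →ₗ[R] N := Finsupp.linearCombination R id with hπ
  let u2 : (N →₀ R) →ₗ[R] M × (N →₀ R) := (u.comp π).prod (LinearMap.id - s.comp π)
  have hu2 : Function.Injective u2 := by
    rw [injective_iff_map_eq_zero]
    intro f hf
    have h1 : π f = 0 := hu (by rw [map_zero]; exact congrArg Prod.fst hf)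
    have h2 := congrArg Prod.snd hf
    simpa [u2, h1] using h2
  rw [injective_iff_map_eq_zero]
  intro z hz
  let jmap : (T : Finset N) → (Fin T.card → R) →ₗ[R] (N →₀ R) := fun T =>
    ∑ i, (Finsupp.lsingle (T.equivFin.symm i : N)).comp (LinearMap.proj i)
  let rmap : (T : Finset N) → (N →₀ R) →ₗ[R] (Fin T.card → R) := fun T =>
    LinearMap.pi fun i => Finsupp.lapply (T.equivFin.symm i : N)
  have hjr : ∀ (T : Finset N) (f : N →₀ R), f.support ⊆ T → jmap T (rmap T f) = f := by
    intro T f hf
    simp only [jmap, rmap, LinearMap.sum_apply, LinearMap.comp_apply, LinearMap.proj_apply, LinearMap.pi_apply,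
      Finsupp.lapply_apply, Finsupp.lsingle_apply]
    rw [Equiv.sum_comp T.equivFin.symm (fun x : T => Finsupp.single (x : N) (f x)),
      Finset.sum_coe_sort T (fun x => Finsupp.single x (f x))]
    exact (Finset.sum_subset hf fun x _ hx => by
      rw [Finsupp.notMem_support_iff.mp hx, Finsupp.single_zero]).symm.trans f.sum_single
  have hinjj : ∀ T, Function.Injective (jmap T) := fun T => by
    have : (rmap T).comp (jmap T) = LinearMap.id := by
      refine LinearMap.ext fun x => funext fun i => ?_
      simp [jmap, rmap, Finsupp.single_apply, Subtype.coe_inj, Finset.sum_ite_eq', T.equivFin.symm.injective.eq_iff]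
    exact Function.LeftInverse.injective (g := rmap T) fun x => LinearMap.congr_fun this x
  have hfin : ∀ y : (N →₀ R) ⊗[R] Q, ∃ T₀ : Finset N, ∀ T, T₀ ⊆ T → ((jmap T).comp (rmap T)).rTensor Q y = y := by
    intro y
    induction y using TensorProduct.induction_on with
    | zero => exact ⟨∅, fun T _ => map_zero _⟩
    | tmul f q => exact ⟨f.support, fun T hT => by rw [LinearMap.rTensor_tmul, LinearMap.comp_apply, hjr T f hT]⟩
    | add a b ha hb =>
      obtain ⟨Ta, ha⟩ := ha
      obtain ⟨Tb, hb⟩ := hb
      exact ⟨Ta ∪ Tb, fun T hT => by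
        rw [map_add, ha T (Finset.union_subset_iff.mp hT).1, hb T (Finset.union_subset_iff.mp hT).2]⟩
  obtain ⟨T, hT⟩ := hfin (s.rTensor Q z)
  obtain ⟨v, hv⟩ := PropertyP.exists_retraction hsp _ (M × (N →₀ R)) (u2.comp (jmap T)) (hu2.comp (hinjj T))
  have hu2s : u2.comp s = (LinearMap.inl R M (N →₀ R)).comp u := by
    have hps : ∀ n, π (s n) = n := fun n => LinearMap.congr_fun hs n
    refine LinearMap.ext fun n => Prod.ext (congrArg u (hps n)) ?_
    simp [u2, hps]
  have h0 : u2.rTensor Q (s.rTensor Q z) = 0 := by
    rw [← LinearMap.comp_apply, ← LinearMap.rTensor_comp, hu2s, LinearMap.rTensor_comp, LinearMap.comp_apply, hz, map_zero]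
  have h1 : (rmap T).rTensor Q (s.rTensor Q z) = 0 := by
    have := congrArg (v.rTensor Q) h0
    rw [map_zero, ← hT T subset_rfl, LinearMap.rTensor_comp, LinearMap.comp_apply, ← LinearMap.comp_apply (v.rTensor Q),
      ← LinearMap.rTensor_comp, ← LinearMap.comp_apply, ← LinearMap.rTensor_comp, LinearMap.comp_assoc, hv,
      LinearMap.rTensor_id, LinearMap.id_apply] at this
    exact this
  have h2 : s.rTensor Q z = 0 := by
    rw [← hT T subset_rfl, LinearMap.rTensor_comp, LinearMap.comp_apply, h1, map_zero]
  have := congrArg (π.rTensor Q) h2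
  rwa [map_zero, ← LinearMap.comp_apply, ← LinearMap.rTensor_comp, hs, LinearMap.rTensor_id, LinearMap.id_apply] at this

end Groth.Agent.H3CAlg
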