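import Groth.Agent.H3CAlg.NagataFP
import Groth.Agent.H1CAlg.FlatFiniteType
import Mathlib.RingTheory.FinitePresentation
import Mathlib.RingTheory.Flat.Localization
import Mathlib.RingTheory.Localization.AtPrime.Basic

/-!
Finitely generated ideals of finitely presented algebras over Prüfer domains are finitely presented.
-/

universe u v

namespace Groth.Agent.H3CAlg.PruferCoherent

open MvPolynomial

variable {R : Type u} [CommRing R] [IsDomain R]

theorem flat_of_torsion_free (hR : ∀ (p : Ideal R) [p.IsPrime], ValuationRing (Localization.AtPrime p))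
    (M : Type u) [AddCommGroup M] [Module R M] (htf : ∀ (r : R) (x : M), r • x = 0 → r = 0 ∨ x = 0) :
    Module.Flat R M := by
  refine Module.flat_of_localized_maximal _ fun p _ => ?_
  haveI := hR p
  haveI : IsDomain (Localization p.primeCompl) :=
    IsLocalization.isDomain_localization p.primeCompl_le_nonZeroDivisors
  haveI : ValuationRing (Localization p.primeCompl) := hR p
  haveI : Module.Flat (Localization p.primeCompl) (LocalizedModule p.primeCompl M) := by
    rw [Module.Flat.flat_iff_torsion_eq_bot_of_isBezout, eq_bot_iff]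
    intro z hz
    obtain ⟨⟨c, hc⟩, hcz⟩ := Submodule.mem_torsion_iff _ |>.mp hz
    change c • z = 0 at hcz
    induction z using LocalizedModule.induction_on with
    | h m s =>
      induction c using Localization.induction_on with
      | H a =>
        obtain ⟨a, t⟩ := a
        rw [LocalizedModule.mk_smul_mk, ← LocalizedModule.zero_mk 1, LocalizedModule.mk_eq] at hcz
        obtain ⟨v, hv⟩ := hcz
        rw [Submodule.mem_bot, ← LocalizedModule.zero_mk 1, LocalizedModule.mk_eq]
        have hv' : ((v : R) * a) • m = 0 := by simpa [Submonoid.smul_def, mul_smul] using hv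
        rcases htf _ _ hv' with h | h
        · rcases mul_eq_zero.mp h with h | h
          · exact absurd (h ▸ v.2) (fun h0 => h0 p.zero_mem)
          · exact absurd (show Localization.mk a t = (0 : Localization p.primeCompl) by rw [h, Localization.mk_zero])
              (nonZeroDivisors.ne_zero hc)
        · exact ⟨1, by simp [h]⟩
  exact Module.Flat.trans R (Localization p.primeCompl) _

theorem smul_add_helper {S : Type*} [CommRing S] {n : ℕ} (a b : S) (x y : Fin n → S) :
    (a * b) • (x + y) = b • (a • x) + a • (b • y) := by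
  rw [smul_add, smul_smul, smul_smul, mul_comm b a]

variable {σ : Type v} [Finite σ] {n : ℕ}

theorem exists_local_fg (hR : ∀ (p : Ideal R) [p.IsPrime], ValuationRing (Localization.AtPrime p))
    (K : Submodule (MvPolynomial σ R) (Fin n → MvPolynomial σ R))
    (hsat : ∀ (c : R) (v : Fin n → MvPolynomial σ R), c ≠ 0 → c • v ∈ K → v ∈ K) (p : Ideal R) [p.IsPrime] :
    ∃ J : Submodule (MvPolynomial σ R) (Fin n → MvPolynomial σ R), J.FG ∧ J ≤ K ∧
      ∀ x ∈ K, ∃ r : R, r ∉ p ∧ algebraMap R (MvPolynomial σ R) r • x ∈ J := by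
  classical
  let L := Localization.AtPrime p
  haveI : ValuationRing L := hR p
  haveI : IsDomain L := IsLocalization.isDomain_localization p.primeCompl_le_nonZeroDivisors
  have hinj : Function.Injective (algebraMap R L) := IsLocalization.injective L p.primeCompl_le_nonZeroDivisors
  let φ : (Fin n → MvPolynomial σ R) →+ (Fin n → MvPolynomial σ L) :=
    (MvPolynomial.map (algebraMap R L)).toAddMonoidHom.compLeft (Fin n)
  have hφinj : Function.Injective φ := fun a b h => funext fun i =>
    MvPolynomial.map_injective _ hinj (congrFun h i)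
  have hφsmul : ∀ (q : MvPolynomial σ R) v, φ (q • v) = MvPolynomial.map (algebraMap R L) q • φ v := fun q v =>
    funext fun i => by simp [φ]
  have hden : ∀ q : MvPolynomial σ L, ∃ s : R, s ∉ p ∧ ∃ q₀, MvPolynomial.map (algebraMap R L) q₀ = C (algebraMap R L s) * q := by
    intro q
    induction q using MvPolynomial.induction_on' with
    | monomial m a =>
      obtain ⟨⟨r, s⟩, hrs⟩ := IsLocalization.surj p.primeCompl a
      exact ⟨s, s.2, monomial m r, by rw [map_monomial, C_mul_monomial, mul_comm]; exact congrArg _ hrs.symm⟩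
    | add a b ha hb =>
      obtain ⟨s, hs, a₀, ha₀⟩ := ha
      obtain ⟨t, ht, b₀, hb₀⟩ := hb
      exact ⟨s * t, p.primeCompl.mul_mem hs ht, C t * a₀ + C s * b₀, by
        rw [map_add, map_mul, map_mul, map_C, map_C, ha₀, hb₀, map_mul, map_mul]; ring⟩
  let K' : Submodule (MvPolynomial σ L) (Fin n → MvPolynomial σ L) :=
    { carrier := {v | ∃ r : R, r ∉ p ∧ ∃ k ∈ K, C (algebraMap R L r) • v = φ k}
      zero_mem' := ⟨1, p.primeCompl.one_mem, 0, zero_mem _, by rw [smul_zero, map_zero]⟩
      add_mem' := by
        rintro a b ⟨r, hr, k, hk, hka⟩ ⟨s, hs, l, hl, hlb⟩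
        refine ⟨r * s, p.primeCompl.mul_mem hr hs, C s • k + C r • l, add_mem (K.smul_mem _ hk) (K.smul_mem _ hl), ?_⟩
        rw [map_add, hφsmul, hφsmul, map_C, map_C, ← hka, ← hlb]
        rw [map_mul, map_mul]
        exact smul_add_helper _ _ a b
      smul_mem' := by
        rintro q a ⟨r, hr, k, hk, hka⟩
        obtain ⟨s, hs, q₀, hq₀⟩ := hden q
        refine ⟨r * s, p.primeCompl.mul_mem hr hs, q₀ • k, K.smul_mem _ hk, ?_⟩
        rw [hφsmul, hq₀, ← hka, smul_smul, smul_smul, map_mul, map_mul]
        congr 1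
        ring }
  have hdenv : ∀ v : Fin n → MvPolynomial σ L, ∃ s : R, s ∉ p ∧ ∃ w, φ w = (C (algebraMap R L s) : MvPolynomial σ L) • v := by
    intro v
    choose s hs w hw using fun i => hden (v i)
    refine ⟨∏ i, s i, p.primeCompl.prod_mem fun i _ => hs i, fun i => C (∏ j ∈ Finset.univ.erase i, s j) * w i, funext fun i => ?_⟩
    change MvPolynomial.map (algebraMap R L) (C (∏ j ∈ Finset.univ.erase i, s j) * w i) = C (algebraMap R L (∏ i, s i)) * v i
    rw [map_mul, map_C, hw, ← mul_assoc, ← map_mul, ← map_mul, Finset.prod_erase_mul _ _ (Finset.mem_univ i)]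
  have hsat' : ∀ (c : L) (v : Fin n → MvPolynomial σ L), c ≠ 0 → c • v ∈ K' → v ∈ K' := by
    rintro c v hc ⟨r, hr, k, hk, hkv⟩
    obtain ⟨⟨a, t⟩, hat⟩ := IsLocalization.surj p.primeCompl c
    obtain ⟨s, hs, w, hw⟩ := hdenv v
    refine ⟨s, hs, w, hsat (r * a) w ?_ ?_, hw.symm⟩
    · refine mul_ne_zero (fun h => hr (h ▸ p.zero_mem)) fun h => ?_
      simp only [h, map_zero] at hat
      exact hc ((mul_eq_zero.mp hat).resolve_right ((map_ne_zero_iff _ hinj).mpr fun h' => t.2 (h' ▸ p.zero_mem)))
    · have : (r * a) • w = C ((t : R) * s) • k := hφinj (by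
        rw [← algebraMap_smul (MvPolynomial σ R) (r * a), algebraMap_eq, hφsmul, hφsmul, hw, map_C, map_C, ← hkv,
          ← algebraMap_smul (MvPolynomial σ L) c, algebraMap_eq, smul_smul, smul_smul, smul_smul, ← map_mul, ← map_mul,
          ← map_mul, map_mul (algebraMap R L), map_mul (algebraMap R L), ← hat]
        congr 1
        simp only [map_mul]
        ring)
      rw [this]
      exact K.smul_mem _ hk
  obtain ⟨S, hS⟩ := NagataFP.fg_of_saturated K' hsat'
  choose rr hrr kk hkk hkke using fun g : S => (show (g : Fin n → MvPolynomial σ L) ∈ K' from hS ▸ Submodule.subset_span g.2)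
  refine ⟨Submodule.span _ (Set.range kk), Submodule.fg_span (Set.finite_range kk),
    Submodule.span_le.mpr (by rintro _ ⟨g, rfl⟩; exact hkk g), fun x hx => ?_⟩
  have hcl : ∀ v ∈ K', ∃ r : R, r ∉ p ∧ ∃ j ∈ Submodule.span (MvPolynomial σ R) (Set.range kk), (C (algebraMap R L r) : MvPolynomial σ L) • v = φ j := by
    intro v hv
    rw [← hS] at hv
    induction hv using Submodule.span_induction with
    | mem g hg => exact ⟨rr ⟨g, hg⟩, hrr ⟨g, hg⟩, kk ⟨g, hg⟩, Submodule.subset_span ⟨_, rfl⟩, hkke ⟨g, hg⟩⟩
    | zero => exact ⟨1, p.primeCompl.one_mem, 0, zero_mem _, by rw [smul_zero, map_zero]⟩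
    | add a b _ _ ha hb =>
      obtain ⟨r, hr, k, hk, hka⟩ := ha
      obtain ⟨s, hs, l, hl, hlb⟩ := hb
      refine ⟨r * s, p.primeCompl.mul_mem hr hs, C s • k + C r • l,
        add_mem (Submodule.smul_mem _ _ hk) (Submodule.smul_mem _ _ hl), ?_⟩
      rw [map_add, hφsmul, hφsmul, map_C, map_C, ← hka, ← hlb]
      rw [map_mul, map_mul]
      exact smul_add_helper _ _ a b
    | smul q a _ ha =>
      obtain ⟨r, hr, k, hk, hka⟩ := ha
      obtain ⟨s, hs, q₀, hq₀⟩ := hden q
      refine ⟨r * s, p.primeCompl.mul_mem hr hs, q₀ • k, Submodule.smul_mem _ _ hk, ?_⟩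
      rw [hφsmul, hq₀, ← hka, smul_smul, smul_smul, map_mul, map_mul]
      congr 1
      ring
  obtain ⟨r, hr, j, hj, hje⟩ := hcl (φ x) ⟨1, p.primeCompl.one_mem, x, hx, by simp⟩
  refine ⟨r, hr, ?_⟩
  rw [← map_C, ← hφsmul] at hje
  rw [algebraMap_eq, hφinj hje]
  exact hj

theorem finitePresentation_ideal (hR : ∀ (p : Ideal R) [p.IsPrime], ValuationRing (Localization.AtPrime p))
    (A : Type u) [CommRing A] [Algebra R A] [Algebra.FinitePresentation R A]
    (I : Ideal A) (hI : I.FG) : Module.FinitePresentation A I := by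
  classical
  obtain ⟨m, f, hf, hker⟩ := ‹Algebra.FinitePresentation R A›.out
  obtain ⟨k, g, hg⟩ := Submodule.fg_iff_exists_fin_generating_family.mp hI
  choose g' hg' using fun i => hf (g i)
  have hker' : (RingHom.ker f).FG := hker
  obtain ⟨l, q, hq⟩ := Submodule.fg_iff_exists_fin_generating_family.mp hker'
  let π : (Fin (k + l) → MvPolynomial (Fin m) R) →ₗ[MvPolynomial (Fin m) R] MvPolynomial (Fin m) R :=
    Fintype.linearCombination (MvPolynomial (Fin m) R) (Fin.append g' q)
  haveI : Module.Flat R (LinearMap.range π) := flat_of_torsion_free hR _ fun r x hx => by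
    have h : r • (x : MvPolynomial (Fin m) R) = 0 := congrArg Subtype.val hx
    rw [smul_eq_C_mul, mul_eq_zero] at h
    rcases h with h | h
    · exact Or.inl (C_eq_zero.mp h)
    · exact Or.inr (Subtype.ext h)
  let s : Finset (PrimeSpectrum R) := {⟨⊥, Ideal.isPrime_bot⟩}
  have hs : Function.Injective fun r : R => fun p : s => algebraMap R (Localization.AtPrime p.1.asIdeal) r := by
    intro a b h
    exact IsLocalization.injective (Localization.AtPrime (⊥ : Ideal R)) ((⊥ : Ideal R).primeCompl_le_nonZeroDivisors)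
      (congrFun h ⟨⟨⊥, Ideal.isPrime_bot⟩, Finset.mem_singleton_self _⟩)
  have hKfg : (LinearMap.ker π).FG := by
    rw [← LinearMap.ker_rangeRestrict]
    refine H1CAlg.FlatFiniteType.ker_fg π.rangeRestrict π.surjective_rangeRestrict s hs fun p _ => ?_
    refine exists_local_fg hR _ (fun c v hc hv => ?_) p
    rw [LinearMap.mem_ker] at hv ⊢
    refine Subtype.ext ?_
    have h := congrArg Subtype.val hv
    change π (c • v) = 0 at h
    rw [LinearMap.map_smul_of_tower, smul_eq_C_mul, mul_eq_zero] at h
    exact h.resolve_left fun h' => hc (C_eq_zero.mp h')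
  -- the preimage of the kernel
  have hT : (Submodule.comap π (RingHom.ker f)).FG := by
    have hle : RingHom.ker f ≤ LinearMap.range π := by
      rw [← hq, Submodule.span_le]
      rintro _ ⟨j, rfl⟩
      exact ⟨Pi.single (Fin.natAdd k j) 1, by simp [π, Fintype.linearCombination_apply_single]⟩
    refine Submodule.fg_of_fg_map_of_fg_inf_ker π ?_ ?_
    · rw [Submodule.map_comap_eq, inf_eq_right.mpr hle]; exact hker'
    · rw [inf_eq_right.mpr (fun z hz => by change π z ∈ RingHom.ker f; rw [LinearMap.mem_ker.mp hz]; exact zero_mem _)]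
      exact hKfg
  let πA : (Fin (k + l) → A) →ₗ[A] A := Fintype.linearCombination A (fun i => f (Fin.append g' q i))
  have hπ : ∀ z, πA (fun i => f (z i)) = f (π z) := fun z => by
    simp [πA, π, Fintype.linearCombination_apply, map_sum]
  have hrange : LinearMap.range πA = I := by
    refine le_antisymm ?_ ?_
    · rw [Fintype.range_linearCombination, Submodule.span_le]
      rintro _ ⟨i, rfl⟩
      induction i using Fin.addCases with
      | left i => simp only [Fin.append_left, hg']; exact hg ▸ Submodule.subset_span ⟨i, rfl⟩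
      | right j =>
        simp only [Fin.append_right]
        rw [show f (q j) = 0 from (hq ▸ Submodule.subset_span ⟨j, rfl⟩ : q j ∈ RingHom.ker f)]
        exact zero_mem _
    · rw [← hg, Submodule.span_le]
      rintro _ ⟨i, rfl⟩
      exact ⟨Pi.single (Fin.castAdd l i) 1, by simp [πA, Fintype.linearCombination_apply_single, hg']⟩
  obtain ⟨T, hT⟩ := hT
  have hkerA : (LinearMap.ker πA).FG := by
    refine ⟨T.image fun z i => f (z i), le_antisymm (Submodule.span_le.mpr ?_) fun c hc => ?_⟩
    · rw [Finset.coe_image]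
      rintro _ ⟨z, hz, rfl⟩
      have : z ∈ Submodule.comap π (RingHom.ker f) := hT ▸ Submodule.subset_span hz
      exact (hπ z).trans this
    · choose z hz using fun i => hf (c i)
      have hcz : c = fun i => f (z i) := funext fun i => (hz i).symm
      have hzT : z ∈ Submodule.span (MvPolynomial (Fin m) R) (T : Set (Fin (k + l) → MvPolynomial (Fin m) R)) := by
        rw [hT]
        rw [hcz, LinearMap.mem_ker, hπ] at hc
        exact hc
      rw [hcz]
      clear hcz hz hc
      induction hzT using Submodule.span_induction with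
      | mem v hv => exact Submodule.subset_span (Finset.mem_coe.mpr (Finset.mem_image_of_mem _ hv))
      | zero => simp only [Pi.zero_apply, map_zero]; exact zero_mem _
      | add a b _ _ ha hb => simp only [Pi.add_apply, map_add]; exact add_mem ha hb
      | smul r a _ ha => simp only [Pi.smul_apply, smul_eq_mul, map_mul]; exact Submodule.smul_mem _ (f r) ha
  haveI := Module.finitePresentation_of_surjective πA.rangeRestrict πA.surjective_rangeRestrict
    (by rw [LinearMap.ker_rangeRestrict]; exact hkerA)
  exact Module.finitePresentation_of_surjective (LinearEquiv.ofEq _ _ hrange).toLinearMap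
    (LinearEquiv.ofEq _ _ hrange).surjective (by rw [LinearEquiv.ker]; exact Submodule.fg_bot)

end Groth.Agent.H3CAlg.PruferCoherent
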