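import Groth.Prelude.Def_Found
import Mathlib.RingTheory.ZariskisMainTheorem
import Mathlib.RingTheory.AlgebraicIndependent.TranscendenceBasis
import Mathlib.RingTheory.Algebraic.Integral
import Mathlib.RingTheory.Spectrum.Prime.Jacobson
import Mathlib.RingTheory.Valuation.ValuationRing
import Mathlib.RingTheory.KrullDimension.Basic
import Mathlib.RingTheory.Ideal.Height

/-!
The dimension function of a finite type algebra over a finite dimensional Prüfer domain.
-/

universe u

namespace Groth.Agent.H3CAlg.PruferDimFn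

open MvPolynomial

section Isolated

variable {A D : Type u} [CommRing A] [CommRing D] [Algebra A D] [Algebra.FiniteType A D]

/-- A prime alone among the comparable primes of its fibre is a quasi-finite point. -/
theorem quasiFiniteAt_of_isolated (q : PrimeSpectrum D)
    (h : ∀ q' : PrimeSpectrum D, q'.comap (algebraMap A D) = q.comap (algebraMap A D) →
      (q' ≤ q ∨ q ≤ q') → q' = q) : Algebra.QuasiFiniteAt A q.asIdeal := by
  refine .of_isOpen_singleton_fiber q ?_
  let p := q.comap (algebraMap A D)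
  let e := PrimeSpectrum.preimageHomeomorphFiber A D p
  rw [← e.isOpen_image, Set.image_singleton]
  haveI : IsNoetherianRing (p.asIdeal.Fiber D) := Algebra.FiniteType.isNoetherianRing p.asIdeal.ResidueField _
  haveI : IsJacobsonRing (p.asIdeal.Fiber D) := isJacobsonRing_of_finiteType (A := p.asIdeal.ResidueField)
  let q₀ : {x : PrimeSpectrum D // x ∈ PrimeSpectrum.comap (algebraMap A D) ⁻¹' {p}} := ⟨q, rfl⟩
  have key : ∀ y, (y ⤳ e q₀ ∨ e q₀ ⤳ y) → y = e q₀ := by
    intro y hy
    obtain ⟨⟨q', hq'⟩, rfl⟩ := e.surjective y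
    refine congrArg e (Subtype.ext (h q' hq' ?_))
    simp only [e.isInducing.specializes_iff, subtype_specializes_iff] at hy
    simpa only [← PrimeSpectrum.le_iff_specializes] using hy
  have hT := (PrimeSpectrum.isOpen_singleton_tfae_of_isNoetherian_of_isJacobsonRing (e q₀)).out 2 0 rfl rfl
  refine hT.mp ⟨?_, ?_⟩
  · rw [PrimeSpectrum.isClosed_singleton_iff_isMaximal, ← PrimeSpectrum.isMax_iff]
    intro y hy
    exact (key y (Or.inr ((PrimeSpectrum.le_iff_specializes _ _).mp hy))).le
  · intro a b hab ha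
    rw [Set.mem_singleton_iff] at ha
    subst ha
    exact key b (Or.inl hab)

variable [IsDomain D]

/-- Over a quasi-finite point the ambient domain is algebraic. -/
theorem isAlgebraic_of_quasiFiniteAt [IsDomain A] [FaithfulSMul A D] (q : Ideal D) [q.IsPrime]
    [Algebra.QuasiFiniteAt A q] : Algebra.IsAlgebraic A D := by
  obtain ⟨r, hr, hri, H⟩ := Algebra.zariskisMainProperty_iff.mp
    (Algebra.ZariskisMainProperty.of_finiteType (R := A) q)
  have hr0 : r ≠ 0 := fun h0 => hr (h0 ▸ q.zero_mem)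
  refine ⟨fun y => ?_⟩
  obtain ⟨m, hm⟩ := H y
  exact IsAlgebraic.of_mul (mem_nonZeroDivisors_of_ne_zero (pow_ne_zero m hr0))
    (hri.pow m).isAlgebraic hm.isAlgebraic

end Isolated

variable (R : Type u) [CommRing R] {S : Type u} [CommRing S] [Algebra R S]

/-- The transcendence degree of a point over its image. -/
noncomputable def tr (P : Ideal S) : ℕ :=
  Cardinal.toNat (Algebra.trdeg (R ⧸ P.under R) (S ⧸ P))

/-- The value of the dimension function. -/
noncomputable def delta (P : Ideal S) : ℤ := (tr R P : ℤ) - ((P.under R).height.toNat : ℤ)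

variable {R}

/-- The elements stay algebraically independent in the residue ring of `P`. -/
def Indep {n : ℕ} (x : Fin n → S) (P : Ideal S) : Prop :=
  ∀ G : MvPolynomial (Fin n) R, aeval x G ∈ P → ∀ m, G.coeff m ∈ P.under R

theorem aeval_mk {n : ℕ} (x : Fin n → S) (P : Ideal S) (G : MvPolynomial (Fin n) R) :
    aeval (fun i => Ideal.Quotient.mk P (x i)) (map (Ideal.Quotient.mk (P.under R)) G) =
      Ideal.Quotient.mk P (aeval x G) := by
  induction G using MvPolynomial.induction_on with
  | C a => simp [Ideal.Quotient.algebraMap_mk_of_liesOver]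
  | add p r hp hr => simp only [map_add, hp, hr]
  | mul_X p i hp => simp only [map_mul, map_X, aeval_X, hp]

theorem indep_iff {n : ℕ} (x : Fin n → S) (P : Ideal S) :
    Indep (R := R) x P ↔ AlgebraicIndependent (R ⧸ P.under R) (fun i => Ideal.Quotient.mk P (x i)) := by
  rw [algebraicIndependent_iff]
  constructor
  · intro h g hg
    obtain ⟨G, rfl⟩ := map_surjective (Ideal.Quotient.mk (P.under R)) Ideal.Quotient.mk_surjective g
    rw [aeval_mk, Ideal.Quotient.eq_zero_iff_mem] at hg
    ext m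
    rw [coeff_map, coeff_zero]
    exact Ideal.Quotient.eq_zero_iff_mem.mpr (h G hg m)
  · intro h G hG m
    have h0 := h (map (Ideal.Quotient.mk (P.under R)) G) (by
      rw [aeval_mk, Ideal.Quotient.eq_zero_iff_mem.mpr hG])
    have h1 := congrArg (coeff m) h0
    rwa [coeff_map, coeff_zero, Ideal.Quotient.eq_zero_iff_mem] at h1

variable [Algebra.FiniteType R S]

theorem finiteType_quotient (P : Ideal S) : Algebra.FiniteType (R ⧸ P.under R) (S ⧸ P) :=
  Algebra.FiniteType.of_restrictScalars_finiteType R (R ⧸ P.under R) (S ⧸ P)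

theorem trdeg_lt_aleph0 (P : Ideal S) [P.IsPrime] :
    Algebra.trdeg (R ⧸ P.under R) (S ⧸ P) < Cardinal.aleph0 :=
  haveI := finiteType_quotient (R := R) P
  trdeg_lt_aleph0_of_finiteType

theorem faithfulSMul_quotient (P : Ideal S) : FaithfulSMul (R ⧸ P.under R) (S ⧸ P) :=
  (faithfulSMul_iff_algebraMap_injective _ _).2 ((injective_iff_map_eq_zero _).mpr fun a ha => by
    obtain ⟨a, rfl⟩ := Ideal.Quotient.mk_surjective a
    rw [Ideal.Quotient.algebraMap_mk_of_liesOver, Ideal.Quotient.eq_zero_iff_mem] at ha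
    exact Ideal.Quotient.eq_zero_iff_mem.mpr ha)

theorem Indep.le_tr {n : ℕ} {x : Fin n → S} {P : Ideal S} [P.IsPrime] (h : Indep (R := R) x P) :
    n ≤ tr R P := by
  have h1 := ((indep_iff x P).mp h).lift_cardinalMk_le_trdeg
  have h2 := Cardinal.toNat_le_toNat h1 (Cardinal.lift_lt_aleph0.mpr (trdeg_lt_aleph0 P))
  simpa [tr] using h2

theorem exists_indep (P : Ideal S) [P.IsPrime] : ∃ x : Fin (tr R P) → S, Indep (R := R) x P := by
  haveI := faithfulSMul_quotient (R := R) P
  obtain ⟨s, hs⟩ := exists_isTranscendenceBasis (R ⧸ P.under R) (S ⧸ P)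
  haveI : Finite s := Cardinal.lt_aleph0_iff_finite.mp (hs.cardinalMk_eq_trdeg ▸ trdeg_lt_aleph0 P)
  have hcard : Nat.card s = tr R P := by
    rw [tr, ← hs.cardinalMk_eq_trdeg]
    rfl
  let e : Fin (tr R P) ≃ s := (hcard ▸ Finite.equivFin s).symm
  choose t ht using fun i => Ideal.Quotient.mk_surjective (I := P) ((e i : S ⧸ P))
  refine ⟨t, (indep_iff t P).mpr ?_⟩
  have := hs.1.comp e e.injective
  simp only [ht]
  exact this

/-- A point alone among comparable primes with the same values on `x` bounds the transcendence degree. -/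
theorem tr_le_of_isolated {n : ℕ} (x : Fin n → S) {P Q : Ideal S} [P.IsPrime] [Q.IsPrime] (hPQ : P ≤ Q)
    (h : ∀ C : Ideal S, C.IsPrime → P ≤ C → (C ≤ Q ∨ Q ≤ C) →
      (∀ G : MvPolynomial (Fin n) R, aeval x G ∈ C ↔ aeval x G ∈ Q) → C = Q) :
    tr R P ≤ n := by
  haveI := faithfulSMul_quotient (R := R) P
  haveI := finiteType_quotient (R := R) P
  set xb : Fin n → S ⧸ P := fun i => Ideal.Quotient.mk P (x i) with hxb
  let A := Algebra.adjoin (R ⧸ P.under R) (Set.range xb)
  haveI : Algebra.FiniteType A (S ⧸ P) :=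
    Algebra.FiniteType.of_restrictScalars_finiteType (R ⧸ P.under R) A (S ⧸ P)
  haveI : FaithfulSMul A (S ⧸ P) :=
    (faithfulSMul_iff_algebraMap_injective _ _).2 Subtype.val_injective
  haveI : IsDomain A := inferInstance
  haveI hQb : (Q.map (Ideal.Quotient.mk P)).IsPrime := Ideal.isPrime_map_quotientMk_of_isPrime hPQ
  let Qb : PrimeSpectrum (S ⧸ P) := ⟨Q.map (Ideal.Quotient.mk P), hQb⟩
  have hmem : ∀ a : S, Ideal.Quotient.mk P a ∈ Q.map (Ideal.Quotient.mk P) ↔ a ∈ Q := by
    intro a
    rw [← Ideal.mem_comap, Ideal.comap_map_of_surjective' _ Ideal.Quotient.mk_surjective, Ideal.mk_ker,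
      sup_eq_left.mpr hPQ]
  haveI : Algebra.QuasiFiniteAt A Qb.asIdeal := by
    refine quasiFiniteAt_of_isolated Qb fun C hC hcmp => ?_
    have hCQ : C.asIdeal.comap (Ideal.Quotient.mk P) = Q := by
      refine h _ inferInstance ?_ ?_ ?_
      · intro a ha
        rw [Ideal.mem_comap, Ideal.Quotient.eq_zero_iff_mem.mpr ha]
        exact zero_mem _
      · rcases hcmp with hc | hc
        · exact Or.inl fun a ha => (hmem a).mp (hc ha)
        · exact Or.inr fun a ha => hc ((hmem a).mpr ha)
      · intro G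
        have hG : aeval xb (map (Ideal.Quotient.mk (P.under R)) G) ∈ A := by
          rw [show A = (aeval xb).range from Algebra.adjoin_range_eq_range_aeval _ _]
          exact ⟨_, rfl⟩
        have h1 : C.asIdeal.comap (algebraMap A (S ⧸ P)) =
            (Q.map (Ideal.Quotient.mk P)).comap (algebraMap A (S ⧸ P)) :=
          congrArg PrimeSpectrum.asIdeal hC
        have h2 := SetLike.ext_iff.mp h1 ⟨_, hG⟩
        simp only [Ideal.mem_comap] at h2
        change aeval xb _ ∈ C.asIdeal ↔ aeval xb _ ∈ Q.map _ at h2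
        rw [hxb, aeval_mk, hmem] at h2
        exact h2
    refine PrimeSpectrum.ext ?_
    show C.asIdeal = Q.map (Ideal.Quotient.mk P)
    rw [← hCQ, Ideal.map_comap_of_surjective _ Ideal.Quotient.mk_surjective]
  haveI : Algebra.IsAlgebraic A (S ⧸ P) :=
    isAlgebraic_of_quasiFiniteAt Qb.asIdeal
  have h3 : Algebra.trdeg (R ⧸ P.under R) (S ⧸ P) ≤ (n : Cardinal) := by
    refine (Algebra.IsAlgebraic.trdeg_le_cardinalMk (R := R ⧸ P.under R) (A := S ⧸ P) (Set.range xb)
      (alg := ‹Algebra.IsAlgebraic A (S ⧸ P)›)).trans ?_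
    simpa using Cardinal.mk_range_le_lift (f := xb)
  simpa [tr] using Cardinal.toNat_le_toNat h3 (Cardinal.natCast_lt_aleph0)

theorem exists_bound : ∃ N : ℕ, ∀ (P : Ideal S) [P.IsPrime], tr R P ≤ N := by
  obtain ⟨N, f, hf⟩ := Algebra.FiniteType.iff_quotient_mvPolynomial''.mp ‹Algebra.FiniteType R S›
  refine ⟨N, fun P _ => tr_le_of_isolated (fun i => f (X i)) le_rfl fun C _ _ _ hG => ?_⟩
  ext a
  obtain ⟨G, rfl⟩ := hf a
  simpa [show (aeval fun i => f (X i)) = f from (MvPolynomial.aeval_unique f).symm] using hG G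

omit [Algebra.FiniteType R S] in
theorem aeval_cons {n : ℕ} (x : Fin n → S) (y : S) (G : MvPolynomial (Fin (n + 1)) R) :
    aeval (Fin.cons y x : Fin (n + 1) → S) G = (finSuccEquiv R n G).eval₂ (aeval x).toRingHom y := by
  induction G using MvPolynomial.induction_on with
  | C a => simp [finSuccEquiv_apply]
  | add p r hp hr => simp only [map_add, Polynomial.eval₂_add, hp, hr]
  | mul_X p i hp =>
    simp only [map_mul, Polynomial.eval₂_mul, hp]
    congr 1
    cases i using Fin.cases with
    | zero => simp [finSuccEquiv_X_zero]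
    | succ i => simp [finSuccEquiv_X_succ]

/-- One more independent element modulo a smaller prime of the same fibre. -/
theorem tr_lt_tr_of_lt {P Q : Ideal S} [P.IsPrime] [Q.IsPrime] (hPQ : P < Q)
    (hpq : P.under R = Q.under R) : tr R Q < tr R P := by
  obtain ⟨x, hx⟩ := exists_indep (R := R) Q
  obtain ⟨y, hyQ, hyP⟩ := SetLike.exists_of_lt hPQ
  have key : ∀ i (f : Polynomial (MvPolynomial (Fin (tr R Q)) R)),
      f.eval₂ (aeval x).toRingHom y ∈ P → ∀ m, (f.coeff i).coeff m ∈ P.under R := by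
    have h0 : ∀ f : Polynomial (MvPolynomial (Fin (tr R Q)) R), f.eval₂ (aeval x).toRingHom y ∈ P →
        (∀ m, (f.coeff 0).coeff m ∈ P.under R) ∧ f.divX.eval₂ (aeval x).toRingHom y ∈ P := by
      intro f hf
      rw [← Polynomial.X_mul_divX_add f] at hf
      simp only [Polynomial.eval₂_add, Polynomial.eval₂_mul, Polynomial.eval₂_X, Polynomial.eval₂_C,
        AlgHom.toRingHom_eq_coe, RingHom.coe_coe] at hf
      have hc : ∀ m, (f.coeff 0).coeff m ∈ P.under R := fun m => hpq ▸ hx (f.coeff 0)
        ((Ideal.add_mem_iff_right _ (Q.mul_mem_right _ hyQ)).mp (hPQ.le hf)) m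
      have hc' : aeval x (f.coeff 0) ∈ P := by
        rw [aeval_def, eval₂_eq]
        exact P.sum_mem fun d _ => P.mul_mem_right _ (hc d)
      exact ⟨hc, ((‹P.IsPrime›).mem_or_mem ((Ideal.add_mem_iff_left _ hc').mp hf)).resolve_left hyP⟩
    intro i
    induction i with
    | zero => exact fun f hf => (h0 f hf).1
    | succ i ih =>
      intro f hf m
      have := ih f.divX (h0 f hf).2 m
      rwa [Polynomial.coeff_divX] at this
  have h1 : Indep (R := R) (Fin.cons y x : Fin (tr R Q + 1) → S) P := by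
    intro G hG m
    rw [aeval_cons] at hG
    have h2 := key (m 0) _ hG (Finsupp.tail m)
    rwa [finSuccEquiv_coeff_coeff, Finsupp.cons_tail] at h2
  exact Nat.lt_of_succ_le h1.le_tr

section Prufer

variable [IsDomain R] (hR : ∀ (p : Ideal R) [p.IsPrime], ValuationRing (Localization.AtPrime p))
include hR

omit [Algebra.FiniteType R S] in
theorem exists_dvd_or_dvd (q : Ideal R) [q.IsPrime] (a b : R) :
    ∃ s ∉ q, (∃ c, s * a = c * b) ∨ ∃ c, s * b = c * a := by
  haveI := hR q
  haveI : IsDomain (Localization.AtPrime q) :=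
    IsLocalization.isDomain_localization q.primeCompl_le_nonZeroDivisors
  have hinj := IsLocalization.injective (Localization.AtPrime q) q.primeCompl_le_nonZeroDivisors
  have key : ∀ a b : R, algebraMap R (Localization.AtPrime q) a ∣ algebraMap R _ b →
      ∃ s ∉ q, ∃ c, s * b = c * a := by
    intro a b ⟨z, hz⟩
    obtain ⟨c, t, rfl⟩ := IsLocalization.exists_mk'_eq q.primeCompl z
    refine ⟨t, t.2, c, hinj ?_⟩
    rw [map_mul, map_mul, hz, mul_left_comm, IsLocalization.mk'_spec', mul_comm]
  rcases ValuationRing.dvd_total (algebraMap R (Localization.AtPrime q) a) (algebraMap R _ b) with h | h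
  · obtain ⟨s, hs, h⟩ := key a b h
    exact ⟨s, hs, Or.inr h⟩
  · obtain ⟨s, hs, h⟩ := key b a h
    exact ⟨s, hs, Or.inl h⟩

omit [Algebra.FiniteType R S] in
theorem exists_dvd_all {ι : Type*} (q : Ideal R) [q.IsPrime] (a : ι → R) {T : Finset ι} (hT : T.Nonempty) :
    ∃ m ∈ T, ∃ s ∉ q, ∀ i ∈ T, ∃ c, s * a i = c * a m := by
  classical
  induction hT using Finset.Nonempty.cons_induction with
  | singleton i => exact ⟨i, by simp, 1, fun h => Ideal.IsPrime.ne_top ‹_› ((Ideal.eq_top_iff_one q).mpr h),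
      fun j hj => ⟨1, by rw [Finset.mem_singleton.mp hj]⟩⟩
  | cons i T hi hT ih =>
    obtain ⟨m, hm, s, hs, h⟩ := ih
    obtain ⟨t, ht, ⟨c, hc⟩ | ⟨c, hc⟩⟩ := exists_dvd_or_dvd hR q (a i) (a m)
    · refine ⟨m, Finset.mem_cons_of_mem hm, t * s, Ideal.IsPrime.mul_notMem ‹_› ht hs, fun j hj => ?_⟩
      rcases Finset.mem_cons.mp hj with rfl | hj
      · exact ⟨s * c, by linear_combination s * hc⟩
      · obtain ⟨d, hd⟩ := h j hj
        exact ⟨t * d, by linear_combination t * hd⟩
    · refine ⟨i, Finset.mem_cons_self _ _, t * s, Ideal.IsPrime.mul_notMem ‹_› ht hs, fun j hj => ?_⟩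
      rcases Finset.mem_cons.mp hj with rfl | hj
      · exact ⟨t * s, rfl⟩
      · obtain ⟨d, hd⟩ := h j hj
        exact ⟨c * d, by linear_combination t * hd + d * hc⟩

omit [Algebra.FiniteType R S] in
theorem le_total_of_le {r p q : Ideal R} [r.IsPrime] [p.IsPrime] [q.IsPrime] (hr : r ≤ q) (hp : p ≤ q) :
    r ≤ p ∨ p ≤ r := by
  refine or_iff_not_imp_left.mpr fun h b hb => ?_
  obtain ⟨a, har, hap⟩ := SetLike.not_le_iff_exists.mp h
  by_contra hbr
  obtain ⟨s, hs, ⟨c, hc⟩ | ⟨c, hc⟩⟩ := exists_dvd_or_dvd hR q a b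
  · exact hap ((Ideal.IsPrime.mem_or_mem ‹_› (hc ▸ p.mul_mem_left c hb)).resolve_left fun h' => hs (hp h'))
  · exact hbr ((Ideal.IsPrime.mem_or_mem ‹_› (hc ▸ r.mul_mem_left c har)).resolve_left fun h' => hs (hr h'))

omit [Algebra.FiniteType R S] in
theorem Indep.of_le {n : ℕ} {x : Fin n → S} {P Q : Ideal S} [P.IsPrime] [Q.IsPrime] (hPQ : P ≤ Q)
    (h : Indep (R := R) x Q) : Indep (R := R) x P := by
  intro G hG k
  by_contra hk
  have hk' : k ∈ G.support := mem_support_iff.mpr fun h0 => hk (h0 ▸ zero_mem _)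
  obtain ⟨m, hm, s, hs, hc⟩ := exists_dvd_all hR (Q.under R) (fun i => G.coeff i) ⟨k, hk'⟩
  choose c hc using hc
  have hmP : G.coeff m ∉ P.under R := fun hmem => hk
    ((Ideal.IsPrime.mem_or_mem inferInstance
      ((hc k hk') ▸ (P.under R).mul_mem_left _ hmem)).resolve_left fun h' => hs (Ideal.comap_mono hPQ h'))
  let g : MvPolynomial (Fin n) R := ∑ i ∈ G.support.attach, monomial i.1 (c i.1 i.2)
  have hg : C s * G = C (G.coeff m) * g := by
    conv_lhs => rw [G.as_sum, ← Finset.sum_attach, Finset.mul_sum]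
    simp only [g, Finset.mul_sum, C_mul_monomial]
    refine Finset.sum_congr rfl fun i _ => ?_
    rw [hc i.1 i.2, mul_comm]
  have hgQ : aeval x g ∈ Q := by
    refine hPQ ((Ideal.IsPrime.mem_or_mem ‹P.IsPrime› (x := algebraMap R S (G.coeff m)) ?_).resolve_left hmP)
    have h1 := congrArg (aeval x) hg
    simp only [map_mul, aeval_C] at h1
    rw [← h1]
    exact P.mul_mem_left _ hG
  have hm0 : G.coeff m ≠ 0 := mem_support_iff.mp hm
  have hgm : g.coeff m = s := by
    have h1 := congrArg (coeff m) hg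
    rw [coeff_C_mul, coeff_C_mul, mul_comm] at h1
    exact (mul_left_cancel₀ hm0 h1).symm
  exact hs (hgm ▸ h g hgQ m)

theorem tr_le_tr {P Q : Ideal S} [P.IsPrime] [Q.IsPrime] (hPQ : P ≤ Q) : tr R Q ≤ tr R P := by
  obtain ⟨x, hx⟩ := exists_indep (R := R) Q
  exact (hx.of_le hR hPQ).le_tr

omit [Algebra.FiniteType R S] in
/-- Going down, between `P` and `Q`. -/
theorem exists_between {P Q : Ideal S} [P.IsPrime] [Q.IsPrime] (hPQ : P ≤ Q) (r : Ideal R) [r.IsPrime]
    (hpr : P.under R ≤ r) (hrq : r ≤ Q.under R) :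
    ∃ C : Ideal S, C.IsPrime ∧ P ≤ C ∧ C ≤ Q ∧ C.under R = r := by
  have h1S : (1 : S) ∉ Q := fun h => Ideal.IsPrime.ne_top ‹_› ((Ideal.eq_top_iff_one Q).mpr h)
  have h1R : (1 : R) ∉ r := fun h => Ideal.IsPrime.ne_top ‹_› ((Ideal.eq_top_iff_one r).mpr h)
  let M : Submonoid S :=
    { carrier := {z | ∃ s ∉ r, ∃ u ∉ Q, z = algebraMap R S s * u}
      mul_mem' := by
        rintro _ _ ⟨s, hs, u, hu, rfl⟩ ⟨s', hs', u', hu', rfl⟩
        exact ⟨s * s', Ideal.IsPrime.mul_notMem ‹_› hs hs', u * u', Ideal.IsPrime.mul_notMem ‹_› hu hu',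
          by rw [map_mul]; ring⟩
      one_mem' := ⟨1, h1R, 1, h1S, by simp⟩ }
  have hspan : ∀ z ∈ r.map (algebraMap R S),
      ∃ t ∉ Q.under R, ∃ a ∈ r, ∃ w, algebraMap R S t * z = algebraMap R S a * w := by
    intro z hz
    have h1 : (1 : R) ∉ Q.under R := fun h => h1S (by simpa using (show algebraMap R S 1 ∈ Q from h))
    induction hz using Submodule.span_induction with
    | mem z hz =>
      obtain ⟨a, ha, rfl⟩ := hz
      exact ⟨1, h1, a, ha, 1, by simp⟩
    | zero => exact ⟨1, h1, 0, r.zero_mem, 1, by simp⟩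
    | add z z' _ _ hz hz' =>
      obtain ⟨t, ht, a, ha, w, hw⟩ := hz
      obtain ⟨t', ht', a', ha', w', hw'⟩ := hz'
      obtain ⟨s, hs, ⟨c, hc⟩ | ⟨c, hc⟩⟩ := exists_dvd_or_dvd hR (Q.under R) a a'
      · refine ⟨s * t * t', Ideal.IsPrime.mul_notMem inferInstance (Ideal.IsPrime.mul_notMem inferInstance hs ht) ht',
          a', ha', algebraMap R S (t' * c) * w + algebraMap R S (s * t) * w', ?_⟩
        have hc' := congrArg (algebraMap R S) hc
        simp only [map_mul] at hc' ⊢
        linear_combination (algebraMap R S s * algebraMap R S t') * hw +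
          (algebraMap R S s * algebraMap R S t) * hw' + (algebraMap R S t' * w) * hc'
      · refine ⟨s * t * t', Ideal.IsPrime.mul_notMem inferInstance (Ideal.IsPrime.mul_notMem inferInstance hs ht) ht',
          a, ha, algebraMap R S (s * t') * w + algebraMap R S (t * c) * w', ?_⟩
        have hc' := congrArg (algebraMap R S) hc
        simp only [map_mul] at hc' ⊢
        linear_combination (algebraMap R S s * algebraMap R S t') * hw +
          (algebraMap R S s * algebraMap R S t) * hw' + (algebraMap R S t * w') * hc'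
    | smul b z _ hz =>
      obtain ⟨t, ht, a, ha, w, hw⟩ := hz
      exact ⟨t, ht, a, ha, b * w, by rw [smul_eq_mul]; linear_combination b * hw⟩
  have hdisj : Disjoint ((P ⊔ r.map (algebraMap R S) : Ideal S) : Set S) M := by
    rw [Set.disjoint_left]
    rintro _ hz ⟨s, hs, u, hu, rfl⟩
    obtain ⟨π, hπ, z, hz, hsum⟩ := Submodule.mem_sup.mp hz
    obtain ⟨t, ht, a, ha, w, hw⟩ := hspan z hz
    obtain ⟨e, he, ⟨c, hc⟩ | ⟨c, hc⟩⟩ := exists_dvd_or_dvd hR (Q.under R) a s
    · have hcr : c ∈ r := (Ideal.IsPrime.mem_or_mem ‹_›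
        (show c * s ∈ r from hc ▸ r.mul_mem_left e ha)).resolve_right hs
      have hc' := congrArg (algebraMap R S) hc
      simp only [map_mul] at hc'
      have h2 : algebraMap R S s * (algebraMap R S (e * t) * u - algebraMap R S c * w) =
          algebraMap R S (e * t) * π := by
        simp only [map_mul]
        linear_combination (-(algebraMap R S e * algebraMap R S t)) * hsum + algebraMap R S e * hw + w * hc'
      have h3 := (Ideal.IsPrime.mem_or_mem ‹P.IsPrime› (h2 ▸ P.mul_mem_left _ hπ)).resolve_left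
        (fun h' => hs (hpr h'))
      have h4 : algebraMap R S (e * t) * u ∈ Q := by
        have := Q.add_mem (hPQ h3) (Q.mul_mem_right w (show algebraMap R S c ∈ Q from hrq hcr))
        rwa [sub_add_cancel] at this
      exact hu ((Ideal.IsPrime.mem_or_mem ‹_› h4).resolve_left
        (fun h' => Ideal.IsPrime.mul_notMem inferInstance he ht (show e * t ∈ Q.under R from h')))
    · exact (Ideal.IsPrime.mul_notMem ‹_› (fun h' => he (hrq h')) hs) (hc ▸ r.mul_mem_left c ha)
  obtain ⟨C, hC, hIC, hCM⟩ := Ideal.exists_le_prime_disjoint _ M hdisj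
  refine ⟨C, hC, le_sup_left.trans hIC, fun u hu => ?_, ?_⟩
  · by_contra huQ
    exact Set.disjoint_left.mp hCM hu ⟨1, h1R, u, huQ, by simp⟩
  · refine le_antisymm (fun s hs => ?_) (Ideal.map_le_iff_le_comap.mp (le_sup_right.trans hIC))
    by_contra hsr
    exact Set.disjoint_left.mp hCM hs ⟨s, hsr, 1, h1S, by simp⟩

variable (hdim : ringKrullDim R < ⊤)
include hdim

omit hR [Algebra.FiniteType R S] in
theorem height_ne_top (p : PrimeSpectrum R) : Order.height p ≠ ⊤ := by
  intro h
  have := (Order.height_le_krullDim p).trans_lt hdim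
  rw [h] at this
  exact lt_irrefl _ this

omit hR [Algebra.FiniteType R S] in
theorem height_toNat_lt {p q : Ideal R} [p.IsPrime] [q.IsPrime] (h : p < q) :
    p.height.toNat < q.height.toNat := by
  have e1 := PrimeSpectrum.height_eq_orderHeight (⟨p, inferInstance⟩ : PrimeSpectrum R)
  have e2 := PrimeSpectrum.height_eq_orderHeight (⟨q, inferInstance⟩ : PrimeSpectrum R)
  simp only at e1 e2
  rw [e1, e2]
  have hlt := Order.height_strictMono (show (⟨p, inferInstance⟩ : PrimeSpectrum R) < ⟨q, inferInstance⟩ from h)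
    (height_ne_top hdim _).lt_top
  obtain ⟨a, ha⟩ := ENat.ne_top_iff_exists.mp (height_ne_top hdim (⟨p, inferInstance⟩ : PrimeSpectrum R))
  obtain ⟨b, hb⟩ := ENat.ne_top_iff_exists.mp (height_ne_top hdim (⟨q, inferInstance⟩ : PrimeSpectrum R))
  rw [← ha, ← hb] at hlt ⊢
  simpa using hlt

omit [Algebra.FiniteType R S] in
theorem height_toNat_succ {p q : Ideal R} [p.IsPrime] [q.IsPrime] (h : p < q)
    (hno : ∀ r : Ideal R, r.IsPrime → p < r → r < q → False) :
    q.height.toNat ≤ p.height.toNat + 1 := by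
  have e1 := PrimeSpectrum.height_eq_orderHeight (⟨p, inferInstance⟩ : PrimeSpectrum R)
  have e2 := PrimeSpectrum.height_eq_orderHeight (⟨q, inferInstance⟩ : PrimeSpectrum R)
  simp only at e1 e2
  rw [e1, e2]
  obtain ⟨a, ha⟩ := ENat.ne_top_iff_exists.mp (height_ne_top hdim (⟨p, inferInstance⟩ : PrimeSpectrum R))
  obtain ⟨b, hb⟩ := ENat.ne_top_iff_exists.mp (height_ne_top hdim (⟨q, inferInstance⟩ : PrimeSpectrum R))
  have hle : Order.height (⟨q, inferInstance⟩ : PrimeSpectrum R) ≤ ((a + 1 : ℕ) : ℕ∞) := by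
    refine Order.height_le_coe_iff.mpr fun r hr => ?_
    have hrp : r.asIdeal ≤ p := by
      haveI := r.isPrime
      rcases le_total_of_le hR (show r.asIdeal ≤ q from hr.le) h.le with h' | h'
      · exact h'
      · rcases eq_or_lt_of_le h' with h'' | h''
        · exact h''.ge
        · exact (hno r.asIdeal r.isPrime h'' hr).elim
    have hh : Order.height r ≤ Order.height (⟨p, inferInstance⟩ : PrimeSpectrum R) :=
      Order.height_mono hrp
    rw [← ha] at hh
    exact hh.trans_lt (by exact_mod_cast Nat.lt_succ_self a)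
  rw [← ha, ← hb] at *
  simpa using (show b ≤ a + 1 by exact_mod_cast hle)

theorem delta_lt {P Q : Ideal S} [P.IsPrime] [Q.IsPrime] (hPQ : P < Q) : delta R Q < delta R P := by
  rcases eq_or_lt_of_le (show P.under R ≤ Q.under R from Ideal.comap_mono hPQ.le) with h | h
  · have := tr_lt_tr_of_lt hPQ h
    simp only [delta, h]
    omega
  · have := tr_le_tr hR hPQ.le
    have := height_toNat_lt hdim h
    simp only [delta]
    omega

theorem delta_le_succ {P Q : Ideal S} [P.IsPrime] [Q.IsPrime] (hPQ : P < Q)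
    (hno : ∀ C : Ideal S, C.IsPrime → P < C → C < Q → False) : delta R P ≤ delta R Q + 1 := by
  obtain ⟨x, hx⟩ := exists_indep (R := R) Q
  have hup : ∀ C : Ideal S, C.IsPrime → Q < C → C.under R = Q.under R →
      (∀ G : MvPolynomial (Fin (tr R Q)) R, aeval x G ∈ C → aeval x G ∈ Q) → False := by
    intro C hC hQC hu hG
    have h1 : Indep (R := R) x C := fun G h m => hu ▸ hx G (hG G h) m
    have h2 := h1.le_tr
    have h3 := tr_lt_tr_of_lt hQC hu.symm
    omega
  rcases eq_or_lt_of_le (show P.under R ≤ Q.under R from Ideal.comap_mono hPQ.le) with h | h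
  · obtain ⟨y, hyQ, hyP⟩ := SetLike.exists_of_lt hPQ
    have h1 : tr R P ≤ tr R Q + 1 := by
      refine tr_le_of_isolated (Fin.cons y x : Fin (tr R Q + 1) → S) hPQ.le fun C hC hPC hcmp hG => ?_
      have hu : C.under R = Q.under R := by
        ext a
        simpa [Ideal.under, Ideal.mem_comap] using hG (MvPolynomial.C a)
      by_contra hne
      rcases hcmp with hc | hc
      · refine hno C hC (lt_of_le_of_ne hPC fun e => ?_) (lt_of_le_of_ne hc hne)
        exact hyP (e ▸ (show y ∈ C by simpa using (hG (X 0)).mpr (by simpa using hyQ)))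
      · refine hup C hC (lt_of_le_of_ne hc (Ne.symm hne)) hu fun G hGC => ?_
        have he : aeval (Fin.cons y x : Fin (tr R Q + 1) → S) (rename Fin.succ G) = aeval x G := by
          rw [aeval_rename]
          rfl
        rw [← he] at hGC ⊢
        exact (hG _).mp hGC
    simp only [delta, h]
    omega
  · have h1 : tr R P ≤ tr R Q := by
      refine tr_le_of_isolated x hPQ.le fun C hC hPC hcmp hG => ?_
      have hu : C.under R = Q.under R := by
        ext a
        simpa [Ideal.under, Ideal.mem_comap] using hG (MvPolynomial.C a)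
      by_contra hne
      rcases hcmp with hc | hc
      · exact hno C hC (lt_of_le_of_ne hPC fun e => h.ne (by rw [← hu, e])) (lt_of_le_of_ne hc hne)
      · exact hup C hC (lt_of_le_of_ne hc (Ne.symm hne)) hu fun G hGC => (hG G).mp hGC
    have h2 : (Q.under R).height.toNat ≤ (P.under R).height.toNat + 1 := by
      refine height_toNat_succ hR hdim h fun r hr hpr hrq => ?_
      haveI := hr
      obtain ⟨C, hC, hPC, hCQ, hu⟩ := exists_between hR hPQ.le r hpr.le hrq.le
      exact hno C hC (lt_of_le_of_ne hPC fun e => hpr.ne (by rw [← hu, e]))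
        (lt_of_le_of_ne hCQ fun e => hrq.ne (by rw [← hu, e]))
    simp only [delta]
    omega

theorem covBy_iff {P Q : PrimeSpectrum S} (hPQ : P < Q) :
    P ⋖ Q ↔ delta R P.asIdeal = delta R Q.asIdeal + 1 := by
  constructor
  · intro h
    refine le_antisymm (delta_le_succ hR hdim hPQ fun C hC h1 h2 => ?_) ?_
    · exact h.2 (c := ⟨C, hC⟩) h1 h2
    · exact Int.add_one_le_iff.mpr (delta_lt hR hdim hPQ)
  · intro h
    refine ⟨hPQ, fun C h1 h2 => ?_⟩
    have := delta_lt hR hdim (show P.asIdeal < C.asIdeal from h1)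
    have := delta_lt hR hdim (show C.asIdeal < Q.asIdeal from h2)
    omega

theorem delta_add_le (s : LTSeries (PrimeSpectrum S)) (i : Fin (s.length + 1)) :
    delta R (s i).asIdeal + (i : ℕ) ≤ delta R s.head.asIdeal := by
  induction i using Fin.induction with
  | zero => exact le_of_eq (by simp [RelSeries.head])
  | succ i ih =>
    have h : delta R (s i.succ).asIdeal < delta R (s i.castSucc).asIdeal := delta_lt hR hdim (s.step i)
    simp only [Fin.val_succ, Fin.val_castSucc] at ih ⊢
    omega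

theorem delta_add_eq (s : LTSeries (PrimeSpectrum S)) (hs : ∀ i : Fin s.length, s i.castSucc ⋖ s i.succ)
    (i : Fin (s.length + 1)) : delta R (s i).asIdeal + (i : ℕ) = delta R s.head.asIdeal := by
  induction i using Fin.induction with
  | zero => simp [RelSeries.head]
  | succ i ih =>
    have h := (covBy_iff hR hdim (s.step i)).mp (hs i)
    simp only [Fin.val_succ, Fin.val_castSucc] at ih ⊢
    omega

theorem isCatenary : CAlg.IsCatenary S := by
  refine ⟨fun p q _ => ⟨(delta R p.asIdeal - delta R q.asIdeal).toNat, fun s hs hl => ?_⟩,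
    fun s t hh hl hs ht => ?_⟩
  · have h := delta_add_le hR hdim s (Fin.last _)
    change delta R s.last.asIdeal + _ ≤ _ at h
    rw [hs, hl, Fin.val_last] at h
    omega
  · have h1 := delta_add_eq hR hdim s hs (Fin.last _)
    have h2 := delta_add_eq hR hdim t ht (Fin.last _)
    change delta R s.last.asIdeal + _ = _ at h1
    change delta R t.last.asIdeal + _ = _ at h2
    rw [hh, hl, Fin.val_last] at h1
    rw [Fin.val_last] at h2
    omega

theorem ringKrullDim_lt_top : ringKrullDim S < ⊤ := by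
  obtain ⟨N, hN⟩ := exists_bound (R := R) (S := S)
  obtain ⟨d, hd⟩ : ∃ d : ℕ, ∀ p : PrimeSpectrum R, Order.height p ≤ (d : ℕ∞) := by
    rcases isEmpty_or_nonempty (PrimeSpectrum R) with h | h
    · exact ⟨0, fun p => isEmptyElim p⟩
    have h0 : ((⨆ p : PrimeSpectrum R, Order.height p : ℕ∞) : WithBot ℕ∞) < ⊤ := by
      rw [← Order.krullDim_eq_iSup_height_of_nonempty]
      exact hdim
    obtain ⟨d, hd⟩ := ENat.ne_top_iff_exists.mp
      (show (⨆ p : PrimeSpectrum R, Order.height p) ≠ ⊤ from fun e => by rw [e] at h0; exact lt_irrefl _ h0)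
    exact ⟨d, fun p => hd ▸ le_iSup (fun p : PrimeSpectrum R => Order.height p) p⟩
  refine lt_of_le_of_lt (b := ((N + d : ℕ) : WithBot ℕ∞)) ?_ (WithBot.coe_lt_coe.mpr (ENat.natCast_lt_top _))
  refine iSup_le fun s => ?_
  have h := delta_add_le hR hdim s (Fin.last _)
  change delta R s.last.asIdeal + _ ≤ _ at h
  rw [Fin.val_last] at h
  have h1 : (s.last.asIdeal.under R).height.toNat ≤ d := by
    refine ENat.toNat_le_of_le_natCast ?_
    rw [PrimeSpectrum.height_eq_orderHeight (⟨s.last.asIdeal.under R, inferInstance⟩ : PrimeSpectrum R)]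
    exact hd _
  have h2 := hN s.head.asIdeal
  have : s.length ≤ N + d := by
    simp only [delta] at h
    omega
  exact_mod_cast this

theorem isCatenary_and_finite_krullDim_localization (M : Submonoid S) (T : Type u) [CommRing T] [Algebra S T]
    [IsLocalization M T] : (∀ {p q : PrimeSpectrum T}, p ≤ q ↔
      p.comap (algebraMap S T) ≤ q.comap (algebraMap S T)) ∧ ringKrullDim T < ⊤ := by
  have hle : ∀ {p q : PrimeSpectrum T}, p ≤ q ↔
      p.comap (algebraMap S T) ≤ q.comap (algebraMap S T) := fun {p q} =>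
    ((IsLocalization.orderEmbedding M T).le_iff_le (a := p.asIdeal) (b := q.asIdeal)).symm
  refine ⟨hle, lt_of_le_of_lt ?_ (ringKrullDim_lt_top hR hdim (S := S))⟩
  exact Order.krullDim_le_of_strictMono (fun p => p.comap (algebraMap S T))
    (fun p q h => lt_iff_le_not_ge.mpr ⟨hle.mp h.le, fun h' => h.not_ge (hle.mpr h')⟩)

end Prufer

end Groth.Agent.H3CAlg.PruferDimFn
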