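import Groth.Agent.H3CAlg.ConeInter
import Groth.Agent.H17.Dim
import Groth.Prelude.Def_LefX

/-!
# Connectedness dimension and punctured spectra
-/

set_option autoImplicit false
set_option linter.style.haveILetI false

universe u

open IsLocalRing PrimeSpectrum TopologicalSpace
open Groth.Agent.H4Conn

namespace Groth.Agent.H3CAlg.Punct

variable (A : Type u) [CommRing A] [IsLocalRing A]

local notation "T" => PrimeSpectrum A

/-- The punctured spectrum. -/
def punct : Set (PrimeSpectrum A) := {closedPoint A}ᶜ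

theorem isOpen_punct : IsOpen (punct A) := (isClosed_singleton_closedPoint (R := A)).isOpen_compl

variable {A}

theorem closedPoint_mem_zeroLocus {J : Ideal A} (hJ : J ≠ ⊤) : closedPoint A ∈ zeroLocus (J : Set A) :=
  (IsLocalRing.le_maximalIdeal hJ : J ≤ maximalIdeal A)

/-- Removing the closed point lowers the dimension by one. -/
theorem dim_punctured_zeroLocus {J : Ideal A} (hJ : J ≠ ⊤)
    (hne : (zeroLocus (J : Set A) \ {closedPoint A}).Nonempty) :
    topologicalKrullDim ↥(zeroLocus (J : Set A) \ {closedPoint A}) + 1 = ringKrullDim (A ⧸ J) := by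
  classical
  rw [ringKrullDim_quotient]
  letI : OrderTop ↥(zeroLocus (J : Set A)) :=
    { top := ⟨closedPoint A, closedPoint_mem_zeroLocus hJ⟩
      le_top := fun x => (IsLocalRing.le_maximalIdeal x.1.2.ne_top : x.1.asIdeal ≤ maximalIdeal A) }
  haveI : QuasiSober ↥(zeroLocus (J : Set A) \ {closedPoint A}) := by
    haveI : QuasiSober ↥(punct A) := (isOpen_punct A).isOpenEmbedding_subtypeVal.quasiSober
    have hcl : IsClosed (Subtype.val ⁻¹' zeroLocus (J : Set A) : Set (punct A)) :=
      (isClosed_zeroLocus _).preimage continuous_subtype_val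
    haveI : QuasiSober ↥(Subtype.val ⁻¹' zeroLocus (J : Set A) : Set (punct A)) :=
      hcl.isClosedEmbedding_subtypeVal.quasiSober
    exact (((Topology.IsEmbedding.subtypeVal.homeomorphImage (Subtype.val ⁻¹' zeroLocus (J : Set A) : Set (punct A))).trans
      (Homeomorph.setCongr (by rw [Set.image_preimage_eq_inter_range, Subtype.range_coe]; rfl))).symm).isClosedEmbedding.quasiSober
  let e : @OrderIso ↥(zeroLocus (J : Set A) \ {closedPoint A}) ({x : ↥(zeroLocus (J : Set A)) // x ≠ ⊤})ᵒᵈ
      (specializationOrder _).toLE inferInstance :=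
    { toFun := fun x => OrderDual.toDual ⟨⟨x.1, x.2.1⟩, fun h => x.2.2 (congrArg Subtype.val h)⟩
      invFun := fun y => ⟨(OrderDual.ofDual y).1.1, (OrderDual.ofDual y).1.2,
        fun h => (OrderDual.ofDual y).2 (Subtype.ext h)⟩
      left_inv := fun _ => rfl
      right_inv := fun _ => rfl
      map_rel_iff' := by
        intro a b
        exact (PrimeSpectrum.le_iff_specializes b.1 a.1).trans (subtype_specializes_iff b a).symm }
  haveI : Nonempty {x : ↥(zeroLocus (J : Set A)) // x ≠ ⊤} :=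
    ⟨(⟨⟨hne.some, hne.some_mem.1⟩, fun h => hne.some_mem.2 (congrArg Subtype.val h)⟩)⟩
  rw [H17.topologicalKrullDim_eq_krullDim_specialization,
    @Order.krullDim_eq_of_orderIso _ _ (specializationOrder _).toPreorder inferInstance e, Order.krullDim_orderDual,
    ← Order.krullDim_WithTop, Order.krullDim_eq_of_orderIso WithTop.subtypeOrderIso]

theorem zeroLocus_diff_eq_empty {J : Ideal A}
    (h : ¬ (zeroLocus (J : Set A) \ {closedPoint A}).Nonempty) : zeroLocus (J : Set A) ⊆ {closedPoint A} := by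
  intro x hx
  by_contra hx'
  exact h ⟨x, hx, hx'⟩

theorem dim_quotient_eq_zero_of_empty {J : Ideal A}
    (h : ¬ (zeroLocus (J : Set A) \ {closedPoint A}).Nonempty) : ringKrullDim (A ⧸ J) ≤ 0 := by
  rw [ringKrullDim_quotient]
  haveI : Subsingleton ↥(zeroLocus (J : Set A)) := ⟨fun x y => Subtype.ext
    ((zeroLocus_diff_eq_empty h x.2 : x.1 = closedPoint A).trans (zeroLocus_diff_eq_empty h y.2).symm)⟩
  exact Order.krullDim_nonpos_of_subsingleton

/-- The dimension of a closed subset of the punctured spectrum. -/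
theorem dim_subset {Z : Set (punct A)} {J : Ideal A} (hZ : Subtype.val '' Z = zeroLocus (J : Set A) \ {closedPoint A}) :
    topologicalKrullDim Z = topologicalKrullDim ↥(zeroLocus (J : Set A) \ {closedPoint A}) :=
  IsHomeomorph.topologicalKrullDim_eq _
    ((Topology.IsEmbedding.subtypeVal.homeomorphImage Z).trans (Homeomorph.setCongr hZ)).isHomeomorph

theorem image_preimage_zeroLocus (J : Ideal A) :
    Subtype.val '' (Subtype.val ⁻¹' zeroLocus (J : Set A) : Set (punct A)) = zeroLocus (J : Set A) \ {closedPoint A} := by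
  rw [Set.image_preimage_eq_inter_range, Subtype.range_coe]; rfl

theorem isConnected_preimage_compl {C : Set T} (hm : closedPoint A ∈ C) :
    IsConnected (Subtype.val ⁻¹' C : Set (punct A))ᶜ ↔ IsConnected Cᶜ := by
  have himg : Subtype.val '' (Subtype.val ⁻¹' C : Set (punct A))ᶜ = Cᶜ := by
    rw [← Set.preimage_compl, Set.image_preimage_eq_inter_range, Subtype.range_coe]
    exact Set.inter_eq_left.2 fun x hx h => hx (h ▸ hm)
  constructor
  · intro h
    rw [← himg]
    exact h.image _ continuous_subtype_val.continuousOn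
  · intro h
    rw [← himg] at h
    obtain ⟨⟨x, y, hy, rfl⟩, hp⟩ := h
    exact ⟨⟨y, hy⟩, Topology.IsInducing.subtypeVal.isPreconnected_image.1 hp⟩

theorem exists_ideal {Z : Set (punct A)} (hZ : IsClosed Z) :
    ∃ J : Ideal A, J ≠ ⊤ ∧ Z = Subtype.val ⁻¹' zeroLocus (J : Set A) := by
  obtain ⟨C, hC, hCZ⟩ := isClosed_induced_iff.1 hZ
  obtain ⟨J, rfl⟩ := (isClosed_iff_zeroLocus_ideal C).1 hC
  refine ⟨J ⊓ maximalIdeal A, ne_top_of_le_ne_top (maximalIdeal.isMaximal A).ne_top inf_le_right, ?_⟩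
  rw [← hCZ]
  ext x
  simp only [Set.mem_preimage, mem_zeroLocus, SetLike.coe_subset_coe]
  refine ⟨fun h => le_trans inf_le_left h, fun h => (x.1.2.inf_le.1 h).resolve_right fun h' => x.2 ?_⟩
  exact PrimeSpectrum.ext ((maximalIdeal.isMaximal A).eq_of_le x.1.2.ne_top h').symm

theorem preimage_closedPoint : (Subtype.val ⁻¹' zeroLocus ((maximalIdeal A : Ideal A) : Set A) : Set (punct A)) = ∅ := by
  refine Set.eq_empty_of_forall_notMem fun x hx => x.2 (PrimeSpectrum.ext ?_)
  exact ((maximalIdeal.isMaximal A).eq_of_le x.1.2.ne_top hx).symm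

/-- Connectedness in dimension `≥ j` of the punctured spectrum. -/
theorem connectedInDim_of_le {j : ℕ} (h : ((j + 1 : ℕ) : WithBot ℕ∞) ≤ LocCoh.connDim T) :
    LefX.ConnectedInDim ↥(punct A) j := by
  intro Z hZ hdim
  by_contra hcon
  obtain ⟨J, hJ, rfl⟩ := exists_ideal hZ
  have h1 := h.trans (H4Conn.connDim_le (isClosed_zeroLocus _)
    (fun hc => hcon ((isConnected_preimage_compl (closedPoint_mem_zeroLocus hJ)).2 hc)))
  rw [dim_zeroLocus] at h1
  by_cases hne : (zeroLocus (J : Set A) \ {closedPoint A}).Nonempty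
  · rw [← dim_punctured_zeroLocus hJ hne, ← dim_subset (image_preimage_zeroLocus J), Nat.cast_add, Nat.cast_one] at h1
    exact absurd (ConeInter.le_of_add_one_le h1) (not_le.mpr hdim)
  · have h2 := h1.trans (dim_quotient_eq_zero_of_empty hne)
    have : j + 1 ≤ 0 := by exact_mod_cast h2
    omega

theorem le_connDim_of_connectedInDim {j : ℕ} (h : LefX.ConnectedInDim ↥(punct A) j) :
    ((j + 1 : ℕ) : WithBot ℕ∞) ≤ LocCoh.connDim T := by
  refine le_iInf₂ fun Z' ⟨hZ', hconn⟩ => ?_
  obtain ⟨J, rfl⟩ := (isClosed_iff_zeroLocus_ideal Z').1 hZ'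
  have hU : IsConnected (Set.univ : Set (punct A)) := by
    rw [← Set.compl_empty]
    refine h ∅ isClosed_empty ?_
    rw [show topologicalKrullDim (∅ : Set (punct A)) = ⊥ from
      Order.krullDim_eq_bot_iff.mpr ⟨fun Z => isEmptyElim Z.isIrreducible.nonempty.some⟩]
    exact WithBot.bot_lt_coe _
  have hJ : J ≠ ⊤ := by
    rintro rfl
    refine hconn ?_
    rw [Submodule.top_coe, zeroLocus_univ, Set.compl_empty]
    refine ⟨⟨closedPoint A, trivial⟩, fun U V hU hV hUV ⟨x, _, hx⟩ ⟨y, _, hy⟩ => ?_⟩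
    rcases hUV (Set.mem_univ (closedPoint A)) with h | h
    · exact ⟨y, trivial, (specializes_closedPoint y).mem_open hU h, hy⟩
    · exact ⟨x, trivial, hx, (specializes_closedPoint x).mem_open hV h⟩
  have hc : ¬ IsConnected (Subtype.val ⁻¹' zeroLocus (J : Set A) : Set (punct A))ᶜ := fun hc =>
    hconn ((isConnected_preimage_compl (closedPoint_mem_zeroLocus hJ)).1 hc)
  by_cases hne : (zeroLocus (J : Set A) \ {closedPoint A}).Nonempty
  · rw [dim_zeroLocus, ← dim_punctured_zeroLocus hJ hne, ← dim_subset (image_preimage_zeroLocus J), Nat.cast_add,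
      Nat.cast_one]
    refine add_le_add (le_of_not_gt fun hlt => hc (h _ ((isClosed_zeroLocus _).preimage continuous_subtype_val) hlt)) le_rfl
  · refine absurd ?_ hc
    rw [show (Subtype.val ⁻¹' zeroLocus (J : Set A) : Set (punct A)) = ∅ from
      Set.eq_empty_of_forall_notMem fun x hx => hne ⟨x.1, hx, x.2⟩, Set.compl_empty]
    exact hU

theorem component_iff {C : Set (punct A)} :
    C ∈ irreducibleComponents ↥(punct A) ↔
      ∃ p : T, p.asIdeal ∈ minimalPrimes A ∧ p ≠ closedPoint A ∧ C = Subtype.val ⁻¹' zeroLocus (p.asIdeal : Set A) := by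
  haveI : QuasiSober ↥(punct A) := (isOpen_punct A).isOpenEmbedding_subtypeVal.quasiSober
  have hcl : ∀ x : punct A, closure ({x} : Set (punct A)) = Subtype.val ⁻¹' zeroLocus (x.1.asIdeal : Set A) := fun x => by
    rw [Topology.IsInducing.subtypeVal.closure_eq_preimage_closure_image, Set.image_singleton, PrimeSpectrum.closure_singleton]
  constructor
  · intro hC
    obtain ⟨x, hx⟩ := QuasiSober.sober hC.1 (isClosed_of_mem_irreducibleComponents C hC)
    refine ⟨x.1, ?_, x.2, by rw [← hcl x]; exact hx.def.symm⟩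
    refine ⟨⟨x.1.2, bot_le⟩, fun q hq hle => ?_⟩
    let y : punct A := ⟨⟨q, hq.1⟩, fun h => x.2 (PrimeSpectrum.ext (le_antisymm (IsLocalRing.le_maximalIdeal x.1.2.ne_top)
      (le_of_eq_of_le (congrArg PrimeSpectrum.asIdeal h).symm hle)))⟩
    have h1 : C ⊆ closure {y} := by
      rw [← hx.def]
      exact isClosed_closure.closure_subset_iff.2 (Set.singleton_subset_iff.2 (by rw [hcl]; exact hle))
    have h2 : x ∈ closure ({y} : Set (punct A)) := h1 hx.mem
    have h3 : y ∈ C := hC.2 isIrreducible_singleton.closure h1 (subset_closure (Set.mem_singleton _))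
    rw [← hx.def, hcl] at h3
    exact h3
  · rintro ⟨p, hp, hpm, rfl⟩
    rw [← hcl ⟨p, hpm⟩]
    refine ⟨isIrreducible_singleton.closure, fun D hD hle => ?_⟩
    obtain ⟨z, hz⟩ := QuasiSober.sober hD.closure isClosed_closure
    have h1 : (⟨p, hpm⟩ : punct A) ∈ closure ({z} : Set (punct A)) := by
      rw [hz.def]; exact subset_closure (hle (subset_closure (Set.mem_singleton _)))
    rw [hcl] at h1
    have h2 : z = ⟨p, hpm⟩ := Subtype.ext (PrimeSpectrum.ext (le_antisymm h1 (hp.2 ⟨z.1.2, bot_le⟩ h1)))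
    subst h2
    exact subset_closure.trans hz.def.ge

theorem dim_component {p : T} (hpm : p ≠ closedPoint A) :
    topologicalKrullDim ↥(Subtype.val ⁻¹' zeroLocus (p.asIdeal : Set A) : Set (punct A)) + 1 = ringKrullDim (A ⧸ p.asIdeal) := by
  rw [dim_subset (image_preimage_zeroLocus p.asIdeal)]
  exact dim_punctured_zeroLocus p.2.ne_top ⟨p, le_refl p.asIdeal, hpm⟩

theorem le_subdim_of_components (hne : (punct A).Nonempty) {j : ℕ}
    (h : ∀ Z ∈ irreducibleComponents ↥(punct A), (j : WithBot ℕ∞) ≤ topologicalKrullDim ↥Z) :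
    ((j + 1 : ℕ) : WithBot ℕ∞) ≤ LocCoh.subdim T := by
  refine H4Conn.le_subdim fun q hq => ?_
  have hqm : (⟨q, hq.1.1⟩ : T) ≠ closedPoint A := fun he => by
    obtain ⟨x, hx⟩ := hne
    have hqe : q = maximalIdeal A := congrArg PrimeSpectrum.asIdeal he
    refine hx (PrimeSpectrum.ext (le_antisymm (IsLocalRing.le_maximalIdeal x.2.ne_top) ?_))
    show maximalIdeal A ≤ x.asIdeal
    rw [← hqe]
    exact hq.2 ⟨x.2, bot_le⟩ (hqe.symm ▸ IsLocalRing.le_maximalIdeal x.2.ne_top)
  rw [← dim_component hqm, Nat.cast_add, Nat.cast_one]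
  exact add_le_add (h _ (component_iff.2 ⟨⟨q, hq.1.1⟩, hq, hqm, rfl⟩)) le_rfl

theorem components_of_le_subdim {j : ℕ} (h : ∀ p ∈ minimalPrimes A, ((j + 1 : ℕ) : WithBot ℕ∞) ≤ ringKrullDim (A ⧸ p)) :
    ∀ Z ∈ irreducibleComponents ↥(punct A), (j : WithBot ℕ∞) ≤ topologicalKrullDim ↥Z := by
  intro Z hZ
  obtain ⟨p, hp, hpm, rfl⟩ := component_iff.1 hZ
  have h1 := h _ hp
  rw [← dim_component hpm, Nat.cast_add, Nat.cast_one] at h1
  exact ConeInter.le_of_add_one_le h1

end Groth.Agent.H3CAlg.Punct
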