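import Mathlib
import Groth.Prelude.Def_FEt
import Groth.Agent.H4Conn.Apps
import Groth.Agent.H05EGA4.CompleteNormalization
import Groth.Agent.H18Et.FEtNormal
import Groth.Agent.H18Et.FEtRestrictApps
import Groth.Agent.H18Pur.PuncturedSections
import Groth.Agent.H18Pur.PuncturedExtend
import Groth.Agent.H8Props.NormalLowDim
import Groth.Agent.H22Alg.NormalProd

/-!
# Linear sections of the punctured spectrum of a complete normal local domain
-/

set_option autoImplicit false
set_option backward.isDefEq.respectTransparency false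
set_option linter.style.haveILetI false
set_option maxHeartbeats 800000

universe u

open CategoryTheory CategoryTheory.Limits AlgebraicGeometry TopologicalSpace IsLocalRing

namespace Groth.Agent.H3CAlg.PunctLef

variable (A : Type u) [CommRing A] [IsDomain A] [IsNoetherianRing A] [IsLocalRing A]

local notation "U" => FEt.puncturedSpec A

theorem cdLE_span_range {k : ℕ} (f : Fin k → A) : LocCoh.CdLE A (Ideal.span (Set.range f)) k := by
  classical
  intro M _ _ i hi
  have h := H4LC.cdLE_span_finset (Finset.univ.image f) M i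
    (lt_of_le_of_lt (by exact_mod_cast Finset.card_image_le.trans (Finset.card_fin k).le) hi)
  rwa [Finset.coe_image, Finset.coe_univ, Set.image_univ] at h

theorem isNormalScheme_punctured [IsIntegrallyClosed A] : Pi1.IsNormalScheme (U : Scheme.{u}) :=
  H22Alg.NormalProd.isNormalScheme_of_isOpenImmersion (U).ι (H22Alg.NormalProd.isNormalScheme_spec fun p _ =>
    ⟨inferInstance, isIntegrallyClosed_of_isLocalization (Localization.AtPrime p) p.primeCompl
      p.primeCompl_le_nonZeroDivisors⟩)

theorem two_le_idealDepth [IsIntegrallyClosed A] (hdim : (2 : WithBot ℕ∞) ≤ ringKrullDim A) :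
    2 ≤ LocCoh.depth A A :=
  H8Props.NormalLowDim.two_le_depth A fun h => absurd (hdim.trans h) (by decide)

theorem nonempty_punctured (hdim : (2 : WithBot ℕ∞) ≤ ringKrullDim A) : Nonempty (U : Scheme.{u}) := by
  have hne : (⊥ : Ideal A) ≠ maximalIdeal A := fun h => by
    rw [ringKrullDim_eq_zero_of_isField (isField_iff_maximalIdeal_eq.mpr h.symm)] at hdim
    exact absurd hdim (by decide)
  exact ⟨⟨(⟨⊥, Ideal.isPrime_bot⟩ : PrimeSpectrum A), fun h => hne (congrArg PrimeSpectrum.asIdeal h)⟩⟩

/-- The preimage of a linear section in a connected cover of the punctured spectrum is connected. -/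
theorem isConnected_section [IsIntegrallyClosed A] [IsAdicComplete (maximalIdeal A) A] (d : ℕ)
    (hd : ringKrullDim A = d) {k : ℕ} (hk : k + 2 ≤ d) (f : Fin k → A) (hf : ∀ i, f i ∈ maximalIdeal A)
    (C : FEt.Cat (U : Scheme.{u})) [ConnectedSpace C.left] :
    _root_.IsConnected ((C.hom ≫ (U).ι) ⁻¹' PrimeSpectrum.zeroLocus (R := A) (Ideal.span (Set.range f))) := by
  classical
  have hd2 : (2 : WithBot ℕ∞) ≤ ringKrullDim A := by rw [hd]; exact_mod_cast (show 2 ≤ d by omega)
  haveI := nonempty_punctured A hd2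
  haveI : IsIntegral (U : Scheme.{u}) := isIntegral_of_isOpenImmersion (U).ι
  haveI : IsFinite C.hom := C.prop.1
  haveI : Etale C.hom := C.prop.2
  let g : C.left ⟶ (U : Scheme.{u}) := C.hom
  haveI : IsFinite g := C.prop.1
  haveI : Etale g := C.prop.2
  obtain ⟨hint, -⟩ := H18Et.FEtNormal.isIntegral_and_isNormalScheme (isNormalScheme_punctured A) C
  haveI := hint
  have hdepth := two_le_idealDepth A hd2
  let X := Spec (CommRingCat.of A)
  let e := (Scheme.ΓSpecIso (CommRingCat.of A)).commRingCatIsoToRingEquiv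
  let φ := (Scheme.ΓSpecIso (CommRingCat.of A)).inv ≫ (C.hom ≫ (U).ι).appTop
  have hfin : φ.hom.Finite := by
    haveI : IsNoetherianRing Γ(X, ⊤) := isNoetherianRing_of_ringEquiv _ e.symm
    haveI : IsDomain Γ(X, ⊤) := e.toMulEquiv.isDomain
    haveI : IsLocalRing Γ(X, ⊤) := e.symm.isLocalRing
    have h2 : (2 : ℕ∞) ≤ LocCoh.idealDepth (maximalIdeal Γ(X, ⊤)) Γ(X, ⊤) := by
      show 2 ≤ LocCoh.depth Γ(X, ⊤) Γ(X, ⊤)
      rw [H05EGA4.depth_eq_of_ringEquiv e]
      exact hdepth
    have := H18Pur.appTop_finite_of_depth_two (X := X) U (maximalIdeal Γ(X, ⊤)) h2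
      (fun c hc x hx => ?_) (fun x hx => ?_) C.hom
    · exact RingHom.Finite.comp this (RingHom.Finite.of_surjective _
        (Scheme.ΓSpecIso (CommRingCat.of A)).symm.commRingCatIsoToRingEquiv.surjective)
    · show x ≠ closedPoint A
      rintro rfl
      rw [basicOpen_eq_of_affine'] at hx
      exact hx (show e c ∈ maximalIdeal A from (mem_maximalIdeal _).2 fun hu =>
        (mem_maximalIdeal _).1 hc (by simpa using hu.map e.symm))
    · have hx' : (x : PrimeSpectrum A).asIdeal ≠ maximalIdeal A := fun h => hx (PrimeSpectrum.ext h)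
      obtain ⟨c, hc, hcx⟩ := SetLike.exists_of_lt
        (lt_of_le_of_ne (le_maximalIdeal (x : PrimeSpectrum A).2.ne_top) hx')
      refine ⟨e.symm c, (mem_maximalIdeal _).2 fun hu => (mem_maximalIdeal c).1 hc (e.apply_symm_apply c ▸ hu.map e), ?_⟩
      rw [basicOpen_eq_of_affine']
      show e (e.symm c) ∉ (x : PrimeSpectrum A).asIdeal
      rwa [RingEquiv.apply_symm_apply]
  -- the cover is the preimage of the punctured spectrum in the spectrum of its ring of functions
  let ρ := (Scheme.ΓSpecIso (CommRingCat.of A)).inv ≫ (U).ι.appTop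
  haveI : IsIso ρ := H18Pur.isIso_sections_punctured A hdepth
  haveI : IsFinite (Spec.map φ) := (IsFinite.SpecMap_iff φ).2 hfin
  haveI : IsNoetherianRing (CommRingCat.of A) := ‹IsNoetherianRing A›
  haveI : CompactSpace (U : Scheme.{u}) := isCompact_iff_compactSpace.mp
    (TopologicalSpace.NoetherianSpace.isCompact ((U : (Spec (CommRingCat.of A)).Opens) : Set (Spec (CommRingCat.of A))))
  haveI : (U : Scheme.{u}).IsQuasiAffine := Scheme.IsQuasiAffine.of_isImmersion (U).ι
  have hU : (U : Scheme.{u}).toSpecΓ ≫ Spec.map ρ = (U).ι := by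
    rw [Spec.map_comp, ← Scheme.toSpecΓ_naturality_assoc, toSpecΓ_SpecMap_ΓSpecIso_inv, Category.comp_id]
  have hφ : Spec.map C.hom.appTop ≫ Spec.map ρ = Spec.map φ := by
    rw [← Spec.map_comp]
    congr 1
  have hpb : IsPullback C.hom C.left.toSpecΓ (U).ι (Spec.map φ) :=
    (Scheme.isPullback_toSpecΓ_toSpecΓ g).of_iso (Iso.refl _) (Iso.refl _) (Iso.refl _)
      (asIso (Spec.map ρ)) (by simp [g]; try rfl) (by simp) (by simpa using hU) (by simpa using hφ)
  haveI hopen : IsOpenImmersion C.left.toSpecΓ :=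
    MorphismProperty.of_isPullback (P := @IsOpenImmersion) hpb inferInstance
  have hrange : Set.range C.left.toSpecΓ = Spec.map φ ⁻¹' ({closedPoint A}ᶜ : Set (PrimeSpectrum A)) := by
    have h := hpb.isoPullback_hom_snd
    rw [← h, Scheme.Hom.comp_base, TopCat.coe_comp]
    refine (hpb.isoPullback.hom.surjective.range_comp _).trans ?_
    refine (IsOpenImmersion.range_pullbackSnd _ _).trans ?_
    exact congrArg (fun t : Set (Spec (CommRingCat.of A)) => Spec.map φ ⁻¹' t) (Scheme.Opens.range_ι U)
  have hw : C.left.toSpecΓ ≫ Spec.map φ = C.hom ≫ (U).ι := hpb.w.symm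
  -- the ring of functions
  let B := Γ(C.left, ⊤)
  letI : Algebra A B := φ.hom.toAlgebra
  haveI : Module.Finite A B := hfin
  haveI : Nonempty ((⊤ : C.left.Opens) : Scheme.{u}) := ⟨⟨Nonempty.some inferInstance, trivial⟩⟩
  haveI : IsDomain B := inferInstance
  obtain ⟨_, hBcompl⟩ := H05EGA4.isAdicComplete_of_finite_domain (A := A) (A' := B)
  haveI := hBcompl
  haveI : IsNoetherianRing B := IsNoetherianRing.of_finite A B
  have hinj : Function.Injective (algebraMap A B) := by
    have hcl : IsClopen (Set.range g) :=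
      ⟨g.isClosedMap.isClosed_range, g.isOpenMap.isOpen_range⟩
    have hsurj : Set.range g = Set.univ :=
      (isClopen_iff.mp hcl).resolve_left (Set.range_nonempty g).ne_empty
    let η : (U : Scheme.{u}) := ⟨(⟨⊥, Ideal.isPrime_bot⟩ : PrimeSpectrum A), fun h => by
      have hh : (⊥ : Ideal A) = maximalIdeal A := congrArg PrimeSpectrum.asIdeal h
      rw [ringKrullDim_eq_zero_of_isField (isField_iff_maximalIdeal_eq.mpr hh.symm)] at hd2
      exact absurd hd2 (by decide)⟩
    obtain ⟨c, hc⟩ : η ∈ Set.range g := hsurj ▸ Set.mem_univ η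
    have h0 : PrimeSpectrum.comap (algebraMap A B) (C.left.toSpecΓ c) = (⟨⊥, Ideal.isPrime_bot⟩ : PrimeSpectrum A) := by
      have h1 : Spec.map φ (C.left.toSpecΓ c) = (U).ι (g c) := congrArg (fun q : C.left ⟶ Spec (CommRingCat.of A) => q c) hw
      rw [hc] at h1
      exact h1
    rw [injective_iff_map_eq_zero]
    intro a ha
    have : a ∈ (PrimeSpectrum.comap (algebraMap A B) (C.left.toSpecΓ c)).asIdeal := by
      rw [PrimeSpectrum.comap_asIdeal, Ideal.mem_comap, ha]
      exact zero_mem _
    rw [h0] at this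
    exact this
  have hdB : ringKrullDim B = d := ((H05EGA4.dim_int A B).2 hinj).trans hd
  let g' : Fin k → B := fun i => algebraMap A B (f i)
  have hJ' : Ideal.span (Set.range g') ≠ ⊤ := ne_top_of_le_ne_top (maximalIdeal.isMaximal B).ne_top
    (Ideal.span_le.2 (by
      rintro _ ⟨i, rfl⟩
      exact H05EGA4.map_le_maximalIdeal_of_finite (Ideal.mem_map_of_mem _ (hf i))))
  have hconn := H4Conn.isConnected_punctured (R := B) d hdB k hk _ hJ' (cdLE_span_range B g')
  have hspan : Ideal.span (Set.range g') = (Ideal.span (Set.range f)).map (algebraMap A B) := by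
    rw [Ideal.map_span, ← Set.range_comp]; rfl
  have himg : C.left.toSpecΓ '' ((C.hom ≫ (U).ι) ⁻¹' PrimeSpectrum.zeroLocus (R := A) (Ideal.span (Set.range f))) =
      {x : PrimeSpectrum B | Ideal.span (Set.range g') ≤ x.asIdeal ∧ x.asIdeal ≠ maximalIdeal B} := by
    rw [← hw, Scheme.Hom.comp_base, TopCat.coe_comp, Set.preimage_comp]
    refine Set.image_preimage_eq_inter_range.trans ?_
    rw [hrange]
    ext x
    have hm : Spec.map φ x ∈ ({closedPoint A}ᶜ : Set (PrimeSpectrum A)) ↔ x.asIdeal ≠ maximalIdeal B := by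
      refine not_congr ⟨fun h => ?_, fun h => ?_⟩
      · have hc : x.asIdeal.comap (algebraMap A B) = maximalIdeal A := congrArg PrimeSpectrum.asIdeal h
        haveI : (x.asIdeal.comap (algebraMap A B)).IsMaximal := hc ▸ maximalIdeal.isMaximal A
        exact eq_maximalIdeal (Ideal.isMaximal_of_isIntegral_of_isMaximal_comap x.asIdeal this)
      · refine PrimeSpectrum.ext ?_
        show x.asIdeal.comap (algebraMap A B) = maximalIdeal A
        haveI : x.asIdeal.IsMaximal := h ▸ maximalIdeal.isMaximal B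
        exact eq_maximalIdeal (Ideal.isMaximal_comap_of_isIntegral_of_isMaximal x.asIdeal)
    have hz : Spec.map φ x ∈ PrimeSpectrum.zeroLocus (R := A) (Ideal.span (Set.range f)) ↔
        Ideal.span (Set.range g') ≤ x.asIdeal := by
      rw [hspan, Ideal.map_le_iff_le_comap]
      rfl
    exact and_congr hz hm
  obtain ⟨⟨_, hne⟩, hp⟩ := hconn
  rw [← himg] at hne hp
  refine ⟨?_, hopen.base_open.isEmbedding.isInducing.isPreconnected_image.1 hp⟩
  obtain ⟨c, hc, -⟩ := hne
  exact ⟨c, hc⟩

/-- A closed immersion onto a linear section. -/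
theorem clopensDescend [IsIntegrallyClosed A] [IsAdicComplete (maximalIdeal A) A] (d : ℕ)
    (hd : ringKrullDim A = d) {k : ℕ} (hk : k + 2 ≤ d) (f : Fin k → A) (hf : ∀ i, f i ∈ maximalIdeal A)
    {Y : Scheme.{u}} (j : Y ⟶ (U : Scheme.{u})) [IsClosedImmersion j]
    (hj : Set.range j = (U).ι ⁻¹' PrimeSpectrum.zeroLocus (R := A) (Ideal.span (Set.range f))) :
    H18Et.FEtRestrict.ClopensDescend j := by
  intro P W' hW'
  let π : P.left ⟶ (U : Scheme.{u}) := P.hom
  haveI : IsFinite π := P.prop.1
  haveI : IsNoetherianRing (CommRingCat.of A) := ‹IsNoetherianRing A›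
  haveI : IsLocallyNoetherian (U : Scheme.{u}) := LocallyOfFiniteType.isLocallyNoetherian (U).ι
  haveI : CompactSpace (U : Scheme.{u}) := isCompact_iff_compactSpace.mp
    (TopologicalSpace.NoetherianSpace.isCompact ((U : (Spec (CommRingCat.of A)).Opens) : Set (Spec (CommRingCat.of A))))
  haveI : IsLocallyNoetherian P.left := LocallyOfFiniteType.isLocallyNoetherian π
  haveI : CompactSpace P.left := QuasiCompact.compactSpace_of_compactSpace π
  haveI : AlgebraicGeometry.IsNoetherian P.left := ⟨⟩
  let p := pullback.fst P.hom j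
  have hemb : Topology.IsClosedEmbedding p := IsClosedImmersion.base_closed (f := p)
  let W : Set P.left := ConnectedComponents.mk ⁻¹' (ConnectedComponents.mk '' (p '' W'))
  refine ⟨W, H18Et.FEtRestrictApps.isClopen_union_components _, ?_⟩
  refine Set.Subset.antisymm (fun q hq => ?_) fun q hq => ⟨p q, ⟨q, hq, rfl⟩, rfl⟩
  obtain ⟨_, ⟨w, hw, rfl⟩, he⟩ := hq
  let c : Set P.left := connectedComponent (p q)
  have hc : IsClopen c := by
    have h := H18Et.FEtRestrictApps.isClopen_union_components ({ConnectedComponents.mk (p q)} : Set (_root_.ConnectedComponents P.left))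
    rwa [connectedComponents_preimage_singleton] at h
  let C := H18Et.FEtRestrict.clopenObj P c hc
  haveI : ConnectedSpace C.left := isConnected_iff_connectedSpace.1 isConnected_connectedComponent
  have hS := isConnected_section A d hd hk f hf C
  have himg : (Scheme.Opens.ι (X := P.left) ⟨c, hc.2⟩) ''
      ((C.hom ≫ (U).ι) ⁻¹' PrimeSpectrum.zeroLocus (R := A) (Ideal.span (Set.range f))) = p '' (p ⁻¹' c) := by
    refine Eq.trans ?_ Set.image_preimage_eq_inter_range.symm
    refine Eq.trans ?_ (congrArg (fun t => c ∩ t) (Scheme.Pullback.range_fst (f := π) (g := j)).symm)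
    refine Eq.trans ?_ (congrArg (fun t => c ∩ π ⁻¹' t) hj.symm)
    refine Eq.trans ?_ (congrArg (· ∩ π ⁻¹' ((U).ι ⁻¹' PrimeSpectrum.zeroLocus (R := A) (Ideal.span (Set.range f))))
      (Scheme.Opens.range_ι (X := P.left) ⟨c, hc.2⟩))
    rw [Set.inter_comm]
    refine Eq.trans ?_ Set.image_preimage_eq_inter_range
    rfl
  have h1 := hS.isPreconnected.image _ (Scheme.Opens.ι (X := P.left) ⟨c, hc.2⟩).continuous.continuousOn
  rw [himg] at h1
  have h2 : _root_.IsPreconnected (p ⁻¹' c) := hemb.isEmbedding.isInducing.isPreconnected_image.1 h1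
  have hwc : w ∈ p ⁻¹' c := ConnectedComponents.coe_eq_coe'.mp he
  exact h2.subset_isClopen hW' ⟨w, hwc, hw⟩ mem_connectedComponent

theorem connected_and_fullyFaithful [IsIntegrallyClosed A] [IsAdicComplete (maximalIdeal A) A] (d : ℕ)
    (hd : ringKrullDim A = d) {k : ℕ} (hk : k + 2 ≤ d) (f : Fin k → A) (hf : ∀ i, f i ∈ maximalIdeal A)
    {Y : Scheme.{u}} (j : Y ⟶ (U : Scheme.{u})) [IsClosedImmersion j]
    (hj : Set.range j = (U).ι ⁻¹' PrimeSpectrum.zeroLocus (R := A) (Ideal.span (Set.range f))) :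
    ConnectedSpace Y ∧ (FEt.restrict j).Full ∧ (FEt.restrict j).Faithful := by
  have hd2 : (2 : WithBot ℕ∞) ≤ ringKrullDim A := by rw [hd]; exact_mod_cast (show 2 ≤ d by omega)
  haveI := nonempty_punctured A hd2
  haveI : IsIntegral (U : Scheme.{u}) := isIntegral_of_isOpenImmersion (U).ι
  let T : FEt.Cat (U : Scheme.{u}) := MorphismProperty.Over.mk ⊤ (𝟙 _) (MorphismProperty.id_mem _ _)
  haveI : ConnectedSpace T.left := inferInstanceAs (ConnectedSpace (U : Scheme.{u}))
  have hU := isConnected_section A d hd hk f hf T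
  have hrange : _root_.IsConnected (Set.range j) := by
    rw [hj]
    change _root_.IsConnected ((𝟙 (U : Scheme.{u}) ≫ (U).ι) ⁻¹' _) at hU
    rwa [Category.id_comp] at hU
  have hY : ConnectedSpace Y := by
    haveI := isConnected_iff_connectedSpace.1 hrange
    exact (j.isClosedEmbedding.isEmbedding.toHomeomorph).connectedSpace_iff.mpr inferInstance
  have hmeets : H18Et.FEtRestrict.MeetsClopens j := fun V hV hne => by
    rw [(isClopen_iff.mp hV).resolve_left (Set.nonempty_iff_ne_empty.mp hne), Set.univ_inter]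
    exact hrange.nonempty
  exact ⟨hY, H18Et.FEtRestrict.full j hmeets (clopensDescend A d hd hk f hf j hj),
    H18Et.FEtRestrict.faithful j hmeets⟩

end Groth.Agent.H3CAlg.PunctLef
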