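import Groth.Agent.H06FlatCx.FibreDim
import Mathlib.LinearAlgebra.TensorProduct.RightExactness
import Mathlib.RingTheory.Flat.EquationalCriterion
import Mathlib.RingTheory.Noetherian.Basic

/-!
Ranks of a map of finite modules at the points of the spectrum.
-/

open TensorProduct

universe u v w

namespace Groth.Agent.H3CAlg

open Groth.Agent.H06FlatCx

variable {A : Type u} [CommRing A] {M : Type v} {F : Type w} [AddCommGroup M] [Module A M]
  [AddCommGroup F] [Module A F] [Module.Finite A F]

theorem finrank_range_add_fibDim (δ : M →ₗ[A] F) (x : PrimeSpectrum A) :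
    Module.finrank x.asIdeal.ResidueField (LinearMap.range (δ.baseChange x.asIdeal.ResidueField)) +
      fibDim (F ⧸ LinearMap.range δ) x = fibDim F x := by
  let g := (LinearMap.range δ).mkQ.baseChange x.asIdeal.ResidueField
  have hg : Function.Surjective g :=
    LinearMap.baseChange_surjective (A := x.asIdeal.ResidueField) (Submodule.mkQ_surjective _)
  have hex : LinearMap.ker g = LinearMap.range (δ.baseChange x.asIdeal.ResidueField) := by
    ext y
    exact lTensor_exact x.asIdeal.ResidueField (LinearMap.exact_map_mkQ_range δ) (Submodule.mkQ_surjective _) y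
  have := LinearMap.finrank_range_add_finrank_ker g
  rw [LinearMap.range_eq_top.mpr hg, finrank_top, hex] at this
  simp only [fibDim]
  omega

theorem finrank_ker_add_fibDim [Module.Finite A M] (δ : M →ₗ[A] F) (x : PrimeSpectrum A) :
    Module.finrank x.asIdeal.ResidueField (LinearMap.ker (δ.baseChange x.asIdeal.ResidueField)) +
      fibDim F x = fibDim M x + fibDim (F ⧸ LinearMap.range δ) x := by
  have h1 := LinearMap.finrank_range_add_finrank_ker (δ.baseChange x.asIdeal.ResidueField)
  have h2 := finrank_range_add_fibDim δ x
  simp only [fibDim] at h2 ⊢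
  omega

variable (M) in
theorem eventually_fibDim_le [Module.Finite A M] (x : PrimeSpectrum A) :
    ∀ᶠ y in nhds x, fibDim M y ≤ fibDim M x :=
  (isOpen_fibDim_le M (fibDim M x)).mem_nhds (le_refl (fibDim M x))

variable (F) in
theorem eventually_fibDim_eq [Module.Projective A F] (x : PrimeSpectrum A) :
    ∀ᶠ y in nhds x, fibDim F y = fibDim F x := by
  have : Module.FinitePresentation A F := Module.finitePresentation_of_projective A F
  filter_upwards [(Module.isLocallyConstant_rankAtStalk (R := A) (M := F)).eventually_eq x] with y hy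
  rw [fibDim_eq_rankAtStalk, fibDim_eq_rankAtStalk, hy]

theorem exists_retraction_of_projective_coker (δ : M →ₗ[A] F) [Module.Projective A (F ⧸ LinearMap.range δ)] :
    ∃ r : F →ₗ[A] LinearMap.range δ, r ∘ₗ (LinearMap.range δ).subtype = LinearMap.id := by
  obtain ⟨s, hs⟩ := Module.projective_lifting_property (LinearMap.range δ).mkQ LinearMap.id (Submodule.mkQ_surjective _)
  have hmem : ∀ y, (LinearMap.id - s ∘ₗ (LinearMap.range δ).mkQ : F →ₗ[A] F) y ∈ LinearMap.range δ := fun y => by
    rw [← Submodule.Quotient.mk_eq_zero]
    have := LinearMap.congr_fun hs (Submodule.Quotient.mk y)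
    simp only [LinearMap.sub_apply, LinearMap.id_apply, LinearMap.comp_apply, Submodule.Quotient.mk_sub, Submodule.mkQ_apply] at this ⊢
    rw [this, sub_self]
  refine ⟨(LinearMap.id - s ∘ₗ (LinearMap.range δ).mkQ).codRestrict _ hmem, LinearMap.ext fun y => Subtype.ext ?_⟩
  simp [(Submodule.Quotient.mk_eq_zero (LinearMap.range δ)).mpr y.2]

theorem projective_range_of_projective_coker [Module.Projective A F] (δ : M →ₗ[A] F)
    [Module.Projective A (F ⧸ LinearMap.range δ)] : Module.Projective A (LinearMap.range δ) :=
  let ⟨r, hr⟩ := exists_retraction_of_projective_coker δ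
  Module.Projective.of_split (LinearMap.range δ).subtype r hr

end Groth.Agent.H3CAlg
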