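import Mathlib
import Groth.Agent.H8Props.FieldDimRing
import Groth.Agent.H27LangWeil.LowerBoundField

/-! A dominated variety is dominated by a coordinate slice of affine space of its own dimension. -/

set_option autoImplicit false
set_option linter.style.haveILetI false
set_option maxHeartbeats 1000000

universe u

open MvPolynomial

namespace Groth.Agent.H3CAlg.RatSlice

/-- Substituting constants for some of the variables preserves nonvanishing for suitable constants. -/
theorem exists_slice {k : Type u} [Field k] [Infinite k] {n : ℕ} (H : MvPolynomial (Fin n) k) (hH : H ≠ 0) :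
    ∃ v : Fin n → k, ∀ (m : ℕ) (J : Finset (Fin n)) (e : Fin m ≃ {i // i ∉ J}),
      aeval (fun i => if h : i ∈ J then C (v i) else (X (e.symm ⟨i, h⟩) : MvPolynomial (Fin m) k)) H ≠ 0 := by
  obtain ⟨v, hv⟩ : ∃ v, eval v H ≠ 0 := by
    by_contra! h
    exact hH (MvPolynomial.funext fun x => by rw [h x, map_zero])
  refine ⟨v, fun m J e h0 => hv ?_⟩
  let τ := aeval (R := k) (fun i => if h : i ∈ J then C (v i) else (X (e.symm ⟨i, h⟩) : MvPolynomial (Fin m) k))
  have : (aeval (R := k) fun j => v (e j).1).comp τ = aeval v := by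
    refine MvPolynomial.algHom_ext fun i => ?_
    rw [AlgHom.comp_apply, aeval_X, aeval_X]
    split_ifs with h
    · simp
    · simp
  have h2 := AlgHom.congr_fun this H
  rw [AlgHom.comp_apply, show τ H = 0 from h0, map_zero] at h2
  exact h2.symm

/-- The main algebraic statement. -/
theorem main {k : Type u} [Field k] [Infinite k] (A : Type u) [CommRing A] [IsDomain A] [Algebra k A]
    [Algebra.FiniteType k A] (n : ℕ) (g : MvPolynomial (Fin n) k) (hg : g ≠ 0)
    (ψ : A →ₐ[k] Localization.Away g) (hψ : Function.Injective ψ) :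
    ∃ (m : ℕ) (g' : MvPolynomial (Fin m) k) (θ : A →ₐ[k] Localization.Away g'),
      g' ≠ 0 ∧ Function.Injective θ ∧ ringKrullDim A = m := by
  classical
  let R := Localization.Away g
  have hMg : Submonoid.powers g ≤ nonZeroDivisors (MvPolynomial (Fin n) k) := powers_le_nonZeroDivisors_of_noZeroDivisors hg
  haveI : IsDomain R := IsLocalization.isDomain_localization hMg
  letI algA : Algebra A R := ψ.toRingHom.toAlgebra
  haveI : IsScalarTower k A R := IsScalarTower.of_algebraMap_eq fun c => (ψ.commutes c).symm
  haveI : FaithfulSMul A R := (faithfulSMul_iff_algebraMap_injective _ _).2 hψ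
  let x : Fin n → R := fun i => algebraMap (MvPolynomial (Fin n) k) R (X i)
  -- a maximal independent set of variables over `A`
  obtain ⟨J, hJ, hmax⟩ := Finset.exists_max_image
    ((Finset.univ : Finset (Finset (Fin n))).filter fun J : Finset (Fin n) => AlgebraicIndepOn A x (J : Set (Fin n))) Finset.card
    ⟨∅, Finset.mem_filter.2 ⟨Finset.mem_univ _, by
      haveI : IsEmpty ↥((∅ : Finset (Fin n)) : Set (Fin n)) := ⟨fun a => Finset.notMem_empty _ a.2⟩
      exact algebraicIndependent_empty_type_iff.2 hψ⟩⟩
  have hJ' : AlgebraicIndepOn A x (J : Set (Fin n)) := (Finset.mem_filter.1 hJ).2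
  let Cs : Subalgebra A R := Algebra.adjoin A (x '' (J : Set (Fin n)))
  have halg : ∀ i ∉ J, IsAlgebraic Cs (x i) := by
    intro i hi
    by_contra htr
    have hins : AlgebraicIndepOn A x (insert i (J : Set (Fin n))) :=
      (AlgebraicIndepOn.insert_iff (by simpa using hi)).2 ⟨hJ', htr⟩
    have := hmax (insert i J) (Finset.mem_filter.2 ⟨Finset.mem_univ _, by rwa [Finset.coe_insert]⟩)
    rw [Finset.card_insert_of_notMem hi] at this
    omega
  let I := {i : Fin n // i ∉ J}
  choose p hp0 hp using fun i : I => halg i.1 i.2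
  -- a nonzero coefficient and its numerator
  choose d hd using fun i : I => Polynomial.support_nonempty.2 (hp0 i)
  have hnum : ∀ i : I, ∃ (q : MvPolynomial (Fin n) k) (s : Submonoid.powers g),
      (((p i).coeff (d i) : Cs) : R) * algebraMap _ R (s : MvPolynomial (Fin n) k) = algebraMap _ R q ∧ q ≠ 0 := by
    intro i
    obtain ⟨⟨q, s⟩, hqs⟩ := IsLocalization.surj (Submonoid.powers g) ((((p i).coeff (d i) : Cs) : R))
    refine ⟨q, s, hqs, fun h0 => ?_⟩
    have : (((p i).coeff (d i) : Cs) : R) = 0 := by
      rw [show q = 0 from h0, map_zero] at hqs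
      exact (mul_eq_zero.1 hqs).resolve_right fun h =>
        nonZeroDivisors.ne_zero (hMg s.2) ((map_eq_zero_iff _ (IsLocalization.injective R hMg)).1 h)
    exact Polynomial.mem_support_iff.1 (hd i) (Subtype.ext this)
  choose q s hqs hq0 using hnum
  obtain ⟨v, hv⟩ := exists_slice (g * ∏ i, q i) (mul_ne_zero hg (Finset.prod_ne_zero_iff.2 fun i _ => hq0 i))
  let m := Fintype.card I
  let e : Fin m ≃ I := (Fintype.equivFin I).symm
  let P := MvPolynomial (Fin m) k
  let τ : MvPolynomial (Fin n) k →ₐ[k] P := aeval (fun i => if h : i ∈ J then C (v i) else X (e.symm ⟨i, h⟩))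
  have hτ : τ g ≠ 0 ∧ ∀ i, τ (q i) ≠ 0 := by
    have h := hv m J e
    change τ (g * ∏ i, q i) ≠ 0 at h
    rw [map_mul, map_prod] at h
    exact ⟨left_ne_zero_of_mul h, fun i => Finset.prod_ne_zero_iff.1 (right_ne_zero_of_mul h) i (Finset.mem_univ _)⟩
  let R' := Localization.Away (τ g)
  have hMg' : Submonoid.powers (τ g) ≤ nonZeroDivisors P := powers_le_nonZeroDivisors_of_noZeroDivisors hτ.1
  haveI : IsDomain R' := IsLocalization.isDomain_localization hMg'
  let σ : R →ₐ[k] R' := IsLocalization.liftAlgHom (M := Submonoid.powers g)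
    (f := (IsScalarTower.toAlgHom k P R').comp τ) (fun y => by
      obtain ⟨j, hj⟩ := y.2
      rw [← hj]
      simp only [map_pow, AlgHom.comp_apply]
      exact IsUnit.pow j (IsLocalization.Away.algebraMap_isUnit (τ g)))
  have hσ : ∀ r, σ (algebraMap _ R r) = algebraMap P R' (τ r) := fun r => by
    show IsLocalization.lift _ (algebraMap _ R r) = _
    rw [IsLocalization.lift_eq]
    rfl
  let θ : A →ₐ[k] R' := σ.comp ψ
  -- the image of `C` under the specialisation lies in the image of `A`
  have hC : ∀ c : Cs, σ (c : R) ∈ θ.range := by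
    rintro ⟨c, hc⟩
    induction hc using Algebra.adjoin_induction with
    | mem r hr =>
      obtain ⟨j, hj, rfl⟩ := hr
      refine ⟨algebraMap k A (v j), ?_⟩
      rw [hσ, show τ (X j) = C (v j) by rw [aeval_X, dif_pos (Finset.mem_coe.1 hj)]]
      exact (θ.commutes (v j)).trans (IsScalarTower.algebraMap_apply k P R' (v j))
    | algebraMap a => exact ⟨a, rfl⟩
    | add a b _ _ ha hb => rw [map_add]; exact add_mem ha hb
    | mul a b _ _ ha hb => rw [map_mul]; exact mul_mem ha hb
  let B : Subalgebra k R' := θ.range
  let L := FractionRing R'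
  have hXalg : ∀ j : Fin m, IsAlgebraic B (algebraMap P R' (X j)) := by
    intro j
    let σ' : Cs →+* B :=
      { toFun := fun c => ⟨σ (c : R), hC c⟩
        map_one' := Subtype.ext (by simp)
        map_mul' := fun a b => Subtype.ext (by simp)
        map_zero' := Subtype.ext (by simp)
        map_add' := fun a b => Subtype.ext (by simp) }
    refine ⟨(p (e j)).map σ', fun h0 => ?_, ?_⟩
    · have h1 := congrArg (fun F => ((Polynomial.coeff F (d (e j)) : B) : R')) h0
      simp only [Polynomial.coeff_map, Polynomial.coeff_zero, ZeroMemClass.coe_zero] at h1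
      have h2 : σ (((p (e j)).coeff (d (e j)) : Cs) : R) = 0 := h1
      have h3 := congrArg σ (hqs (e j))
      rw [map_mul, h2, zero_mul, hσ] at h3
      exact hτ.2 (e j) ((map_eq_zero_iff _ (IsLocalization.injective R' hMg')).1 h3.symm)
    · have h1 : σ (Polynomial.aeval (x (e j).1) (p (e j))) = 0 := by rw [hp (e j), map_zero]
      rw [← AlgHom.coe_toRingHom, Polynomial.aeval_def, Polynomial.hom_eval₂, AlgHom.coe_toRingHom, hσ,
        show τ (X (e j).1) = X j by rw [aeval_X, dif_neg (e j).2]; simp] at h1
      rw [Polynomial.aeval_def, Polynomial.eval₂_map]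
      exact h1
  have hBL : FaithfulSMul B L := (faithfulSMul_iff_algebraMap_injective _ _).2
    ((IsFractionRing.injective R' L).comp Subtype.val_injective)
  haveI : Algebra.IsAlgebraic B L := by
    have hX : ∀ r : P, IsAlgebraic B (algebraMap R' L (algebraMap P R' r)) := by
      intro r
      induction r using MvPolynomial.induction_on with
      | C c =>
        have : algebraMap R' L (algebraMap P R' (C c)) = algebraMap B L (algebraMap k B c) := by
          rw [IsScalarTower.algebraMap_apply B R' L]
          exact congrArg _ (IsScalarTower.algebraMap_apply k P R' c).symm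
        rw [this]; exact isAlgebraic_algebraMap _
      | add a b ha hb => rw [map_add, map_add]; exact ha.add hb
      | mul_X a j ha => rw [map_mul, map_mul]; exact ha.mul ((hXalg j).algebraMap)
    refine ⟨fun z => ?_⟩
    have hR : ∀ r : R', IsAlgebraic B (algebraMap R' L r) := by
      intro r
      obtain ⟨⟨a, t⟩, hat⟩ := IsLocalization.surj (Submonoid.powers (τ g)) r
      have h : algebraMap R' L r = algebraMap R' L (algebraMap P R' a) * (algebraMap R' L (algebraMap P R' t.1))⁻¹ := by
        rw [← hat, map_mul, mul_assoc, mul_inv_cancel₀, mul_one]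
        exact (map_ne_zero_iff _ (IsFractionRing.injective R' L)).2
          ((map_ne_zero_iff _ (IsLocalization.injective R' hMg')).2 (nonZeroDivisors.ne_zero (hMg' t.2)))
      rw [h]
      exact (hX a).mul (hX t.1).inv
    obtain ⟨a, b, -, rfl⟩ := IsFractionRing.div_surjective R' z
    rw [div_eq_mul_inv]
    exact (hR a).mul (hR b).inv
  -- transcendence degrees
  have hL : (m : Cardinal.{u}) ≤ Algebra.trdeg k L := by
    have h := trdeg_le_of_injective (R := k) ((IsScalarTower.toAlgHom k R' L).comp (IsScalarTower.toAlgHom k P R'))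
      ((IsFractionRing.injective R' L).comp (IsLocalization.injective R' hMg'))
    rwa [MvPolynomial.trdeg_of_isDomain, Cardinal.mk_fin, Cardinal.lift_natCast] at h
  have hBtr : (m : Cardinal.{u}) ≤ Algebra.trdeg k B := by
    haveI : FaithfulSMul k B := (faithfulSMul_iff_algebraMap_injective k B).2 (algebraMap k B).injective
    have h := trdeg_add_eq k B (A := L)
    rw [trdeg_eq_zero (R := B) (A := L), add_zero] at h
    rwa [h]
  have hRn : Algebra.trdeg k R ≤ (n : Cardinal.{u}) := by
    let K := FractionRing (MvPolynomial (Fin n) k)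
    have hunit : ∀ y : Submonoid.powers g, IsUnit (IsScalarTower.toAlgHom k (MvPolynomial (Fin n) k) K y) := fun y =>
      IsLocalization.map_units K (⟨y.1, hMg y.2⟩ : nonZeroDivisors (MvPolynomial (Fin n) k))
    let j : R →ₐ[k] K := IsLocalization.liftAlgHom (M := Submonoid.powers g) hunit
    have h := trdeg_le_of_injective j ((IsLocalization.lift_injective_iff _).2 fun a b => by
      simp [(IsLocalization.injective R hMg).eq_iff, (IsFractionRing.injective (MvPolynomial (Fin n) k) K).eq_iff])
    rw [H27LangWeil.trdeg_fractionRing, MvPolynomial.trdeg_of_isDomain, Cardinal.mk_fin, Cardinal.lift_natCast] at h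
    exact h
  obtain ⟨D, hD, hDt⟩ := H8Props.FieldDim.exists_dim_trdeg k A
  have hDm : D ≤ m := by
    haveI : FaithfulSMul k A := (faithfulSMul_iff_algebraMap_injective k A).2 (algebraMap k A).injective
    have h1 := trdeg_add_le (R := k) (S := A) (A := R)
    have h2 : (J.card : Cardinal.{u}) ≤ Algebra.trdeg A R := by
      have := (show AlgebraicIndependent A (fun i : J => x i) from hJ').lift_cardinalMk_le_trdeg
      simpa using this
    have h3 : ((D + J.card : ℕ) : Cardinal.{u}) ≤ n := by
      push_cast
      rw [← hDt]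
      exact ((add_le_add le_rfl h2).trans h1).trans hRn
    have h4 : m = n - J.card := by
      simp [m, I, Fintype.card_subtype_compl]
    have := Nat.cast_le.1 h3
    omega
  haveI : IsDomain B := inferInstance
  haveI : Algebra.FiniteType k B := Algebra.FiniteType.of_surjective θ.rangeRestrict θ.rangeRestrict_surjective
  obtain ⟨D', hD', hDt'⟩ := H8Props.FieldDim.exists_dim_trdeg k B
  rw [hDt'] at hBtr
  have hmD' : m ≤ D' := Nat.cast_le.1 hBtr
  have hker : RingHom.ker θ.rangeRestrict = ⊥ := by
    by_contra hne
    haveI : (RingHom.ker θ.rangeRestrict).IsPrime := RingHom.ker_isPrime _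
    have h := H8Props.FieldDim.dim_quotient_lt k A ⊥ (RingHom.ker θ.rangeRestrict) (bot_lt_iff_ne_bot.2 hne)
    rw [ringKrullDim_eq_of_ringEquiv (Ideal.quotientKerAlgEquivOfSurjective (f := θ.rangeRestrict)
      θ.rangeRestrict_surjective).toRingEquiv, ringKrullDim_eq_of_ringEquiv (RingEquiv.quotientBot A), hD, hD'] at h
    have : D' < D := by exact_mod_cast h
    omega
  have hinj : Function.Injective θ.rangeRestrict := (RingHom.injective_iff_ker_eq_bot _).2 hker
  refine ⟨m, τ g, θ, hτ.1, fun a b h => hinj (Subtype.ext h), ?_⟩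
  rw [hD]
  have : D' = D := by
    have e : ringKrullDim A = ringKrullDim B := ringKrullDim_eq_of_ringEquiv
      (RingEquiv.ofBijective θ.rangeRestrict ⟨hinj, θ.rangeRestrict_surjective⟩)
    rw [hD, hD'] at e
    exact_mod_cast e.symm
  exact_mod_cast (show D = m by omega)

end Groth.Agent.H3CAlg.RatSlice
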