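import Groth.Agent.H3CAlg.NoetherNorm
import Groth.Agent.H29Curve.Trdeg
import Mathlib.RingTheory.FiniteStability
import Mathlib.LinearAlgebra.TensorProduct.RightExactness
import Mathlib.Algebra.Ring.Subring.Basic
import Mathlib.RingTheory.Adjoin.Basic

/-! Relative Noether normalisation over two fibres, with prescribed perturbations. -/

set_option autoImplicit false
set_option maxHeartbeats 1000000
universe u

open MvPolynomial TensorProduct

namespace Groth.Agent.H3CAlg.RelNoether

section Lev

variable {A S : Type u} [CommRing A] [CommRing S] [Algebra A S] {d : ℕ} (z : Fin d → S)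

/-- span of monomials of bounded degree -/
def lev (A : Type u) [CommRing A] [Algebra A S] (z : Fin d → S) (e : ℕ) : Submodule A S :=
  Submodule.span A {m | ∃ α : Fin d → ℕ, ∑ i, α i ≤ e ∧ m = ∏ i, z i ^ α i}

theorem one_mem_lev (e : ℕ) : (1 : S) ∈ lev A z e :=
  Submodule.subset_span ⟨0, by simp, by simp⟩

theorem lev_mono {a b : ℕ} (h : a ≤ b) : lev A z a ≤ lev A z b :=
  Submodule.span_mono fun _ ⟨α, hα, hm⟩ => ⟨α, hα.trans h, hm⟩

theorem algebraMap_mem_lev (a : A) (e : ℕ) : algebraMap A S a ∈ lev A z e := by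
  rw [Algebra.algebraMap_eq_smul_one]; exact Submodule.smul_mem _ _ (one_mem_lev z e)

theorem z_pow_mem_lev (i : Fin d) (m : ℕ) : z i ^ m ∈ lev A z m := by
  classical
  refine Submodule.subset_span ⟨Pi.single i m, by simp [Finset.sum_pi_single'], ?_⟩
  rw [Finset.prod_eq_single i (fun j _ hj => by simp [hj]) (fun h => absurd (Finset.mem_univ i) h)]
  simp

theorem mul_mem_lev {a b : ℕ} {x y : S} (hx : x ∈ lev A z a) (hy : y ∈ lev A z b) : x * y ∈ lev A z (a + b) := by
  induction hx using Submodule.span_induction with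
  | mem x hx =>
    obtain ⟨α, hα, rfl⟩ := hx
    induction hy using Submodule.span_induction with
    | mem y hy =>
      obtain ⟨β, hβ, rfl⟩ := hy
      exact Submodule.subset_span ⟨α + β, by simp [Finset.sum_add_distrib]; omega,
        by simp [pow_add, Finset.prod_mul_distrib]⟩
    | zero => rw [mul_zero]; exact zero_mem _
    | add p q _ _ hp hq => rw [mul_add]; exact add_mem hp hq
    | smul r p _ hp => rw [mul_smul_comm]; exact Submodule.smul_mem _ _ hp
  | zero => rw [zero_mul]; exact zero_mem _
  | add p q _ _ hp hq => rw [add_mul]; exact add_mem hp hq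
  | smul r p _ hp => rw [smul_mul_assoc]; exact Submodule.smul_mem _ _ hp

theorem pow_mem_lev {a : ℕ} {x : S} (hx : x ∈ lev A z a) : ∀ n, x ^ n ∈ lev A z (a * n)
  | 0 => by rw [pow_zero]; exact one_mem_lev z _
  | n + 1 => by rw [pow_succ, Nat.mul_succ]; exact mul_mem_lev z (pow_mem_lev hx n) hx

/-- a triangular system of equations makes the monomials finite -/
theorem fg_of_lev (E : Fin d → ℕ) (h : ∀ i, z i ^ (E i + 1) ∈ lev A z (E i)) :
    (Subalgebra.toSubmodule (Algebra.adjoin A (Set.range z))).FG := by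
  classical
  let box : Finset (Fin d → ℕ) := Fintype.piFinset fun i => Finset.range (E i + 1)
  let T : Submodule A S := Submodule.span A ((box.image fun α => ∏ i, z i ^ α i : Finset S) : Set S)
  suffices e : Subalgebra.toSubmodule (Algebra.adjoin A (Set.range z)) = T from ⟨_, e.symm⟩
  have hall : ∀ e, ∀ α : Fin d → ℕ, ∑ i, α i = e → ∏ i, z i ^ α i ∈ T := by
    intro e
    induction e using Nat.strong_induction_on with
    | _ e ih =>
      intro α hα
      by_cases hb : α ∈ box
      · exact Submodule.subset_span (by simp only [Finset.coe_image]; exact ⟨α, hb, rfl⟩)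
      · obtain ⟨i, hi⟩ : ∃ i, E i + 1 ≤ α i := by
          by_contra hh
          push Not at hh
          exact hb (Fintype.mem_piFinset.2 fun i => Finset.mem_range.2 (hh i))
        let β : Fin d → ℕ := Function.update α i (α i - (E i + 1))
        have hαβ : ∀ j, α j = β j + if j = i then E i + 1 else 0 := fun j => by
          by_cases hj : j = i
          · subst hj; simp [β]; omega
          · simp [β, hj]
        have hsum : e = ∑ j, β j + (E i + 1) := by
          rw [← hα, Finset.sum_congr rfl fun j _ => hαβ j, Finset.sum_add_distrib]; simp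
        have hprod : ∏ j, z j ^ α j = (∏ j, z j ^ β j) * z i ^ (E i + 1) := by
          rw [Finset.prod_congr rfl fun j _ => by rw [hαβ j, pow_add], Finset.prod_mul_distrib]
          congr 1
          rw [Finset.prod_eq_single i (fun j _ hj => by simp [hj]) (fun h => absurd (Finset.mem_univ i) h)]
          simp
        rw [hprod]
        have hβ : ∏ j, z j ^ β j ∈ lev A z (∑ j, β j) := Submodule.subset_span ⟨β, le_rfl, rfl⟩
        have hmem := mul_mem_lev z hβ (h i)
        refine (Submodule.span_le.2 ?_ : lev A z (∑ j, β j + E i) ≤ T) hmem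
        rintro _ ⟨γ, hγ, rfl⟩
        exact ih _ (by omega) γ rfl
  refine le_antisymm ?_ (Submodule.span_le.2 ?_)
  · rw [Algebra.adjoin_eq_span, Submodule.span_le]
    intro m hm
    obtain ⟨α, rfl⟩ : ∃ α : Fin d → ℕ, m = ∏ i, z i ^ α i := by
      induction hm using Submonoid.closure_induction with
      | mem x hx => obtain ⟨i, rfl⟩ := hx; exact ⟨Pi.single i 1, by
          rw [Finset.prod_eq_single i (fun j _ hj => by simp [hj]) (fun h => absurd (Finset.mem_univ i) h)]; simp⟩
      | one => exact ⟨0, by simp⟩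
      | mul x y _ _ hx hy =>
        obtain ⟨a, rfl⟩ := hx; obtain ⟨b, rfl⟩ := hy
        exact ⟨a + b, by simp [pow_add, Finset.prod_mul_distrib]⟩
    exact hall _ α rfl
  · intro m hm
    simp only [Finset.coe_image] at hm
    obtain ⟨α, -, rfl⟩ := hm
    exact Subalgebra.prod_mem _ fun i _ => Subalgebra.pow_mem _ (Algebra.subset_adjoin (Set.mem_range_self i)) _

end Lev

/-- perturbing by high powers keeps finiteness -/
theorem exists_bound_finite {k S : Type u} [Field k] [CommRing S] [Algebra k S] {d : ℕ} (z x : Fin d → S)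
    (hz : (MvPolynomial.aeval z : MvPolynomial (Fin d) k →ₐ[k] S).toRingHom.Finite) :
    ∃ D : ℕ, ∀ M, D < M →
      (MvPolynomial.aeval (fun i => x i + z i ^ M) : MvPolynomial (Fin d) k →ₐ[k] S).toRingHom.Finite := by
  classical
  have hint : ∀ i, ∃ q : Polynomial (MvPolynomial (Fin d) k), q.Monic ∧
      q.eval₂ (MvPolynomial.aeval z : MvPolynomial (Fin d) k →ₐ[k] S).toRingHom (x i) = 0 := fun i =>
    RingHom.IsIntegral.of_finite hz (x i)
  choose q hq hq0 using hint
  refine ⟨Finset.univ.sup fun i => (Finset.range ((q i).natDegree + 1)).sup fun j => ((q i).coeff j).totalDegree,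
    fun M hM => ?_⟩
  set w := fun i => x i + z i ^ M with hw
  let gw : MvPolynomial (Fin d) k →ₐ[k] S := MvPolynomial.aeval w
  letI : Algebra (MvPolynomial (Fin d) k) S := gw.toRingHom.toAlgebra
  haveI : IsScalarTower k (MvPolynomial (Fin d) k) S := IsScalarTower.of_algebraMap_eq fun a => (gw.commutes a).symm
  have hwA : ∀ i, w i = algebraMap (MvPolynomial (Fin d) k) S (MvPolynomial.X i) := fun i => (MvPolynomial.aeval_X w i).symm
  have hsys : ∀ i, z i ^ ((M * (q i).natDegree - 1) + 1) ∈
      lev (MvPolynomial (Fin d) k) z (M * (q i).natDegree - 1) := by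
    intro i
    set n := (q i).natDegree with hn
    rcases Nat.eq_zero_or_pos n with h0 | hpos
    · -- then `S` is trivial
      have h1 : (q i) = 1 := (hq i).natDegree_eq_zero.1 h0
      have h10 : (1 : S) = 0 := by simpa [h1] using hq0 i
      rw [show z i ^ ((M * n - 1) + 1) = 0 from by rw [← one_mul (z i ^ _), h10, zero_mul]]
      exact zero_mem _
    have hM0 : 0 < M * n := Nat.mul_pos (Nat.lt_of_le_of_lt (Nat.zero_le _) hM) hpos
    rw [Nat.sub_add_cancel hM0]
    set L := lev (MvPolynomial (Fin d) k) z (M * n - 1) with hL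
    have hMn : M * n = M * (n - 1) + M := by
      conv_lhs => rw [← Nat.sub_add_cancel (Nat.succ_le_of_lt hpos)]
      ring
    -- `x` has level `M`
    have hxM : x i ∈ lev (MvPolynomial (Fin d) k) z M := by
      have : x i = algebraMap (MvPolynomial (Fin d) k) S (MvPolynomial.X i) - z i ^ M := by
        rw [← hwA]; simp [hw]
      rw [this]
      exact sub_mem (algebraMap_mem_lev z _ _) (z_pow_mem_lev z i M)
    have hc : ∀ j ≤ n, MvPolynomial.aeval z ((q i).coeff j) ∈ lev (MvPolynomial (Fin d) k) z (M - 1) := by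
      intro j hj
      rw [((q i).coeff j).as_sum, map_sum]
      refine Submodule.sum_mem _ fun e he => ?_
      rw [MvPolynomial.aeval_monomial, Finsupp.prod_fintype _ _ fun _ => pow_zero _,
        IsScalarTower.algebraMap_apply k (MvPolynomial (Fin d) k) S, ← Algebra.smul_def]
      refine Submodule.smul_mem _ _ (Submodule.subset_span ⟨e, ?_, rfl⟩)
      have h1 : (e.sum fun _ m => m) ≤ ((q i).coeff j).totalDegree := MvPolynomial.le_totalDegree he
      rw [Finsupp.sum_fintype _ _ fun _ => rfl] at h1
      have h2 : ((q i).coeff j).totalDegree < M := lt_of_le_of_lt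
        ((Finset.le_sup (f := fun j => ((q i).coeff j).totalDegree) (Finset.mem_range.2 (Nat.lt_succ_of_le hj))).trans
          (Finset.le_sup (f := fun i => (Finset.range ((q i).natDegree + 1)).sup fun j => ((q i).coeff j).totalDegree)
            (Finset.mem_univ i))) hM
      omega
    have hxn : x i ^ n ∈ L := by
      have := hq0 i
      rw [Polynomial.eval₂_eq_sum_range, Finset.sum_range_succ, ← hn] at this
      rw [show (q i).coeff n = 1 from (hq i).coeff_natDegree, map_one, one_mul,
        add_eq_zero_iff_eq_neg'] at this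
      rw [this]
      refine neg_mem (Submodule.sum_mem _ fun j hj => ?_)
      rw [Finset.mem_range] at hj
      refine lev_mono z ?_ (mul_mem_lev z (hc j hj.le) (pow_mem_lev z hxM j))
      have : M * j ≤ M * (n - 1) := Nat.mul_le_mul_left _ (by omega)
      omega
    have hdiff : x i ^ n - (-(z i ^ M)) ^ n ∈ L := by
      rw [← geom_sum₂_mul, show x i - -(z i ^ M) = w i from by simp [hw]]
      refine lev_mono z (show M * (n - 1) + 0 ≤ M * n - 1 by omega)
        (mul_mem_lev z (Submodule.sum_mem _ fun j hj => ?_) (hwA i ▸ algebraMap_mem_lev z _ _))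
      rw [Finset.mem_range] at hj
      refine lev_mono z ?_ (mul_mem_lev z (pow_mem_lev z hxM j) (pow_mem_lev z (neg_mem (z_pow_mem_lev z i M)) (n - 1 - j)))
      rw [← Nat.mul_add]; exact Nat.mul_le_mul_left _ (by omega)
    have hneg : (-(z i ^ M)) ^ n ∈ L := by
      have := sub_mem hxn hdiff
      rwa [sub_sub_cancel] at this
    rcases Nat.even_or_odd n with he | ho
    · rwa [he.neg_pow, ← pow_mul] at hneg
    · rw [ho.neg_pow, neg_mem_iff, ← pow_mul] at hneg
      exact hneg
  have hfg := fg_of_lev z _ hsys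
  haveI : Module.Finite (MvPolynomial (Fin d) k) (Algebra.adjoin (MvPolynomial (Fin d) k) (Set.range z)) :=
    Module.Finite.iff_fg.2 hfg
  show (gw.toRingHom).Finite
  let A' := Algebra.adjoin (MvPolynomial (Fin d) k) (Set.range z)
  have h2 : (A'.val.toRingHom).Finite := by
    let gz : MvPolynomial (Fin d) k →ₐ[k] A' :=
      MvPolynomial.aeval fun i => (⟨z i, Algebra.subset_adjoin (Set.mem_range_self i)⟩ : A')
    have hcomp : (A'.val.restrictScalars k).comp gz = MvPolynomial.aeval z :=
      MvPolynomial.algHom_ext fun i => by simp [gz]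
    refine RingHom.Finite.of_comp_finite (f := gz.toRingHom) ?_
    show ((A'.val.restrictScalars k).comp gz).toRingHom.Finite
    rw [hcomp]; exact hz
  have h1 : (algebraMap (MvPolynomial (Fin d) k) A').Finite := by
    rw [RingHom.finite_algebraMap]; infer_instance
  exact RingHom.Finite.comp h2 h1

theorem kerNeBot {k S : Type u} [Field k] [CommRing S] [Algebra k S] {n d : ℕ} (hnd : d < n)
    (hS : ringKrullDim S ≤ d) (g : MvPolynomial (Fin n) k →ₐ[k] S) (hg : g.toRingHom.IsIntegral) :
    RingHom.ker g ≠ ⊥ := by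
  intro hbot
  have h := (H29Curve.ringKrullDim_le_of_isIntegral g.toRingHom hg
    ((RingHom.injective_iff_ker_eq_bot _).2 hbot)).trans hS
  rw [MvPolynomial.ringKrullDim_of_isNoetherianRing, ringKrullDim_eq_zero_of_field, zero_add,
    Nat.card_fin] at h
  have h' : n ≤ d := by exact_mod_cast h
  omega

section Fibres

variable {V : Type u} [CommRing V] {R : Type u} [CommRing R] [Algebra V R] {k K : Type u} [Field k] [Field K]
  [Algebra V k] [Algebra V K]

/-- coordinates mapped to a fibre -/
noncomputable def fib (V : Type u) [CommRing V] [Algebra V R] (k : Type u) [Field k] [Algebra V k] {n : ℕ} (z : Fin n → R) :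
    MvPolynomial (Fin n) k →ₐ[k] k ⊗[V] R :=
  MvPolynomial.aeval fun i => (1 : k) ⊗ₜ[V] z i

theorem fib_step {n : ℕ} (z : Fin (n + 1) → R) (hz : (fib V k z).toRingHom.IsIntegral)
    {f : MvPolynomial (Fin (n + 1)) k} (hf : f ∈ RingHom.ker (fib V k z)) (hf0 : f ≠ 0) (N : ℕ)
    (hN : 2 + f.totalDegree ≤ N) :
    (fib V k (fun j : Fin n => z j.succ - z 0 ^ (N ^ (j.succ : ℕ)))).toRingHom.IsIntegral := by
  let g := fib V k z
  let ψ := Ideal.kerLiftAlg g
  have hcomp : ψ.comp (Ideal.Quotient.mkₐ k (RingHom.ker g)) = g := AlgHom.ext fun a => Ideal.kerLiftAlg_mk g a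
  have hψ : ψ.toRingHom.IsIntegral :=
    RingHom.IsIntegral.tower_top (Ideal.Quotient.mkₐ k (RingHom.ker g)).toRingHom ψ.toRingHom
      (by show (ψ.comp (Ideal.Quotient.mkₐ k (RingHom.ker g))).toRingHom.IsIntegral; rw [hcomp]; exact hz)
  have h1 := NoetherNorm.step' (RingHom.ker g) hf hf0 N hN
  have heq : fib V k (fun j : Fin n => z j.succ - z 0 ^ (N ^ (j.succ : ℕ))) =
      ψ.comp ((Ideal.Quotient.mkₐ k (RingHom.ker g)).comp (MvPolynomial.aeval fun j : Fin n =>
        (MvPolynomial.X j.succ - MvPolynomial.X 0 ^ (N ^ (j.succ : ℕ)) : MvPolynomial (Fin (n + 1)) k))) := by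
    rw [← AlgHom.comp_assoc, hcomp]
    refine MvPolynomial.algHom_ext fun j => ?_
    simp only [fib, g, AlgHom.comp_apply, MvPolynomial.aeval_X, map_sub, map_pow]
    rw [TensorProduct.tmul_sub, Algebra.TensorProduct.tmul_pow, one_pow]
  rw [heq]
  exact h1.trans _ _ hψ

theorem exists_coords {d : ℕ} (hs : ringKrullDim (k ⊗[V] R) ≤ d) (hη : ringKrullDim (K ⊗[V] R) ≤ d) :
    ∀ (n : ℕ) (z : Fin n → R), (fib V k z).toRingHom.IsIntegral → (fib V K z).toRingHom.IsIntegral →
      ∃ z' : Fin d → R, (fib V k z').toRingHom.IsIntegral ∧ (fib V K z').toRingHom.IsIntegral := by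
  intro n
  induction n using Nat.strong_induction_on with
  | _ n ih =>
    intro z hk hK
    by_cases hnd : d < n
    · obtain ⟨m, rfl⟩ : ∃ m, n = m + 1 := ⟨n - 1, by omega⟩
      obtain ⟨f, hf, hf0⟩ := Submodule.exists_mem_ne_zero_of_ne_bot (kerNeBot hnd hs (fib V k z) hk)
      obtain ⟨g, hg, hg0⟩ := Submodule.exists_mem_ne_zero_of_ne_bot (kerNeBot hnd hη (fib V K z) hK)
      exact ih m (Nat.lt_succ_self m) _ (fib_step z hk hf hf0 (2 + f.totalDegree + g.totalDegree) (by omega))
        (fib_step z hK hg hg0 (2 + f.totalDegree + g.totalDegree) (by omega))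
    · push Not at hnd
      let z' : Fin d → R := fun i => if h : (i : ℕ) < n then z ⟨i, h⟩ else 0
      have hfib : ∀ (F : Type u) [Field F] [Algebra V F], (fib V F z).toRingHom.IsIntegral →
          (fib V F z').toRingHom.IsIntegral := by
        intro F _ _ h
        have : fib V F z = (fib V F z').comp (MvPolynomial.rename (Fin.castLE hnd)) :=
          MvPolynomial.algHom_ext fun i => by simp [fib, z']
        rw [this] at h
        exact RingHom.IsIntegral.tower_top _ _ h
      exact ⟨z', hfib k hk, hfib K hK⟩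

theorem main [Algebra.FiniteType V R] {d : ℕ} (hs : ringKrullDim (k ⊗[V] R) ≤ d)
    (hη : ringKrullDim (K ⊗[V] R) ≤ d) (x : Fin d → R) {N : ℕ} (hN : 1 ≤ N) :
    ∃ y : Fin d → R, (∀ i, y i ∈ Subring.closure (Set.range fun r : R => r ^ N)) ∧
      (fib V k (fun i => x i + y i)).toRingHom.Finite ∧ (fib V K (fun i => x i + y i)).toRingHom.Finite := by
  obtain ⟨n, f, hf⟩ := Algebra.FiniteType.iff_quotient_mvPolynomial''.1 (inferInstance : Algebra.FiniteType V R)
  have hgen : ∀ (F : Type u) [Field F] [Algebra V F],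
      (fib V F (fun i => f (MvPolynomial.X i))).toRingHom.IsIntegral := by
    intro F _ _
    refine RingHom.isIntegral_of_surjective _ fun t => ?_
    induction t using TensorProduct.induction_on with
    | zero => exact ⟨0, map_zero _⟩
    | tmul a r =>
      obtain ⟨p, rfl⟩ := hf r
      refine ⟨MvPolynomial.C a * MvPolynomial.map (algebraMap V F) p, ?_⟩
      show fib V F _ (MvPolynomial.C a * MvPolynomial.map (algebraMap V F) p) = _
      have e : ∀ p : MvPolynomial (Fin n) V, fib V F (fun i => f (MvPolynomial.X i)) (MvPolynomial.map (algebraMap V F) p) =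
          (1 : F) ⊗ₜ[V] f p := fun p => by
        have e1 : ((fib V F (fun i => f (MvPolynomial.X i))).restrictScalars V).comp
            (MvPolynomial.mapAlgHom (Algebra.ofId V F)) =
            (Algebra.TensorProduct.includeRight : R →ₐ[V] F ⊗[V] R).comp f :=
          MvPolynomial.algHom_ext fun i => by simp [fib]
        exact AlgHom.congr_fun e1 p
      rw [map_mul, e, ← MvPolynomial.algebraMap_eq, AlgHom.commutes, Algebra.TensorProduct.algebraMap_apply,
        Algebra.algebraMap_self_apply, Algebra.TensorProduct.tmul_mul_tmul, mul_one, one_mul]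
    | add a b ha hb =>
      obtain ⟨p, rfl⟩ := ha; obtain ⟨q, rfl⟩ := hb
      exact ⟨p + q, map_add _ _ _⟩
  obtain ⟨z, hzk, hzK⟩ := exists_coords hs hη n _ (hgen k) (hgen K)
  have hfin : ∀ (F : Type u) [Field F] [Algebra V F], (fib V F z).toRingHom.IsIntegral →
      (fib V F z).toRingHom.Finite := by
    intro F _ _ h
    letI := (fib V F z).toRingHom.toAlgebra
    haveI : IsScalarTower F (MvPolynomial (Fin d) F) (F ⊗[V] R) :=
      IsScalarTower.of_algebraMap_eq fun a => ((fib V F z).commutes a).symm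
    haveI : Algebra.IsIntegral (MvPolynomial (Fin d) F) (F ⊗[V] R) := ⟨h⟩
    haveI : Algebra.FiniteType (MvPolynomial (Fin d) F) (F ⊗[V] R) :=
      Algebra.FiniteType.of_restrictScalars_finiteType F _ _
    exact (RingHom.finite_algebraMap).2 Algebra.IsIntegral.finite
  obtain ⟨D₁, h₁⟩ := exists_bound_finite (fun i => (1 : k) ⊗ₜ[V] z i) (fun i => (1 : k) ⊗ₜ[V] x i) (hfin k hzk)
  obtain ⟨D₂, h₂⟩ := exists_bound_finite (fun i => (1 : K) ⊗ₜ[V] z i) (fun i => (1 : K) ⊗ₜ[V] x i) (hfin K hzK)
  set M := N * (D₁ + D₂ + 1) with hMdef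
  have hM : D₁ < M ∧ D₂ < M := by
    have : 1 * (D₁ + D₂ + 1) ≤ M := Nat.mul_le_mul_right _ hN
    omega
  refine ⟨fun i => z i ^ M, fun i => Subring.subset_closure ⟨z i ^ (D₁ + D₂ + 1), ?_⟩, ?_, ?_⟩
  · show (z i ^ (D₁ + D₂ + 1)) ^ N = z i ^ M
    rw [← pow_mul, hMdef, mul_comm]
  · have e : fib V k (fun i => x i + z i ^ M) =
        MvPolynomial.aeval fun i => (1 : k) ⊗ₜ[V] x i + ((1 : k) ⊗ₜ[V] z i) ^ M :=
      MvPolynomial.algHom_ext fun i => by simp [fib, TensorProduct.tmul_add, Algebra.TensorProduct.tmul_pow]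
    rw [e]; exact h₁ M hM.1
  · have e : fib V K (fun i => x i + z i ^ M) =
        MvPolynomial.aeval fun i => (1 : K) ⊗ₜ[V] x i + ((1 : K) ⊗ₜ[V] z i) ^ M :=
      MvPolynomial.algHom_ext fun i => by simp [fib, TensorProduct.tmul_add, Algebra.TensorProduct.tmul_pow]
    rw [e]; exact h₂ M hM.2

end Fibres

end Groth.Agent.H3CAlg.RelNoether
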