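import Mathlib.RingTheory.Localization.Away.Basic
import Mathlib.RingTheory.Localization.Integer
import Mathlib.Algebra.Polynomial.Lifts
import Mathlib.Algebra.Polynomial.Inductions
import Mathlib.RingTheory.FinitePresentation
import Mathlib.Algebra.Polynomial.Div

/-!
Lifting points over `R_r[X]` to `R[X]` after rescaling the variable.
-/

universe u v

open Polynomial

namespace Groth.Agent.H3CAlg

/-- A polynomial over a localization away from `r` has a multiple by a power of `r` coming from `R`. -/
theorem exists_pow_mul_eq_map {R : Type u} [CommRing R] (r : R) (c : (Localization.Away r)[X]) :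
    ∃ (K : ℕ) (q : R[X]),
      q.map (algebraMap R (Localization.Away r)) = C (algebraMap R (Localization.Away r) (r ^ K)) * c := by
  classical
  obtain ⟨⟨b, ⟨K, rfl⟩⟩, hb⟩ := IsLocalization.exist_integer_multiples_of_finset
    (Submonoid.powers r) (S := Localization.Away r) c.coeffs
  refine ⟨K, ?_⟩
  refine (mem_lifts _).mp ((lifts_iff_coeff_lifts _).mpr fun k => ?_)
  rw [coeff_C_mul]
  by_cases hk : c.coeff k = 0
  · exact ⟨0, by rw [hk, mul_zero, map_zero]⟩
  · obtain ⟨y, hy⟩ := hb _ (coeff_mem_coeffs hk)
    exact ⟨y, by rw [hy, Algebra.smul_def]⟩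

/-- A polynomial vanishing in the localization away from `r` is killed by a power of `r`. -/
theorem exists_pow_mul_eq_zero {R : Type u} [CommRing R] (r : R) (g : R[X])
    (hg : g.map (algebraMap R (Localization.Away r)) = 0) : ∃ M : ℕ, C (r ^ M) * g = 0 := by
  classical
  have h : ∀ k, ∃ M : ℕ, r ^ M * g.coeff k = 0 := fun k => by
    have := congrArg (fun p => p.coeff k) hg
    simp only [coeff_map, coeff_zero] at this
    obtain ⟨⟨_, M, rfl⟩, hM⟩ := (IsLocalization.map_eq_zero_iff (Submonoid.powers r) _ _).mp this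
    exact ⟨M, hM⟩
  choose M hM using h
  refine ⟨g.support.sup M, Polynomial.ext fun k => ?_⟩
  rw [coeff_C_mul, coeff_zero]
  by_cases hk : k ∈ g.support
  · rw [← Nat.sub_add_cancel (Finset.le_sup (f := M) hk), pow_add, mul_assoc, hM, mul_zero]
  · rw [notMem_support_iff.mp hk, mul_zero]

theorem exists_lift_rescaled {R : Type u} {B : Type v} [CommRing R] [CommRing B] [Algebra R B]
    [Algebra.FinitePresentation R B] (r : R)
    (x : B →ₐ[R] Polynomial (Localization.Away r)) (x₀ : B →ₐ[R] R)
    (hx₀ : (algebraMap R (Localization.Away r)).comp x₀.toRingHom =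
      (Polynomial.evalRingHom 0).comp x.toRingHom) :
    ∃ N : ℕ, ∀ n : ℕ, N ≤ n →
      ∃ y : B →ₐ[R] Polynomial R,
        (Polynomial.evalRingHom 0).comp y.toRingHom = x₀.toRingHom ∧
        (Polynomial.mapRingHom (algebraMap R (Localization.Away r))).comp y.toRingHom =
          (Polynomial.aeval (Polynomial.C (algebraMap R (Localization.Away r) (r ^ n)) * Polynomial.X) :
              Polynomial (Localization.Away r) →ₐ[Localization.Away r] Polynomial (Localization.Away r)).toRingHom.comp
            x.toRingHom := by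
  classical
  obtain ⟨m, π, hπ, hker⟩ := Algebra.FinitePresentation.out (R := R) (A := B)
  let L := algebraMap R (Localization.Away r)
  let c : Fin m → (Localization.Away r)[X] := fun i => x (π (MvPolynomial.X i))
  choose Ki qi hqi using fun i => exists_pow_mul_eq_map r (c i).divX
  let K := Finset.univ.sup Ki
  let q : Fin m → R[X] := fun i => C (r ^ (K - Ki i)) * qi i
  have hq : ∀ i, (q i).map L = C (L (r ^ K)) * (c i).divX := by
    intro i
    rw [Polynomial.map_mul, map_C, hqi, ← mul_assoc, ← C_mul, ← map_mul, ← pow_add,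
      Nat.sub_add_cancel (Finset.le_sup (f := Ki) (Finset.mem_univ i))]
  let a : Fin m → R := fun i => x₀ (π (MvPolynomial.X i))
  let y : ℕ → (MvPolynomial (Fin m) R →ₐ[R] R[X]) := fun t => MvPolynomial.aeval fun i =>
    C (a i) + C (r ^ t) * X * (q i).comp (C (r ^ (K + t)) * X)
  have hy0 : ∀ t p, (y t p).eval 0 = x₀ (π p) := by
    intro t
    have : (Polynomial.aeval (0 : R)).comp (y t) = x₀.comp π :=
      MvPolynomial.algHom_ext fun i => by simp [y, a]
    intro p
    have := DFunLike.congr_fun this p
    simpa [Polynomial.coe_aeval_eq_eval] using this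
  have hymap : ∀ t p, (y t p).map L = (x (π p)).comp (C (L (r ^ (K + t))) * X) := by
    intro t
    have : ((mapRingHom L).comp (y t).toRingHom) =
        (Polynomial.compRingHom (C (L (r ^ (K + t))) * X)).comp (x.comp π).toRingHom := by
      refine MvPolynomial.ringHom_ext (fun s => ?_) (fun i => ?_)
      · change ((y t) (MvPolynomial.C s)).map L = (x (π (MvPolynomial.C s))).comp _
        rw [← MvPolynomial.algebraMap_eq, AlgHom.commutes, AlgHom.commutes, AlgHom.commutes,
          Polynomial.algebraMap_apply, Polynomial.algebraMap_apply, map_C, C_comp]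
        rfl
      · change ((y t) (MvPolynomial.X i)).map L = (c i).comp _
        have h0 : L (a i) = (c i).coeff 0 := by
          rw [coeff_zero_eq_eval_zero]
          exact RingHom.congr_fun hx₀ (π (MvPolynomial.X i))
        simp only [y, MvPolynomial.aeval_X, Polynomial.map_add, Polynomial.map_mul, map_C, map_X,
          Polynomial.map_comp, hq, h0]
        conv_rhs => rw [← X_mul_divX_add (c i)]
        simp only [mul_comp, add_comp, C_comp, X_comp, pow_comp, map_mul, map_pow, pow_add]
        ring
    intro p
    exact RingHom.congr_fun this p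
  have hscale : ∀ t p, y t p = (y 0 p).comp (C (r ^ t) * X) := by
    intro t
    have : y t = (Polynomial.aeval (C (r ^ t) * X) : R[X] →ₐ[R] R[X]).comp (y 0) :=
      MvPolynomial.algHom_ext fun i => by
        simp only [y, AlgHom.comp_apply, MvPolynomial.aeval_X, ← Polynomial.comp_eq_aeval, add_comp,
          mul_comp, C_comp, X_comp, comp_assoc, one_comp, pow_zero, add_zero, pow_add, map_one, map_mul]
        ring_nf
    intro p
    rw [this, AlgHom.comp_apply, ← Polynomial.comp_eq_aeval]
  -- every relation is killed after a further rescaling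
  have hrel : ∀ p, π p = 0 → ∃ M, ∀ t, M ≤ t → y t p = 0 := by
    intro p hp
    obtain ⟨g, hg⟩ : X ∣ y 0 p := by
      rw [Polynomial.X_dvd_iff, coeff_zero_eq_eval_zero, hy0, hp, map_zero]
    have hg0 : g.map L = 0 := by
      have h := hymap 0 p
      rw [hp, map_zero, zero_comp, hg, Polynomial.map_mul, map_X] at h
      exact (monic_X.mul_right_eq_zero_iff).mp h
    obtain ⟨M, hM⟩ := exists_pow_mul_eq_zero r g hg0
    refine ⟨M, fun t ht => ?_⟩
    have h := congrArg (fun f : R[X] => f.comp (C (r ^ t) * X)) hM
    simp only [mul_comp, C_comp, zero_comp] at h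
    rw [hscale, hg, mul_comp, X_comp,
      show C (r ^ t) = C (r ^ (t - M)) * C (r ^ M) by rw [← C_mul, ← pow_add, Nat.sub_add_cancel ht]]
    rw [show C (r ^ (t - M)) * C (r ^ M) * X * g.comp (C (r ^ (t - M)) * C (r ^ M) * X) =
      C (r ^ (t - M)) * X * (C (r ^ M) * g.comp (C (r ^ (t - M)) * C (r ^ M) * X)) by ring,
      ← C_mul, ← pow_add, Nat.sub_add_cancel ht, h, mul_zero]
  obtain ⟨S, hS⟩ := hker
  choose! M hM using hrel
  refine ⟨K + S.sup M, fun n hn => ?_⟩
  have hle : RingHom.ker π.toRingHom ≤ RingHom.ker (y (n - K)).toRingHom := by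
    rw [← hS, Ideal.span_le]
    intro p hp
    have hp0 : π p = 0 := by
      have : p ∈ RingHom.ker π.toRingHom := hS ▸ Ideal.subset_span hp
      exact this
    have : M p ≤ n - K := by
      have := Finset.le_sup (f := M) (Finset.mem_coe.mp hp)
      omega
    exact hM p hp0 _ this
  let z : B →ₐ[R] R[X] := AlgHom.liftOfSurjective π hπ (y (n - K)) hle
  have hz : ∀ p, z (π p) = y (n - K) p := fun p => AlgHom.liftOfSurjective_apply π hπ _ hle p
  refine ⟨z, ?_, ?_⟩
  · refine RingHom.ext fun b => ?_
    obtain ⟨p, rfl⟩ := hπ b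
    change (z (π p)).eval 0 = x₀ (π p)
    rw [hz, hy0]
  · refine RingHom.ext fun b => ?_
    obtain ⟨p, rfl⟩ := hπ b
    change (z (π p)).map L = Polynomial.aeval _ (x (π p))
    rw [hz, hymap, Nat.add_sub_cancel' (le_trans (Nat.le_add_right _ _) hn), Polynomial.comp_eq_aeval]

end Groth.Agent.H3CAlg
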