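import Mathlib

/-!
Retract rationality: turning two maps with a common open into a retraction, and the two directions of the
criterion by liftings over local rings.
-/

set_option autoImplicit false
set_option linter.style.haveILetI false

universe u

open CategoryTheory AlgebraicGeometry TopologicalSpace

namespace Groth.Agent.H3CAlg.RetractRat

variable {k : Type u} [Field k]

variable (k) in
/-- Affine space over a field. -/
noncomputable abbrev An (n : ℕ) : Scheme.{u} := Spec (CommRingCat.of (MvPolynomial (Fin n) k))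

variable (k) in
/-- Structure map of affine space. -/
noncomputable abbrev sAn (n : ℕ) : An k n ⟶ Spec (CommRingCat.of k) :=
  Spec.map (CommRingCat.ofHom (algebraMap k (MvPolynomial (Fin n) k)))

theorem retract_mk {S T X : Scheme.{u}} (t : T ⟶ S) (f : X ⟶ S) (U : X.Opens) (U₁ : T.Opens)
    (b₀ : (U₁ : Scheme.{u}) ⟶ X) (hb₀ : b₀ ≫ f = U₁.ι ≫ t) (j : (U : Scheme.{u}) ⟶ (U₁ : Scheme.{u}))
    (hj : j ≫ b₀ = U.ι) :
    ∃ (Y : T.Opens) (a : (U : Scheme.{u}) ⟶ (Y : Scheme.{u})) (b : (Y : Scheme.{u}) ⟶ (U : Scheme.{u})),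
      a ≫ b = 𝟙 _ ∧ a ≫ Y.ι ≫ t = U.ι ≫ f ∧ b ≫ U.ι ≫ f = Y.ι ≫ t := by
  let Y : T.Opens := U₁.ι ''ᵁ (b₀ ⁻¹ᵁ U)
  have hY : Set.range Y.ι ⊆ Set.range U₁.ι := by
    rintro _ ⟨y, rfl⟩
    obtain ⟨z, _, hz⟩ := y.2
    exact ⟨z, hz⟩
  let e := IsOpenImmersion.lift U₁.ι Y.ι hY
  have he : e ≫ U₁.ι = Y.ι := IsOpenImmersion.lift_fac _ _ _
  have hb : Set.range (e ≫ b₀) ⊆ Set.range U.ι := by
    rintro _ ⟨y, rfl⟩
    obtain ⟨z, hz, hz'⟩ := y.2
    have : e y = z := U₁.ι.isOpenEmbedding.injective (by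
      rw [← Scheme.Hom.comp_apply, he]; exact hz'.symm)
    exact ⟨⟨b₀ (e y), by rw [this]; exact hz⟩, rfl⟩
  let b := IsOpenImmersion.lift U.ι (e ≫ b₀) hb
  have hbι : b ≫ U.ι = e ≫ b₀ := IsOpenImmersion.lift_fac _ _ _
  have ha : Set.range (j ≫ U₁.ι) ⊆ Set.range Y.ι := by
    rintro _ ⟨u, rfl⟩
    refine ⟨⟨(j ≫ U₁.ι) u, ⟨j u, ?_, rfl⟩⟩, rfl⟩
    show b₀ (j u) ∈ U
    rw [← Scheme.Hom.comp_apply, hj]
    exact u.2
  let a := IsOpenImmersion.lift Y.ι (j ≫ U₁.ι) ha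
  have haι : a ≫ Y.ι = j ≫ U₁.ι := IsOpenImmersion.lift_fac _ _ _
  have hae : a ≫ e = j := by rw [← cancel_mono U₁.ι, Category.assoc, he, haι]
  refine ⟨Y, a, b, ?_, ?_, ?_⟩
  · rw [← cancel_mono U.ι, Category.assoc, hbι, reassoc_of% hae, hj, Category.id_comp]
  · rw [reassoc_of% haι, ← hb₀, reassoc_of% hj]
  · rw [reassoc_of% hbι, hb₀, reassoc_of% he]

theorem lift_of_retract {X : Scheme.{u}} (f : X ⟶ Spec (CommRingCat.of k)) (U : X.Opens) (n : ℕ)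
    (Y : (An k n).Opens) (a : (U : Scheme.{u}) ⟶ (Y : Scheme.{u})) (b : (Y : Scheme.{u}) ⟶ (U : Scheme.{u}))
    (hab : a ≫ b = 𝟙 _) (ha : a ≫ Y.ι ≫ sAn k n = U.ι ≫ f) (hb : b ≫ U.ι ≫ f = Y.ι ≫ sAn k n)
    (A : Type u) [CommRing A] [IsLocalRing A] [Algebra k A]
    (g : Spec (CommRingCat.of (IsLocalRing.ResidueField A)) ⟶ (U : Scheme.{u}))
    (hg : g ≫ U.ι ≫ f = Spec.map (CommRingCat.ofHom ((IsLocalRing.residue A).comp (algebraMap k A)))) :
    ∃ g' : Spec (CommRingCat.of A) ⟶ (U : Scheme.{u}),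
      Spec.map (CommRingCat.ofHom (IsLocalRing.residue A)) ≫ g' = g ∧
      g' ≫ U.ι ≫ f = Spec.map (CommRingCat.ofHom (algebraMap k A)) := by
  obtain ⟨φ, hφ⟩ := Spec.map_surjective (g ≫ a ≫ Y.ι)
  have hφC : ∀ c, φ.hom (MvPolynomial.C c) = IsLocalRing.residue A (algebraMap k A c) := fun c => by
    have : CommRingCat.ofHom (algebraMap k (MvPolynomial (Fin n) k)) ≫ φ =
        CommRingCat.ofHom ((IsLocalRing.residue A).comp (algebraMap k A)) := by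
      apply Spec.map_injective
      rw [Spec.map_comp, hφ, ← hg, ← ha, Category.assoc, Category.assoc]
    exact congrArg (fun F => F.hom c) this
  choose a' ha' using fun i : Fin n => IsLocalRing.residue_surjective (φ.hom (MvPolynomial.X i))
  let ψ : MvPolynomial (Fin n) k →ₐ[k] A := MvPolynomial.aeval a'
  have hψ : CommRingCat.ofHom ψ.toRingHom ≫ CommRingCat.ofHom (IsLocalRing.residue A) = φ := by
    refine CommRingCat.hom_ext (MvPolynomial.ringHom_ext (fun c => ?_) (fun i => ?_))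
    · refine Eq.trans ?_ (hφC c).symm
      exact congrArg (IsLocalRing.residue A) (ψ.commutes c)
    · refine Eq.trans ?_ (ha' i)
      exact congrArg (IsLocalRing.residue A) (MvPolynomial.aeval_X a' i)
  let g₀ : Spec (CommRingCat.of A) ⟶ An k n := Spec.map (CommRingCat.ofHom ψ.toRingHom)
  have h0 : Spec.map (CommRingCat.ofHom (IsLocalRing.residue A)) ≫ g₀ = g ≫ a ≫ Y.ι := by
    rw [← Spec.map_comp, hψ, hφ]
  have hr : Set.range g₀ ⊆ Set.range Y.ι := by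
    rw [Scheme.Opens.range_ι]
    rintro _ ⟨z, rfl⟩
    refine (IsLocalRing.specializes_closedPoint z).map g₀.continuous |>.mem_open Y.2 ?_
    let c : Spec (CommRingCat.of (IsLocalRing.ResidueField A)) := IsLocalRing.closedPoint _
    have hc : (Spec.map (CommRingCat.ofHom (IsLocalRing.residue A))) c = IsLocalRing.closedPoint A :=
      IsLocalRing.comap_closedPoint (IsLocalRing.residue A)
    show g₀ (IsLocalRing.closedPoint A) ∈ Y
    rw [← hc, ← Scheme.Hom.comp_apply, h0]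
    exact ((g ≫ a) c).2
  let l := IsOpenImmersion.lift Y.ι g₀ hr
  have hl : l ≫ Y.ι = g₀ := IsOpenImmersion.lift_fac _ _ _
  have hl' : Spec.map (CommRingCat.ofHom (IsLocalRing.residue A)) ≫ l = g ≫ a := by
    rw [← cancel_mono Y.ι, Category.assoc, hl, h0, Category.assoc]
  refine ⟨l ≫ b, ?_, ?_⟩
  · rw [reassoc_of% hl', hab, Category.comp_id]
  · rw [Category.assoc, hb, reassoc_of% hl, ← Spec.map_comp]
    congr 1
    exact CommRingCat.hom_ext (RingHom.ext ψ.commutes)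

theorem fromSpecStalkOfMem_morphismRestrict {P Q : Scheme.{u}} (j : P ⟶ Q) (U : Q.Opens) (x : P) (hx : j x ∈ U) :
    (j ⁻¹ᵁ U).fromSpecStalkOfMem x hx ≫ (j ∣_ U) = Spec.map (j.stalkMap x) ≫ U.fromSpecStalkOfMem (j x) hx := by
  rw [← cancel_mono U.ι, Category.assoc, morphismRestrict_ι, Category.assoc,
    Scheme.Opens.fromSpecStalkOfMem_ι]
  exact ((j ⁻¹ᵁ U).fromSpecStalkOfMem_ι_assoc x hx j).trans (Scheme.SpecMap_stalkMap_fromSpecStalk j).symm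

theorem exists_open_agree {P Q Z : Scheme.{u}} [P.IsGermInjective] (j : P ⟶ Q) (U : Q.Opens) (x : P) (hx : j x ∈ U)
    (b : (U : Scheme.{u}) ⟶ Z) (m : P ⟶ Z)
    (h : Spec.map (j.stalkMap x) ≫ U.fromSpecStalkOfMem (j x) hx ≫ b = P.fromSpecStalk x ≫ m) :
    ∃ O : ((j ⁻¹ᵁ U : P.Opens) : Scheme.{u}).Opens, (⟨x, hx⟩ : (j ⁻¹ᵁ U : P.Opens)) ∈ O ∧
      O.ι ≫ (j ∣_ U) ≫ b = O.ι ≫ (j ⁻¹ᵁ U).ι ≫ m := by
  haveI : ((j ⁻¹ᵁ U : P.Opens) : Scheme.{u}).IsGermInjectiveAt (⟨x, hx⟩ : (j ⁻¹ᵁ U : P.Opens)) :=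
    (isGermInjectiveAt_iff_of_isOpenImmersion (f := (j ⁻¹ᵁ U).ι)).mp inferInstance
  refine spread_out_unique_of_isGermInjective' ((j ∣_ U) ≫ b) ((j ⁻¹ᵁ U).ι ≫ m) ?_
  have hx' : x ∈ j ⁻¹ᵁ U := hx
  have h' : (j ⁻¹ᵁ U).fromSpecStalkOfMem x hx' ≫ (j ∣_ U) ≫ b =
      (j ⁻¹ᵁ U).fromSpecStalkOfMem x hx' ≫ (j ⁻¹ᵁ U).ι ≫ m :=
    (Category.assoc _ _ _).symm.trans
      ((congrArg (· ≫ b) (fromSpecStalkOfMem_morphismRestrict j U x hx')).trans
        ((Category.assoc _ _ _).trans (h.trans ((j ⁻¹ᵁ U).fromSpecStalkOfMem_ι_assoc x hx' m).symm)))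
  unfold Scheme.Opens.fromSpecStalkOfMem at h'
  rw [Category.assoc, Category.assoc] at h'
  haveI : IsIso (Spec.map (inv ((j ⁻¹ᵁ U).ι.stalkMap (⟨x, hx'⟩ : (j ⁻¹ᵁ U : P.Opens))))) := inferInstance
  exact (cancel_epi (Spec.map (inv ((j ⁻¹ᵁ U).ι.stalkMap (⟨x, hx'⟩ : (j ⁻¹ᵁ U : P.Opens)))))).mp h'

set_option maxHeartbeats 2000000 in
theorem retract_of_lift {X : Scheme.{u}} (f : X ⟶ Spec (CommRingCat.of k)) [IsIntegral X] [LocallyOfFiniteType f]
    (V : X.Opens) (hV : (V : Set X).Nonempty)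
    (H : ∀ (A : Type u) [CommRing A] [IsLocalRing A] [Algebra k A]
        (g : Spec (CommRingCat.of (IsLocalRing.ResidueField A)) ⟶ (V : Scheme.{u})),
        g ≫ V.ι ≫ f = Spec.map (CommRingCat.ofHom ((IsLocalRing.residue A).comp (algebraMap k A))) →
        ∃ g' : Spec (CommRingCat.of A) ⟶ (V : Scheme.{u}),
          Spec.map (CommRingCat.ofHom (IsLocalRing.residue A)) ≫ g' = g ∧
          g' ≫ V.ι ≫ f = Spec.map (CommRingCat.ofHom (algebraMap k A))) :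
    ∃ (U : X.Opens) (n : ℕ) (Y : (An k n).Opens)
        (a : (U : Scheme.{u}) ⟶ (Y : Scheme.{u})) (b : (Y : Scheme.{u}) ⟶ (U : Scheme.{u})),
        (U : Set X).Nonempty ∧ a ≫ b = 𝟙 (U : Scheme.{u}) ∧ a ≫ Y.ι ≫ sAn k n = U.ι ≫ f ∧
        b ≫ U.ι ≫ f = Y.ι ≫ sAn k n := by
  obtain ⟨v, hv⟩ := hV
  obtain ⟨_, ⟨W, hW, rfl⟩, hvW, hWV⟩ := X.isBasis_affineOpens.exists_subset_of_mem_open hv V.2
  replace hW : IsAffineOpen W := hW
  haveI : Nonempty W := ⟨⟨v, hvW⟩⟩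
  haveI : IsOpenImmersion hW.fromSpec := hW.isOpenImmersion_fromSpec
  haveI : IsDomain Γ(X, W) := inferInstance
  obtain ⟨φ₀, hφ₀⟩ := Spec.map_surjective (hW.fromSpec ≫ f)
  have hft : φ₀.hom.FiniteType := by
    haveI : LocallyOfFiniteType (hW.fromSpec ≫ f) := inferInstance
    rw [← hφ₀] at this
    exact (HasRingHomProperty.Spec_iff (P := @LocallyOfFiniteType)).mp this
  letI : Algebra k Γ(X, W) := φ₀.hom.toAlgebra
  haveI : Algebra.FiniteType k Γ(X, W) := hft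
  obtain ⟨n, π, hπ⟩ := Algebra.FiniteType.iff_quotient_mvPolynomial''.mp this
  let R := Γ(X, W)
  let j₀ : Spec R ⟶ An k n := Spec.map (CommRingCat.ofHom π.toRingHom)
  haveI : IsClosedImmersion j₀ := IsClosedImmersion.spec_of_surjective _ hπ
  have hj₀ : j₀ ≫ sAn k n = hW.fromSpec ≫ f := by
    rw [← hφ₀, ← Spec.map_comp]
    congr 1
    exact CommRingCat.hom_ext (RingHom.ext π.commutes)
  haveI : IsIntegral (Spec R) := inferInstance
  let ξ : Spec R := genericPoint (Spec R)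
  let φ := j₀.stalkMap ξ
  have hφs : Function.Surjective φ.hom := j₀.stalkMap_surjective ξ
  let A : Type u := (An k n).presheaf.stalk (j₀ ξ)
  obtain ⟨c, hc⟩ := Spec.map_surjective ((An k n).fromSpecStalk (j₀ ξ) ≫ sAn k n)
  letI : Algebra k A := c.hom.toAlgebra
  have hker : RingHom.ker φ.hom = IsLocalRing.maximalIdeal A :=
    IsLocalRing.eq_maximalIdeal (RingHom.ker_isMaximal_of_surjective (K := (Spec R).functionField) φ.hom hφs)
  let e : IsLocalRing.ResidueField A ≃+* (Spec R).functionField :=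
    (Ideal.quotEquivOfEq hker.symm).trans (RingHom.quotientKerEquivOfSurjective hφs)
  have heφ : CommRingCat.ofHom (IsLocalRing.residue A) ≫ CommRingCat.ofHom e.toRingHom = φ :=
    CommRingCat.hom_ext (RingHom.ext fun _ => rfl)
  have heφ' : φ ≫ CommRingCat.ofHom e.symm.toRingHom = CommRingCat.ofHom (IsLocalRing.residue A) := by
    rw [← heφ]
    refine CommRingCat.hom_ext (RingHom.ext fun a => ?_)
    exact e.symm_apply_apply (IsLocalRing.residue A a)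
  have hfrom : Set.range hW.fromSpec ⊆ Set.range V.ι := by
    rw [hW.range_fromSpec, Scheme.Opens.range_ι]
    exact hWV
  let l := IsOpenImmersion.lift V.ι hW.fromSpec hfrom
  have hl : l ≫ V.ι = hW.fromSpec := IsOpenImmersion.lift_fac _ _ _
  let T0 := (Spec R).fromSpecStalk ξ
  let g : Spec (CommRingCat.of (IsLocalRing.ResidueField A)) ⟶ (V : Scheme.{u}) :=
    Spec.map (CommRingCat.ofHom e.symm.toRingHom) ≫ T0 ≫ l
  have hg : g ≫ V.ι ≫ f = Spec.map (CommRingCat.ofHom ((IsLocalRing.residue A).comp (algebraMap k A))) := by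
    simp only [g, Category.assoc, reassoc_of% hl]
    rw [← hj₀, ← Scheme.SpecMap_stalkMap_fromSpecStalk_assoc, ← hc, ← Spec.map_comp, ← Spec.map_comp]
    refine congrArg Spec.map ((Category.assoc _ _ _).trans ?_)
    exact congrArg (c ≫ ·) heφ'
  obtain ⟨g', hg'1, hg'2⟩ := H A g hg
  obtain ⟨U₁, hxU₁, b₁, hb₁, hb₁'⟩ := spread_out_of_isGermInjective' (sAn k n) (V.ι ≫ f)
    (x := j₀ ξ) g' (hg'2.trans hc)
  let W₁ : (Spec R).Opens := j₀ ⁻¹ᵁ U₁
  let m₁ : (W₁ : Scheme.{u}) ⟶ X := (j₀ ∣_ U₁) ≫ b₁ ≫ V.ι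
  let m₂ : (W₁ : Scheme.{u}) ⟶ X := W₁.ι ≫ hW.fromSpec
  have e1 : Spec.map φ ≫ g' = T0 ≫ l := by
    rw [← heφ, Spec.map_comp, Category.assoc, hg'1]
    simp only [g, ← Spec.map_comp_assoc]
    have : CommRingCat.ofHom e.symm.toRingHom ≫ CommRingCat.ofHom e.toRingHom = 𝟙 _ :=
      CommRingCat.hom_ext (RingHom.ext e.apply_symm_apply)
    rw [this, Spec.map_id]
    exact Category.id_comp _
  haveI : (Spec R).IsGermInjective := inferInstance
  obtain ⟨O, hξO, hO⟩ := exists_open_agree j₀ U₁ ξ hxU₁ (b₁ ≫ V.ι) hW.fromSpec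
    (by rw [← reassoc_of% hb₁, reassoc_of% e1, hl])
  let q : (W₁ : Scheme.{u}) ⟶ X := W₁.ι ≫ hW.fromSpec
  let U : X.Opens := q ''ᵁ O
  let j : (U : Scheme.{u}) ⟶ (U₁ : Scheme.{u}) := (q.isoImage O).inv ≫ O.ι ≫ (j₀ ∣_ U₁)
  have hj : j ≫ (b₁ ≫ V.ι) = U.ι := by
    simp only [j, Category.assoc]
    rw [show O.ι ≫ (j₀ ∣_ U₁) ≫ b₁ ≫ V.ι = O.ι ≫ m₂ from hO, Iso.inv_comp_eq]
    exact (q.isoImage_hom_ι O).symm
  obtain ⟨Y, a, b, h1, h2, h3⟩ := retract_mk (sAn k n) f U U₁ (b₁ ≫ V.ι) (by rw [Category.assoc, hb₁']) j hj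
  exact ⟨U, n, Y, a, b, ⟨q ⟨ξ, hxU₁⟩, ⟨ξ, hxU₁⟩, hξO, rfl⟩, h1, h2, h3⟩

end Groth.Agent.H3CAlg.RetractRat
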