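import Groth.Agent.H3CAlg.ValTrdeg
import Mathlib.RingTheory.Valuation.ValuationRing
import Mathlib.RingTheory.Ideal.Height
import Mathlib.RingTheory.LocalRing.ResidueField.Basic
import Mathlib.RingTheory.Localization.FractionRing
import Mathlib.RingTheory.Spectrum.Maximal.Basic
import Mathlib.Algebra.Polynomial.AlgebraMap

/-!
Finite intersections of valuation rings of a field.
-/

namespace Groth.Agent.H3CAlg.SemilocalPrufer

universe u

/-- The valuation subring given by a valuation ring embedded in a field with fractions everything. -/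
def ofHom {V : Type u} [CommRing V] [IsDomain V] [ValuationRing V] {L : Type u} [Field L] (ψ : V →+* L)
    (hf : ∀ x : L, ∃ a b : V, ψ b ≠ 0 ∧ x = ψ a / ψ b) : ValuationSubring L where
  toSubring := ψ.range
  mem_or_inv_mem' x := by
    obtain ⟨a, b, hb, rfl⟩ := hf x
    obtain ⟨c, hc | hc⟩ := ValuationRing.cond a b
    · refine Or.inr ⟨c, ?_⟩
      rw [inv_div, ← hc, map_mul]
      rcases eq_or_ne (ψ a) 0 with h | h
      · exact absurd (by rw [← hc, map_mul, h, zero_mul]) hb
      · rw [mul_div_cancel_left₀ _ h]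
    · refine Or.inl ⟨c, ?_⟩
      rw [← hc, map_mul, mul_div_cancel_left₀ _ hb]

section

variable {R : Type u} [CommRing R] [IsDomain R] {L : Type u} [Field L]

/-- localisation at a prime with valuation local ring, as a valuation subring -/
theorem exists_localVal (φ : R →+* L) (hφ : Function.Injective φ) (hf : ∀ x : L, ∃ a b : R, φ b ≠ 0 ∧ x = φ a / φ b)
    (p : Ideal R) [p.IsPrime] (hp : ValuationRing (Localization.AtPrime p)) :
    ∃ W : ValuationSubring L, (∀ x, x ∈ W ↔ ∃ a s, s ∉ p ∧ x * φ s = φ a) ∧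
      ringKrullDim (Localization.AtPrime p) = ringKrullDim W := by
  have hu : ∀ s : p.primeCompl, IsUnit (φ s) := fun s =>
    isUnit_iff_ne_zero.mpr fun h => s.2 ((hφ (h.trans (map_zero φ).symm)).symm ▸ p.zero_mem)
  let ψ : Localization.AtPrime p →+* L := IsLocalization.lift hu
  have hψ : ∀ a, ψ (algebraMap R _ a) = φ a := IsLocalization.lift_eq hu
  have hψi : Function.Injective ψ := (IsLocalization.lift_injective_iff hu).mpr fun a b =>
    ⟨fun h => congrArg φ ((IsLocalization.injective (Localization.AtPrime p) p.primeCompl_le_nonZeroDivisors) h),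
      fun h => congrArg (algebraMap R _) (hφ h)⟩
  refine ⟨ofHom ψ fun x => ?_, fun x => ?_, ?_⟩
  · obtain ⟨a, b, hb, rfl⟩ := hf x
    exact ⟨algebraMap R _ a, algebraMap R _ b, by rwa [hψ], by rw [hψ, hψ]⟩
  · constructor
    · rintro ⟨z, rfl⟩
      obtain ⟨⟨a, s⟩, h⟩ := IsLocalization.surj p.primeCompl z
      refine ⟨a, s, s.2, ?_⟩
      have h' := congrArg ψ h
      rwa [map_mul, hψ, hψ] at h'
    · rintro ⟨a, s, hs, h⟩
      refine ⟨IsLocalization.mk' _ a (⟨s, hs⟩ : p.primeCompl), ?_⟩
      rw [IsLocalization.lift_mk'_spec, h.symm, mul_comm]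
  · exact ringKrullDim_eq_of_ringEquiv (RingEquiv.ofBijective ψ.rangeRestrict
      ⟨fun a b h => hψi (congrArg Subtype.val h), ψ.rangeRestrict_surjective⟩)

theorem exists_family (φ : R →+* L) (hφ : Function.Injective φ) (hf : ∀ x : L, ∃ a b : R, φ b ≠ 0 ∧ x = φ a / φ b)
    (hR : ∀ (p : Ideal R) [p.IsPrime], ValuationRing (Localization.AtPrime p)) :
    ∃ W : MaximalSpectrum R → ValuationSubring L, ∀ x, x ∈ φ.range ↔ ∀ i, x ∈ W i := by
  choose W hW _ using fun m : MaximalSpectrum R => exists_localVal φ hφ hf m.asIdeal (hR m.asIdeal)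
  refine ⟨W, fun x => ⟨?_, fun h => ?_⟩⟩
  · rintro ⟨a, rfl⟩ m
    exact (hW m _).mpr ⟨a, 1, m.asIdeal.ne_top_iff_one.mp m.isMaximal.ne_top, by rw [map_one, mul_one]⟩
  · let I : Ideal R :=
      { carrier := {r | x * φ r ∈ φ.range}
        add_mem' := fun {a b} ha hb => by
          rw [Set.mem_ofPred_eq, map_add, mul_add]; exact add_mem ha hb
        zero_mem' := by rw [Set.mem_ofPred_eq, map_zero, mul_zero]; exact zero_mem _
        smul_mem' := fun c a ha => by
          rw [Set.mem_ofPred_eq, smul_eq_mul, map_mul, mul_left_comm]; exact mul_mem ⟨c, rfl⟩ ha }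
    suffices hI : I = ⊤ by
      have := (I.eq_top_iff_one).mp hI
      simpa [I] using this
    by_contra hne
    obtain ⟨m, hm, hle⟩ := Ideal.exists_le_maximal I hne
    obtain ⟨a, s, hs, hx⟩ := (hW ⟨m, hm⟩ x).mp (h ⟨m, hm⟩)
    exact hs (hle ⟨a, hx.symm⟩)

end

variable {L : Type u} [Field L]

theorem exists_nat_prime_notMem (T : Set ℕ) (hT : T.Finite) : ∃ s, s.Prime ∧ s ∉ T := by
  obtain ⟨s, hs, hs'⟩ := (Nat.infinite_setOf_prime.sdiff hT).nonempty
  exact ⟨s, hs, hs'⟩

/-- Kaplansky's lemma. -/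
theorem exists_den {ι : Type*} [Finite ι] (W : ι → ValuationSubring L) (htop : ∃ i, W i = ⊤) (K : Subfield L) {x : L} (hx : x ∈ K) :
    ∃ b ∈ K, b ≠ 0 ∧ (∀ i, b ∈ W i ∧ x * b ∈ W i) ∧ ∀ i, x ∈ W i → (W i).valuation b = 1 := by
  classical
  let bad : ι → Set ℕ := fun i => {s | s.Prime ∧ x ∈ W i ∧ (W i).valuation (∑ k ∈ Finset.range s, x ^ k) < 1}
  have hbad : ∀ i, (bad i).Finite := by
    intro i
    by_cases hxi : x ∈ W i
    swap
    · exact Set.Finite.subset Set.finite_empty fun s hs => absurd hs.2.1 hxi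
    let z : IsLocalRing.ResidueField (W i) := IsLocalRing.residue _ ⟨x, hxi⟩
    have key : ∀ s ∈ bad i, ∑ k ∈ Finset.range s, z ^ k = 0 := fun s hs => by
      rw [show ∑ k ∈ Finset.range s, z ^ k = IsLocalRing.residue _ (∑ k ∈ Finset.range s, (⟨x, hxi⟩ : W i) ^ k) by
          rw [map_sum]; exact Finset.sum_congr rfl fun k _ => (map_pow _ _ _).symm,
        IsLocalRing.residue_eq_zero_iff, (W i).valuation_lt_one_iff]
      convert hs.2.2 using 2
      simp
    refine Set.Subsingleton.finite fun s hs t ht => ?_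
    by_contra hst
    have hco : Nat.Coprime s t := (Nat.coprime_primes hs.1 ht.1).mpr hst
    have h1 : z ^ s = 1 := by
      have := geom_sum_mul z s; rw [key s hs, zero_mul] at this; exact sub_eq_zero.mp this.symm
    have h2 : z ^ t = 1 := by
      have := geom_sum_mul z t; rw [key t ht, zero_mul] at this; exact sub_eq_zero.mp this.symm
    have hz : z = 1 := by
      have := pow_gcd_eq_one.mpr ⟨h1, h2⟩
      rwa [hco.gcd_eq_one, pow_one] at this
    have e1 : (s : IsLocalRing.ResidueField (W i)) = 0 := by simpa [hz] using key s hs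
    have e2 : (t : IsLocalRing.ResidueField (W i)) = 0 := by simpa [hz] using key t ht
    obtain ⟨a, b, hab⟩ := Nat.isCoprime_iff_coprime.mpr hco
    refine one_ne_zero (α := IsLocalRing.ResidueField (W i)) ?_
    have := congrArg (Int.cast : ℤ → IsLocalRing.ResidueField (W i)) hab
    push_cast at this
    rw [e1, e2] at this
    simpa using this.symm
  obtain ⟨s, hs, hsb⟩ := exists_nat_prime_notMem (⋃ i, bad i) (Set.finite_iUnion hbad)
  let F := ∑ k ∈ Finset.range s, x ^ k
  have hgood : ∀ i, (x ∈ W i → (W i).valuation F = 1) ∧ (x ∉ W i → (W i).valuation F = (W i).valuation x ^ (s - 1)) := by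
    intro i
    constructor
    · intro hxi
      refine le_antisymm (((W i).valuation_le_one_iff _).mpr (sum_mem fun k _ => pow_mem hxi k)) (not_lt.mp fun h => hsb ?_)
      exact Set.mem_iUnion.mpr ⟨i, hs, hxi, h⟩
    · intro hxi
      have h1 : 1 < (W i).valuation x := lt_of_not_ge fun h => hxi (((W i).valuation_le_one_iff x).mp h)
      have hF := Valuation.map_sum_eq_of_lt (W i).valuation (f := fun k => x ^ k) (s := Finset.range s) (j := s - 1)
        (Finset.mem_range.mpr (by have := hs.pos; omega)) fun k hk => by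
          simp only [Finset.mem_sdiff, Finset.mem_range, Finset.mem_singleton] at hk
          simp only [map_pow]
          exact pow_lt_pow_right₀ h1 (by omega)
      rw [map_pow] at hF
      exact hF
  have hF0 : F ≠ 0 := by
    intro h0
    obtain ⟨i, hi⟩ := htop
    have := (hgood i).1 (by rw [hi]; exact ValuationSubring.mem_top x)
    rw [h0, map_zero] at this
    exact zero_ne_one this
  refine ⟨F⁻¹, inv_mem (sum_mem fun k _ => pow_mem hx k), inv_ne_zero hF0, fun i => ?_, fun i hxi => ?_⟩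
  · by_cases hxi : x ∈ W i
    · have hv : (W i).valuation F⁻¹ = 1 := by rw [map_inv₀, (hgood i).1 hxi, inv_one]
      exact ⟨((W i).valuation_le_one_iff _).mp hv.le, mul_mem hxi (((W i).valuation_le_one_iff _).mp hv.le)⟩
    · have h1 : 1 < (W i).valuation x := lt_of_not_ge fun h => hxi (((W i).valuation_le_one_iff x).mp h)
      have h2 : (W i).valuation x ≤ (W i).valuation x ^ (s - 1) :=
        le_self_pow₀ h1.le (by have := hs.two_le; omega)
      refine ⟨((W i).valuation_le_one_iff _).mp ?_, ((W i).valuation_le_one_iff _).mp ?_⟩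
      · rw [map_inv₀, (hgood i).2 hxi]
        exact inv_le_one_of_one_le₀ (h1.le.trans h2)
      · rw [map_mul, map_inv₀, (hgood i).2 hxi, ← div_eq_mul_inv, div_le_one₀ (zero_lt_one.trans_le (h1.le.trans h2))]
        exact h2
  · rw [map_inv₀, (hgood i).1 hxi, inv_one]

variable {S : Type u} [CommRing S] [IsDomain S] (φ : S →+* L) (hφ : Function.Injective φ) {ι : Type*} [Finite ι]
  (W : ι → ValuationSubring L) (K : Subfield L) (htop : ∃ i, W i = ⊤) (hS : ∀ x, x ∈ φ.range ↔ x ∈ K ∧ ∀ i, x ∈ W i)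

include hφ hS htop in
theorem exists_centre (p : Ideal S) [p.IsPrime] : ∃ i, ∀ a ∈ p, (W i).valuation (φ a) < 1 := by
  classical
  let _ := Fintype.ofFinite ι
  have hint : ∀ a i, φ a ∈ W i := fun a i => ((hS _).mp ⟨a, rfl⟩).2 i
  let C : ι → Ideal S := fun i => (IsLocalRing.maximalIdeal (W i)).comap (φ.codRestrict (W i).toSubring fun a => hint a i)
  have hC : ∀ i a, a ∈ C i ↔ (W i).valuation (φ a) < 1 := fun i a => (W i).valuation_lt_one_iff _
  by_contra! h
  have hcov : (p : Set S) ⊆ ⋃ i ∈ ((Finset.univ : Finset ι) : Set ι), (C i : Set S) := by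
    intro a ha
    by_contra hno
    simp only [Finset.coe_univ, Set.mem_univ, Set.iUnion_true, Set.mem_iUnion, SetLike.mem_coe, hC, not_exists, not_lt] at hno
    have h1 : ∀ i, (W i).valuation (φ a) = 1 := fun i => le_antisymm (((W i).valuation_le_one_iff _).mpr (hint a i)) (hno i)
    obtain ⟨i0, -⟩ := htop
    have ha0 : φ a ≠ 0 := fun h0 => by
      have := h1 i0
      rw [h0, map_zero] at this
      exact zero_ne_one this
    obtain ⟨c, hc⟩ : (φ a)⁻¹ ∈ φ.range := (hS _).mpr ⟨inv_mem ((hS _).mp ⟨a, rfl⟩).1, fun i =>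
      ((W i).valuation_le_one_iff _).mp (by rw [map_inv₀, h1 i, inv_one])⟩
    refine ‹p.IsPrime›.ne_top ((Ideal.eq_top_iff_one _).mpr ?_)
    have : a * c = 1 := hφ (by rw [map_mul, hc, map_one, mul_inv_cancel₀ ha0])
    exact this ▸ p.mul_mem_right c ha
  obtain ⟨i0, -⟩ := htop
  obtain ⟨i, -, hi⟩ := (Ideal.subset_union_prime i0 i0 fun i _ _ _ => Ideal.IsPrime.comap _).mp hcov
  obtain ⟨a, ha, hge⟩ := h i
  exact not_lt.mpr hge ((hC i a).mp (hi ha))

include htop hS in
theorem exists_frac (x : L) (hx : x ∈ K) : ∃ a b : S, φ b ≠ 0 ∧ x = φ a / φ b ∧ ∀ i, x ∈ W i → (W i).valuation (φ b) = 1 := by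
  obtain ⟨b, hbK, hb0, hbW, hb1⟩ := exists_den W htop K hx
  obtain ⟨B, hB⟩ := (hS b).mpr ⟨hbK, fun i => (hbW i).1⟩
  obtain ⟨A, hA⟩ := (hS (x * b)).mpr ⟨mul_mem hx hbK, fun i => (hbW i).2⟩
  exact ⟨A, B, by rwa [hB], by rw [hA, hB, mul_div_cancel_right₀ _ hb0], fun i hi => by rw [hB]; exact hb1 i hi⟩

include hφ hS htop in
theorem valuationRing_atPrime (p : Ideal S) [p.IsPrime] : ValuationRing (Localization.AtPrime p) := by
  obtain ⟨i, hi⟩ := exists_centre φ hφ W K htop hS p
  -- divisibility between elements of `S`, up to units of the localisation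
  have key : ∀ a b : S, φ b ≠ 0 → φ a / φ b ∈ W i → algebraMap S (Localization.AtPrime p) b ∣ algebraMap S _ a := by
    intro a b hb hx
    obtain ⟨c, e, he, hxe, he1⟩ := exists_frac φ W K htop hS (φ a / φ b) (div_mem ((hS _).mp ⟨a, rfl⟩).1 ((hS _).mp ⟨b, rfl⟩).1)
    have hep : e ∉ p := fun h => (hi e h).ne (he1 i hx)
    have heq : a * e = b * c := hφ (by
      rw [map_mul, map_mul]
      exact (div_eq_div_iff hb he).mp hxe |>.trans (mul_comm _ _))
    have hu : IsUnit (algebraMap S (Localization.AtPrime p) e) := IsLocalization.map_units _ (⟨e, hep⟩ : p.primeCompl)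
    rw [← hu.dvd_mul_right (a := algebraMap S _ b), ← map_mul, heq, map_mul]
    exact dvd_mul_right _ _
  refine ValuationRing.iff_dvd_total.mpr ⟨fun u w => ?_⟩
  obtain ⟨a, s, rfl⟩ := IsLocalization.exists_mk'_eq p.primeCompl u
  obtain ⟨b, t, rfl⟩ := IsLocalization.exists_mk'_eq p.primeCompl w
  have hd : ∀ (a : S) (s : p.primeCompl), Associated (algebraMap S (Localization.AtPrime p) a) (IsLocalization.mk' _ a s) := fun a s => by
    have hu : IsUnit (algebraMap S (Localization.AtPrime p) s) := IsLocalization.map_units _ s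
    refine (Associated.symm ⟨hu.unit, ?_⟩)
    rw [IsUnit.unit_spec, IsLocalization.mk'_spec]
  rw [(hd a s).dvd_iff_dvd_left.symm, (hd b t).dvd_iff_dvd_right.symm, (hd b t).dvd_iff_dvd_left.symm, (hd a s).dvd_iff_dvd_right.symm]
  by_cases hb : φ b = 0
  · exact Or.inl (by rw [show b = 0 from hφ (hb.trans (map_zero φ).symm), map_zero]; exact dvd_zero _)
  by_cases ha : φ a = 0
  · exact Or.inr (by rw [show a = 0 from hφ (ha.trans (map_zero φ).symm), map_zero]; exact dvd_zero _)
  rcases (W i).mem_or_inv_mem (φ a / φ b) with h | h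
  · exact Or.inr (key a b hb h)
  · rw [inv_div] at h; exact Or.inl (key b a ha h)

include hφ hS htop in
theorem finite_maximalSpectrum : Finite (MaximalSpectrum S) := by
  choose f hf using fun m : MaximalSpectrum S =>
    haveI := m.isMaximal.isPrime
    exists_centre φ hφ W K htop hS m.asIdeal
  refine Finite.of_injective f fun m n hmn => MaximalSpectrum.ext ?_
  by_contra hne
  obtain ⟨a, ha, b, hb, hab⟩ := Submodule.mem_sup.mp
    (show (1 : S) ∈ m.asIdeal ⊔ n.asIdeal by rw [Ideal.isMaximal_iff.mp m.isMaximal |> fun _ => m.isMaximal.coprime_of_ne n.isMaximal hne]; trivial)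
  have := (Valuation.map_add (W (f m)).valuation (φ a) (φ b)).trans_lt (max_lt (hf m a ha) (hmn ▸ hf n b hb))
  rw [← map_add, hab, map_one, map_one] at this
  exact lt_irrefl _ this

end Groth.Agent.H3CAlg.SemilocalPrufer

namespace Groth.Agent.H3CAlg.SemilocalPrufer

universe u

variable {R : Type u} [CommRing R] [IsDomain R] {L : Type u} [Field L] [Algebra R L] [IsFractionRing R L]

theorem exists_family_option (hR : ∀ (p : Ideal R) [p.IsPrime], ValuationRing (Localization.AtPrime p)) :
    ∃ W : Option (MaximalSpectrum R) → ValuationSubring L, (∃ i, W i = ⊤) ∧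
      ∀ x, x ∈ (algebraMap R L).range ↔ ∀ i, x ∈ W i := by
  obtain ⟨W, hW⟩ := exists_family (algebraMap R L) (IsFractionRing.injective R L) (fun x => by
    obtain ⟨a, b, hb, h⟩ := IsFractionRing.div_surjective R x
    exact ⟨a, b, (map_ne_zero_iff _ (IsFractionRing.injective R L)).mpr (nonZeroDivisors.ne_zero hb), h.symm⟩) hR
  refine ⟨fun i => i.elim ⊤ W, ⟨none, rfl⟩, fun x => ?_⟩
  rw [hW]
  exact ⟨fun h i => i.casesOn (ValuationSubring.mem_top x) h, fun h i => h (some i)⟩

theorem trdeg_closure_le {F : Type u} [Field F] (s : Finset F) :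
    Algebra.trdeg (⊥ : Subfield (Subfield.closure (s : Set F))) (Subfield.closure (s : Set F)) ≤ s.card := by
  classical
  set K := Subfield.closure (s : Set F)
  let T : Set K := Subtype.val ⁻¹' (s : Set F)
  let A := Algebra.adjoin (⊥ : Subfield K) T
  have hgen : ∀ y ∈ Subring.closure (s : Set F), ∃ h : y ∈ K, (⟨y, h⟩ : K) ∈ A := by
    intro y hy
    induction hy using Subring.closure_induction with
    | mem z hz => exact ⟨Subfield.subset_closure hz, Algebra.subset_adjoin hz⟩
    | zero => exact ⟨zero_mem _, A.zero_mem⟩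
    | one => exact ⟨one_mem _, A.one_mem⟩
    | add a b _ _ ha hb => obtain ⟨ha, ha'⟩ := ha; obtain ⟨hb, hb'⟩ := hb; exact ⟨add_mem ha hb, A.add_mem ha' hb'⟩
    | neg a _ ha => obtain ⟨ha, ha'⟩ := ha; exact ⟨neg_mem ha, A.neg_mem ha'⟩
    | mul a b _ _ ha hb => obtain ⟨ha, ha'⟩ := ha; obtain ⟨hb, hb'⟩ := hb; exact ⟨mul_mem ha hb, A.mul_mem ha' hb'⟩
  haveI : Algebra.IsAlgebraic A K := ⟨fun z => by
    obtain ⟨y, hy, w, hw, hzw⟩ := Subfield.mem_closure_iff.mp z.2
    obtain ⟨hy', hyA⟩ := hgen y hy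
    obtain ⟨hw', hwA⟩ := hgen w hw
    by_cases hw0 : w = 0
    · have : z = 0 := Subtype.ext (by rw [← hzw, hw0, div_zero]; rfl)
      rw [this]; exact isAlgebraic_zero
    refine ⟨Polynomial.C (⟨_, hwA⟩ : A) * Polynomial.X - Polynomial.C ⟨_, hyA⟩, fun h => ?_, ?_⟩
    · have := congrArg (fun p => Polynomial.coeff p 1) h
      simp only [Polynomial.coeff_sub, Polynomial.coeff_C_mul_X, Polynomial.coeff_C_ne_zero one_ne_zero, sub_zero,
        Polynomial.coeff_zero, if_true] at this
      exact hw0 (congrArg (fun x : A => ((x : K) : F)) this)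
    · simp only [map_sub, map_mul, Polynomial.aeval_C, Polynomial.aeval_X, Subalgebra.algebraMap_eq]
      refine sub_eq_zero.mpr (Subtype.ext ?_)
      show w * (z : F) = y
      rw [← hzw, mul_div_cancel₀ _ hw0]⟩
  refine (Algebra.IsAlgebraic.trdeg_le_cardinalMk (⊥ : Subfield K) T).trans ?_
  refine (Cardinal.mk_preimage_of_injective _ _ Subtype.val_injective).trans ?_
  simp

end Groth.Agent.H3CAlg.SemilocalPrufer
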