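import Groth.Agent.H3CAlg.CohScheme
import Groth.Agent.H10Coh.SerreVanishing2
import Groth.Agent.H11Proj.RelProjFP
import Groth.Agent.H23Para.Restrict
import Groth.Agent.H11Proj.Graded
import Mathlib

/-!
# Serre vanishing for flat projective schemes over Prüfer domains
-/

set_option autoImplicit false
set_option linter.style.haveILetI false

noncomputable section

universe u

open CategoryTheory CategoryTheory.Limits AlgebraicGeometry Opposite TopologicalSpace
open Groth.Agent.H11Tilde Groth.Agent.H11Ample Groth.Agent.H10Coh Groth.Agent.H10Coh.Tw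

namespace Groth.Agent.H3CAlg.SerrePrufer

attribute [local instance 10000] H10Coh.hasSheafifyAb H10Coh.hasWeakSheafifyAb H10Coh.hasExtAb H10Coh.enoughInjAb

variable {R : Type u} [CommRing R]

theorem lfp_toSpec (n : ℕ) : LocallyOfFinitePresentation (CohB1.ProjSpace.toSpec n R) := by
  refine H11Proj.RelProjFP.lfp_proj (CohB1.polyGrading n R)
    (CommRingCat.ofHom (algebraMap R (CohB1.polyGrading n R 0))) ?_
  have h : ((algebraMap (CohB1.polyGrading n R 0) (MvPolynomial (Fin (n + 1)) R)).comp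
      (algebraMap R (CohB1.polyGrading n R 0))) = algebraMap R (MvPolynomial (Fin (n + 1)) R) := by
    ext r; rfl
  rw [CommRingCat.hom_ofHom, h]
  exact RingHom.finitePresentation_algebraMap.mpr inferInstance

theorem isFP_twist (n : ℕ) (d : ℤ) : CohB1.IsFP (Pn.Od n R d) :=
  H8Props.FinLocFree.isFP_of_isFinLocFree _ (H23Para.isFinLocFree_of_isInvertible
    (isInvertible_twist (Pn.Gr n R) (fun x => by
      obtain ⟨i, hi⟩ := exists_mem_basicOpen_X (n := n) (R := R) x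
      exact ⟨_, X_mem i, hi⟩) d))

theorem exists_vanishing_proj [IsDomain R]
    (hR : ∀ (p : Ideal R) [p.IsPrime], ValuationRing (Localization.AtPrime p)) (n : ℕ)
    (G : (Proj (Pn.Gr n R)).Modules) (hG : CohB1.IsFP G) :
    ∃ k₀ : ℕ, ∀ k : ℕ, k₀ ≤ k → ∀ p, 0 < p →
      Subsingleton (HnM (CohB1.tensorMod G (Pn.Od n R (k : ℤ))) p ⊤) := by
  haveI := lfp_toSpec (R := R) n
  have hcoh : CohScheme.IsCohSp (Proj (Pn.Gr n R)) :=
    show CohScheme.IsCohSp (CohB1.ProjSpace n R) from CohScheme.isCohSp (CohB1.ProjSpace.toSpec n R) hR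
  have hirr : (HomogeneousIdeal.irrelevant (Pn.Gr n R)).toIdeal.FG := by
    haveI : IsScalarTower R (Pn.Gr n R 0) (MvPolynomial (Fin (n + 1)) R) :=
      IsScalarTower.of_algebraMap_eq (R := R) (S := Pn.Gr n R 0) (A := MvPolynomial (Fin (n + 1)) R) fun r => rfl
    haveI : Algebra.FiniteType (Pn.Gr n R 0) (MvPolynomial (Fin (n + 1)) R) :=
      Algebra.FiniteType.of_restrictScalars_finiteType R _ _
    exact H11Proj.irrelevant_fg_of_finiteType (Pn.Gr n R)
  have h1 : ∀ x : Proj (Pn.Gr n R), ∃ f ∈ Pn.Gr n R 1, f ∉ x.asHomogeneousIdeal := fun x => by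
    obtain ⟨i, hi⟩ := exists_mem_basicOpen_X (n := n) (R := R) x
    exact ⟨_, X_mem i, hi⟩
  have h2 : ∀ m : ℤ, PicF.IsInvertible (Pn.Od n R m) := fun m => isInvertible_twist (Pn.Gr n R) h1 m
  have h3 : ∀ a b : ℤ, Nonempty (CohB1.tensorMod (Pn.Od n R a) (Pn.Od n R b) ≅ Pn.Od n R (a + b)) := fun a b =>
    nonempty_tilde_tensor_iso (Pn.Gr n R) (Pn.Gr n R) rfl (cover_of_degOne (Pn.Gr n R) h1 b)
  suffices h : ∀ (j : ℕ) (G : (Proj (Pn.Gr n R)).Modules), CohB1.IsFP G → ∃ k₀ : ℕ, ∀ k : ℕ, k₀ ≤ k →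
      ∀ p, 0 < p → n + 1 ≤ p + j → Subsingleton (HnM (CohB1.tensorMod G (Pn.Od n R (k : ℤ))) p ⊤) by
    obtain ⟨k₀, hk⟩ := h (n + 1) G hG
    exact ⟨k₀, fun k hk' p hp => hk k hk' p hp (by omega)⟩
  intro j
  induction j with
  | zero =>
    refine fun G hG => ⟨0, fun k _ p hp hpn => ?_⟩
    haveI : (CohB1.tensorMod G (Pn.Od n R (k : ℤ))).IsQuasicoherent :=
      isQCoh_tensor (H29Fitt.isQCoh_of_isFP G hG) (h2 k)
    exact Pn.subsingleton_HnM_proj _ (by omega)
  | succ j ih =>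
    intro G hG
    obtain ⟨r, d, ψ, hψ⟩ := ProjQ.exists_epi_twists (Pn.Gr n R) hirr G
      ⟨H29Fitt.isQCoh_of_isFP G hG, H29Fitt.isFT_of_isFP G hG⟩
    haveI := hψ
    have hE : CohB1.IsFP (∐ fun i => GrMod.tilde (Pn.Gr n R) (Pn.Gr n R) (d i)) :=
      CohScheme.isFP_sigma _ fun i => isFP_twist n (d i)
    obtain ⟨k₁, hk₁⟩ := ih (kernel ψ) (CohScheme.isFP_kernel hcoh ψ hE hG)
    refine ⟨max k₁ (∑ i, (d i).natAbs), fun k hk p hp hpj => ?_⟩
    have hk' : k₁ ≤ k := (le_max_left _ _).trans hk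
    refine subsingleton_quot_tensor ψ (h2 (k : ℤ)) p (fun i => ?_) (hk₁ k hk' (p + 1) (by omega) (by omega))
    obtain ⟨e⟩ := h3 (d i) k
    refine subsingleton_of_iso e.symm ?_
    have hd : 0 ≤ d i + k := by
      have h4 : (d i).natAbs ≤ k :=
        (Finset.single_le_sum (fun i _ => Nat.zero_le (d i).natAbs) (Finset.mem_univ i)).trans
          ((le_max_right _ _).trans hk)
      omega
    exact @Equiv.subsingleton _ _ (HHEquiv _ p).toEquiv.symm
      (Pn.subsingleton_HH_Od (R := R) (d := d i + k) p (by omega) (by omega))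

/-- Twists of a finitely presented module on a flat closed subscheme of projective space have no higher cohomology. -/
theorem exists_vanishing [IsDomain R]
    (hR : ∀ (p : Ideal R) [p.IsPrime], ValuationRing (Localization.AtPrime p)) (n : ℕ) {X : Scheme.{u}}
    (ι : X ⟶ CohB1.ProjSpace n R) [IsClosedImmersion ι] [Flat (ι ≫ CohB1.ProjSpace.toSpec n R)]
    (F : X.Modules) (hF : CohB1.IsFP F) :
    ∃ N : ℕ, ∀ k : ℕ, N ≤ k → ∀ p, 0 < p → Subsingleton (HnM (CohB1.tensorMod F (CohB1.tensorPow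
      ((Scheme.Modules.pullback ι).obj (Twist.twistProjSpace n R 1)) k)) p ⊤) := by
  haveI := lfp_toSpec (R := R) n
  obtain ⟨N, hN⟩ := exists_vanishing_proj hR n ((Coh.push ι).obj F)
    (CohScheme.isFP_push (CohB1.ProjSpace.toSpec n R) hR ι F hF)
  refine ⟨N, fun k hk p hp => ?_⟩
  have h1 : ∀ x : Proj (Pn.Gr n R), ∃ f ∈ Pn.Gr n R 1, f ∉ x.asHomogeneousIdeal := fun x => by
    obtain ⟨i, hi⟩ := exists_mem_basicOpen_X (n := n) (R := R) x
    exact ⟨_, X_mem i, hi⟩
  have hO1 : PicF.IsInvertible (Twist.twistProjSpace n R 1) := isInvertible_twist (Pn.Gr n R) h1 1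
  have hv := hN k hk p hp
  obtain ⟨e₁⟩ : Nonempty (Pn.Od n R (k : ℤ) ≅ CohB1.tensorPow (Twist.twistProjSpace n R 1) k) :=
    nonempty_twist_iso_tensorPow (Pn.Gr n R) h1 k
  have hOk : PicF.IsInvertible (CohB1.tensorPow (Twist.twistProjSpace n R 1) k) := isInvertible_tensorPow hO1 k
  obtain ⟨e₂⟩ := nonempty_push_tensor_iso ι F hOk
  have hv₂ := subsingleton_of_iso (PicGrp.tensorModIso (Iso.refl _) e₁ ≪≫ e₂) hv
  haveI : (CohB1.tensorMod F ((Scheme.Modules.pullback ι).obj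
      (CohB1.tensorPow (Twist.twistProjSpace n R 1) k))).IsQuasicoherent :=
    isQCoh_tensor (H29Fitt.isQCoh_of_isFP F hF) (isInvertible_pullback ι hOk)
  have hv₃ := @Equiv.subsingleton _ _ (affineLerayEquiv ι (CohB1.tensorMod F ((Scheme.Modules.pullback ι).obj
      (CohB1.tensorPow (Twist.twistProjSpace n R 1) k))) p ⊤).symm.toEquiv hv₂
  obtain ⟨e₃⟩ := exists_iso_pullback_tensorPow ι hO1 k
  exact subsingleton_of_iso (PicGrp.tensorModIso (Iso.refl _) e₃) hv₃

end Groth.Agent.H3CAlg.SerrePrufer
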