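import Mathlib

/-!
The slice theorem for locally nilpotent derivations.
-/

namespace Groth.Agent.H3CAlg.Slice

open Polynomial

universe u

variable {A : Type u} [CommRing A] [Algebra ℚ A] (D : Derivation ℚ A A)

/-- Constants of a derivation. -/
def const : Subalgebra ℚ A where
  carrier := {x | D x = 0}
  mul_mem' := fun {x y} (hx : D x = 0) (hy : D y = 0) => by
    show D (x * y) = 0
    rw [Derivation.leibniz, hx, hy, smul_zero, smul_zero, add_zero]
  add_mem' := fun {x y} (hx : D x = 0) (hy : D y = 0) => by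
    show D (x + y) = 0
    rw [map_add, hx, hy, add_zero]
  algebraMap_mem' := fun r => D.map_algebraMap r

theorem mem_const {x : A} : x ∈ const D ↔ D x = 0 := Iff.rfl

variable (a : A) (ha : D a = 1)

/-- Evaluation at the slice. -/
noncomputable def ev : (const D)[X] →+* A := eval₂RingHom (const D).val.toRingHom a

include ha in
theorem D_ev (p : (const D)[X]) : D (ev D a p) = ev D a (derivative p) := by
  induction p using Polynomial.induction_on' with
  | add p q hp hq => simp only [map_add, hp, hq]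
  | monomial n c =>
    have hc : D (c : A) = 0 := c.2
    simp only [ev, coe_eval₂RingHom, derivative_monomial, eval₂_monomial, Derivation.leibniz, Derivation.leibniz_pow,
      ha, smul_eq_mul, mul_one]
    simp [hc, mul_assoc, nsmul_eq_mul]

theorem eq_C_of_derivative_eq_zero {S : Type*} [CommRing S] [Algebra ℚ S] {p : S[X]} (h : derivative p = 0) :
    p = C (p.coeff 0) := by
  haveI : IsAddTorsionFree S := IsAddTorsionFree.of_module_rat S
  exact Polynomial.eq_C_of_derivative_eq_zero h

include ha in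
theorem ev_injective : Function.Injective (ev D a) := by
  rw [injective_iff_map_eq_zero]
  suffices ∀ n, ∀ p : (const D)[X], p.natDegree < n → ev D a p = 0 → p = 0 from fun p => this _ p (Nat.lt_succ_self _)
  intro n
  induction n with
  | zero => intro p hp; exact absurd hp (Nat.not_lt_zero _)
  | succ n ih =>
    intro p hp h0
    have h1 : derivative p = 0 := by
      by_cases hd : p.natDegree = 0
      · rw [eq_C_of_natDegree_eq_zero hd, derivative_C]
      · refine ih _ (lt_of_lt_of_le (natDegree_derivative_lt hd) (Nat.lt_succ_iff.mp hp)) ?_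
        rw [← D_ev D a ha, h0, map_zero]
    rw [eq_C_of_derivative_eq_zero h1] at h0 ⊢
    simp only [ev, coe_eval₂RingHom, eval₂_C] at h0
    rw [map_eq_zero_iff _ C_injective]
    exact Subtype.ext h0

theorem exists_integral (q : (const D)[X]) : ∃ Q, derivative Q = q := by
  induction q using Polynomial.induction_on' with
  | add p q hp hq =>
    obtain ⟨P, rfl⟩ := hp
    obtain ⟨Q, rfl⟩ := hq
    exact ⟨P + Q, map_add _ _ _⟩
  | monomial n c =>
    refine ⟨monomial (n + 1) (((n + 1 : ℚ)⁻¹) • c), ?_⟩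
    rw [derivative_monomial, Nat.add_sub_cancel]
    congr 1
    rw [← map_natCast (algebraMap ℚ (const D)), Algebra.smul_def, mul_comm, ← mul_assoc, ← map_mul, Nat.cast_succ,
      mul_inv_cancel₀ (by positivity), map_one, one_mul]

include ha in
theorem ev_surjective (hnil : ∀ x : A, ∃ n : ℕ, ((D : A →ₗ[ℚ] A) ^ n) x = 0) : Function.Surjective (ev D a) := by
  suffices ∀ n x, ((D : A →ₗ[ℚ] A) ^ n) x = 0 → ∃ p, ev D a p = x from fun x => this _ x (hnil x).choose_spec
  intro n
  induction n with
  | zero => exact fun x hx => ⟨0, by simpa using hx.symm⟩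
  | succ n ih =>
    intro x hx
    rw [pow_succ, Module.End.mul_apply] at hx
    obtain ⟨q, hq⟩ := ih _ hx
    obtain ⟨Q, hQ⟩ := exists_integral D q
    have hc : x - ev D a Q ∈ const D := by
      rw [mem_const, map_sub, D_ev D a ha, hQ, hq]
      exact sub_self _
    exact ⟨Q + C ⟨_, hc⟩, by rw [map_add]; simp [ev]⟩

variable (hnil : ∀ x : A, ∃ n : ℕ, ((D : A →ₗ[ℚ] A) ^ n) x = 0)

/-- `A` is a polynomial ring over the constants. -/
noncomputable def evEquiv : (const D)[X] ≃+* A :=
  RingEquiv.ofBijective (ev D a) ⟨ev_injective D a ha, ev_surjective D a ha hnil⟩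

theorem mk_ev (p : (const D)[X]) :
    Ideal.Quotient.mk (Ideal.span ({a} : Set A)) (ev D a p) = Ideal.Quotient.mk _ ((p.coeff 0 : const D) : A) := by
  conv_lhs => rw [← X_mul_divX_add p, map_add, map_mul, map_add, map_mul]
  rw [show Ideal.Quotient.mk (Ideal.span ({a} : Set A)) (ev D a X) = 0 from
    Ideal.Quotient.eq_zero_iff_mem.mpr (by simp [ev, Ideal.mem_span_singleton_self]), zero_mul, zero_add]
  simp [ev]

include ha hnil in
theorem mk_bijective :
    Function.Bijective ((Ideal.Quotient.mk (Ideal.span ({a} : Set A))).comp (const D).val.toRingHom) := by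
  refine ⟨?_, fun y => ?_⟩
  · rw [injective_iff_map_eq_zero]
    intro b hb
    obtain ⟨c, hc⟩ := Ideal.mem_span_singleton.mp (Ideal.Quotient.eq_zero_iff_mem.mp hb)
    obtain ⟨p, hp⟩ := ev_surjective D a ha hnil c
    have : ev D a (C b) = ev D a (X * p) := by
      rw [map_mul, hp]
      simp only [ev, coe_eval₂RingHom, eval₂_C, eval₂_X]
      exact hc
    have := congrArg (fun q => q.coeff 0) (ev_injective D a ha this)
    simpa using this
  · obtain ⟨x, rfl⟩ := Ideal.Quotient.mk_surjective y
    obtain ⟨p, rfl⟩ := ev_surjective D a ha hnil x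
    exact ⟨p.coeff 0, (mk_ev D a p).symm⟩

/-- The slice isomorphism. -/
noncomputable def sliceEquiv : A ≃+* (A ⧸ Ideal.span ({a} : Set A))[X] :=
  (evEquiv D a ha hnil).symm.trans (Polynomial.mapEquiv (RingEquiv.ofBijective _ (mk_bijective D a ha hnil)))

theorem sliceEquiv_ev (p : (const D)[X]) :
    sliceEquiv D a ha hnil (ev D a p) = p.map ((Ideal.Quotient.mk (Ideal.span ({a} : Set A))).comp (const D).val.toRingHom) := by
  have h : (evEquiv D a ha hnil).symm (ev D a p) = p := (evEquiv D a ha hnil).symm_apply_apply p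
  simp only [sliceEquiv, RingEquiv.trans_apply, h]
  rfl

theorem iterate_D_ev (n : ℕ) (p : (const D)[X]) (ha : D a = 1) :
    ((D : A →ₗ[ℚ] A) ^ n) (ev D a p) = ev D a (derivative^[n] p) := by
  induction n generalizing p with
  | zero => simp
  | succ n ih =>
    rw [pow_succ, Module.End.mul_apply, Function.iterate_succ_apply, ← ih]
    congr 1
    exact D_ev D a ha p

theorem natCast_mul_eq {S : Type*} [CommRing S] [Algebra ℚ S] (k : ℕ) (hk : k ≠ 0) (x : S) :
    ((k : ℚ)⁻¹) • (k • x) = x := by
  rw [← Nat.cast_smul_eq_nsmul ℚ, smul_smul, inv_mul_cancel₀ (Nat.cast_ne_zero.mpr hk), one_smul]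

theorem sliceEquiv_apply (x : A) (N : ℕ) (hN : ((D : A →ₗ[ℚ] A) ^ N) x = 0) :
    sliceEquiv D a ha hnil x = ∑ n ∈ Finset.range N,
      ((n.factorial : ℚ)⁻¹ • C (Ideal.Quotient.mk (Ideal.span ({a} : Set A)) (((D : A →ₗ[ℚ] A) ^ n) x))) * X ^ n := by
  obtain ⟨p, rfl⟩ := ev_surjective D a ha hnil x
  rw [sliceEquiv_ev]
  ext k
  rw [coeff_map, finsetSum_coeff]
  simp only [Polynomial.smul_C, coeff_C_mul_X_pow, Finset.sum_ite_eq, Finset.mem_range]
  split_ifs with hk
  · rw [iterate_D_ev D a k p ha, mk_ev, coeff_iterate_derivative, zero_add, Nat.descFactorial_self]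
    simp only [AddSubmonoidClass.coe_nsmul, map_nsmul]
    rw [natCast_mul_eq _ k.factorial_ne_zero]
    rfl
  · have h0 : derivative^[N] p = 0 := ev_injective D a ha (by rw [← iterate_D_ev D a N p ha, hN, map_zero])
    have h1 := congrArg (fun q => q.coeff (k - N)) h0
    simp only [coeff_iterate_derivative, coeff_zero, Nat.sub_add_cancel (not_lt.mp hk)] at h1
    have h2 : p.coeff k = 0 := by
      rw [← natCast_mul_eq (k.descFactorial N) (fun h => by rw [Nat.descFactorial_eq_zero_iff_lt] at h; omega) (p.coeff k),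
        h1, smul_zero]
    rw [h2, map_zero]

theorem sliceEquiv_symm_C (x : A) (N : ℕ) (hN : ((D : A →ₗ[ℚ] A) ^ N) x = 0) :
    (sliceEquiv D a ha hnil).symm (C (Ideal.Quotient.mk (Ideal.span ({a} : Set A)) x)) =
      ∑ n ∈ Finset.range N, (((-1 : ℚ) ^ n * (n.factorial : ℚ)⁻¹) • ((((D : A →ₗ[ℚ] A) ^ n) x) * a ^ n)) := by
  set c : ℕ → ℚ := fun n => (-1 : ℚ) ^ n * (n.factorial : ℚ)⁻¹ with hc
  set T : ℕ → A := fun n => ((D : A →ₗ[ℚ] A) ^ n) x with hT
  have hDT : ∀ n, D (T n) = T (n + 1) := fun n => by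
    simp only [hT]
    rw [pow_succ', Module.End.mul_apply]
    rfl
  have hstep : ∀ M, D (∑ n ∈ Finset.range (M + 1), c n • (T n * a ^ n)) = c M • (T (M + 1) * a ^ M) := by
    intro M
    induction M with
    | zero => simp [hDT]
    | succ M ih =>
      rw [Finset.sum_range_succ, map_add, ih, Derivation.map_smul, Derivation.leibniz, Derivation.leibniz_pow, ha, hDT,
        Nat.add_sub_cancel, smul_eq_mul, smul_eq_mul, mul_one]
      have : c (M + 1) * ((M : ℚ) + 1) = - c M := by
        simp only [hc, pow_succ, Nat.factorial_succ, Nat.cast_mul, Nat.cast_succ]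
        field_simp
      have hM : ((M + 1 : ℕ) : A) = algebraMap ℚ A ((M : ℚ) + 1) := by
        rw [← map_natCast (algebraMap ℚ A), Nat.cast_succ]
      rw [nsmul_eq_mul, hM, smul_eq_mul]
      simp only [Algebra.smul_def]
      have h2 : algebraMap ℚ A (c (M + 1)) * algebraMap ℚ A ((M : ℚ) + 1) = - algebraMap ℚ A (c M) := by
        rw [← map_mul, this, map_neg]
      linear_combination (T (M + 1) * a ^ M) * h2
  have hmem : ∀ M, ((D : A →ₗ[ℚ] A) ^ M) x = 0 → D (∑ n ∈ Finset.range M, c n • (T n * a ^ n)) = 0 := by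
    intro M hM
    rcases M with _ | M
    · simp
    · rw [hstep, show T (M + 1) = 0 from hM, zero_mul, smul_zero]
  set b : const D := ⟨∑ n ∈ Finset.range N, c n • (T n * a ^ n), hmem N hN⟩ with hb
  rw [RingEquiv.symm_apply_eq, show (∑ n ∈ Finset.range N, c n • (T n * a ^ n)) = ev D a (C b) by simp [ev, hb],
    sliceEquiv_ev, map_C]
  congr 1
  show Ideal.Quotient.mk _ x = Ideal.Quotient.mk _ (b : A)
  rcases N with _ | N
  · have : x = 0 := by simpa using hN
    simp [hb, this]
  · simp only [hb]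
    rw [map_sum, Finset.sum_range_succ' , Finset.sum_eq_zero fun n _ => ?_]
    · simp [hc, hT]
    · rw [Ideal.Quotient.eq_zero_iff_mem, Algebra.smul_def]
      exact Ideal.mul_mem_left _ _ (Ideal.mul_mem_left _ _ (Ideal.mem_span_singleton.mpr (dvd_pow_self a n.succ_ne_zero)))

theorem sliceEquiv_D (p : (A ⧸ Ideal.span ({a} : Set A))[X]) :
    sliceEquiv D a ha hnil (D ((sliceEquiv D a ha hnil).symm p)) = derivative p := by
  obtain ⟨y, rfl⟩ := (sliceEquiv D a ha hnil).surjective p
  obtain ⟨q, rfl⟩ := ev_surjective D a ha hnil y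
  rw [RingEquiv.symm_apply_apply, D_ev D a ha, sliceEquiv_ev, sliceEquiv_ev, derivative_map]

end Groth.Agent.H3CAlg.Slice
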