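import Mathlib

namespace Groth.Agent.H3CAlg

universe u v

theorem exists_smooth_subalgebra (R : Type v) [CommRing R] [IsNoetherianRing R] (K : Type u) [Field K]
    [Algebra R K] (A₀ : Subalgebra R K) (hfg : A₀.FG) [IsFractionRing A₀ K]
    (hK : Algebra.FormallySmooth R K) :
    ∃ A : Subalgebra R K, Algebra.FiniteType R A ∧ Algebra.Smooth R A ∧ IsFractionRing A K := by
  haveI : Algebra.FiniteType R A₀ := (Subalgebra.fg_iff_finiteType A₀).mp hfg
  haveI : Algebra.FinitePresentation R A₀ := Algebra.FinitePresentation.of_finiteType.mp inferInstance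
  haveI : (⊥ : Ideal A₀).IsPrime := Ideal.isPrime_bot
  haveI hbot : IsLocalization (⊥ : Ideal A₀).primeCompl K := by
    have : (⊥ : Ideal A₀).primeCompl = nonZeroDivisors A₀ := by
      ext x
      simp [Ideal.primeCompl, mem_nonZeroDivisors_iff_ne_zero]
    rw [this]
    infer_instance
  haveI := hK
  haveI : Algebra.IsSmoothAt R (⊥ : Ideal A₀) :=
    Algebra.FormallySmooth.of_equiv
      ((IsLocalization.algEquiv (⊥ : Ideal A₀).primeCompl K (Localization.AtPrime (⊥ : Ideal A₀))).restrictScalars R)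
  obtain ⟨g, hg, hsm⟩ := Algebra.IsSmoothAt.exists_notMem_smooth R (⊥ : Ideal A₀)
  haveI := hsm
  have hg0 : (g : K) ≠ 0 := fun h => hg (by
    rw [Ideal.mem_bot]
    exact Subtype.ext h)
  let ψ : Localization.Away g →ₐ[R] K :=
    IsLocalization.Away.liftAlgHom g (f := A₀.val) (hg0.isUnit)
  have hψ : Function.Injective ψ := by
    rw [injective_iff_map_eq_zero]
    intro x hx
    obtain ⟨a, b, rfl⟩ := IsLocalization.exists_mk'_eq (Submonoid.powers g) x
    have h : ψ (algebraMap A₀ (Localization.Away g) a) = 0 := by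
      rw [← IsLocalization.mk'_spec (Localization.Away g) a b, map_mul, hx, zero_mul]
    have h' : (a : K) = 0 := by
      simpa [ψ] using h
    have ha : a = 0 := Subtype.ext h'
    rw [ha, IsLocalization.mk'_zero]
  have hsmr : Algebra.Smooth R ψ.range := Algebra.Smooth.of_equiv (AlgEquiv.ofInjective ψ hψ)
  refine ⟨ψ.range, inferInstance, hsmr, ?_⟩
  have hle : ∀ a : A₀, (a : K) ∈ ψ.range := fun a => ⟨algebraMap A₀ _ a, by simp [ψ]⟩
  apply IsFractionRing.of_field
  intro z
  obtain ⟨a, b, -, rfl⟩ := IsFractionRing.div_surjective A₀ z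
  exact ⟨⟨a, hle a⟩, ⟨b, hle b⟩, rfl⟩

end Groth.Agent.H3CAlg
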