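import Groth.Agent.H02CA.EtaleCover
import Mathlib.Algebra.Category.Ring.Basic
import Mathlib.Algebra.Colimit.DirectLimit
import Mathlib.CategoryTheory.Functor.OfSequence
import Mathlib.Algebra.Polynomial.Lifts

/-!
Every ring embeds into a ring in which all monic polynomials split.
-/

universe u

open Polynomial CategoryTheory

namespace Groth.Agent.H3CAlg

/-- Finitely many monic polynomials split in an injective extension. -/
theorem exists_injective_split_finset (A : Type u) [CommRing A] (s : Finset A[X])
    (hs : ∀ f ∈ s, f.Monic) :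
    ∃ (B : Type u) (_ : CommRing B) (i : A →+* B), Function.Injective i ∧
      ∀ f ∈ s, ∃ l : Multiset B, f.map i = (l.map fun b => X - C b).prod := by
  classical
  induction s using Finset.induction with
  | empty => exact ⟨A, inferInstance, RingHom.id A, Function.injective_id, by simp⟩
  | insert f s hf ih =>
    obtain ⟨B, _, i, hi, hB⟩ := ih fun g hg => hs g (Finset.mem_insert_of_mem hg)
    obtain ⟨B', _, _, _, _, _, l, hl⟩ := Groth.Agent.H02CA.EtaleCover.exists_splitting _ B (f.map i)
      ((hs f (Finset.mem_insert_self f s)).map i) rfl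
    refine ⟨B', inferInstance, (algebraMap B B').comp i,
      (FaithfulSMul.algebraMap_injective B B').comp hi, ?_⟩
    intro g hg
    rcases Finset.mem_insert.mp hg with rfl | hg
    · exact ⟨l, by rw [← Polynomial.map_map]; exact hl⟩
    · obtain ⟨m, hm⟩ := hB g hg
      refine ⟨m.map (algebraMap B B'), ?_⟩
      rw [← Polynomial.map_map, hm, Polynomial.map_multiset_prod, Multiset.map_map, Multiset.map_map]
      simp [Function.comp_def]

/-- One step: all monic polynomials over `A` split in an injective extension. -/
theorem exists_injective_split_all (A : Type u) [CommRing A] :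
    ∃ (B : Type u) (_ : CommRing B) (i : A →+* B), Function.Injective i ∧
      ∀ f : A[X], f.Monic → ∃ l : Multiset B, f.map i = (l.map fun b => X - C b).prod := by
  classical
  let σ := Σ f : {f : A[X] // f.Monic}, Fin f.1.natDegree
  let P : {f : A[X] // f.Monic} → (MvPolynomial σ A)[X] := fun f =>
    f.1.map MvPolynomial.C - ∏ k : Fin f.1.natDegree, (X - C (MvPolynomial.X ⟨f, k⟩))
  let I : Ideal (MvPolynomial σ A) := Ideal.span {x | ∃ f n, (P f).coeff n = x}
  refine ⟨MvPolynomial σ A ⧸ I, inferInstance, (Ideal.Quotient.mk I).comp MvPolynomial.C, ?_, ?_⟩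
  · rw [injective_iff_map_eq_zero]
    intro a ha
    rw [RingHom.comp_apply, Ideal.Quotient.eq_zero_iff_mem] at ha
    obtain ⟨T, hT, haT⟩ := Submodule.mem_span_finite_of_mem_span ha
    have hT' : ∀ x : T, ∃ f n, (P f).coeff n = x.1 := fun x => hT x.2
    choose g n hgn using hT'
    obtain ⟨B, _, i, hi, hB⟩ := exists_injective_split_finset A (Finset.univ.image fun x => (g x).1)
      (fun f hf => by
        obtain ⟨x, _, rfl⟩ := Finset.mem_image.mp hf
        exact (g x).2)
    -- choose roots
    have hroots : ∀ f : {f : A[X] // f.Monic}, ∃ v : Fin f.1.natDegree → B,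
        f.1 ∈ Finset.univ.image (fun x => (g x).1) → f.1.map i = ∏ k, (X - C (v k)) := by
      intro f
      by_cases hf : f.1 ∈ Finset.univ.image (fun x => (g x).1)
      swap
      · exact ⟨fun _ => 0, fun h => absurd h hf⟩
      cases subsingleton_or_nontrivial B
      · exact ⟨fun _ => 0, fun _ => Subsingleton.elim _ _⟩
      obtain ⟨l, hl⟩ := hB _ hf
      have hcard : l.card = f.1.natDegree := by
        rw [← f.2.natDegree_map i, hl, natDegree_multiset_prod_of_monic]
        · simp
        · intro q hq
          obtain ⟨b, _, rfl⟩ := Multiset.mem_map.mp hq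
          exact monic_X_sub_C b
      refine ⟨fun k => l.toList.get (Fin.cast (by simp [hcard]) k), fun _ => ?_⟩
      rw [hl, ← Multiset.prod_map_toList, ← Fin.prod_univ_fun_getElem]
      refine Fintype.prod_equiv (finCongr (by simp [hcard])) _ _ (fun k => ?_)
      simp
    choose v hv using hroots
    let ev : MvPolynomial σ A →+* B := MvPolynomial.eval₂Hom i fun x => v x.1 x.2
    have hker : Ideal.span (T : Set (MvPolynomial σ A)) ≤ RingHom.ker ev := by
      rw [Ideal.span_le]
      intro x hx
      have h0 : (P (g ⟨x, hx⟩)).map ev = 0 := by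
        have hev : ev.comp MvPolynomial.C = i := RingHom.ext fun r => MvPolynomial.eval₂Hom_C _ _ r
        rw [Polynomial.map_sub, Polynomial.map_map, hev, sub_eq_zero,
          hv _ (Finset.mem_image.mpr ⟨_, Finset.mem_univ _, rfl⟩), Polynomial.map_prod]
        refine Finset.prod_congr rfl fun k _ => ?_
        rw [Polynomial.map_sub, Polynomial.map_X, Polynomial.map_C, MvPolynomial.eval₂Hom_X']
      rw [SetLike.mem_coe, RingHom.mem_ker, show x = (P (g ⟨x, hx⟩)).coeff (n ⟨x, hx⟩) from (hgn ⟨x, hx⟩).symm, ← Polynomial.coeff_map, h0, coeff_zero]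
    have := RingHom.mem_ker.mp (hker haT)
    rw [MvPolynomial.eval₂Hom_C] at this
    exact hi (by rw [this, map_zero])
  · intro f hf
    refine ⟨(Finset.univ : Finset (Fin f.natDegree)).val.map fun k =>
      Ideal.Quotient.mk I (MvPolynomial.X ⟨⟨f, hf⟩, k⟩), ?_⟩
    have h0 : (P ⟨f, hf⟩).map (Ideal.Quotient.mk I) = 0 := by
      ext n
      rw [Polynomial.coeff_map, Polynomial.coeff_zero, Ideal.Quotient.eq_zero_iff_mem]
      exact Ideal.subset_span ⟨_, n, rfl⟩
    rw [Polynomial.map_sub, sub_eq_zero, Polynomial.map_map, Polynomial.map_prod] at h0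
    rw [h0, Multiset.map_map, Finset.prod_eq_multiset_prod]
    simp [Function.comp_def]

/-- Splitting at each step of a chain with injective transition maps gives splitting in the union. -/
theorem exists_split_of_sequence (D : ℕ ⥤ CommRingCat.{u})
    (hinj : ∀ n : ℕ, Function.Injective (D.map (homOfLE n.le_succ)).hom)
    (hsplit : ∀ (n : ℕ) (f : (D.obj n)[X]), f.Monic → ∃ l : Multiset (D.obj (n + 1)),
      f.map (D.map (homOfLE n.le_succ)).hom = (l.map fun b => X - C b).prod) :
    ∃ (B : Type u) (_ : CommRing B) (i : D.obj 0 →+* B), Function.Injective i ∧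
      ∀ f : B[X], f.Monic → ∃ l : Multiset B, f = (l.map fun b => X - C b).prod := by
  classical
  let f : ∀ i j : ℕ, i ≤ j → (D.obj i →+* D.obj j) := fun i j h => (D.map (homOfLE h)).hom
  haveI : DirectedSystem (fun i => (D.obj i : Type u)) (fun i j h => ⇑(f i j h)) :=
    { map_self := fun i x => by
        show (D.map (homOfLE _)).hom x = x
        rw [show homOfLE (le_refl i) = 𝟙 i from rfl, D.map_id]
        rfl
      map_map := fun k j i hij hjk x => by
        show (D.map (homOfLE hjk)).hom ((D.map (homOfLE hij)).hom x) = (D.map (homOfLE _)).hom x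
        rw [← homOfLE_comp hij hjk, D.map_comp]
        rfl }
  have hall : ∀ i j (h : i ≤ j), Function.Injective (f i j h) := by
    intro n m h
    induction h with
    | refl =>
      show Function.Injective (D.map (homOfLE _)).hom
      rw [show homOfLE (le_refl n) = 𝟙 n from rfl, D.map_id]
      exact Function.injective_id
    | @step m h ih =>
      show Function.Injective (D.map (homOfLE _)).hom
      rw [show homOfLE (Nat.le_succ_of_le h) = homOfLE h ≫ homOfLE m.le_succ from rfl, D.map_comp,
        CommRingCat.hom_comp, RingHom.coe_comp]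
      exact (hinj m).comp ih
  let B := DirectLimit (fun i => (D.obj i : Type u)) f
  let ι : ∀ i, D.obj i →+* B := fun i => DirectLimit.Ring.of _ f i
  have hι : ∀ i j (h : i ≤ j) x, ι j (f i j h x) = ι i x := by
    intro i j h x
    simp only [ι, DirectLimit.Ring.of_apply]
    exact (DirectLimit.eq_of_le (⟨i, x⟩ : Σ i, D.obj i) j h).symm
  refine ⟨B, inferInstance, ι 0, fun x y h => DirectLimit.mk_injective f hall 0 h, ?_⟩
  intro p hp
  have hrep : ∀ x : B, ∃ j : ℕ, ∀ m, j ≤ m → x ∈ Set.range (ι m) := by
    intro x
    induction x using DirectLimit.induction with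
    | _ j y => exact ⟨j, fun m h => ⟨f j m h y, hι j m h y⟩⟩
  choose j hj using hrep
  obtain ⟨n, hn⟩ : ∃ n : ℕ, ∀ k, p.coeff k ∈ Set.range (ι n) := by
    refine ⟨p.coeffs.sup j, fun k => ?_⟩
    by_cases hk : p.coeff k = 0
    · exact ⟨0, by rw [hk]; exact map_zero _⟩
    · exact hj _ _ (Finset.le_sup (f := j) (coeff_mem_coeffs hk))
  obtain ⟨q, hq, -, hqm⟩ := lifts_and_natDegree_eq_and_monic
    ((lifts_iff_coeff_lifts p).mpr hn) hp
  obtain ⟨l, hl⟩ := hsplit n q hqm
  refine ⟨l.map (ι (n + 1)), ?_⟩
  have hcomp : ι n = (ι (n + 1)).comp (f n (n + 1) n.le_succ) := RingHom.ext fun x => (hι _ _ _ x).symm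
  rw [← hq, hcomp, ← Polynomial.map_map]
  show ((q.map (D.map (homOfLE n.le_succ)).hom).map (ι (n + 1))) = _
  rw [hl]
  simp [Polynomial.map_multiset_prod, Multiset.map_map, Function.comp_def]

/-- A ring with all monic polynomials split, containing `A`. -/
theorem exists_injective_all_split (A : Type u) [CommRing A] :
    ∃ (B : Type u) (_ : CommRing B) (i : A →+* B), Function.Injective i ∧
      ∀ f : B[X], f.Monic → ∃ l : Multiset B, f = (l.map fun b => X - C b).prod := by
  choose B hB i hi hsplit using fun R : CommRingCat.{u} => exists_injective_split_all R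
  let F : ℕ → CommRingCat.{u} := fun n => Nat.rec (CommRingCat.of A)
    (fun _ R => @CommRingCat.of (B R) (hB R)) n
  let st : ∀ n, F n ⟶ F (n + 1) := fun n => @CommRingCat.ofHom _ _ _ (hB (F n)) (i (F n))
  have hst : ∀ n, (Functor.ofSequence st).map (homOfLE n.le_succ) = st n :=
    fun n => Functor.ofSequence_map_homOfLE_succ st n
  exact exists_split_of_sequence (Functor.ofSequence st)
    (fun n => by rw [hst]; exact hi (F n))
    (fun n p hp => by rw [hst]; exact hsplit (F n) p hp)

end Groth.Agent.H3CAlg
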