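import Mathlib

/-!
Square-zero extensions of complete Noetherian local rings are complete.
-/

namespace Groth.Agent.H3CAlg.SqZeroComplete

open IsLocalRing

universe u v

variable {A : Type u} {E : Type v} [CommRing A] [CommRing E] [IsNoetherianRing A] [IsLocalRing A]
  (f : E →+* A) (hf : Function.Surjective f) (hsq : RingHom.ker f ^ 2 = ⊥) (hfg : (RingHom.ker f).FG)

include hsq in
theorem mul_eq_zero_of_mem {a b : E} (ha : a ∈ RingHom.ker f) (hb : b ∈ RingHom.ker f) : a * b = 0 := by
  have h := Ideal.mul_mem_mul ha hb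
  rw [← pow_two, hsq] at h
  exact Submodule.mem_bot E |>.mp h

include hf hsq in
theorem isUnit_iff (x : E) : IsUnit (f x) ↔ IsUnit x := by
  refine ⟨fun h => ?_, fun h => h.map f⟩
  obtain ⟨y, hy⟩ := hf ↑h.unit⁻¹
  have hk : x * y - 1 ∈ RingHom.ker f := by
    rw [RingHom.mem_ker, map_sub, map_mul, hy, map_one, IsUnit.mul_val_inv, sub_self]
  have hn : IsNilpotent (x * y - 1) := ⟨2, by rw [pow_two]; exact mul_eq_zero_of_mem f hsq hk hk⟩
  have := hn.isUnit_one_add
  rw [add_sub_cancel] at this
  exact isUnit_of_mul_isUnit_left this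

include hf hsq in
theorem le_jacobson : (maximalIdeal A).comap f ≤ (⊥ : Ideal E).jacobson := by
  intro x hx
  rw [Ideal.mem_jacobson_bot]
  intro y
  rw [← isUnit_iff f hf hsq, map_add, map_mul, map_one]
  by_contra h
  have h1 : f x * f y + 1 ∈ maximalIdeal A := h
  exact (maximalIdeal A).one_notMem (by simpa using sub_mem h1 (Ideal.mul_mem_right (f y) _ hx))

include hf hsq hfg in
theorem isNoetherianRing : IsNoetherianRing E := by
  letI := f.toAlgebra
  haveI hA : IsNoetherian E A := by
    refine ⟨fun N => ?_⟩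
    let I : Submodule A A := { N.toAddSubmonoid with
      smul_mem' := fun c x hx => by
        obtain ⟨e, rfl⟩ := hf c
        exact N.smul_mem e hx }
    obtain ⟨s, hs⟩ := IsNoetherian.noetherian I
    refine ⟨s, ?_⟩
    rw [← Submodule.restrictScalars_span E A hf, hs]
    exact SetLike.ext fun x => Iff.rfl
  obtain ⟨r, a, ha⟩ := Submodule.fg_iff_exists_fin_generating_family.mp hfg
  choose lift hlift using hf
  have hmem : ∀ i, a i ∈ RingHom.ker f := fun i => ha ▸ Submodule.subset_span ⟨i, rfl⟩
  let π : (Fin r → A) →ₗ[E] E :=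
    { toFun := fun c => ∑ i, lift (c i) * a i
      map_add' := fun c d => by
        rw [← Finset.sum_add_distrib]
        refine Finset.sum_congr rfl fun i _ => sub_eq_zero.mp ?_
        rw [← add_mul, ← sub_mul]
        exact mul_eq_zero_of_mem f hsq (by simp [hlift]) (hmem i)
      map_smul' := fun e c => by
        rw [RingHom.id_apply, Finset.smul_sum]
        refine Finset.sum_congr rfl fun i _ => sub_eq_zero.mp ?_
        rw [smul_eq_mul, ← mul_assoc, ← sub_mul]
        exact mul_eq_zero_of_mem f hsq (by simp [hlift, Algebra.smul_def, RingHom.algebraMap_toAlgebra]) (hmem i) }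
  refine isNoetherian_of_range_eq_ker π (Algebra.linearMap E A) ?_
  refine le_antisymm ?_ fun x hx => ?_
  · rintro _ ⟨c, rfl⟩
    show f (∑ i, lift (c i) * a i) = 0
    simp [map_sum, RingHom.mem_ker.mp (hmem _)]
  · have hx' : x ∈ Submodule.span E (Set.range a) := by rw [ha]; exact hx
    obtain ⟨d, rfl⟩ := (Submodule.mem_span_range_iff_exists_fun E).mp hx'
    refine ⟨fun i => f (d i), ?_⟩
    show ∑ i, lift (f (d i)) * a i = _
    refine Finset.sum_congr rfl fun i _ => sub_eq_zero.mp ?_
    rw [smul_eq_mul, ← sub_mul]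
    exact mul_eq_zero_of_mem f hsq (by simp [hlift]) (hmem i)

theorem of_surjective_of_exact {R : Type*} [CommRing R] [IsNoetherianRing R] (J : Ideal R)
    {P M N : Type*} [AddCommGroup P] [Module R P] [AddCommGroup M] [Module R M] [Module.Finite R M]
    [AddCommGroup N] [Module R N] (π : P →ₗ[R] M) (g : M →ₗ[R] N) (hex : Function.Exact π g)
    (hg : Function.Surjective g) (hP : Function.Surjective (AdicCompletion.of J P))
    (hN : Function.Surjective (AdicCompletion.of J N)) : Function.Surjective (AdicCompletion.of J M) := by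
  haveI : IsPrecomplete J P := AdicCompletion.of_surjective_iff.mp hP
  haveI : IsPrecomplete J N := AdicCompletion.of_surjective_iff.mp hN
  refine AdicCompletion.of_surjective_iff.mpr ⟨fun x hx => ?_⟩
  have hgmap : ∀ n, (J ^ n • ⊤ : Submodule R M).map g = J ^ n • ⊤ := fun n => by
    rw [Submodule.map_smul'', Submodule.map_top, LinearMap.range_eq_top.mpr hg]
  obtain ⟨b, hb⟩ := IsPrecomplete.prec (I := J) (M := N) inferInstance (f := fun n => g (x n))
    fun {m n} hmn => SModEq.sub_mem.mpr (by
      rw [← map_sub, ← hgmap]; exact Submodule.mem_map_of_mem (SModEq.sub_mem.mp (hx hmn)))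
  obtain ⟨m₀, rfl⟩ := hg b
  choose d hd hdg using fun n => (hgmap n ▸ SModEq.sub_mem.mp (hb n) :
    g (x n) - g m₀ ∈ (J ^ n • ⊤ : Submodule R M).map g)
  obtain ⟨k, hk⟩ := Ideal.exists_pow_inf_eq_pow_smul J (LinearMap.range π)
  let w : ℕ → M := fun n => x (n + k) - m₀ - d (n + k)
  have hw : ∀ n, w n ∈ LinearMap.range π := fun n => (hex _).mp (by simp [w, hdg])
  have hdiff : ∀ n, ∃ δ ∈ (J ^ n • ⊤ : Submodule R P), π δ = w (n + 1) - w n := by
    intro n
    have h1 : w (n + 1) - w n ∈ (J ^ (n + k) • ⊤ ⊓ LinearMap.range π : Submodule R M) := by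
      refine ⟨?_, sub_mem (hw _) (hw _)⟩
      rw [show w (n + 1) - w n = -(x (n + k) - x (n + 1 + k)) - d (n + 1 + k) + d (n + k) from by simp [w]; abel]
      exact add_mem (sub_mem (neg_mem (SModEq.sub_mem.mp (hx (by omega))))
        (Submodule.smul_mono_left (Ideal.pow_le_pow_right (by omega)) (hd _))) (hd _)
    rw [hk _ (Nat.le_add_left _ _), Nat.add_sub_cancel] at h1
    have h2 : (J ^ n • (J ^ k • ⊤ ⊓ LinearMap.range π) : Submodule R M) ≤ Submodule.map π (J ^ n • ⊤) := by
      rw [Submodule.map_smul'', Submodule.map_top]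
      exact smul_mono_right _ inf_le_right
    exact h2 h1
  choose δ hδ hδw using hdiff
  obtain ⟨p₀, hp₀⟩ := hw 0
  let c : ℕ → P := fun n => p₀ + ∑ i ∈ Finset.range n, δ i
  have hc : ∀ n, π (c n) = w n := by
    intro n
    induction n with
    | zero => simp [c, hp₀]
    | succ n ih =>
      rw [show c (n + 1) = c n + δ n from by simp [c, Finset.sum_range_succ, add_assoc], map_add, ih, hδw]
      abel
  obtain ⟨L, hL⟩ := IsPrecomplete.prec (I := J) (M := P) inferInstance (f := c) fun {a b} hab =>
    SModEq.symm (SModEq.sub_mem.mpr (by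
      obtain ⟨t, rfl⟩ := Nat.exists_eq_add_of_le hab
      simp only [c, Finset.sum_range_add, add_sub_add_left_eq_sub, add_sub_cancel_left]
      exact sum_mem fun i _ => Submodule.smul_mono_left (Ideal.pow_le_pow_right (Nat.le_add_right a i)) (hδ _)))
  refine ⟨m₀ + π L, fun n => SModEq.sub_mem.mpr ?_⟩
  have h1 : π (c n - L) ∈ (J ^ n • ⊤ : Submodule R M) := by
    have := Submodule.mem_map_of_mem (f := π) (SModEq.sub_mem.mp (hL n))
    rw [Submodule.map_smul''] at this
    exact (smul_mono_right _ le_top : _ ≤ (J ^ n • ⊤ : Submodule R M)) this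
  rw [map_sub, hc] at h1
  rw [show x n - (m₀ + π L) = (x n - x (n + k)) + d (n + k) + (w n - π L) from by simp [w]; abel]
  exact add_mem (add_mem (SModEq.sub_mem.mp (hx (by omega)))
    (Submodule.smul_mono_left (Ideal.pow_le_pow_right (by omega)) (hd _))) h1

include hf hsq hfg in
theorem isAdicComplete [IsAdicComplete (maximalIdeal A) A] :
    IsAdicComplete ((maximalIdeal A).comap f) E := by
  classical
  haveI := isNoetherianRing f hf hsq hfg
  letI := f.toAlgebra
  set J := (maximalIdeal A).comap f with hJ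
  haveI hAc : IsAdicComplete J A := by
    rw [← IsAdicComplete.map_algebraMap_iff (R := E) (S := A) (M := A)]
    rw [show J.map (algebraMap E A) = maximalIdeal A from Ideal.map_comap_of_surjective f hf _]
    infer_instance
  obtain ⟨r, a, ha⟩ := Submodule.fg_iff_exists_fin_generating_family.mp hfg
  choose lift hlift using hf
  have hmem : ∀ i, a i ∈ RingHom.ker f := fun i => ha ▸ Submodule.subset_span ⟨i, rfl⟩
  -- `A`-multiples of the generators
  let φ : Fin r → (A →ₗ[E] E) := fun i =>
    { toFun := fun c => lift c * a i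
      map_add' := fun c d => sub_eq_zero.mp (by
        rw [← add_mul, ← sub_mul]
        exact mul_eq_zero_of_mem f hsq (by simp [hlift]) (hmem i))
      map_smul' := fun e c => sub_eq_zero.mp (by
        rw [RingHom.id_apply, smul_eq_mul, ← mul_assoc, ← sub_mul]
        exact mul_eq_zero_of_mem f hsq (by simp [hlift, Algebra.smul_def, RingHom.algebraMap_toAlgebra]) (hmem i)) }
  haveI : IsHausdorff J E :=
    IsHausdorff.of_le_jacobson J E (le_jacobson f (fun x => ⟨lift x, hlift x⟩) hsq)
  let π : (Fin r → A) →ₗ[E] E := ∑ i, (φ i).comp (LinearMap.proj i)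
  haveI : Module.Finite E A := Module.Finite.of_surjective (Algebra.linearMap E A) fun x => ⟨lift x, hlift x⟩
  have hex : Function.Exact π (Algebra.linearMap E A) := by
    intro y
    refine ⟨fun hy => ?_, ?_⟩
    · have hy' : y ∈ Submodule.span E (Set.range a) := by rw [ha]; exact hy
      obtain ⟨d, rfl⟩ := (Submodule.mem_span_range_iff_exists_fun E).mp hy'
      refine ⟨fun i => f (d i), ?_⟩
      rw [LinearMap.sum_apply]
      refine Finset.sum_congr rfl fun i _ => sub_eq_zero.mp ?_
      show lift (f (d i)) * a i - d i • a i = 0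
      rw [smul_eq_mul, ← sub_mul]
      exact mul_eq_zero_of_mem f hsq (by simp [hlift]) (hmem i)
    · rintro ⟨c, rfl⟩
      rw [LinearMap.sum_apply, map_sum]
      exact Finset.sum_eq_zero fun i _ => by
        show f (lift (c i) * a i) = 0
        rw [map_mul, RingHom.mem_ker.mp (hmem i), mul_zero]
  haveI : IsPrecomplete J (Fin r → A) := by
    refine ⟨fun g hg => ?_⟩
    choose L hL using fun i => IsPrecomplete.prec (I := J) (M := A) inferInstance
      (f := fun n => g n i) fun {m n} hmn => SModEq.sub_mem.mpr (by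
        have := Submodule.mem_map_of_mem (f := (LinearMap.proj i : (Fin r → A) →ₗ[E] A)) (SModEq.sub_mem.mp (hg hmn))
        rw [Submodule.map_smul''] at this
        exact (smul_mono_right _ le_top : _ ≤ (J ^ m • ⊤ : Submodule E A)) this)
    refine ⟨L, fun n => SModEq.sub_mem.mpr ?_⟩
    rw [show g n - L = ∑ i, LinearMap.single E (fun _ : Fin r => A) i (g n i - L i) from by
      simpa using (Finset.univ_sum_single (g n - L)).symm]
    refine sum_mem fun i _ => ?_
    have := Submodule.mem_map_of_mem (f := LinearMap.single E (fun _ : Fin r => A) i) (SModEq.sub_mem.mp (hL i n))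
    rw [Submodule.map_smul''] at this
    exact (smul_mono_right _ le_top : _ ≤ (J ^ n • ⊤ : Submodule E (Fin r → A))) this
  exact { toIsPrecomplete := AdicCompletion.of_surjective_iff.mp (of_surjective_of_exact J π (Algebra.linearMap E A)
    hex (fun x => ⟨lift x, hlift x⟩) (AdicCompletion.of_surjective J _) (AdicCompletion.of_surjective J A)) }

end Groth.Agent.H3CAlg.SqZeroComplete
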