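import Groth.Agent.H05EGA4.FSCriteria
import Groth.Agent.H24Obs.Core

/-!
Square-zero lifting over Artinian local test rings detects regularity.
(`injective_of_artinian_lifting` follows `H05EGA4.injective_of_isAdicFormallySmooth`, testing only Artinian local rings.)
-/

set_option autoImplicit false
set_option linter.style.haveILetI false
set_option maxHeartbeats 600000
universe u
open IsLocalRing Groth.Agent CAlgX Groth.Agent.H05EGA4

namespace Groth.Agent.H3CAlg.SqZeroRegular

theorem injective_of_artinian_lifting {P T B : Type u} [CommRing P] [CommRing T] [IsLocalRing T]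
    [IsNoetherianRing T] [CommRing B] [IsLocalRing B] [IsAdicComplete (maximalIdeal B) B] [Algebra P T] [Algebra P B]
    [IsHausdorff (maximalIdeal T) T] (φ : T →ₐ[P] B) (hφsur : Function.Surjective φ)
    (hkersq : ∀ f, φ f = 0 → f ∈ maximalIdeal T ^ 2) (hB : ∀ (R : Type u) [CommRing R] [Algebra P R] [IsArtinianRing R] [IsLocalRing R] (J : Ideal R),
      J ^ 2 = ⊥ → ∀ f : B →ₐ[P] R ⧸ J, IsLocalHom (f : B →+* R ⧸ J) →
        ∃ g : B →ₐ[P] R, (Ideal.Quotient.mkₐ P J).comp g = f) :
    Function.Injective φ := by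
  have hφloc : ∀ f ∈ maximalIdeal T, φ f ∈ maximalIdeal B := fun f hf => by
    refine (IsLocalRing.mem_maximalIdeal _).mpr fun hu => ?_
    obtain ⟨v, hv⟩ := hu.exists_right_inv
    obtain ⟨g, rfl⟩ := hφsur v
    have h1 := hkersq (f * g - 1) (by rw [map_sub, map_mul, hv, map_one, sub_self])
    have h2 : (1 : T) ∈ maximalIdeal T := by
      have := sub_mem (Ideal.mul_mem_right g _ hf) (Ideal.pow_le_self two_ne_zero h1)
      rwa [sub_sub_cancel] at this
    exact (maximalIdeal.isMaximal T).ne_top ((Ideal.eq_top_iff_one _).mpr h2)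
  -- the inverse modulo squares
  have hker2 : RingHom.ker φ.toRingHom ≤ RingHom.ker (Ideal.Quotient.mk (maximalIdeal T ^ 2)) := fun f hf => by
    rw [Ideal.mk_ker]; exact hkersq f hf
  obtain ⟨u₀, hu₀⟩ : ∃ u₀ : B →+* T ⧸ maximalIdeal T ^ 2, ∀ f, u₀ (φ f) = Ideal.Quotient.mk _ f :=
    ⟨RingHom.liftOfSurjective φ.toRingHom hφsur ⟨_, hker2⟩,
      fun f => RingHom.liftOfRightInverse_comp_apply _ _ _ ⟨_, hker2⟩ f⟩
  have hσT : ∀ x : P, φ (algebraMap P T x) = algebraMap P B x := φ.commutes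
  have hu₀m : ∀ a ∈ maximalIdeal B, ∃ f ∈ maximalIdeal T, φ f = a := fun a ha => by
    obtain ⟨f, rfl⟩ := hφsur a
    exact ⟨f, (IsLocalRing.mem_maximalIdeal _).mpr fun hu => (IsLocalRing.mem_maximalIdeal _).mp ha (hu.map φ), rfl⟩
  have hmk : ∀ (N : ℕ) (a : B) (g : T) (w : T ⧸ maximalIdeal T ^ (N + 2)),
      Ideal.Quotient.mk _ g = w → Ideal.Quotient.factor (Ideal.pow_le_pow_right (Nat.le_add_left 2 N)) w = u₀ a →
      ∀ f, φ f = a → g - f ∈ maximalIdeal T ^ 2 := fun N a g w hw h f hf => by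
    rw [← hw, Ideal.Quotient.factor_mk, ← hf, hu₀] at h
    exact Ideal.Quotient.eq.mp h
  have hlift : ∀ N, ∃ u : B →ₐ[P] T ⧸ maximalIdeal T ^ (N + 2),
      ∀ a, Ideal.Quotient.factor (Ideal.pow_le_pow_right (Nat.le_add_left 2 N)) (u a) = u₀ a := by
    intro N
    induction N with
    | zero =>
      refine ⟨{ u₀ with commutes' := fun x => ?_ }, fun a => ?_⟩
      · show u₀ (algebraMap P B x) = _
        rw [← hσT, hu₀, ← Ideal.Quotient.mk_algebraMap]
      · obtain ⟨g, hg⟩ := Ideal.Quotient.mk_surjective (u₀ a)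
        show Ideal.Quotient.factor _ (u₀ a) = u₀ a
        rw [← hg]; exact Ideal.Quotient.factor_mk _ g
    | succ N ih =>
      obtain ⟨u, hu⟩ := ih
      have hum : ∀ a ∈ maximalIdeal B, u a ∈ (maximalIdeal T).map (Ideal.Quotient.mk (maximalIdeal T ^ (N + 2))) := by
        intro a ha
        obtain ⟨f, hf, hfa⟩ := hu₀m a ha
        obtain ⟨g, hg⟩ := Ideal.Quotient.mk_surjective (u a)
        have h1 := hmk N a g _ hg (hu a) f hfa
        rw [← hg]
        exact Ideal.mem_map_of_mem _ (by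
          have := add_mem (Ideal.pow_le_self two_ne_zero h1) hf; rwa [sub_add_cancel] at this)
      have hle : maximalIdeal T ^ (N + 1 + 2) ≤ maximalIdeal T ^ (N + 2) := Ideal.pow_le_pow_right (by omega)
      let π := Ideal.Quotient.factorₐ P hle
      have hπmk : ∀ g, π (Ideal.Quotient.mk _ g) = Ideal.Quotient.mk _ g := fun g => Ideal.Quotient.factor_mk hle g
      have hπ : Function.Surjective π := Ideal.Quotient.factor_surjective hle
      let J : Ideal (T ⧸ maximalIdeal T ^ (N + 1 + 2)) := RingHom.ker π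
      have hJ : J ^ 2 = ⊥ := by
        rw [show J = (maximalIdeal T ^ (N + 2)).map (Ideal.Quotient.mk _) from Ideal.Quotient.factor_ker hle,
          ← Ideal.map_pow, Ideal.map_eq_bot_iff_le_ker, Ideal.mk_ker, ← pow_mul]
        exact Ideal.pow_le_pow_right (by omega)
      obtain ⟨e, he⟩ : ∃ e : ((T ⧸ maximalIdeal T ^ (N + 1 + 2)) ⧸ J) ≃ₐ[P] T ⧸ maximalIdeal T ^ (N + 2),
          ∀ x, e (Ideal.Quotient.mk J x) = π x :=
        ⟨Ideal.quotientKerAlgEquivOfSurjective hπ, fun x => Ideal.quotientKerAlgEquivOfSurjective_mk hπ x⟩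
      have hpow : ∀ a ∈ maximalIdeal B, e.symm (u a) ^ (N + 2) = 0 := fun a ha => by
        have h1 : u a ^ (N + 2) ∈ ((maximalIdeal T).map (Ideal.Quotient.mk (maximalIdeal T ^ (N + 2)))) ^ (N + 2) :=
          Ideal.pow_mem_pow (hum a ha) _
        rw [← Ideal.map_pow, Ideal.map_quotient_self, Ideal.mem_bot] at h1
        rw [← map_pow, h1, map_zero]
      have hne : maximalIdeal T ^ (N + 1 + 2) ≠ ⊤ := fun h => (maximalIdeal.isMaximal T).ne_top
        (top_le_iff.mp (h ▸ Ideal.pow_le_self (by omega)))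
      haveI : Nontrivial (T ⧸ maximalIdeal T ^ (N + 1 + 2)) := Ideal.Quotient.nontrivial_iff.mpr hne
      haveI : IsLocalRing (T ⧸ maximalIdeal T ^ (N + 1 + 2)) :=
        IsLocalRing.of_surjective' _ Ideal.Quotient.mk_surjective
      haveI : IsArtinianRing (T ⧸ maximalIdeal T ^ (N + 1 + 2)) := H24Obs.isArtinianRing_quotient le_rfl hne
      haveI : Nontrivial ((T ⧸ maximalIdeal T ^ (N + 1 + 2)) ⧸ J) := Ideal.Quotient.nontrivial_iff.mpr fun h => by
        rw [h, ← Ideal.one_eq_top, one_pow] at hJ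
        exact one_ne_zero hJ
      obtain ⟨χ, hχ⟩ := hB _ J hJ (e.symm.toAlgHom.comp u) ⟨fun a ha => by
        by_contra hna
        have h0 := hpow a ((IsLocalRing.mem_maximalIdeal _).mpr hna)
        have h1 : IsUnit (e.symm (u a) ^ (N + 2)) := IsUnit.pow _ ha
        rw [h0] at h1
        exact not_isUnit_zero h1⟩
      refine ⟨χ, fun a => ?_⟩
      have h2 : π (χ a) = u a := by
        have := congrArg e (AlgHom.congr_fun hχ a)
        rw [AlgHom.comp_apply, AlgHom.comp_apply, Ideal.Quotient.mkₐ_eq_mk] at this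
        rw [he] at this
        exact this.trans (e.apply_symm_apply _)
      rw [← hu a, ← h2]
      obtain ⟨g, hg⟩ := Ideal.Quotient.mk_surjective (χ a)
      rw [← hg, hπmk, Ideal.Quotient.factor_mk, Ideal.Quotient.factor_mk]
  rw [injective_iff_map_eq_zero]
  intro f hf
  refine IsHausdorff.haus (I := maximalIdeal T) inferInstance f fun N => ?_
  rw [SModEq.sub_mem, sub_zero, smul_eq_mul, Ideal.mul_top]
  refine Ideal.pow_le_pow_right (Nat.le_add_right N 2) ?_
  obtain ⟨u, hu⟩ := hlift N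
  let q := Ideal.Quotient.mk (maximalIdeal T ^ (N + 2))
  have hloc : ∀ a ∈ maximalIdeal B, u a ∈ (maximalIdeal T).map q := fun a ha => by
    obtain ⟨f', hf', hfa⟩ := hu₀m a ha
    obtain ⟨g, hg⟩ := Ideal.Quotient.mk_surjective (u a)
    rw [← hg]
    exact Ideal.mem_map_of_mem _ (by
      have := add_mem (Ideal.pow_le_self two_ne_zero (hmk N a g _ hg (hu a) f' hfa)) hf'
      rwa [sub_add_cancel] at this)
  have hnil : ((maximalIdeal T).map q) ^ (N + 2) = ⊥ := by rw [← Ideal.map_pow, Ideal.map_quotient_self]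
  have := Groth.Agent.H02CA.AdicSmooth.isAdicComplete_of_pow_eq_bot hnil
  have hsur : Function.Surjective u := by
    refine Groth.Agent.H02CA.PS.surjective_of_approx u.toRingHom (maximalIdeal B) ((maximalIdeal T).map q) hloc ?_ ?_
    · intro w
      obtain ⟨g, rfl⟩ := Ideal.Quotient.mk_surjective w
      obtain ⟨g', hg'⟩ := Ideal.Quotient.mk_surjective (u (φ g))
      refine ⟨φ g, ?_⟩
      show u (φ g) - q g ∈ _
      rw [← hg', ← map_sub]
      exact Ideal.mem_map_of_mem _ (Ideal.pow_le_self two_ne_zero (hmk N _ g' _ hg' (hu _) g rfl))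
    · intro w hw
      obtain ⟨g, hg, rfl⟩ := (Ideal.mem_map_iff_of_surjective _ Ideal.Quotient.mk_surjective).mp hw
      obtain ⟨g', hg'⟩ := Ideal.Quotient.mk_surjective (u (φ g))
      refine ⟨φ g, hφloc g hg, ?_⟩
      show u (φ g) - q g ∈ _
      rw [← hg', ← map_sub, ← Ideal.map_pow]
      exact Ideal.mem_map_of_mem _ (hmk N _ g' _ hg' (hu _) g rfl)
  let θ : T →+* T ⧸ maximalIdeal T ^ (N + 2) := u.toRingHom.comp φ.toRingHom
  have hθ : maximalIdeal T ^ (N + 2) ≤ RingHom.ker θ := fun g hg => by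
    have h1 : (maximalIdeal T ^ (N + 2)).map θ ≤ ((maximalIdeal T).map q) ^ (N + 2) := by
      rw [Ideal.map_pow]
      exact Ideal.pow_right_mono ((Ideal.map_le_iff_le_comap (f := θ)).mpr fun z hz => (Ideal.mem_comap (f := θ)).mpr (hloc _ (hφloc z hz))) _
    rw [hnil] at h1
    exact Ideal.mem_bot.mp (h1 (Ideal.mem_map_of_mem _ hg))
  have hinj := injective_of_surjective_endomorphism (Ideal.Quotient.lift _ θ hθ)
    (Ideal.Quotient.lift_surjective_of_surjective _ hθ (hsur.comp hφsur))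
  refine Ideal.Quotient.eq_zero_iff_mem.mp (hinj ?_)
  rw [map_zero]
  show u (φ f) = 0
  rw [hf, map_zero]

theorem iff_lifting (k A : Type u) [Field k]
    [CommRing A] [Algebra k A] [IsLocalRing A] [IsNoetherianRing A] [IsAdicComplete (maximalIdeal A) A]
    (π : A →ₐ[k] k) (hπ : RingHom.ker π = maximalIdeal A) :
    IsRegularLocalRing A ↔
      ∀ (R : Type u) [CommRing R] [Algebra k R] [IsArtinianRing R] [IsLocalRing R] (J : Ideal R),
        J ^ 2 = ⊥ → ∀ f : A →ₐ[k] R ⧸ J, IsLocalHom (f : A →+* R ⧸ J) →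
          ∃ g : A →ₐ[k] R, (Ideal.Quotient.mkₐ k J).comp g = f := by
  have hres : Function.Surjective ((residue A).comp (algebraMap k A)) := fun z => by
    obtain ⟨a, rfl⟩ := residue_surjective z
    refine ⟨π a, ?_⟩
    rw [RingHom.comp_apply, ← sub_eq_zero, ← map_sub, IsLocalRing.residue_eq_zero_iff, ← hπ, RingHom.mem_ker, map_sub,
      π.commutes]
    exact sub_self _
  refine ⟨fun hA => ?_, fun hB => ?_⟩
  · let e : k ≃ₐ[k] ResidueField A :=
      AlgEquiv.ofBijective (Algebra.ofId k (ResidueField A)) ⟨RingHom.injective _, hres⟩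
    haveI : Algebra.FormallySmooth k (ResidueField A) := Algebra.FormallySmooth.of_equiv e
    intro R _ _ _ _ J hJ f hf
    refine isAdicFormallySmooth_of_residue_formallySmooth R J hJ f ?_
    obtain ⟨n, hn⟩ := IsArtinianRing.isNilpotent_jacobson_bot (R := R)
    refine ⟨n, fun x hx => ?_⟩
    have hle : (maximalIdeal A).map (f : A →+* R ⧸ J) ≤ (maximalIdeal R).map (Ideal.Quotient.mk J) := by
      refine Ideal.map_le_iff_le_comap.mpr fun a ha => ?_
      obtain ⟨r, hr⟩ := Ideal.Quotient.mk_surjective (f a)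
      rw [Ideal.mem_comap, show (f : A →+* R ⧸ J) a = Ideal.Quotient.mk J r from hr.symm]
      refine Ideal.mem_map_of_mem _ ((IsLocalRing.mem_maximalIdeal _).mpr fun hu => ?_)
      exact (IsLocalRing.mem_maximalIdeal _).mp ha (hf.map_nonunit a (hr ▸ hu.map (Ideal.Quotient.mk J)))
    have h1 : f x ∈ ((maximalIdeal A) ^ n).map (f : A →+* R ⧸ J) := Ideal.mem_map_of_mem _ hx
    rw [Ideal.map_pow] at h1
    have h2 := Ideal.pow_right_mono hle n h1
    rw [← Ideal.map_pow, ← IsLocalRing.jacobson_eq_maximalIdeal ⊥ bot_ne_top, hn, Ideal.zero_eq_bot, Ideal.map_bot] at h2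
    exact Ideal.mem_bot.mp h2
  · obtain ⟨n, φ, hsur, hker⟩ := exists_surjective_ker_le_sq (K := k) (B := A) hres
    have : IsRegularLocalRing (MvPowerSeries (Fin n) k) := Groth.Agent.H02CA.PS.isRegularLocalRing_fin n
    have : IsHausdorff (maximalIdeal (MvPowerSeries (Fin n) k)) (MvPowerSeries (Fin n) k) :=
      IsHausdorff.of_isLocalRing _ _ (maximalIdeal.isMaximal _).ne_top
    exact IsRegularLocalRing.of_ringEquiv (R := MvPowerSeries (Fin n) k)
      (RingEquiv.ofBijective φ.toRingHom ⟨injective_of_artinian_lifting φ hsur hker hB, hsur⟩)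

end Groth.Agent.H3CAlg.SqZeroRegular
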