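import Mathlib
import Groth.Agent.S0505

/-!
# Tame extensions of henselian discrete valuation rings with algebraically closed residue field
-/

set_option autoImplicit false

universe u

namespace Groth.Agent.H3CAlg.TameKummer

open Polynomial IsLocalRing IntermediateField

section hensel

variable {R : Type u} [CommRing R] [HenselianLocalRing R]

theorem exists_root_of_residue {n : ℕ} (hn : IsUnit (n : R)) {u w₀ : R} (hw : IsUnit w₀)
    (h : w₀ ^ n - u ∈ maximalIdeal R) : ∃ w : R, w ^ n = u ∧ w - w₀ ∈ maximalIdeal R := by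
  rcases Nat.eq_zero_or_pos n with rfl | hpos
  · haveI : Subsingleton R := by
      rw [Nat.cast_zero] at hn
      exact subsingleton_of_zero_eq_one (isUnit_zero_iff.mp hn)
    exact ⟨w₀, Subsingleton.elim _ _, by simp⟩
  obtain ⟨w, hw1, hw2⟩ := HenselianLocalRing.is_henselian (X ^ n - C u) (monic_X_pow_sub_C u hpos.ne') w₀
    (by simpa using h) (by simpa [derivative_X_pow] using hn.mul (hw.pow (n - 1)))
  exact ⟨w, by simpa [IsRoot, sub_eq_zero] using hw1, hw2⟩

theorem isUnit_natCast {p : ℕ} [hp : Fact p.Prime] [CharP (ResidueField R) p] {n : ℕ} (h : ¬ p ∣ n) :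
    IsUnit (n : R) := by
  refine (residue_ne_zero_iff_isUnit _).mp fun h0 => h ?_
  rw [map_natCast] at h0
  exact (CharP.cast_eq_zero_iff (ResidueField R) p n).mp h0

variable [IsAlgClosed (ResidueField R)]

theorem exists_root_unit {n : ℕ} (hn : IsUnit (n : R)) (u : Rˣ) : ∃ w : Rˣ, w ^ n = u := by
  rcases Nat.eq_zero_or_pos n with rfl | hpos
  · rw [Nat.cast_zero] at hn
    haveI := subsingleton_of_zero_eq_one (isUnit_zero_iff.mp hn)
    exact ⟨1, Subsingleton.elim _ _⟩
  obtain ⟨z, hz⟩ := IsAlgClosed.exists_pow_nat_eq (residue R (u : R)) hpos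
  obtain ⟨w₀, rfl⟩ := residue_surjective z
  have hw₀ : IsUnit w₀ := (residue_ne_zero_iff_isUnit _).mp fun h0 => by
    rw [h0, zero_pow hpos.ne'] at hz
    exact (residue_ne_zero_iff_isUnit _).mpr u.isUnit hz.symm
  obtain ⟨w, hw, -⟩ := exists_root_of_residue hn hw₀ (u := (u : R)) ((residue_eq_zero_iff _).mp (by rw [map_sub, map_pow, hz, sub_self]))
  have hu : IsUnit w := (isUnit_pow_iff hpos.ne').mp (hw ▸ u.isUnit)
  exact ⟨hu.unit, Units.ext (by simpa using hw)⟩

theorem exists_primitiveRoot [IsDomain R] {n : ℕ} (hn : IsUnit (n : R)) (hpos : 0 < n) :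
    ∃ ζ : R, IsPrimitiveRoot ζ n := by
  haveI : NeZero (n : ResidueField R) := ⟨by rw [← map_natCast (residue R)]; exact (residue_ne_zero_iff_isUnit _).mpr hn⟩
  obtain ⟨z, hz⟩ := (HasEnoughRootsOfUnity.exists_primitiveRoot (ResidueField R) n)
  obtain ⟨w₀, rfl⟩ := residue_surjective z
  have hw₀ : IsUnit w₀ := (residue_ne_zero_iff_isUnit _).mp (hz.ne_zero hpos.ne')
  obtain ⟨w, hw, hww⟩ := exists_root_of_residue hn hw₀ (u := (1 : R))
    ((residue_eq_zero_iff _).mp (by rw [map_sub, map_pow, hz.pow_eq_one, map_one, sub_self]))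
  refine ⟨w, hw, fun l hl => hz.dvd_of_pow_eq_one l ?_⟩
  have : residue R w = residue R w₀ := by rw [← sub_eq_zero, ← map_sub]; exact (residue_eq_zero_iff _).mpr hww
  rw [← this, ← map_pow, hl, map_one]

end hensel

variable {O : Type u} [CommRing O] [IsDomain O] [IsDiscreteValuationRing O]
variable {K : Type u} [Field K] [Algebra O K] [IsFractionRing O K]

theorem irreducible_X_pow_sub {ϖ : O} (hϖ : Irreducible ϖ) {n : ℕ} (hn : 0 < n) :
    Irreducible (X ^ n - C (algebraMap O K ϖ)) := by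
  have hmon : (X ^ n - C ϖ : O[X]).Monic := monic_X_pow_sub_C ϖ hn.ne'
  have hE : (X ^ n - C ϖ : O[X]).IsEisensteinAt (Ideal.span {ϖ}) := by
    constructor
    · rw [hmon.leadingCoeff, Ideal.mem_span_singleton]
      exact fun h => hϖ.not_isUnit (isUnit_of_dvd_one h)
    · intro k hk
      rw [natDegree_X_pow_sub_C] at hk
      rw [coeff_sub, coeff_X_pow, if_neg hk.ne, zero_sub, neg_mem_iff, coeff_C]
      split_ifs
      · exact Ideal.mem_span_singleton_self _
      · exact zero_mem _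
    · rw [coeff_sub, coeff_X_pow, if_neg hn.ne, zero_sub, neg_mem_iff, coeff_C_zero, Ideal.span_singleton_pow,
        Ideal.mem_span_singleton, sq]
      intro h
      obtain ⟨c, hc⟩ := h
      exact hϖ.not_isUnit (isUnit_of_dvd_one ⟨c, mul_left_cancel₀ hϖ.ne_zero (by linear_combination hc)⟩)
  have hirr : Irreducible (X ^ n - C ϖ : O[X]) :=
    hE.irreducible (by rw [← hϖ.maximalIdeal_eq]; exact (maximalIdeal.isMaximal O).isPrime) hmon.isPrimitive
      (by rwa [natDegree_X_pow_sub_C])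
  have h2 := (hmon.irreducible_iff_irreducible_map_fraction_map (K := K)).mp hirr
  rwa [Polynomial.map_sub, Polynomial.map_pow, map_X, map_C] at h2

variable {Ω : Type u} [Field Ω] [Algebra K Ω]

theorem finrank_adjoin_root {ϖ : O} (hϖ : Irreducible ϖ) {n : ℕ} (hn : 0 < n) {η : Ω}
    (hη : η ^ n = algebraMap K Ω (algebraMap O K ϖ)) :
    Module.finrank K K⟮η⟯ = n := by
  have hint : IsIntegral K η := ⟨X ^ n - C (algebraMap O K ϖ), monic_X_pow_sub_C _ hn.ne', by
    rw [eval₂_sub, eval₂_X_pow, eval₂_C, hη, sub_self]⟩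
  rw [IntermediateField.adjoin.finrank hint, ← minpoly.eq_of_irreducible_of_monic (irreducible_X_pow_sub hϖ hn)
    (by simp [hη]) (monic_X_pow_sub_C _ hn.ne'), natDegree_X_pow_sub_C]

theorem mem_of_pow_eq {n : ℕ} (hn : 0 < n) (F : IntermediateField K Ω) {ζ : K} (hζ : IsPrimitiveRoot ζ n)
    {θ τ : Ω} (hτ : τ ∈ F) (h : θ ^ n = τ ^ n) : θ ∈ F := by
  rcases eq_or_ne τ 0 with rfl | hτ0
  · rw [zero_pow hn.ne'] at h
    rw [(pow_eq_zero_iff hn.ne').mp h]
    exact zero_mem F
  haveI : NeZero n := ⟨hn.ne'⟩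
  obtain ⟨i, -, hi⟩ := (hζ.map_of_injective (algebraMap K Ω).injective).eq_pow_of_pow_eq_one
    (ξ := θ / τ) (by rw [div_pow, h, div_self (pow_ne_zero _ hτ0)])
  rw [← div_mul_cancel₀ θ hτ0, ← hi]
  exact mul_mem (pow_mem (F.algebraMap_mem ζ) i) hτ

theorem exists_root_lcm {c : Ω} (hc : c ≠ 0) {ι : Type*} [DecidableEq ι] (s : Finset ι) (r : ι → ℕ)
    (hr : ∀ i ∈ s, 0 < r i) (h : ∀ i ∈ s, ∃ ρ : Ω, ρ ^ r i = c) : ∃ η : Ω, η ^ (s.lcm r) = c := by
  induction s using Finset.induction with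
  | empty => exact ⟨c, by simp⟩
  | insert i s hi ih =>
    obtain ⟨η, hη⟩ := ih (fun j hj => hr j (Finset.mem_insert_of_mem hj)) (fun j hj => h j (Finset.mem_insert_of_mem hj))
    obtain ⟨ρ, hρ⟩ := h i (Finset.mem_insert_self i s)
    have hL : s.lcm r ≠ 0 := by
      rw [Ne, Finset.lcm_eq_zero_iff]
      rintro ⟨j, hj, hj0⟩
      exact (hr j (Finset.mem_insert_of_mem (Finset.mem_coe.mp hj))).ne' hj0
    rw [Finset.lcm_insert]
    show ∃ τ : Ω, τ ^ Nat.lcm (r i) (s.lcm r) = c
    let a := r i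
    let b := s.lcm r
    have ha : a ≠ 0 := (hr i (Finset.mem_insert_self i s)).ne'
    obtain ⟨a', ha'⟩ := Nat.gcd_dvd_left a b
    obtain ⟨b', hb'⟩ := Nat.gcd_dvd_right a b
    have hg : Nat.gcd a b ≠ 0 := fun h0 => ha (by rw [ha', h0, zero_mul])
    have hl : Nat.lcm a b = a * b' := by
      refine Nat.eq_of_mul_eq_mul_left (Nat.pos_of_ne_zero hg) ?_
      rw [Nat.gcd_mul_lcm]
      conv_lhs => rw [hb']
      ring
    refine ⟨ρ ^ Nat.gcdB a b * η ^ Nat.gcdA a b, ?_⟩
    have hρ0 : ρ ≠ 0 := fun h0 => hc (by rw [← hρ, h0, zero_pow ha])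
    have hη0 : η ≠ 0 := fun h0 => hc (by rw [← hη, h0, zero_pow hL])
    have hab : a * b' = b * a' := by
      conv_lhs => rw [ha']
      conv_rhs => rw [hb']
      ring
    have hbez : (b' : ℤ) * Nat.gcdB a b + (a' : ℤ) * Nat.gcdA a b = 1 := by
      have h := Nat.gcd_eq_gcd_ab a b
      have e1 : (a : ℤ) = (Nat.gcd a b : ℤ) * a' := by exact_mod_cast ha'
      have e2 : (b : ℤ) = (Nat.gcd a b : ℤ) * b' := by exact_mod_cast hb'
      refine mul_left_cancel₀ (Int.natCast_ne_zero.mpr hg) ?_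
      linear_combination (-1 : ℤ) * h - (Nat.gcdB a b) * e2 - (Nat.gcdA a b) * e1
    calc (ρ ^ Nat.gcdB a b * η ^ Nat.gcdA a b) ^ Nat.lcm a b
        = (ρ ^ a) ^ ((b' : ℤ) * Nat.gcdB a b) * (η ^ b) ^ ((a' : ℤ) * Nat.gcdA a b) := by
          rw [mul_pow, hl]
          congr 1
          · rw [← zpow_natCast, ← zpow_natCast ρ a, ← zpow_mul, ← zpow_mul]; congr 1; push_cast; ring
          · rw [hab, ← zpow_natCast, ← zpow_natCast η b, ← zpow_mul, ← zpow_mul]; congr 1; push_cast; ring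
      _ = c := by
          rw [show ρ ^ a = c from hρ, show η ^ b = c from hη, ← zpow_add₀ hc, hbez, zpow_one]

theorem exists_uniformizer_root {c : Ω} (hc : c ≠ 0) {r b : ℕ} (hcop : Nat.Coprime r b) {θ : Ω}
    (hθ : θ ^ r = c ^ b) : ∃ ρ : Ω, ρ ^ r = c := by
  rcases Nat.eq_zero_or_pos r with rfl | hr
  · rw [Nat.coprime_zero_left] at hcop
    subst hcop
    exact ⟨θ, by simpa using hθ⟩
  refine ⟨θ ^ Nat.gcdB r b * c ^ Nat.gcdA r b, ?_⟩
  have h := Nat.gcd_eq_gcd_ab r b
  rw [Nat.coprime_iff_gcd_eq_one.mp hcop] at h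
  rw [mul_pow, ← zpow_natCast, ← zpow_natCast (c ^ Nat.gcdA r b), ← zpow_mul, ← zpow_mul,
    mul_comm (Nat.gcdB r b) (r : ℤ), zpow_mul, zpow_natCast, hθ, ← zpow_natCast c b, ← zpow_mul, ← zpow_add₀ hc]
  conv_rhs => rw [← zpow_one c]
  congr 1
  push_cast at h
  linarith

variable [HenselianLocalRing O] [IsAlgClosed (ResidueField O)]

theorem finrank_splittingField_prod (p : ℕ) [Fact p.Prime] [CharP (ResidueField O) p]
    {ϖ : O} (hϖ : Irreducible ϖ) (m : ℕ) (r b : Fin m → ℕ) (v : Fin m → Oˣ)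
    (hr : ∀ i, 1 ≤ r i) (hrb : ∀ i, Nat.Coprime (r i) (b i)) (hp : ∑ i, r i < p) :
    Module.finrank K (∏ i, (X ^ (r i) - C (algebraMap O K ((v i : O) * ϖ ^ (b i))))).SplittingField =
      Finset.univ.lcm r := by
  classical
  set P := ∏ i, (X ^ (r i) - C (algebraMap O K ((v i : O) * ϖ ^ (b i)))) with hP
  let W := P.SplittingField
  let L := Finset.univ.lcm r
  let c : W := algebraMap K W (algebraMap O K ϖ)
  have hc : c ≠ 0 := by
    simp only [c, ne_eq, map_eq_zero, IsFractionRing.to_map_eq_zero_iff]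
    exact hϖ.ne_zero
  have hpr : ∀ i, ¬ p ∣ r i := fun i h => by
    have h1 : r i < p := (Finset.single_le_sum (fun j _ => Nat.zero_le (r j)) (Finset.mem_univ i)).trans_lt hp
    exact absurd (Nat.le_of_dvd (hr i) h) (not_le.mpr h1)
  have hLp : ¬ p ∣ L := fun h => by
    obtain ⟨i, -, hi⟩ := (Nat.Prime.prime Fact.out).exists_mem_finset_dvd (h.trans (Finset.lcm_dvd fun i hi => Finset.dvd_prod_of_mem r hi))
    exact hpr i hi
  have hL : 0 < L := by
    refine Nat.pos_of_ne_zero fun h => hLp ?_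
    rw [h]; exact dvd_zero p
  choose w hw using fun i => exists_root_unit (R := O) (isUnit_natCast (p := p) (hpr i)) (v i)
  have hsplit : (P.map (algebraMap K W)).Splits := SplittingField.splits P
  have hfne : ∀ i, (X ^ (r i) - C (algebraMap O K ((v i : O) * ϖ ^ (b i)))) ≠ 0 := fun i =>
    (monic_X_pow_sub_C _ (Nat.pos_iff_ne_zero.mp (hr i))).ne_zero
  have hmapP : P.map (algebraMap K W) ≠ 0 := (Polynomial.map_ne_zero_iff (algebraMap K W).injective).mpr
    (Finset.prod_ne_zero_iff.mpr fun i _ => hfne i)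
  have hroot : ∀ i, ∃ θ : W, θ ^ r i = algebraMap K W (algebraMap O K ((v i : O) * ϖ ^ b i)) := fun i => by
    have hs : ((X ^ (r i) - C (algebraMap O K ((v i : O) * ϖ ^ (b i)))).map (algebraMap K W)).Splits :=
      hsplit.of_dvd hmapP (Polynomial.map_dvd _ (Finset.dvd_prod_of_mem _ (Finset.mem_univ i)))
    obtain ⟨θ, hθ⟩ := hs.exists_eval_eq_zero (by
      rw [Polynomial.degree_map, degree_X_pow_sub_C (hr i)]
      exact_mod_cast (Nat.pos_iff_ne_zero.mp (hr i)))
    exact ⟨θ, by simpa [eval_map, eval₂_sub, sub_eq_zero] using hθ⟩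
  have hρ : ∀ i, ∃ ρ : W, ρ ^ r i = c := fun i => by
    obtain ⟨θ, hθ⟩ := hroot i
    refine exists_uniformizer_root hc (hrb i) (θ := θ * algebraMap K W (algebraMap O K ((w i)⁻¹ : Oˣ))) ?_
    rw [mul_pow, hθ, ← map_pow, ← map_pow, ← map_mul, ← map_mul, ← map_pow, ← map_pow]
    congr 2
    rw [← Units.val_pow_eq_pow_val, inv_pow, hw, mul_right_comm, Units.mul_inv, one_mul]
  obtain ⟨η, hη⟩ := exists_root_lcm hc Finset.univ r (fun i _ => hr i) (fun i _ => hρ i)
  have htop : (⊤ : IntermediateField K W) ≤ K⟮η⟯ := by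
    rw [← IntermediateField.toSubalgebra_le_toSubalgebra, IntermediateField.top_toSubalgebra,
      ← SplittingField.adjoin_rootSet P]
    refine Algebra.adjoin_le fun θ hθ => ?_
    rw [mem_rootSet] at hθ
    obtain ⟨i, -, hi⟩ := Finset.prod_eq_zero_iff.mp (by simpa [P, map_prod] using hθ.2 :
      ∏ i, (θ ^ r i - algebraMap K W (algebraMap O K ((v i : O) * ϖ ^ b i))) = 0)
    rw [sub_eq_zero] at hi
    obtain ⟨q, hq⟩ : r i ∣ L := Finset.dvd_lcm (Finset.mem_univ i)
    obtain ⟨ζ, hζ⟩ := exists_primitiveRoot (R := O) (isUnit_natCast (p := p) (hpr i)) (hr i)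
    refine mem_of_pow_eq (hr i) K⟮η⟯ (hζ.map_of_injective (IsFractionRing.injective O K))
      (τ := algebraMap K W (algebraMap O K (w i : O)) * (η ^ q) ^ b i)
      (mul_mem (K⟮η⟯.algebraMap_mem _) (pow_mem (pow_mem (mem_adjoin_simple_self K η) _) _)) ?_
    rw [hi, mul_pow, ← pow_mul, ← pow_mul, show q * (b i * r i) = L * b i by rw [hq]; ring, pow_mul, hη,
      ← map_pow, ← map_pow, ← Units.val_pow_eq_pow_val, hw]
    simp [c]
  show Module.finrank K W = L
  rw [← IntermediateField.finrank_top', show (⊤ : IntermediateField K W) = K⟮η⟯ from le_antisymm htop le_top]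
  exact finrank_adjoin_root hϖ hL hη

theorem eisenstein (p : ℕ) [Fact p.Prime] [CharP (ResidueField O) p]
    (f : O[X]) (hmon : f.Monic) (e : ℕ) (hdeg : f.natDegree = e) (he : 1 ≤ e) (hep : e < p)
    (hf : f.IsEisensteinAt (maximalIdeal O)) :
    Module.finrank K (f.map (algebraMap O K)).SplittingField = e ∧ IsCyclic (f.map (algebraMap O K)).Gal := by
  classical
  obtain ⟨ϖ, hϖ⟩ := IsDiscreteValuationRing.exists_irreducible O
  set F := f.map (algebraMap O K) with hF
  let W := F.SplittingField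
  have hpe : ¬ p ∣ e := fun h => absurd (Nat.le_of_dvd he h) (not_le.mpr hep)
  obtain ⟨ζ, hζ⟩ := exists_primitiveRoot (R := O) (isUnit_natCast (p := p) hpe) he
  have hζK := hζ.map_of_injective (IsFractionRing.injective O K)
  let c : W := algebraMap K W (algebraMap O K ϖ)
  -- the algebra generated by a root
  haveI : Module.Finite O (AdjoinRoot f) := hmon.finite_adjoinRoot
  have hϖdvd : ∀ i < e, ∃ d, f.coeff i = ϖ * d := fun i hi => by
    have h := hf.mem (hdeg ▸ hi)
    rw [hϖ.maximalIdeal_eq, Ideal.mem_span_singleton] at h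
    exact h
  choose! d hd using hϖdvd
  have hd0 : IsUnit (d 0) := by
    by_contra hnu
    refine hf.notMem ?_
    rw [hd 0 he, sq]
    exact Ideal.mul_mem_mul (by rw [hϖ.maximalIdeal_eq]; exact Ideal.mem_span_singleton_self ϖ) hnu
  let α := AdjoinRoot.root f
  let u : AdjoinRoot f := - ∑ i ∈ Finset.range e, algebraMap O (AdjoinRoot f) (d i) * α ^ i
  have hαe : α ^ e = algebraMap O (AdjoinRoot f) ϖ * u := by
    have h : aeval α f = 0 := by rw [AdjoinRoot.aeval_eq, AdjoinRoot.mk_self]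
    rw [aeval_eq_sum_range, hdeg, Finset.sum_range_succ, show f.coeff e = 1 from hdeg ▸ hmon, one_smul] at h
    rw [eq_neg_of_add_eq_zero_right h, mul_neg, Finset.mul_sum, neg_inj]
    refine Finset.sum_congr rfl fun i hi => ?_
    rw [Algebra.smul_def, hd i (Finset.mem_range.mp hi), map_mul, mul_assoc]
  have hcomap : ∀ M : Ideal (AdjoinRoot f), M.IsMaximal → M.comap (algebraMap O (AdjoinRoot f)) = maximalIdeal O ∧ α ∈ M := by
    intro M hM
    haveI := hM
    haveI := Ideal.isMaximal_comap_of_isIntegral_of_isMaximal (R := O) M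
    have h1 := IsLocalRing.eq_maximalIdeal (Ideal.isMaximal_comap_of_isIntegral_of_isMaximal (R := O) M)
    refine ⟨h1, hM.isPrime.mem_of_pow_mem e ?_⟩
    rw [hαe]
    refine M.mul_mem_right _ (?_ : ϖ ∈ M.comap (algebraMap O (AdjoinRoot f)))
    rw [h1, hϖ.maximalIdeal_eq]
    exact Ideal.mem_span_singleton_self ϖ
  haveI : Nontrivial (AdjoinRoot f) := AdjoinRoot.nontrivial f (by
    rw [degree_eq_natDegree hmon.ne_zero, hdeg]; exact_mod_cast (Nat.pos_iff_ne_zero.mp he))
  haveI : IsLocalRing (AdjoinRoot f) := by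
    have : ∀ M N : Ideal (AdjoinRoot f), M.IsMaximal → N.IsMaximal → M = N := by
      intro M N hM hN
      refine hM.eq_of_le hN.ne_top fun z hz => ?_
      obtain ⟨q, rfl⟩ := AdjoinRoot.mk_surjective z
      rw [← X_mul_divX_add q, map_add, map_mul] at hz ⊢
      have hM' : AdjoinRoot.mk f X * AdjoinRoot.mk f q.divX ∈ M := M.mul_mem_right _ (hcomap M hM).2
      have h2 : AdjoinRoot.mk f (C (q.coeff 0)) ∈ M := (M.add_mem_iff_right hM').mp hz
      refine N.add_mem (N.mul_mem_right _ (hcomap N hN).2) ?_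
      have h3 : q.coeff 0 ∈ M.comap (algebraMap O (AdjoinRoot f)) := h2
      rw [(hcomap M hM).1, ← (hcomap N hN).1] at h3
      exact h3
    obtain ⟨M, hM⟩ := Ideal.exists_maximal (AdjoinRoot f)
    exact IsLocalRing.of_unique_max_ideal ⟨M, hM, fun N hN => this N M hN hM⟩
  haveI : HenselianLocalRing (AdjoinRoot f) := Groth.Agent.S0505.result O (AdjoinRoot f)
  -- an `e`-th root of the unit
  obtain ⟨z, hz⟩ := IsAlgClosed.exists_pow_nat_eq (residue O (- d 0)) he
  obtain ⟨w₀, rfl⟩ := residue_surjective z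
  have hw₀ : IsUnit w₀ := (residue_ne_zero_iff_isUnit _).mp fun h0 => by
    rw [h0, zero_pow (Nat.pos_iff_ne_zero.mp he)] at hz
    exact (residue_ne_zero_iff_isUnit _).mpr hd0.neg hz.symm
  obtain ⟨-, hαmem⟩ := hcomap _ (maximalIdeal.isMaximal (AdjoinRoot f))
  have hmap : ∀ a ∈ maximalIdeal O, algebraMap O (AdjoinRoot f) a ∈ maximalIdeal (AdjoinRoot f) := fun a ha => by
    rw [← (hcomap _ (maximalIdeal.isMaximal (AdjoinRoot f))).1] at ha
    exact ha
  have happrox : (algebraMap O (AdjoinRoot f) w₀) ^ e - u ∈ maximalIdeal (AdjoinRoot f) := by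
    obtain ⟨e', rfl⟩ : ∃ e', e = e' + 1 := ⟨e - 1, by omega⟩
    simp only [u, Finset.sum_range_succ', pow_zero, mul_one, sub_neg_eq_add]
    rw [add_comm (∑ i ∈ Finset.range e', _) (algebraMap O (AdjoinRoot f) (d 0)), ← add_assoc, ← map_pow, ← map_add]
    refine Ideal.add_mem _ (hmap _ ((residue_eq_zero_iff _).mp (by rw [map_add, map_pow, hz, map_neg, neg_add_cancel]))) ?_
    exact Ideal.sum_mem _ fun i _ => Ideal.mul_mem_left _ _ (Ideal.pow_mem_of_mem _ hαmem _ (Nat.succ_pos i))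
  obtain ⟨w, hwe, hww⟩ := exists_root_of_residue
    (by rw [← map_natCast (algebraMap O (AdjoinRoot f))]; exact (isUnit_natCast (p := p) hpe).map _)
    (hw₀.map (algebraMap O (AdjoinRoot f))) happrox
  have hwu : IsUnit w := by
    by_contra hnu
    have h := Ideal.sub_mem (maximalIdeal (AdjoinRoot f)) hnu hww
    rw [sub_sub_cancel] at h
    exact (mem_maximalIdeal _).mp h (hw₀.map (algebraMap O (AdjoinRoot f)))
  -- every root gives a root of the uniformizer
  have key : ∀ β : W, aeval β F = 0 → ∃ η : W, η ^ e = c ∧ η ∈ K⟮β⟯ := by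
    intro β hβ
    have hβ' : f.eval₂ (algebraMap O W) β = 0 := by
      have hβ2 : aeval β (f.map (algebraMap O K)) = 0 := hβ
      rw [aeval_map_algebraMap] at hβ2
      exact hβ2
    let ψ : AdjoinRoot f →+* W := AdjoinRoot.lift (algebraMap O W) β hβ'
    refine ⟨β * ψ (↑hwu.unit⁻¹), ?_, mul_mem (mem_adjoin_simple_self K β) ?_⟩
    · have h1 : ψ (α ^ e) * ψ (↑hwu.unit⁻¹) ^ e = c := by
        rw [← map_pow, ← map_mul, hαe, ← hwe, mul_assoc, ← mul_pow, IsUnit.mul_val_inv, one_pow, mul_one]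
        exact AdjoinRoot.lift_of _
      rw [map_pow, show ψ α = β from AdjoinRoot.lift_root _] at h1
      rw [mul_pow]; exact h1
    · obtain ⟨q, hq⟩ := AdjoinRoot.mk_surjective (↑hwu.unit⁻¹ : AdjoinRoot f)
      rw [← hq, show ψ (AdjoinRoot.mk f q) = q.eval₂ (algebraMap O W) β from AdjoinRoot.lift_mk _ _, eval₂_eq_sum_range]
      exact sum_mem fun i _ => mul_mem (by rw [IsScalarTower.algebraMap_apply O K W]; exact K⟮β⟯.algebraMap_mem _)
        (pow_mem (mem_adjoin_simple_self K β) i)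
  have hdegF : F.natDegree = e := by rw [hF, hmon.natDegree_map, hdeg]
  obtain ⟨β, hβ⟩ := (SplittingField.splits F).exists_eval_eq_zero (by
    rw [Polynomial.degree_map, degree_eq_natDegree (hmon.map _).ne_zero, hdegF]
    exact_mod_cast Nat.pos_iff_ne_zero.mp he)
  rw [eval_map_algebraMap] at hβ
  obtain ⟨η, hη, -⟩ := key β hβ
  have hηdeg := finrank_adjoin_root (K := K) hϖ he hη
  have htop : (⊤ : IntermediateField K W) ≤ K⟮η⟯ := by
    rw [← IntermediateField.toSubalgebra_le_toSubalgebra, IntermediateField.top_toSubalgebra,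
      ← SplittingField.adjoin_rootSet F]
    refine Algebra.adjoin_le fun θ hθ => ?_
    rw [mem_rootSet] at hθ
    obtain ⟨η', hη', hmem⟩ := key θ hθ.2
    have hint : IsIntegral K θ := ⟨F, hmon.map _, hθ.2⟩
    haveI : FiniteDimensional K K⟮θ⟯ := IntermediateField.adjoin.finiteDimensional hint
    have hle : K⟮η'⟯ ≤ K⟮θ⟯ := adjoin_simple_le_iff.mpr hmem
    have heq : K⟮η'⟯ = K⟮θ⟯ := by
      refine IntermediateField.eq_of_le_of_finrank_le hle ?_
      rw [finrank_adjoin_root hϖ he hη', IntermediateField.adjoin.finrank hint]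
      exact (natDegree_le_of_dvd (minpoly.dvd K θ hθ.2) (hmon.map _).ne_zero).trans hdegF.le
    have h2 : θ ∈ K⟮η'⟯ := heq ▸ mem_adjoin_simple_self K θ
    exact adjoin_simple_le_iff.mpr (mem_of_pow_eq he K⟮η⟯ hζK (mem_adjoin_simple_self K η) (hη'.trans hη.symm)) h2
  have htop' : (⊤ : IntermediateField K W) = K⟮η⟯ := le_antisymm htop le_top
  refine ⟨?_, ?_⟩
  · show Module.finrank K W = e
    rw [← IntermediateField.finrank_top', htop']
    exact hηdeg
  -- the Galois group embeds into the roots of unity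
  have hη0 : η ≠ 0 := fun h => by
    rw [h, zero_pow (Nat.pos_iff_ne_zero.mp he)] at hη
    exact hϖ.ne_zero (IsFractionRing.to_map_eq_zero_iff.mp ((map_eq_zero (algebraMap K W)).mp hη.symm))
  have hfix : ∀ σ : W ≃ₐ[K] W, ∃ z : K, σ η = algebraMap K W z * η := fun σ => by
    haveI : NeZero e := ⟨Nat.pos_iff_ne_zero.mp he⟩
    obtain ⟨i, -, hi⟩ := (hζK.map_of_injective (algebraMap K W).injective).eq_pow_of_pow_eq_one
      (ξ := σ η / η) (by rw [div_pow, ← map_pow, hη, σ.commutes, div_self (by have h5 := pow_ne_zero e hη0; rw [hη] at h5; exact h5)])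
    exact ⟨_, by rw [map_pow, hi, div_mul_cancel₀ _ hη0]⟩
  choose z hz using hfix
  let χ : (W ≃ₐ[K] W) →* K :=
    { toFun := z
      map_one' := (algebraMap K W).injective (mul_right_cancel₀ hη0 (by rw [← hz, map_one, one_mul]; rfl))
      map_mul' := fun σ τ => (algebraMap K W).injective (mul_right_cancel₀ hη0 (by
        rw [← hz, map_mul]
        show σ (τ η) = _
        rw [hz τ, map_mul, σ.commutes, hz σ]
        ring)) }
  have hext : ∀ x : W, x ∈ K⟮η⟯ := fun x => htop' ▸ IntermediateField.mem_top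
  refine isCyclic_of_subgroup_isDomain (G := W ≃ₐ[K] W) χ fun σ τ h => ?_
  have hστ : σ η = τ η := by rw [hz, hz]; exact congrArg (fun t => algebraMap K W t * η) h
  refine AlgEquiv.ext fun x => ?_
  induction hext x using IntermediateField.adjoin_induction with
  | mem y hy => rw [Set.mem_singleton_iff] at hy; rw [hy]; exact hστ
  | algebraMap a => rw [σ.commutes, τ.commutes]
  | add y y' _ _ h1 h2 => rw [map_add, map_add, h1, h2]
  | inv y _ h1 => rw [map_inv₀, map_inv₀, h1]
  | mul y y' _ _ h1 h2 => rw [map_mul, map_mul, h1, h2]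

end Groth.Agent.H3CAlg.TameKummer
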