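import Groth.Agent.H3CAlg.TildeKoszul

/-!
# `d`-regularity of a graded module against that of its sheaf
-/

set_option autoImplicit false
set_option linter.style.haveILetI false

noncomputable section

universe u

open CategoryTheory CategoryTheory.Limits AlgebraicGeometry TopologicalSpace Opposite
open Groth.Agent.H11Tilde Groth.Agent.H3CAlg.TildeMap Groth.Agent.H3CAlg.Syz GrMod
open Groth.Agent.H10Coh Groth.Agent.H3CAlg.KC Groth.Agent.H3CAlg.TildeSES Groth.Agent.H3CAlg.TildeKoszul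

namespace Groth.Agent.H3CAlg.TildeDReg

attribute [local instance 10000] hasSheafifyAb hasWeakSheafifyAb hasExtAb enoughInjAb

variable {k : Type u} [Field k] {r : ℕ}

local notation "A[" k ", " r "]" => MvPolynomial (Fin (r + 1)) k

variable {M : Type u} [AddCommGroup M] [Module k M] [Module A[k, r] M]
  {ℳ : ℤ → Submodule k M} [DirectSum.Decomposition ℳ] [SetLike.GradedSMul (GrSyz.stdGr k (Fin (r + 1))) ℳ]

theorem sep_piece (a : A[k, r]) (e : ℤ) (m : M) (hm : m ∈ ℳ e) (ham : a • m = 0) (j : ℕ) :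
    (DirectSum.decompose (CohB1.polyGrading r k) a j : A[k, r]) • m = 0 := by
  have h := P_smul (GrSyz.stdGr k (Fin (r + 1))) ℳ hm a ((j : ℤ) + e)
  rw [ham, map_zero, add_sub_cancel_right, TildeReg.P_decompose] at h
  exact h.symm

instance good_modBC : Good (modBC (r := r) ℳ) where
  smul i a ha n e z hz := by
    obtain ⟨h0, hne⟩ := mem_ofMod.1 hz
    refine mem_ofMod.2 ⟨fun hn => ?_, fun hn => ?_⟩
    · have ha' : a ∈ GrSyz.stdGr k (Fin (r + 1)) (i : ℤ) := by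
        rw [← TildeReg.polyGr_eq]; exact ha
      have h : a • z ∈ ℳ ((i : ℤ) + e) := SetLike.GradedSMul.smul_mem (B := ℳ) ha' (h0 hn)
      rw [add_comm (i : ℤ) e] at h
      exact h
    · rw [hne hn, smul_zero]
  sep a n e z hz haz j := by
    obtain ⟨h0, hne⟩ := mem_ofMod.1 hz
    rcases eq_or_ne n 0 with hn | hn
    · exact sep_piece a e z (h0 hn) haz j
    · rw [hne hn, smul_zero]

instance gradedSMul_PB_modBC (n : ℤ) :
    SetLike.GradedSMul (CohB1.polyGrading r k) (show ℕ → AddSubgroup M from PB (modBC (r := r) ℳ) n) :=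
  gradedSMul_PB (modBC (r := r) ℳ) n

theorem bot_modBC {n : ℤ} (hn : n ≠ 0) : Bot (modBC (r := r) ℳ) n := fun _ _ hz => (mem_ofMod.1 hz).2 hn

/-- The Koszul complex of `M`. -/
abbrev K (ℳ : ℤ → Submodule k M) [SetLike.GradedSMul (GrSyz.stdGr k (Fin (r + 1))) ℳ] :
    BC A[k, r] (Lv k r) := coneL (vars k r) (modBC (r := r) ℳ)

theorem bot_K {n : ℤ} (hn : n < 0 ∨ ((r + 1 : ℕ) : ℤ) < n) : Bot (K (r := r) ℳ) n := by
  refine bot_coneL (vars k r) _ 0 (fun m hm => bot_modBC (by omega)) n ?_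
  rw [length_vars]
  omega

variable [SetLike.GradedSMul (CohB1.polyGrading r k) (fun n : ℕ => ℳ (n : ℤ))]

variable (r) in
/-- The sheaf `M(g)~`. -/
abbrev Mt (ℳ : ℤ → Submodule k M) [SetLike.GradedSMul (CohB1.polyGrading r k) (fun n : ℕ => ℳ (n : ℤ))] (g : ℤ) :
    (Proj (Pn.Gr r k)).Modules :=
  GrMod.tilde (CohB1.polyGrading r k) (fun n : ℕ => ℳ (n : ℤ)) g

theorem isDeg_to (g : ℤ) :
    IsDeg (fun n : ℕ => ℳ (n : ℤ)) (PB (modBC (r := r) ℳ) 0) (LinearMap.id : M →ₗ[A[k, r]] M) g g :=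
  fun i _ z hz hd => Or.inr ⟨i, mem_ofMod.2 ⟨fun _ => by simpa using hz, fun h => absurd rfl h⟩, hd⟩

theorem isDeg_from (g : ℤ) :
    IsDeg (PB (modBC (r := r) ℳ) 0) (fun n : ℕ => ℳ (n : ℤ)) (LinearMap.id : M →ₗ[A[k, r]] M) g g :=
  fun i _ z hz hd => Or.inr ⟨i, by simpa using (mem_ofMod.1 hz).1 rfl, hd⟩

theorem retr_modBC (g : ℤ) : Retr (Mt r ℳ g) (Sh (modBC (r := r) ℳ) 0 g) :=
  ⟨tmap _ (isDeg_to g), tmap _ (isDeg_from g), TildeMap.hom_ext _ fun U s x =>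
    (congrArg (locMap (CohB1.polyGrading r k) x.1 (LinearMap.id : M →ₗ[A[k, r]] M))
      (locMap_id (CohB1.polyGrading r k) x.1 (sval (CohB1.polyGrading r k) (fun n : ℕ => ℳ (n : ℤ)) s x))).trans
      (locMap_id (CohB1.polyGrading r k) x.1 _)⟩

theorem retr_modBC' (g : ℤ) : Retr (Sh (modBC (r := r) ℳ) 0 g) (Mt r ℳ g) :=
  ⟨tmap _ (isDeg_from g), tmap _ (isDeg_to g), TildeMap.hom_ext _ fun U s x =>
    (congrArg (locMap (CohB1.polyGrading r k) x.1 (LinearMap.id : M →ₗ[A[k, r]] M))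
      (locMap_id (CohB1.polyGrading r k) x.1 (sval (CohB1.polyGrading r k) (PB (modBC (r := r) ℳ) 0) s x))).trans
      (locMap_id (CohB1.polyGrading r k) x.1 _)⟩

variable (r) in
/-- Higher cohomology vanishes on the line `g + q = D`. -/
def Van (ℳ : ℤ → Submodule k M) [SetLike.GradedSMul (CohB1.polyGrading r k) (fun n : ℕ => ℳ (n : ℤ))]
    (D : ℤ) : Prop :=
  ∀ (g : ℤ) (q : ℕ), 1 ≤ q → g + q = D → Subsingleton (HnM (Mt r ℳ g) q ⊤)

theorem acyc_K {D : ℤ} (h : Van r ℳ D) : Acyc (K (r := r) ℳ) fun g q => 1 ≤ q ∧ g + q = D := by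
  refine acyc_coneL (vars k r) _ fun n g q hq => ?_
  rcases eq_or_ne n 0 with rfl | hn
  · exact (retr_modBC' g).subsingleton (h g q hq.1 hq.2)
  · exact subsingleton_of_id_eq_zero ((bot_modBC hn).id_eq_zero g) q ⊤

/-- Regularity propagates upwards. -/
theorem van_succ {D : ℤ} (h : Van r ℳ D) : Van r ℳ (D + 1) := by
  intro g q hq hg
  refine ((retr_modBC g).trans (retr_coneL (vars k r) _ 0 g)).subsingleton ?_
  let N : ℤ := 0 + ((vars k r).length : ℤ)
  have htop : Bot (K (r := r) ℳ) (N + 1) := bot_K (Or.inr (by simp only [N, length_vars]; omega))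
  let f := Dd (K (r := r) ℳ) (n := N) (n' := N + 1) rfl (g := g) (g' := g + 1) rfl
  haveI := isIso_kernel_ι f (htop.id_eq_zero (g + 1))
  exact Tw.subsingleton_of_iso (asIso (kernel.ι f))
    (subsingleton_cycles (allNull_coneL _) (fun n hn => bot_K (Or.inl hn)) (acyc_K h) (r + 2) N (N + 1) g (g + 1)
      rfl rfl q (by simp only [N, length_vars]; push_cast; omega) hq (by omega))

theorem van_of_le {D : ℤ} (h : Van r ℳ D) {D' : ℤ} (hD : D ≤ D') : Van r ℳ D' := by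
  obtain ⟨t, rfl⟩ := Int.le.dest hD
  induction t with
  | zero => simpa using h
  | succ t ih =>
    rw [Nat.cast_succ, ← add_assoc]
    exact van_succ (ih (by omega))

theorem isQCoh_Mt [Module.Finite A[k, r] M] [IsScalarTower k A[k, r] M] (g : ℤ) :
    Coh.IsQCoh (Mt r ℳ g) := by
  obtain ⟨F, -⟩ := exists_minimal_res (r := r) ℳ
  obtain ⟨e⟩ : Nonempty (CohB1.tensorMod (Mt r ℳ 0) (Pn.Od r k g) ≅ Mt r ℳ g) :=
    nonempty_tilde_tensor_iso (Pn.Gr r k) (fun n : ℕ => ℳ (n : ℤ)) (zero_add g).symm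
      (cover_of_degOne (Pn.Gr r k) TildeReg.h1 g)
  haveI : (CohB1.tensorMod (Mt r ℳ 0) (Pn.Od r k g)).IsQuasicoherent :=
    H11Ample.isQCoh_tensor (TildeReg.isQCoh_tilde F) (TildeReg.isInvertible_Od g)
  exact isQuasicoherent_of_iso e

theorem van_of_isMRegular [Module.Finite A[k, r] M] [IsScalarTower k A[k, r] M] {d : ℤ}
    (h : Curv2.IsMRegular k r (GrTilde.tilde (CohB1.polyGrading r k) (fun n : ℕ => ℳ (n : ℤ)) 0) d) :
    Van r ℳ d := by
  intro g q hq hg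
  rcases le_or_gt q r with hqr | hqr
  · obtain ⟨e⟩ : Nonempty (CohB1.tensorMod (Mt r ℳ 0) (Pn.Od r k g) ≅ Mt r ℳ g) :=
      nonempty_tilde_tensor_iso (Pn.Gr r k) (fun n : ℕ => ℳ (n : ℤ)) (zero_add g).symm
        (cover_of_degOne (Pn.Gr r k) TildeReg.h1 g)
    refine Tw.subsingleton_of_iso e ?_
    have h' := h q hq hqr
    rw [show d - (q : ℤ) = g by omega] at h'
    exact @Equiv.subsingleton _ _ (HHEquiv _ q).toEquiv.symm h'
  · haveI : (Mt r ℳ g).IsQuasicoherent := isQCoh_Mt g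
    exact Pn.subsingleton_HnM_proj _ hqr

variable (r) in
/-- Every global section of `M(i)~` comes from `M_i`. -/
def Surj (ℳ : ℤ → Submodule k M) [SetLike.GradedSMul (CohB1.polyGrading r k) (fun n : ℕ => ℳ (n : ℤ))]
    (i : ℕ) : Prop :=
  ∀ σ : Γ(Mt r ℳ (i : ℤ), (⊤ : (Proj (Pn.Gr r k)).Opens)), ∃ z ∈ ℳ (i : ℤ), ∀ x,
    sval (CohB1.polyGrading r k) (fun n : ℕ => ℳ (n : ℤ)) σ x =
      fracAt (CohB1.polyGrading r k) x.1 z 1 (GrMod.one_nin x.1)

theorem surjB_modBC {i : ℕ} (h : Surj r ℳ i) (n : ℤ) : SurjB (modBC (r := r) ℳ) n (i : ℤ) i := by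
  rcases eq_or_ne n 0 with rfl | hn
  · intro σ
    obtain ⟨z, hz, hσ⟩ := h ((tmap (CohB1.polyGrading r k) (isDeg_from (i : ℤ))).app ⊤ σ)
    exact ⟨z, mem_ofMod.2 ⟨fun _ => by simpa using hz, fun h => absurd rfl h⟩, fun x =>
      (locMap_id (CohB1.polyGrading r k) x.1 _).symm.trans (hσ x)⟩
  · exact (bot_modBC hn).surjB _ _

theorem surj_of_surjB {i : ℕ} (h : SurjB (modBC (r := r) ℳ) 0 (i : ℤ) i) : Surj r ℳ i := by
  intro σ
  obtain ⟨z, hz, hσ⟩ := h ((tmap (CohB1.polyGrading r k) (isDeg_to (i : ℤ))).app ⊤ σ)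
  exact ⟨z, by simpa using (mem_ofMod.1 hz).1 rfl, fun x =>
    (locMap_id (CohB1.polyGrading r k) x.1 _).symm.trans (hσ x)⟩

theorem surj_succ {i : ℕ} (hV : Van r ℳ (i : ℤ)) (h : Surj r ℳ i) : Surj r ℳ (i + 1) := by
  refine surj_of_surjB (surjB_of_coneL (vars k r) _ 0 _ _ ?_)
  exact surjB_top (allNull_coneL _) (fun n hn => bot_K (Or.inl hn))
    (bot_K (Or.inr (by rw [length_vars]; omega))) (acyc_K hV) (surjB_coneL _ _ _ _ (surjB_modBC h) _)

variable (r) in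
/-- Elements above degree `d` are determined by their sections. -/
def Inj (ℳ : ℤ → Submodule k M) [SetLike.GradedSMul (CohB1.polyGrading r k) (fun n : ℕ => ℳ (n : ℤ))]
    (i : ℕ) : Prop :=
  ∀ z ∈ ℳ (i : ℤ), (∀ x : ProjectiveSpectrum (CohB1.polyGrading r k),
    fracAt (CohB1.polyGrading r k) x z 1 (GrMod.one_nin x) = 0) → z = 0

theorem exists_pow_smul_eq_zero' {e : ℕ} (he : 0 < e) {g : A[k, r]} (hg : g ∈ CohB1.polyGrading r k e)
    {i : ℤ} {m : M} (hm : m ∈ ℳ i)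
    (h : ∀ x : ProjectiveSpectrum (CohB1.polyGrading r k), g ∉ x.asHomogeneousIdeal →
      ∃ t, t ∉ x.asHomogeneousIdeal ∧ t • m = 0) :
    ∃ N : ℕ, g ^ N • m = 0 := by
  classical
  let J : Ideal A[k, r] := LinearMap.ker (LinearMap.toSpanSingleton A[k, r] M m)
  have hJ : J.IsHomogeneous (CohB1.polyGrading r k) := fun j a ha => by
    simp only [J, LinearMap.mem_ker, LinearMap.toSpanSingleton_apply] at ha ⊢
    exact sep_piece a i m hm ha j
  have hgJ : g ∈ J.radical := by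
    rw [hJ.radical_eq, Submodule.mem_sInf]
    rintro Q ⟨hP, hJP, hPp⟩
    by_contra hgP
    let x : ProjectiveSpectrum (CohB1.polyGrading r k) := ⟨⟨Q, hP⟩, hPp, fun hle => hgP (hle (by
      change g ∈ (HomogeneousIdeal.irrelevant (CohB1.polyGrading r k)).toIdeal
      exact HomogeneousIdeal.mem_irrelevant_of_mem (CohB1.polyGrading r k) he hg))⟩
    obtain ⟨t, ht, htm⟩ := h x hgP
    exact ht (hJP (by simpa [J] using htm))
  obtain ⟨N, hN⟩ := hgJ
  exact ⟨N, by simpa [J] using hN⟩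

theorem inj_of_hcomp (E : GrLC.StarInjRes (GrSyz.stdGr k (Fin (r + 1))) ℳ) {i : ℕ}
    (h : E.Hcomp (GrSyz.irrel (GrSyz.stdGr k (Fin (r + 1)))) 0 (i : ℤ) = ⊥) : Inj r ℳ i := fun z hz h0 =>
  eps_zero_of_hcomp E h hz fun v => exists_pow_smul_eq_zero' Nat.one_pos (H11Ample.X_mem v) hz fun x _ =>
    (fracAt_eq_zero_iff (CohB1.polyGrading r k) x z 1 _).1 (h0 x)

theorem injB_modBC {i : ℕ} (h : Inj r ℳ i) (n : ℤ) : InjB (modBC (r := r) ℳ) n i := by
  rcases eq_or_ne n 0 with rfl | hn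
  · exact fun z hz h0 => h z (by simpa using (mem_ofMod.1 hz).1 rfl) h0
  · exact (bot_modBC hn).injB _

/-- A regular sheaf with the right sections comes from a regular module. -/
theorem kle_of_sheaf {d : ℕ} (hV : Van r ℳ (d : ℤ)) (hI : ∀ i : ℕ, d < i → Inj r ℳ i) (hS : Surj r ℳ d) :
    KLE (r := r) ℳ (d : ℤ) := by
  have hS' : ∀ t : ℕ, Surj r ℳ (d + t) := fun t => by
    induction t with
    | zero => exact hS
    | succ t ih => exact surj_succ (van_of_le hV (Int.ofNat_le.2 (Nat.le_add_right d t))) ih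
  intro n e hne
  obtain ⟨t, ht⟩ : ∃ t : ℕ, ((d + t : ℕ) : ℤ) + 1 = e + n := ⟨(e + n - 1 - d).toNat, by omega⟩
  exact ex_of_sheaf (allNull_coneL _) (fun m hm => bot_K (Or.inl hm)) ht
    (acyc_K (van_of_le hV (by omega))) (injB_coneL _ _ _ (injB_modBC (hI _ (by omega))) _)
    (surjB_coneL _ _ _ _ (surjB_modBC (hS' t)) _)

end Groth.Agent.H3CAlg.TildeDReg
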