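import Groth.Agent.H3CAlg.TildeReg

/-!
# The sheaf of a module of regularity at most `d` is `d`-regular
-/

set_option autoImplicit false
set_option linter.style.haveILetI false

noncomputable section

universe u

open CategoryTheory CategoryTheory.Limits AlgebraicGeometry TopologicalSpace Opposite
open Groth.Agent.H11Tilde Groth.Agent.H3CAlg.TildeMap Groth.Agent.H3CAlg.Syz GrMod
open Groth.Agent.H10Coh

namespace Groth.Agent.H3CAlg.TildeReg

attribute [local instance 10000] hasSheafifyAb hasWeakSheafifyAb hasExtAb enoughInjAb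

variable {k : Type u} [Field k] {r : ℕ}


theorem P_decompose (a : S k r) (j : ℕ) :
    P (GrSyz.stdGr k (Fin (r + 1))) (j : ℤ) a = (DirectSum.decompose (CohB1.polyGrading r k) a j : S k r) := by
  classical
  conv_lhs => rw [← DirectSum.sum_support_decompose (CohB1.polyGrading r k) a, map_sum]
  have hl : ∀ l : ℕ, (DirectSum.decompose (CohB1.polyGrading r k) a l : S k r) ∈ (GrSyz.stdGr k (Fin (r + 1))) (l : ℤ) := fun l => by
    rw [← polyGr_eq]; exact (DirectSum.decompose (CohB1.polyGrading r k) a l).2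
  rw [Finset.sum_eq_single j]
  · rw [P_of_mem (GrSyz.stdGr k (Fin (r + 1))) (hl j), if_pos rfl]
  · intro l _ hne
    rw [P_of_mem (GrSyz.stdGr k (Fin (r + 1))) (hl l), if_neg (by exact_mod_cast hne)]
  · intro h
    rw [DFinsupp.notMem_support_iff] at h
    rw [h, ZeroMemClass.coe_zero, map_zero]

theorem sepComp_FP {m : ℕ} (deg : Fin m → ℤ) : SepComp (A := S k r) (CohB1.polyGrading r k) (FP k r deg) := by
  intro a i v _ hav j
  by_cases hv : v = 0
  · rw [hv, smul_zero]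
  obtain ⟨b, hb⟩ := Function.ne_iff.1 hv
  have ha : a = 0 := (mul_eq_zero.1 (congrFun hav b)).resolve_right hb
  rw [ha, DirectSum.decompose_zero, DirectSum.zero_apply, ZeroMemClass.coe_zero, zero_smul]

variable {M : Type u} [AddCommGroup M] [Module k M] [Module (S k r) M]
  {ℳ : ℤ → Submodule k M} [DirectSum.Decomposition ℳ] [SetLike.GradedSMul (GrSyz.stdGr k (Fin (r + 1))) ℳ]

theorem sepComp_nat : SepComp (A := S k r) (CohB1.polyGrading r k) (fun n : ℕ => ℳ (n : ℤ)) := by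
  intro a i m hm ham j
  have h := P_smul (GrSyz.stdGr k (Fin (r + 1))) ℳ (e := (i : ℤ)) hm a (j + i : ℤ)
  rw [ham, map_zero, add_sub_cancel_right, P_decompose] at h
  exact h.symm

variable (F : GrSyz.FreeRes (GrSyz.stdGr k (Fin (r + 1))) ℳ)

theorem dLin_pres (i j : ℕ) (v : Fin (F.rk (i + 1)) → S k r) (hv : v ∈ FP k r (F.deg (i + 1)) j) :
    F.dLin i v ∈ FP k r (F.deg i) j := by
  refine mem_FP.2 ((vcmp_eq_self_iff (GrSyz.stdGr k (Fin (r + 1))) (F.deg i)).1 ?_)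
  rw [dLin_homog F i (j : ℤ) v, vcmp_eq_self_of_mem (GrSyz.stdGr k (Fin (r + 1))) (F.deg (i + 1)) (mem_FP.1 hv)]

theorem augLin_pres (j : ℕ) (v : Fin (F.rk 0) → S k r) (hv : v ∈ FP k r (F.deg 0) j) :
    F.augLin v ∈ ℳ (j : ℤ) := by
  change Fintype.linearCombination _ F.aug v ∈ ℳ (j : ℤ)
  rw [Fintype.linearCombination_apply]
  refine sum_mem fun b _ => ?_
  have h := SetLike.GradedSMul.smul_mem (mem_FP.1 hv b) (F.aug_mem b)
  rwa [vadd_eq_add, sub_add_cancel] at h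

/-- The sheaf of the `i`-th free module. -/
abbrev T (i : ℕ) : (Proj (Pn.Gr r k)).Modules := GrMod.tilde (CohB1.polyGrading r k) (FP k r (F.deg i)) 0

/-- The differential on sheaves. -/
abbrev D (i : ℕ) : T F (i + 1) ⟶ T F i := tmap (CohB1.polyGrading r k) (pres_isDeg (dLin_pres F i) 0)

theorem D_comp (i : ℕ) : D F (i + 1) ≫ D F i = 0 := by
  have e : (F.dLin i).comp (F.dLin (i + 1)) = 0 :=
    LinearMap.range_le_ker_iff.1 (le_of_eq (F.exact_succ i).symm)
  have hz : IsDeg (FP k r (F.deg (i + 1 + 1))) (FP k r (F.deg i))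
      (0 : (Fin (F.rk (i + 1 + 1)) → S k r) →ₗ[S k r] (Fin (F.rk i) → S k r)) 0 0 :=
    fun _ _ _ _ _ => Or.inl rfl
  have hc : IsDeg (FP k r (F.deg (i + 1 + 1))) (FP k r (F.deg i)) ((F.dLin i).comp (F.dLin (i + 1))) 0 0 := by
    rw [e]; exact hz
  exact ((tmap_comp _ _ _ hc).trans (tmap_congr _ e hc hz)).trans (tmap_zero _ hz)

theorem D_exact (i : ℕ) : (ShortComplex.mk _ _ (D_comp F i)).Exact := by
  refine exact_tmap (CohB1.polyGrading r k) _ _ (sepComp_FP _) (fun l j y hy hl hyz => Or.inr ?_) _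
  obtain ⟨v, hv⟩ : y ∈ LinearMap.range (F.dLin (i + 1)) := by
    rw [← F.exact_succ i]; exact hyz
  refine ⟨l, vcmp (GrSyz.stdGr k (Fin (r + 1))) (F.deg (i + 1 + 1)) (l : ℤ) v, mem_FP.2 fun b => P_mem (GrSyz.stdGr k (Fin (r + 1))) _ _, hl, ?_⟩
  rw [← dLin_homog F (i + 1) (l : ℤ) v, hv, vcmp_eq_self_of_mem (GrSyz.stdGr k (Fin (r + 1))) _ (mem_FP.1 hy)]

set_option maxHeartbeats 800000 in
/-- `H^p` of a syzygy sheaf vanishes in the twist `d - q`, `p = q + i`. -/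
theorem key {d : ℤ} (hF : F.IsGenLE d) (j : ℕ) :
    ∀ (i : ℕ) (G : (Proj (Pn.Gr r k)).Modules) (ψ : T F i ⟶ G), Epi ψ → Coh.IsQCoh G →
      ∀ w : D F i ≫ ψ = 0, (ShortComplex.mk _ _ w).Exact → ∀ q : ℕ, 1 ≤ q → r + 1 ≤ q + i + j →
        Subsingleton (HnM (CohB1.tensorMod G (Pn.Od r k (d - q))) (q + i) ⊤) := by
  induction j with
  | zero =>
    intro i G ψ _ hG _ _ q _ hle
    haveI : (CohB1.tensorMod G (Pn.Od r k (d - q))).IsQuasicoherent :=
      H11Ample.isQCoh_tensor hG (isInvertible_Od _)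
    exact Pn.subsingleton_HnM_proj _ (by omega)
  | succ j ih =>
    intro i G ψ hψ hG w hex q hq hle
    haveI := hψ
    have hK : Coh.IsQCoh (kernel ψ) := H7Lim.ModExact.isQCoh_kernel ψ (isQCoh_free (F.deg i)) hG
    haveI hepi : Epi (kernel.lift ψ (D F i) w) := (H7Lim.ModExact.exact_iff_epi_lift _ _ w).1 hex
    have w' : D F (i + 1) ≫ kernel.lift ψ (D F i) w = 0 := by
      rw [← cancel_mono (kernel.ι ψ), Category.assoc, kernel.lift_ι, D_comp, zero_comp]
    have hex' : (ShortComplex.mk _ _ w').Exact := by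
      let φ : ShortComplex.mk _ _ w' ⟶ ShortComplex.mk _ _ (D_comp F i) :=
        { τ₁ := 𝟙 _, τ₂ := 𝟙 _, τ₃ := kernel.ι ψ
          comm₁₂ := by simp
          comm₂₃ := by simp }
      haveI : Epi φ.τ₁ := inferInstanceAs (Epi (𝟙 _))
      haveI : IsIso φ.τ₂ := inferInstanceAs (IsIso (𝟙 _))
      haveI : Mono φ.τ₃ := inferInstanceAs (Mono (kernel.ι ψ))
      exact (ShortComplex.exact_iff_of_epi_of_isIso_of_mono φ).2 (D_exact F i)
    have h1' := ih (i + 1) (kernel ψ) _ hepi hK w' hex' q hq (by omega)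
    rw [← add_assoc] at h1'
    exact Tw.subsingleton_X₃ (shortExact_sh (Tw.shortExact_seq (shortExact_kernel ψ) (isInvertible_Od _)))
      (subsingleton_free (F.deg i) _ _ (by omega) fun b hr => by
        have := hF i b
        omega) h1'

variable [SetLike.GradedSMul (CohB1.polyGrading r k) (fun n : ℕ => ℳ (n : ℤ))]

/-- The augmentation on sheaves. -/
abbrev Aug : T F 0 ⟶ GrMod.tilde (CohB1.polyGrading r k) (fun n : ℕ => ℳ (n : ℤ)) 0 :=
  tmap (CohB1.polyGrading r k) (pres_isDeg (𝒩 := fun n : ℕ => ℳ (n : ℤ)) (augLin_pres F) 0)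

theorem Aug_comp : D F 0 ≫ Aug F = 0 := by
  have e : F.augLin.comp (F.dLin 0) = 0 := LinearMap.range_le_ker_iff.1 (le_of_eq F.exact_zero.symm)
  have hz : IsDeg (FP k r (F.deg (0 + 1))) (fun n : ℕ => ℳ (n : ℤ))
      (0 : (Fin (F.rk (0 + 1)) → S k r) →ₗ[S k r] M) 0 0 := fun _ _ _ _ _ => Or.inl rfl
  have hc : IsDeg (FP k r (F.deg (0 + 1))) (fun n : ℕ => ℳ (n : ℤ)) (F.augLin.comp (F.dLin 0)) 0 0 := by
    rw [e]; exact hz
  exact ((tmap_comp _ _ _ hc).trans (tmap_congr _ e hc hz)).trans (tmap_zero _ hz)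

theorem Aug_exact : (ShortComplex.mk _ _ (Aug_comp F)).Exact := by
  refine exact_tmap (CohB1.polyGrading r k) _ _ sepComp_nat (fun l j y hy hl hyz => Or.inr ?_) _
  obtain ⟨v, hv⟩ : y ∈ LinearMap.range (F.dLin 0) := F.exact_zero ▸ (LinearMap.mem_ker.2 hyz)
  refine ⟨l, vcmp (GrSyz.stdGr k (Fin (r + 1))) (F.deg (0 + 1)) (l : ℤ) v, mem_FP.2 fun b => P_mem (GrSyz.stdGr k (Fin (r + 1))) _ _, hl, ?_⟩
  rw [← dLin_homog F 0 (l : ℤ) v, hv, vcmp_eq_self_of_mem (GrSyz.stdGr k (Fin (r + 1))) _ (mem_FP.1 hy)]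

theorem Aug_epi : Epi (Aug F) := by
  refine epi_tmap (CohB1.polyGrading r k) _ fun l j y hy hl => Or.inr ?_
  obtain ⟨v, hv⟩ := F.aug_surjective y
  refine ⟨l, vcmp (GrSyz.stdGr k (Fin (r + 1))) (F.deg 0) (l : ℤ) v, mem_FP.2 fun b => P_mem (GrSyz.stdGr k (Fin (r + 1))) _ _, hl, ?_⟩
  change Fintype.linearCombination _ F.aug _ = y
  rw [← comp_linearCombination (F.deg 0) (isProj_P (GrSyz.stdGr k (Fin (r + 1))) ℳ) F.aug
      (fun a => (P_eq_self_iff ℳ).2 (F.aug_mem a)) (l : ℤ) v, hv]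
  exact (P_eq_self_iff ℳ).2 hy

include F in
theorem isQCoh_tilde : Coh.IsQCoh (GrMod.tilde (CohB1.polyGrading r k) (fun n : ℕ => ℳ (n : ℤ)) 0) := by
  haveI := Aug_epi F
  have hc := (Aug_exact F).gIsCokernel
  let e : cokernel (D F 0) ≅ GrMod.tilde (CohB1.polyGrading r k) (fun n : ℕ => ℳ (n : ℤ)) 0 :=
    (cokernelIsCokernel (D F 0)).coconePointUniqueUpToIso hc
  haveI : (cokernel (D F 0)).IsQuasicoherent :=
    H7Lim.ModExact.isQCoh_cokernel (D F 0) (isQCoh_free _) (isQCoh_free _)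
  exact isQuasicoherent_of_iso e

theorem subsingleton_regular {d : ℤ} (hF : F.IsGenLE d) (q : ℕ) (hq : 1 ≤ q) :
    Subsingleton (HnM (CohB1.tensorMod (GrMod.tilde (CohB1.polyGrading r k) (fun n : ℕ => ℳ (n : ℤ)) 0) (Pn.Od r k (d - q))) q ⊤) :=
  key F hF (r + 1) 0 _ _ (Aug_epi F) (isQCoh_tilde F) _ (Aug_exact F) q hq (by omega)

theorem isMRegular {d : ℤ} (hF : F.IsGenLE d) :
    Curv2.IsMRegular k r (GrTilde.tilde (CohB1.polyGrading r k) (fun n : ℕ => ℳ (n : ℤ)) 0) d := fun q hq _ =>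
  @Equiv.subsingleton _ _ (HHEquiv _ q).toEquiv (subsingleton_regular F hF q hq)

end Groth.Agent.H3CAlg.TildeReg
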