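import Groth.Agent.H3CAlg.TildeSES
import Groth.Agent.H3CAlg.TildeRegMain
import Groth.Agent.H3CAlg.KC.Crit

/-!
# The Koszul complex of a graded module as a complex of sheaves on projective space
-/

set_option autoImplicit false
set_option linter.style.haveILetI false

noncomputable section

universe u

open CategoryTheory CategoryTheory.Limits AlgebraicGeometry TopologicalSpace Opposite
open Groth.Agent.H11Tilde Groth.Agent.H3CAlg.TildeMap Groth.Agent.H3CAlg.Syz GrMod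
open Groth.Agent.H10Coh Groth.Agent.H3CAlg.KC Groth.Agent.H3CAlg.TildeSES

namespace Groth.Agent.H3CAlg.TildeKoszul

attribute [local instance 10000] hasSheafifyAb hasWeakSheafifyAb hasExtAb enoughInjAb

variable {k : Type u} [Field k] {r : ℕ}

/-- The polynomial ring. -/
local notation "A[" k ", " r "]" => MvPolynomial (Fin (r + 1)) k

/-- A bigraded complex with compatible actions of homogeneous polynomials. -/
class Good (B : BC A[k, r] (Lv k r)) : Prop where
  smul : ∀ (i : ℕ) (a : A[k, r]), a ∈ CohB1.polyGrading r k i →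
    ∀ (n e : ℤ) (z : B.T), z ∈ B.C n e → a • z ∈ B.C n (e + i)
  sep : ∀ (a : A[k, r]) (n e : ℤ) (z : B.T), z ∈ B.C n e → a • z = 0 →
    ∀ j, (DirectSum.decompose (CohB1.polyGrading r k) a j : A[k, r]) • z = 0

instance good_cone (B : BC A[k, r] (Lv k r)) [Good B] (y : Lv k r) : Good (cone B y) where
  smul i a ha n e z hz := by
    obtain ⟨h1, h2⟩ := (mem_cone B y).1 hz
    refine (mem_cone B y).2 ⟨Good.smul i a ha n e _ h1, ?_⟩
    have h := Good.smul i a ha (n - 1) (e + 1) _ h2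
    rwa [add_right_comm] at h
  sep a n e z hz haz j := by
    obtain ⟨h1, h2⟩ := (mem_cone B y).1 hz
    exact Prod.ext (Good.sep a n e _ h1 (congrArg Prod.fst haz) j)
      (Good.sep a (n - 1) (e + 1) _ h2 (congrArg Prod.snd haz) j)

theorem good_coneL : ∀ (l : List (Lv k r)) (B : BC A[k, r] (Lv k r)), Good B → Good (coneL l B)
  | [], _, h => h
  | y :: l, B, h => good_coneL l (cone B y) (@good_cone _ _ _ B h y)

instance (l : List (Lv k r)) (B : BC A[k, r] (Lv k r)) [h : Good B] : Good (coneL l B) := good_coneL l B h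

/-- The pieces of total degree `j` in cohomological degree `n`. -/
def PB (B : BC A[k, r] (Lv k r)) (n : ℤ) (j : ℕ) : AddSubgroup B.T := B.C n ((j : ℤ) - n)

theorem mem_PB {B : BC A[k, r] (Lv k r)} {n : ℤ} {j : ℕ} {z : B.T} :
    z ∈ PB B n j ↔ z ∈ B.C n ((j : ℤ) - n) := Iff.rfl

instance gradedSMul_PB (B : BC A[k, r] (Lv k r)) [Good B] (n : ℤ) :
    SetLike.GradedSMul (CohB1.polyGrading r k) (PB B n) where
  smul_mem {i j a z} ha hz := by
    have h := Good.smul i a ha n _ z (mem_PB.1 hz)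
    rw [vadd_eq_add, mem_PB, show ((i + j : ℕ) : ℤ) - n = (j : ℤ) - n + i by push_cast; ring]
    exact h

instance gradedSMul_PB_cone (B : BC A[k, r] (Lv k r)) [Good B] (y : Lv k r) (n : ℤ) :
    SetLike.GradedSMul (CohB1.polyGrading r k) (show ℕ → AddSubgroup (B.T × B.T) from PB (cone B y) n) :=
  gradedSMul_PB (cone B y) n

/-- The sheaf of the `n`-th term, in twist `g`. -/
abbrev Sh (B : BC A[k, r] (Lv k r)) [Good B] (n g : ℤ) : (Proj (Pn.Gr r k)).Modules :=
  GrMod.tilde (CohB1.polyGrading r k) (PB B n) g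

variable {B : BC A[k, r] (Lv k r)}

theorem isDeg_d {n n' g g' : ℤ} (hn : n' = n + 1) (hg : g' = g + 1) :
    IsDeg (PB B n) (PB B n') B.d g g' := by
  subst hn hg
  intro i j z hz hd
  refine Or.inr ⟨i + 1, ?_, by push_cast; omega⟩
  rw [mem_PB, show ((i + 1 : ℕ) : ℤ) - (n + 1) = (i : ℤ) - n by push_cast; ring]
  exact B.d_mem n _ z hz

theorem isDeg_pres {B' : BC A[k, r] (Lv k r)} {n n' : ℤ} {φ : B.T →ₗ[A[k, r]] B'.T}
    (h : ∀ (i : ℕ) (z : B.T), z ∈ PB B n i → φ z ∈ PB B' n' i) (g : ℤ) : IsDeg (PB B n) (PB B' n') φ g g :=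
  fun i _ z hz hd => Or.inr ⟨i, h i z hz, hd⟩

/-- The differential. -/
def Dd (B : BC A[k, r] (Lv k r)) [Good B] {n n' g g' : ℤ} (hn : n' = n + 1) (hg : g' = g + 1) :
    Sh B n g ⟶ Sh B n' g' :=
  tmap (CohB1.polyGrading r k) (isDeg_d hn hg)

theorem sval_Dd [Good B] {n n' g g' : ℤ} (hn : n' = n + 1) (hg : g' = g + 1) {U : (Proj (Pn.Gr r k)).Opens}
    (σ : Γ(Sh B n g, U)) (x : U) :
    sval (CohB1.polyGrading r k) (PB B n') ((Dd B hn hg).app U σ) x =
      locMap (CohB1.polyGrading r k) x.1 B.d (sval (CohB1.polyGrading r k) (PB B n) σ x) := rfl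

theorem Dd_comp [Good B] {n n' n'' g g' g'' : ℤ} (hn : n' = n + 1) (hg : g' = g + 1) (hn' : n'' = n' + 1)
    (hg' : g'' = g' + 1) : Dd B hn hg ≫ Dd B hn' hg' = 0 := by
  have e : B.d.comp B.d = 0 := LinearMap.ext B.d_d
  have hz : IsDeg (PB B n) (PB B n'') (0 : B.T →ₗ[A[k, r]] B.T) g g'' := fun _ _ _ _ _ => Or.inl rfl
  have hc : IsDeg (PB B n) (PB B n'') (B.d.comp B.d) g g'' := by rw [e]; exact hz
  exact ((tmap_comp _ _ _ hc).trans (tmap_congr _ e hc hz)).trans (tmap_zero _ hz)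

/-- Every variable acts null homotopically. -/
def AllNull (B : BC A[k, r] (Lv k r)) : Prop :=
  ∀ v : Fin (r + 1), B.Null (MvPolynomial.X v : A[k, r])

theorem allNull_coneL (B : BC A[k, r] (Lv k r)) : AllNull (coneL (vars k r) B) :=
  fun v => null_coneL_of_mem (vars k r) B (var_mem_vars v)

theorem Dd_exact [Good B] (hB : AllNull B) {n n' n'' g g' g'' : ℤ} (hn : n' = n + 1) (hg : g' = g + 1)
    (hn' : n'' = n' + 1) (hg' : g'' = g' + 1) :
    (ShortComplex.mk _ _ (Dd_comp (B := B) hn hg hn' hg')).Exact := by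
  refine exact_tmap' (CohB1.polyGrading r k) _ _
    (show SepComp (CohB1.polyGrading r k) (PB B n'') from fun a i m hm h j => Good.sep a n'' _ m hm h j) (fun x i j y hy hd hdy => ?_) _
  obtain ⟨v, hv⟩ := H11Ample.exists_mem_basicOpen_X (n := r) (R := k) x
  obtain ⟨h, h1, h2⟩ := hB v
  refine ⟨1, MvPolynomial.X v, H11Ample.X_mem v, hv, Or.inr ⟨i, h y, ?_, by omega, ?_⟩⟩
  · have h3 := h2 n' _ y hy
    rw [mem_PB]
    subst hn
    rwa [add_sub_cancel_right, show (i : ℤ) - (n + 1) + 1 = (i : ℤ) - n by ring] at h3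
  · have h3 := h1 y
    rwa [hdy, map_zero, add_zero] at h3

theorem fracAt_add_one {N : Type u} [AddCommGroup N] [Module A[k, r] N]
    (x : ProjectiveSpectrum (CohB1.polyGrading r k)) (a b : N) :
    fracAt (CohB1.polyGrading r k) x (a + b) 1 (GrMod.one_nin x) =
      fracAt (CohB1.polyGrading r k) x a 1 (GrMod.one_nin x) + fracAt (CohB1.polyGrading r k) x b 1 (GrMod.one_nin x) :=
  (LocalizedModule.mkLinearMap x.asHomogeneousIdeal.toIdeal.primeCompl N).map_add a b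

theorem fracAt_sub_one {N : Type u} [AddCommGroup N] [Module A[k, r] N]
    (x : ProjectiveSpectrum (CohB1.polyGrading r k)) (a b : N) :
    fracAt (CohB1.polyGrading r k) x (a - b) 1 (GrMod.one_nin x) =
      fracAt (CohB1.polyGrading r k) x a 1 (GrMod.one_nin x) - fracAt (CohB1.polyGrading r k) x b 1 (GrMod.one_nin x) :=
  (LocalizedModule.mkLinearMap x.asHomogeneousIdeal.toIdeal.primeCompl N).map_sub a b

/-! ### Vanishing of cohomology passes to cones -/

/-- The sheaves of `B` have no cohomology where `V` asks. -/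
def Acyc (B : BC A[k, r] (Lv k r)) [Good B] (V : ℤ → ℕ → Prop) : Prop :=
  ∀ (n g : ℤ) (q : ℕ), V g q → Subsingleton (HnM (Sh B n g) q ⊤)

/-- The `n`-th terms vanish. -/
def Bot (B : BC A[k, r] (Lv k r)) (n : ℤ) : Prop := ∀ (e : ℤ) (z : B.T), z ∈ B.C n e → z = 0

theorem isDeg_fst (B : BC A[k, r] (Lv k r)) (y : Lv k r) (n g : ℤ) :
    IsDeg (PB (cone B y) n) (PB B n) (LinearMap.fst A[k, r] B.T B.T) g g :=
  isDeg_pres (fun _ _ hz => ((mem_cone B y).1 hz).1) g

theorem isDeg_snd (B : BC A[k, r] (Lv k r)) (y : Lv k r) (n g : ℤ) :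
    IsDeg (PB (cone B y) n) (PB B (n - 1)) (LinearMap.snd A[k, r] B.T B.T) g g :=
  isDeg_pres (fun i _ hz => by
    have h := ((mem_cone B y).1 hz).2
    rwa [sub_add, ← mem_PB] at h) g

theorem isDeg_inl (B : BC A[k, r] (Lv k r)) (y : Lv k r) (n g : ℤ) :
    IsDeg (PB B n) (PB (cone B y) n) (LinearMap.inl A[k, r] B.T B.T) g g :=
  isDeg_pres (B' := cone B y) (fun i z hz => show LinearMap.inl A[k, r] B.T B.T z ∈ (cone B y).C n ((i : ℤ) - n) from
    (mem_cone B y).2 ⟨hz, zero_mem _⟩) g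

theorem inr_mem (B : BC A[k, r] (Lv k r)) (y : Lv k r) (n : ℤ) (i : ℕ) (z : B.T) (hz : z ∈ PB B (n - 1) i) :
    LinearMap.inr A[k, r] B.T B.T z ∈ PB (cone B y) n i := by
  refine (mem_cone B y).2 ⟨zero_mem _, ?_⟩
  rw [sub_add]
  exact hz

theorem isDeg_inr (B : BC A[k, r] (Lv k r)) (y : Lv k r) (n g : ℤ) :
    IsDeg (PB B (n - 1)) (PB (cone B y) n) (LinearMap.inr A[k, r] B.T B.T) g g :=
  isDeg_pres (fun i z hz => inr_mem B y n i z hz) g

theorem cone_id (B : BC A[k, r] (Lv k r)) [Good B] (y : Lv k r) (n g : ℤ) :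
    tmap (CohB1.polyGrading r k) (isDeg_fst B y n g) ≫ tmap (CohB1.polyGrading r k) (isDeg_inl B y n g) +
      tmap (CohB1.polyGrading r k) (isDeg_snd B y n g) ≫ tmap (CohB1.polyGrading r k) (isDeg_inr B y n g) =
      𝟙 (Sh (cone B y) n g) := by
  refine TildeMap.hom_ext _ fun U s x => ?_
  change locMap _ x.1 _ (locMap _ x.1 _ (sval _ _ s x)) + locMap _ x.1 _ (locMap _ x.1 _ (sval _ _ s x)) = sval _ _ s x
  refine ((congrArg₂ (· + ·) (locMap_comp _ _ _ _ _).symm (locMap_comp _ _ _ _ _).symm).trans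
    (locMap_add _ _ _ _ _).symm).trans (Eq.trans ?_ (locMap_id (CohB1.polyGrading r k) x.1 _))
  exact congrArg (fun φ => locMap (CohB1.polyGrading r k) x.1 φ _) (LinearMap.ext fun z => by simp)

theorem acyc_cone [Good B] {V : ℤ → ℕ → Prop} (h : Acyc B V) (y : Lv k r) : Acyc (cone B y) V :=
  fun n g q hq => subsingleton_of_pair _ _ _ _ (cone_id B y n g) (h n g q hq) (h (n - 1) g q hq)

theorem acyc_coneL {V : ℤ → ℕ → Prop} :
    ∀ (l : List (Lv k r)) (B : BC A[k, r] (Lv k r)) [Good B], Acyc B V → Acyc (coneL l B) V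
  | [], _, _, h => h
  | y :: l, B, _, h => acyc_coneL l (cone B y) (acyc_cone h y)

theorem bot_cone (y : Lv k r) {n : ℤ} (h : Bot B n) (h' : Bot B (n - 1)) : Bot (cone B y) n := fun _ z hz =>
  Prod.ext (h _ _ ((mem_cone B y).1 hz).1) (h' _ _ ((mem_cone B y).1 hz).2)

theorem bot_coneL : ∀ (l : List (Lv k r)) (B : BC A[k, r] (Lv k r)) (N : ℤ), (∀ n, n < 0 ∨ N < n → Bot B n) →
    ∀ n, n < 0 ∨ N + l.length < n → Bot (coneL l B) n
  | [], _, _, h, n, hn => h n (by simpa using hn)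
  | y :: l, B, N, h, n, hn =>
    bot_coneL l (cone B y) (N + 1) (fun m hm => bot_cone y (h m (by omega)) (h (m - 1) (by omega))) n
      (by simp only [List.length_cons, Nat.cast_succ] at hn; omega)

theorem Bot.sval_eq_zero [Good B] {n : ℤ} (h : Bot B n) {g : ℤ} {U : (Proj (Pn.Gr r k)).Opens}
    (σ : Γ(Sh B n g, U)) (x : U) : sval (CohB1.polyGrading r k) (PB B n) σ x = 0 := by
  rcases exists_eq_fracAt_of_mem (CohB1.polyGrading r k) (PB B n) x.1
    ((show sect (CohB1.polyGrading r k) (PB B n) g (op U) from σ).1 x) with h0 | ⟨i, j, m, s, hs, hm, -, -, hq⟩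
  · exact h0
  · refine hq.trans ?_
    exact (fracAt_congr _ _ hs hs (h _ m hm) rfl).trans (fracAt_zero _ _ _ hs)

theorem Bot.id_eq_zero [Good B] {n : ℤ} (h : Bot B n) (g : ℤ) : 𝟙 (Sh B n g) = 0 :=
  TildeMap.hom_ext _ fun _ s x => h.sval_eq_zero s x

theorem retr_cone [Good B] (y : Lv k r) (n g : ℤ) : Retr (Sh B n g) (Sh (cone B y) (n + 1) g) := by
  have hi : IsDeg (PB B n) (PB (cone B y) (n + 1)) (LinearMap.inr A[k, r] B.T B.T) g g :=
    isDeg_pres (fun i z hz => inr_mem B y (n + 1) i z (by rwa [add_sub_cancel_right])) g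
  have hp : IsDeg (PB (cone B y) (n + 1)) (PB B n) (LinearMap.snd A[k, r] B.T B.T) g g :=
    isDeg_pres (fun i z hz => by
      have h := ((mem_cone B y).1 hz).2
      rwa [add_sub_cancel_right, show (i : ℤ) - (n + 1) + 1 = (i : ℤ) - n by ring] at h) g
  refine ⟨tmap _ hi, tmap _ hp, TildeMap.hom_ext _ fun U s x => ?_⟩
  change locMap _ x.1 _ (locMap _ x.1 _ (sval _ _ s x)) = sval _ _ s x
  exact (locMap_comp _ _ _ _ _).symm.trans (locMap_id (CohB1.polyGrading r k) x.1 _)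

theorem retr_coneL : ∀ (l : List (Lv k r)) (B : BC A[k, r] (Lv k r)) [Good B] (n g : ℤ),
    Retr (Sh B n g) (Sh (coneL l B) (n + l.length) g)
  | [], B, _, n, g => by
    simp only [List.length_nil, Nat.cast_zero, add_zero]
    exact Retr.rfl' _
  | y :: l, B, _, n, g => by
    have h := (retr_cone (B := B) y n g).trans (retr_coneL l (cone B y) (n + 1) g)
    rwa [show n + 1 + (l.length : ℤ) = n + ((y :: l).length : ℕ) by
      simp only [List.length_cons, Nat.cast_succ]; ring] at h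

/-! ### Kernels of the differential -/

/-- `H^q` of the cycles vanishes when the terms have no cohomology on the line `g + q = D`. -/
theorem subsingleton_cycles [Good B] (hB : AllNull B) (hbot : ∀ n, n < 0 → Bot B n) {D : ℤ}
    (hV : Acyc B fun g q => 1 ≤ q ∧ g + q = D) :
    ∀ (t : ℕ) (n n' g g' : ℤ) (hn : n' = n + 1) (hg : g' = g + 1) (q : ℕ), n < (t : ℤ) → 1 ≤ q →
      g - 1 + q = D → Subsingleton (HnM (kernel (Dd B hn hg)) q ⊤) := by
  intro t
  induction t with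
  | zero =>
    intro n n' g g' hn hg q hlt _ _
    exact subsingleton_of_id_eq_zero (id_kernel_eq_zero _ ((hbot n (by simpa using hlt)).id_eq_zero g)) q ⊤
  | succ t ih =>
    intro n n' g g' hn hg q hlt hq hD
    have hn0 : n = n - 1 + 1 := (sub_add_cancel n 1).symm
    have hg0 : g = g - 1 + 1 := (sub_add_cancel g 1).symm
    refine subsingleton_kernel_of_exact (Dd B hn0 hg0) (Dd B hn hg) _ (Dd_exact hB hn0 hg0 hn hg)
      (hV _ _ q ⟨hq, hD⟩) ?_
    exact ih (n - 1) n (g - 1) g hn0 hg0 (q + 1) (by push_cast at hlt ⊢; omega) (by omega) (by push_cast; omega)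

/-! ### Global sections -/

/-- A homogeneous element of `B` in degree `(n, i)` is determined by its section. -/
def InjB (B : BC A[k, r] (Lv k r)) (n : ℤ) (i : ℕ) : Prop :=
  ∀ z ∈ PB B n i, (∀ x : ProjectiveSpectrum (CohB1.polyGrading r k),
    fracAt (CohB1.polyGrading r k) x z 1 (GrMod.one_nin x) = 0) → z = 0

/-- Every global section of the `n`-th sheaf in twist `g` comes from degree `(n, i)`. -/
def SurjB (B : BC A[k, r] (Lv k r)) [Good B] (n g : ℤ) (i : ℕ) : Prop :=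
  ∀ σ : Γ(Sh B n g, (⊤ : (Proj (Pn.Gr r k)).Opens)), ∃ z ∈ PB B n i, ∀ x,
    sval (CohB1.polyGrading r k) (PB B n) σ x = fracAt (CohB1.polyGrading r k) x.1 z 1 (GrMod.one_nin x.1)

theorem injB_cone (y : Lv k r) {n : ℤ} {i : ℕ} (h : InjB B n i) (h' : InjB B (n - 1) i) :
    InjB (cone B y) n i := by
  intro z hz h0
  have h2 := ((mem_cone B y).1 hz).2
  rw [sub_add, ← mem_PB] at h2
  refine Prod.ext (h _ ((mem_cone B y).1 hz).1 fun x => ?_) (h' _ h2 fun x => ?_)
  · exact (locMap_frac (CohB1.polyGrading r k) x (LinearMap.fst A[k, r] B.T B.T) z 1 _).symm.trans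
      ((congrArg _ (h0 x)).trans (map_zero _))
  · exact (locMap_frac (CohB1.polyGrading r k) x (LinearMap.snd A[k, r] B.T B.T) z 1 _).symm.trans
      ((congrArg _ (h0 x)).trans (map_zero _))

theorem injB_coneL : ∀ (l : List (Lv k r)) (B : BC A[k, r] (Lv k r)) (i : ℕ), (∀ n, InjB B n i) →
    ∀ n, InjB (coneL l B) n i
  | [], _, _, h => h
  | y :: l, B, i, h => injB_coneL l (cone B y) i fun n => injB_cone y (h n) (h (n - 1))

theorem surjB_cone [Good B] (y : Lv k r) {n g : ℤ} {i : ℕ} (h : SurjB B n g i) (h' : SurjB B (n - 1) g i) :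
    SurjB (cone B y) n g i := by
  intro σ
  obtain ⟨z₁, hz₁, hσ₁⟩ := h ((tmap (CohB1.polyGrading r k) (isDeg_fst B y n g)).app ⊤ σ)
  obtain ⟨z₂, hz₂, hσ₂⟩ := h' ((tmap (CohB1.polyGrading r k) (isDeg_snd B y n g)).app ⊤ σ)
  have hz₂' := inr_mem B y n i z₂ hz₂
  have hz₁' : (z₁, (0 : B.T)) ∈ PB (cone B y) n i := (mem_cone B y).2 ⟨hz₁, zero_mem _⟩
  refine ⟨LinearMap.inl A[k, r] B.T B.T z₁ + LinearMap.inr A[k, r] B.T B.T z₂, add_mem hz₁' hz₂', fun x => ?_⟩
  have hid := congrArg (fun f => sval (CohB1.polyGrading r k) (PB (cone B y) n) (Scheme.Modules.Hom.app f ⊤ σ) x)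
    (cone_id B y n g)
  refine hid.symm.trans ?_
  change locMap _ x.1 _ (locMap _ x.1 _ (sval _ _ σ x)) + locMap _ x.1 _ (locMap _ x.1 _ (sval _ _ σ x)) = _
  refine (congrArg₂ (· + ·) ((congrArg _ (hσ₁ x)).trans (locMap_frac _ _ _ _ _ _))
    ((congrArg _ (hσ₂ x)).trans (locMap_frac _ _ _ _ _ _))).trans ?_
  exact (fracAt_add_one (N := B.T × B.T) x.1 _ _).symm

theorem surjB_coneL : ∀ (l : List (Lv k r)) (B : BC A[k, r] (Lv k r)) [Good B] (g : ℤ) (i : ℕ),
    (∀ n, SurjB B n g i) → ∀ n, SurjB (coneL l B) n g i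
  | [], _, _, _, _, h => h
  | y :: l, B, _, g, i, h => surjB_coneL l (cone B y) g i fun n => surjB_cone y (h n) (h (n - 1))

set_option maxHeartbeats 1600000 in
theorem surjB_of_cone [Good B] (y : Lv k r) {n g : ℤ} {i : ℕ} (h : SurjB (cone B y) (n + 1) g i) :
    SurjB B n g i := by
  intro σ
  have hi : IsDeg (PB B n) (PB (cone B y) (n + 1)) (LinearMap.inr A[k, r] B.T B.T) g g :=
    isDeg_pres (fun i z hz => inr_mem B y (n + 1) i z (by rwa [add_sub_cancel_right])) g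
  obtain ⟨z, hz, hσ⟩ := h ((tmap (CohB1.polyGrading r k) hi).app ⊤ σ)
  have h2 := ((mem_cone B y).1 hz).2
  rw [add_sub_cancel_right, show (i : ℤ) - (n + 1) + 1 = (i : ℤ) - n by ring] at h2
  refine ⟨LinearMap.snd A[k, r] B.T B.T z, h2, fun x => ?_⟩
  have h1 := (congrArg (locMap (CohB1.polyGrading r k) x.1 (LinearMap.snd A[k, r] B.T B.T)) (hσ x)).trans
    (locMap_frac (CohB1.polyGrading r k) x.1 (LinearMap.snd A[k, r] B.T B.T) z 1 (GrMod.one_nin x.1))
  have e : (LinearMap.snd A[k, r] B.T B.T).comp (LinearMap.inr A[k, r] B.T B.T) = LinearMap.id := LinearMap.snd_comp_inr _ _ _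
  have h3 := (locMap_comp (CohB1.polyGrading r k) x.1 (LinearMap.inr A[k, r] B.T B.T) (LinearMap.snd A[k, r] B.T B.T)
    (sval (CohB1.polyGrading r k) (PB B n) σ x)).symm
  have h4 := h3.trans ((congrArg (fun φ => locMap (CohB1.polyGrading r k) x.1 φ _) e).trans
    (locMap_id (CohB1.polyGrading r k) x.1 (sval (CohB1.polyGrading r k) (PB B n) σ x)))
  exact h4.symm.trans h1

set_option maxHeartbeats 1600000 in
theorem surjB_of_coneL : ∀ (l : List (Lv k r)) (B : BC A[k, r] (Lv k r)) [Good B] (n g : ℤ) (i : ℕ),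
    SurjB (coneL l B) (n + l.length) g i → SurjB B n g i
  | [], B, _, n, g, i, h => by
    rw [List.length_nil, Nat.cast_zero, add_zero] at h
    exact h
  | y :: l, B, _, n, g, i, h => surjB_of_cone y (surjB_of_coneL l (cone B y) (n + 1) g i (by
    rwa [show n + 1 + (l.length : ℤ) = n + ((y :: l).length : ℕ) by
      simp only [List.length_cons, Nat.cast_succ]; ring]))

/-- At the top the sheaf of cycles is everything, so surjectivity moves up one degree. -/
theorem surjB_top [Good B] (hB : AllNull B) (hbot : ∀ n, n < 0 → Bot B n) {N : ℤ} (htop : Bot B (N + 1)) {i : ℕ}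
    (hV : Acyc B fun g q => 1 ≤ q ∧ g + q = (i : ℤ)) (hsurj : SurjB B (N - 1) (i : ℤ) i) :
    SurjB B N (((i + 1 : ℕ) : ℤ)) (i + 1) := by
  intro σ
  have hn0 : N = N - 1 + 1 := (sub_add_cancel N 1).symm
  have hg0 : (((i + 1 : ℕ) : ℤ)) = (i : ℤ) + 1 := by push_cast; ring
  have hdσ : (Dd B (n' := N + 1) rfl (g := ((i + 1 : ℕ) : ℤ)) rfl).app ⊤ σ = 0 :=
    sval_ext _ _ fun x => htop.sval_eq_zero _ x
  obtain ⟨τ, hτ⟩ := exists_app_eq (Dd B hn0 hg0) (Dd B rfl rfl) _ (Dd_exact hB hn0 hg0 rfl rfl) ⊤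
    (subsingleton_cycles hB hbot hV N.toNat (N - 1) N _ _ hn0 hg0 1 (by omega) le_rfl (by push_cast; omega))
    σ hdσ
  obtain ⟨w, hw, hτw⟩ := hsurj τ
  refine ⟨B.d w, ?_, fun x => ?_⟩
  · rw [mem_PB] at hw ⊢
    rw [show ((i + 1 : ℕ) : ℤ) - N = (i : ℤ) - (N - 1) by push_cast; ring]
    exact B.d_mem' hw
  · exact ((congrArg (fun s => sval (CohB1.polyGrading r k) (PB B N) s x) hτ).symm.trans
      (congrArg (locMap _ x.1 B.d) (hτw x))).trans (locMap_frac _ _ _ _ _ _)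

theorem Bot.injB {n : ℤ} (h : Bot B n) (i : ℕ) : InjB B n i := fun z hz _ => h _ z hz

theorem Bot.surjB [Good B] {n : ℤ} (h : Bot B n) (g : ℤ) (i : ℕ) : SurjB B n g i := fun σ =>
  ⟨0, zero_mem _, fun x => (h.sval_eq_zero σ x).trans (fracAt_zero _ _ _ _).symm⟩

/-- No cohomology of `B` in bidegree `(n, e)`, from sheaf vanishing. -/
theorem ex_of_sheaf [Good B] (hB : AllNull B) (hbot : ∀ n, n < 0 → Bot B n) {n e : ℤ} {i : ℕ}
    (hi : (i : ℤ) + 1 = e + n) (hV : Acyc B fun g q => 1 ≤ q ∧ g + q = (i : ℤ))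
    (hinj : InjB B n (i + 1)) (hsurj : SurjB B (n - 1) (i : ℤ) i) : B.Ex n e := by
  intro z hz hdz
  have hzP : z ∈ PB B n (i + 1) := by
    rwa [mem_PB, show ((i + 1 : ℕ) : ℤ) - n = e by push_cast; omega]
  have hn0 : n = n - 1 + 1 := (sub_add_cancel n 1).symm
  have hg0 : (((i + 1 : ℕ) : ℤ)) = (i : ℤ) + 1 := by push_cast; ring
  let σ : Γ(Sh B n ((i + 1 : ℕ) : ℤ), (⊤ : (Proj (Pn.Gr r k)).Opens)) :=
    GrMod.alpha (CohB1.polyGrading r k) (PB B n) (i + 1) ⟨z, hzP⟩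
  have hσ : ∀ x, sval (CohB1.polyGrading r k) (PB B n) σ x =
      fracAt (CohB1.polyGrading r k) x.1 z 1 (GrMod.one_nin x.1) := fun x => rfl
  have hdσ : (Dd B (n' := n + 1) rfl (g := ((i + 1 : ℕ) : ℤ)) rfl).app ⊤ σ = 0 :=
    sval_ext _ _ fun x => ((congrArg (locMap _ x.1 B.d) (hσ x)).trans (locMap_frac _ _ _ _ _ _)).trans
      ((fracAt_congr _ _ _ (GrMod.one_nin x.1) hdz rfl).trans (fracAt_zero _ _ _ _))
  obtain ⟨τ, hτ⟩ := exists_app_eq (Dd B hn0 hg0) (Dd B rfl rfl) _ (Dd_exact hB hn0 hg0 rfl rfl) ⊤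
    (subsingleton_cycles hB hbot hV n.toNat (n - 1) n _ _ hn0 hg0 1 (by omega) le_rfl (by push_cast; omega))
    σ hdσ
  obtain ⟨w, hw, hτw⟩ := hsurj τ
  have hw' : w ∈ B.C (n - 1) e := by
    rw [mem_PB] at hw
    rwa [show (i : ℤ) - (n - 1) = e by omega] at hw
  refine ⟨w, hw', sub_eq_zero.1 ?_⟩
  refine hinj _ (sub_mem ?_ hzP) fun x => ?_
  · rw [mem_PB, show ((i + 1 : ℕ) : ℤ) - n = e by push_cast; omega]
    exact B.d_mem' hw'
  · have h1 : fracAt (CohB1.polyGrading r k) x (B.d w) 1 (GrMod.one_nin x) =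
        fracAt (CohB1.polyGrading r k) x z 1 (GrMod.one_nin x) :=
      ((locMap_frac _ x B.d w 1 _).symm.trans
        (congrArg (locMap _ x B.d) (hτw ⟨x, Set.mem_univ x⟩)).symm).trans
        ((congrArg (fun s => sval (CohB1.polyGrading r k) (PB B n) s ⟨x, Set.mem_univ x⟩) hτ).trans (hσ ⟨x, Set.mem_univ x⟩))
    exact (fracAt_sub_one x (B.d w) z).trans (sub_eq_zero.2 h1)

end Groth.Agent.H3CAlg.TildeKoszul
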