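import Groth.Agent.H11Tilde.QCoh
import Groth.Agent.H11Tilde.ModLoc
import Groth.Prelude.Def_GrMod3

/-!
# The map of modules on Proj induced by a linear map of graded modules, and exactness
-/

set_option autoImplicit false
set_option linter.style.haveILetI false

noncomputable section

universe u

open CategoryTheory CategoryTheory.Limits AlgebraicGeometry TopologicalSpace Opposite
open Groth.Agent.H11Tilde GrMod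

namespace Groth.Agent.H3CAlg.TildeMap

variable {A σA : Type u} [CommRing A] [SetLike σA A] [AddSubgroupClass σA A] (𝒜 : ℕ → σA) [GradedRing 𝒜]
variable {M τ : Type u} [AddCommGroup M] [Module A M] [SetLike τ M] [AddSubgroupClass τ M] (ℳ : ℕ → τ)
  [SetLike.GradedSMul 𝒜 ℳ]
variable {N τ' : Type u} [AddCommGroup N] [Module A N] [SetLike τ' N] [AddSubgroupClass τ' N] (𝒩 : ℕ → τ')
  [SetLike.GradedSMul 𝒜 𝒩]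
variable {P τ'' : Type u} [AddCommGroup P] [Module A P] [SetLike τ'' P] [AddSubgroupClass τ'' P] (𝒬 : ℕ → τ'')
  [SetLike.GradedSMul 𝒜 𝒬]

/-- `φ` carries the numerators of degree-`n` fractions to numerators of degree-`n'` fractions. -/
def IsDeg (φ : M →ₗ[A] N) (n n' : ℤ) : Prop :=
  ∀ (i j : ℕ) (m : M), m ∈ ℳ i → (i : ℤ) = j + n → φ m = 0 ∨ ∃ i' : ℕ, φ m ∈ 𝒩 i' ∧ (i' : ℤ) = j + n'

/-- The map on localised modules. -/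
def locMap (x : ProjectiveSpectrum 𝒜) (φ : M →ₗ[A] N) :
    LocMod 𝒜 (M := M) x →ₗ[GrTwist.Loc 𝒜 x] LocMod 𝒜 (M := N) x :=
  LocalizedModule.map x.asHomogeneousIdeal.toIdeal.primeCompl φ

theorem locMap_frac (x : ProjectiveSpectrum 𝒜) (φ : M →ₗ[A] N) (m : M) (s : A) (hs : s ∉ x.asHomogeneousIdeal) :
    locMap 𝒜 x φ (fracAt 𝒜 x m s hs) = fracAt 𝒜 x (φ m) s hs :=
  LocalizedModule.map_mk _ φ _ _

theorem locMap_comp (x : ProjectiveSpectrum 𝒜) (φ : M →ₗ[A] N) (ψ : N →ₗ[A] P) (q : LocMod 𝒜 (M := M) x) :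
    locMap 𝒜 x (ψ.comp φ) q = locMap 𝒜 x ψ (locMap 𝒜 x φ q) := by
  induction q using LocalizedModule.induction_on with
  | h m s =>
    obtain ⟨s, hs⟩ := s
    exact (locMap_frac 𝒜 x _ m s hs).trans
      ((congrArg (locMap 𝒜 x ψ) (locMap_frac 𝒜 x φ m s hs)).trans (locMap_frac 𝒜 x ψ (φ m) s hs)).symm

theorem locMap_id (x : ProjectiveSpectrum 𝒜) (q : LocMod 𝒜 (M := M) x) :
    locMap 𝒜 x (LinearMap.id : M →ₗ[A] M) q = q := by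
  induction q using LocalizedModule.induction_on with
  | h m s => exact locMap_frac 𝒜 x _ m s.1 s.2

theorem locMap_add (x : ProjectiveSpectrum 𝒜) (φ ψ : M →ₗ[A] N) (q : LocMod 𝒜 (M := M) x) :
    locMap 𝒜 x (φ + ψ) q = locMap 𝒜 x φ q + locMap 𝒜 x ψ q :=
  congrArg (fun f => f q) (map_add (LocalizedModule.map x.asHomogeneousIdeal.toIdeal.primeCompl) φ ψ)

theorem locMap_zero (x : ProjectiveSpectrum 𝒜) (q : LocMod 𝒜 (M := M) x) :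
    locMap 𝒜 x (0 : M →ₗ[A] N) q = 0 :=
  congrArg (fun f : LocMod 𝒜 (M := M) x →ₗ[GrTwist.Loc 𝒜 x] LocMod 𝒜 (M := N) x => f q)
    (map_zero (LocalizedModule.map x.asHomogeneousIdeal.toIdeal.primeCompl))

variable {ℳ 𝒩} in
theorem locMap_mem {φ : M →ₗ[A] N} {n n' : ℤ} (h : IsDeg ℳ 𝒩 φ n n') (x : ProjectiveSpectrum 𝒜)
    (q : tildeAt 𝒜 ℳ n x) : locMap 𝒜 x φ q.1 ∈ tildeAt 𝒜 𝒩 n' x := by
  rcases exists_eq_fracAt_of_mem 𝒜 ℳ x q with h0 | ⟨i, j, m, s, hs, hm, hsj, hd, hq⟩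
  · rw [h0, map_zero]; exact zero_mem _
  · rw [hq, locMap_frac]
    rcases h i j m hm hd with h0 | ⟨i', hm', hd'⟩
    · rw [h0, fracAt_zero]; exact zero_mem _
    · exact Submodule.subset_span ⟨i', j, ⟨φ m, hm'⟩, ⟨s, hsj⟩, hs, hd', rfl⟩

variable {ℳ 𝒩} in
/-- The map on sections. -/
def appFun {φ : M →ₗ[A] N} {n n' : ℤ} (h : IsDeg ℳ 𝒩 φ n n') (U : (Proj 𝒜).Opens)
    (s : Γ(tilde 𝒜 ℳ n, U)) : Γ(tilde 𝒜 𝒩 n', U) :=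
  (show sect 𝒜 𝒩 n' (op U) from
  ⟨fun x => ⟨locMap 𝒜 x.1 φ (sval 𝒜 ℳ s x), locMap_mem 𝒜 h x.1 _⟩, fun x => by
    obtain ⟨V, hxV, iV, i, j, ⟨m, hm⟩, ⟨c, hc⟩, cnin, hd, hw⟩ := (show sect 𝒜 ℳ n (op U) from s).2 x
    have key : ∀ y : V, locMap 𝒜 y.1 φ (sval 𝒜 ℳ s (iV y)) = fracAt 𝒜 y.1 (φ m) c (cnin y) :=
      fun y => (congrArg (locMap 𝒜 y.1 φ) (hw y)).trans (locMap_frac 𝒜 y.1 φ m c (cnin y))
    have hd' : φ m = 0 ∨ ∃ i' : ℕ, φ m ∈ 𝒩 i' ∧ (i' : ℤ) = j + n' := by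
      rcases (show (i : ℤ) = j + n ∨ m = 0 from hd) with hd | hd
      · exact h i j m hm hd
      · exact Or.inl (by rw [hd, map_zero])
    rcases hd' with h0 | ⟨i', hm', hi'⟩
    · refine ⟨V, hxV, iV, 0, j, ⟨φ m, ?_⟩, ⟨c, hc⟩, cnin, Or.inr h0, key⟩
      rw [h0]; exact zero_mem _
    · exact ⟨V, hxV, iV, i', j, ⟨φ m, hm'⟩, ⟨c, hc⟩, cnin, Or.inl hi', key⟩⟩)

variable {ℳ 𝒩} in
theorem sval_appFun {φ : M →ₗ[A] N} {n n' : ℤ} (h : IsDeg ℳ 𝒩 φ n n') {U : (Proj 𝒜).Opens}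
    (s : Γ(tilde 𝒜 ℳ n, U)) (x : U) :
    sval 𝒜 𝒩 (appFun 𝒜 h U s) x = locMap 𝒜 x.1 φ (sval 𝒜 ℳ s x) := rfl

variable {ℳ 𝒩} in
/-- The map of modules induced by a linear map of graded modules. -/
def tmap {φ : M →ₗ[A] N} {n n' : ℤ} (h : IsDeg ℳ 𝒩 φ n n') : tilde 𝒜 ℳ n ⟶ tilde 𝒜 𝒩 n' :=
  ⟨PresheafOfModules.homMk
    { app := fun W => AddCommGrpCat.ofHom
        (AddMonoidHom.mk' (appFun 𝒜 h W.unop) fun a b =>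
          sval_ext 𝒜 𝒩 fun x => map_add (locMap 𝒜 x.1 φ) (sval 𝒜 ℳ a x) (sval 𝒜 ℳ b x))
      naturality := fun W W' i => by
        ext s
        rfl }
    fun W (r : Γ(Proj 𝒜, W.unop)) (s : Γ(tilde 𝒜 ℳ n, W.unop)) =>
      sval_ext 𝒜 𝒩 fun x => map_smul (locMap 𝒜 x.1 φ) (fval 𝒜 r x) (sval 𝒜 ℳ s x)⟩

variable {ℳ 𝒩} in
theorem sval_tmap {φ : M →ₗ[A] N} {n n' : ℤ} (h : IsDeg ℳ 𝒩 φ n n') {U : (Proj 𝒜).Opens}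
    (s : Γ(tilde 𝒜 ℳ n, U)) (x : U) :
    sval 𝒜 𝒩 ((tmap 𝒜 h).app U s) x = locMap 𝒜 x.1 φ (sval 𝒜 ℳ s x) := rfl

variable {ℳ 𝒩 𝒬}

theorem hom_ext {n n' : ℤ} {f g : tilde 𝒜 ℳ n ⟶ tilde 𝒜 𝒩 n'}
    (h : ∀ (U : (Proj 𝒜).Opens) (s : Γ(tilde 𝒜 ℳ n, U)) (x : U),
      sval 𝒜 𝒩 (f.app U s) x = sval 𝒜 𝒩 (g.app U s) x) : f = g := by
  refine Scheme.Modules.hom_ext _ _ fun U => ?_
  ext s
  exact sval_ext 𝒜 𝒩 (h U s)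

theorem tmap_comp {φ : M →ₗ[A] N} {ψ : N →ₗ[A] P} {n n' n'' : ℤ} (h : IsDeg ℳ 𝒩 φ n n')
    (h' : IsDeg 𝒩 𝒬 ψ n' n'') (h'' : IsDeg ℳ 𝒬 (ψ.comp φ) n n'') :
    tmap 𝒜 h ≫ tmap 𝒜 h' = tmap 𝒜 h'' :=
  hom_ext 𝒜 fun _ s x => (locMap_comp 𝒜 x.1 φ ψ (sval 𝒜 ℳ s x)).symm

theorem tmap_congr {φ φ' : M →ₗ[A] N} (e : φ = φ') {n n' : ℤ} (h : IsDeg ℳ 𝒩 φ n n')
    (h' : IsDeg ℳ 𝒩 φ' n n') : tmap 𝒜 h = tmap 𝒜 h' := by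
  subst e; rfl

theorem tmap_id {n : ℤ} (h : IsDeg ℳ ℳ (LinearMap.id : M →ₗ[A] M) n n) : tmap 𝒜 h = 𝟙 (tilde 𝒜 ℳ n) :=
  hom_ext 𝒜 fun _ s x => locMap_id 𝒜 x.1 (sval 𝒜 ℳ s x)

theorem tmap_zero {n n' : ℤ} (h : IsDeg ℳ 𝒩 (0 : M →ₗ[A] N) n n') : tmap 𝒜 h = 0 :=
  hom_ext 𝒜 fun _ s x => locMap_zero 𝒜 x.1 (sval 𝒜 ℳ s x)

theorem tmap_add {φ φ' : M →ₗ[A] N} {n n' : ℤ} (h : IsDeg ℳ 𝒩 φ n n') (h' : IsDeg ℳ 𝒩 φ' n n')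
    (h'' : IsDeg ℳ 𝒩 (φ + φ') n n') : tmap 𝒜 h'' = tmap 𝒜 h + tmap 𝒜 h' :=
  hom_ext 𝒜 fun _ s x => locMap_add 𝒜 x.1 φ φ' (sval 𝒜 ℳ s x)

variable (𝒬) in
/-- A homogeneous element is killed by every homogeneous component of an element killing it. -/
def SepComp : Prop :=
  ∀ (a : A) (i : ℕ) (m : P), m ∈ 𝒬 i → a • m = 0 → ∀ j, (DirectSum.decompose 𝒜 a j : A) • m = 0

theorem exists_homogeneous_kill (hsep : SepComp 𝒜 𝒬) (x : ProjectiveSpectrum 𝒜) {i : ℕ} {m : P} (hm : m ∈ 𝒬 i)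
    {t : A} (ht : t ∉ x.asHomogeneousIdeal) (htm : t • m = 0) :
    ∃ (e : ℕ) (t' : A), t' ∈ 𝒜 e ∧ t' ∉ x.asHomogeneousIdeal ∧ t' • m = 0 := by
  classical
  by_contra hne
  push Not at hne
  refine ht ?_
  rw [← DirectSum.sum_support_decompose 𝒜 t]
  refine sum_mem fun e _ => ?_
  by_contra hc
  exact hne e _ (DirectSum.decompose 𝒜 t e).2 hc (hsep t i m hm htm e)

theorem exact_tmap' {φ : M →ₗ[A] N} {ψ : N →ₗ[A] P} {n₁ n n₂ : ℤ} (h : IsDeg ℳ 𝒩 φ n₁ n)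
    (h' : IsDeg 𝒩 𝒬 ψ n n₂) (hsep : SepComp 𝒜 𝒬)
    (hex : ∀ (x : ProjectiveSpectrum 𝒜) (i j : ℕ) (y : N), y ∈ 𝒩 i → (i : ℤ) = j + n → ψ y = 0 →
      ∃ (e : ℕ) (t : A), t ∈ 𝒜 e ∧ t ∉ x.asHomogeneousIdeal ∧
        (t • y = 0 ∨ ∃ (l : ℕ) (q : M), q ∈ ℳ l ∧ (l : ℤ) = (e + j : ℕ) + n₁ ∧ φ q = t • y))
    (hw : tmap 𝒜 h ≫ tmap 𝒜 h' = 0) : (ShortComplex.mk _ _ hw).Exact := by
  refine exact_of_locally _ fun W t ht x hx => ?_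
  change Γ(tilde 𝒜 𝒩 n, W) at t
  obtain ⟨V, hxV, iV, i, j, ⟨m, hm⟩, ⟨c, hc⟩, cnin, hd, hwt⟩ := (show sect 𝒜 𝒩 n (op W) from t).2 ⟨x, hx⟩
  replace hd : (i : ℤ) = j + n ∨ m = 0 := hd
  rcases hd with hd | hd
  swap
  · refine ⟨V, iV.le, hxV, 0, ?_⟩
    refine (map_zero _).trans (sval_ext 𝒜 𝒩 fun y => Eq.symm ?_)
    refine (hwt y).trans ?_
    change LocalizedModule.mk m _ = (0 : LocMod 𝒜 (M := N) y.1)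
    rw [hd, LocalizedModule.zero_mk]
  have hψ : fracAt 𝒜 x (ψ m) c (cnin ⟨x, hxV⟩) = 0 := by
    have h1 : sval 𝒜 𝒬 ((tmap 𝒜 h').app W t) ⟨x, hx⟩ = 0 := congrArg (fun s => sval 𝒜 𝒬 s ⟨x, hx⟩) ht
    refine Eq.trans ?_ h1
    exact ((congrArg (locMap 𝒜 x ψ) (hwt ⟨x, hxV⟩)).trans (locMap_frac 𝒜 x ψ m c _)).symm
  obtain ⟨e, t', ht', ht'x, ht'm⟩ : ∃ (e : ℕ) (t' : A), t' ∈ 𝒜 e ∧ t' ∉ x.asHomogeneousIdeal ∧ t' • ψ m = 0 := by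
    rcases h' i j m hm hd with h0 | ⟨i', hm', -⟩
    · exact ⟨0, 1, SetLike.GradedOne.one_mem, GrMod.one_nin x, by rw [h0, smul_zero]⟩
    · obtain ⟨t₀, ht₀, ht₀m⟩ := (fracAt_eq_zero_iff 𝒜 x (ψ m) c _).1 hψ
      exact exists_homogeneous_kill 𝒜 hsep x hm' ht₀ ht₀m
  obtain ⟨e₂, t₂, ht₂, ht₂x, hy⟩ := hex x (e + i) (e + j) (t' • m) (SetLike.GradedSMul.smul_mem ht' hm)
    (by push_cast; omega) (by rw [map_smul, ht'm])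
  simp only [← mul_smul] at hy
  rcases hy with hy | ⟨l, q, hq, hl, hφq⟩
  · let V' : (Proj 𝒜).Opens := (show (Proj 𝒜).Opens from V) ⊓ Proj.basicOpen 𝒜 (t₂ * t')
    refine ⟨V', inf_le_left.trans iV.le, ⟨hxV, mul_notMem 𝒜 ht₂x ht'x⟩, 0, ?_⟩
    refine (map_zero _).trans (sval_ext 𝒜 𝒩 fun y => Eq.symm ?_)
    refine (hwt ⟨y.1, y.2.1⟩).trans ?_
    exact (fracAt_eq_zero_iff 𝒜 y.1 m c _).2 ⟨t₂ * t', y.2.2, hy⟩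
  · let V' : (Proj 𝒜).Opens := (show (Proj 𝒜).Opens from V) ⊓ Proj.basicOpen 𝒜 (t₂ * t')
    have hnin : ∀ y ∈ V', t₂ * t' * c ∉ y.asHomogeneousIdeal := fun y hy => mul_notMem 𝒜 hy.2 (cnin ⟨y, hy.1⟩)
    refine ⟨V', inf_le_left.trans iV.le, ⟨hxV, mul_notMem 𝒜 ht₂x ht'x⟩,
      secOf 𝒜 ℳ hq (SetLike.mul_mem_graded (SetLike.mul_mem_graded ht₂ ht') hc) hnin (by push_cast at hl ⊢; omega), sval_ext 𝒜 𝒩 fun y => ?_⟩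
    refine Eq.trans ?_ (hwt ⟨y.1, y.2.1⟩).symm
    refine ((congrArg (locMap 𝒜 y.1 φ) (secOf_apply 𝒜 ℳ hq _ hnin _ y)).trans
      (locMap_frac 𝒜 y.1 φ q _ (hnin y.1 y.2))).trans ?_
    exact (fracAt_congr 𝒜 y.1 _ _ hφq rfl).trans (fracAt_mul 𝒜 y.1 m c (t₂ * t') (cnin ⟨y.1, y.2.1⟩) (hnin y.1 y.2))

theorem exact_tmap {φ : M →ₗ[A] N} {ψ : N →ₗ[A] P} {n₁ n n₂ : ℤ} (h : IsDeg ℳ 𝒩 φ n₁ n)
    (h' : IsDeg 𝒩 𝒬 ψ n n₂) (hsep : SepComp 𝒜 𝒬)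
    (hex : ∀ (i j : ℕ) (y : N), y ∈ 𝒩 i → (i : ℤ) = j + n → ψ y = 0 →
      y = 0 ∨ ∃ (l : ℕ) (q : M), q ∈ ℳ l ∧ (l : ℤ) = j + n₁ ∧ φ q = y)
    (hw : tmap 𝒜 h ≫ tmap 𝒜 h' = 0) : (ShortComplex.mk _ _ hw).Exact := by
  refine exact_tmap' 𝒜 h h' hsep (fun x i j y hy hd hψy => ?_) hw
  refine ⟨0, 1, SetLike.GradedOne.one_mem, GrMod.one_nin x, ?_⟩
  rcases hex i j y hy hd hψy with rfl | ⟨l, q, hq, hl, hφq⟩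
  · exact Or.inl (smul_zero _)
  · exact Or.inr ⟨l, q, hq, by simpa using hl, by rw [hφq, one_smul]⟩

theorem epi_tmap {φ : M →ₗ[A] N} {n₁ n : ℤ} (h : IsDeg ℳ 𝒩 φ n₁ n)
    (hex : ∀ (i j : ℕ) (y : N), y ∈ 𝒩 i → (i : ℤ) = j + n →
      y = 0 ∨ ∃ (l : ℕ) (q : M), q ∈ ℳ l ∧ (l : ℤ) = j + n₁ ∧ φ q = y) : Epi (tmap 𝒜 h) := by
  refine epi_of_locally_surjective _ fun W t x hx => ?_
  obtain ⟨V, hxV, iV, i, j, ⟨m, hm⟩, ⟨c, hc⟩, cnin, hd, hwt⟩ := (show sect 𝒜 𝒩 n (op W) from t).2 ⟨x, hx⟩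
  replace hd : (i : ℤ) = j + n ∨ m = 0 := hd
  have hcases : m = 0 ∨ ∃ (l : ℕ) (q : M), q ∈ ℳ l ∧ (l : ℤ) = j + n₁ ∧ φ q = m := by
    rcases hd with hd | hd
    · exact hex i j m hm hd
    · exact Or.inl hd
  rcases hcases with h0 | ⟨l, q, hq, hl, hφq⟩
  · refine ⟨V, iV.le, hxV, 0, ?_⟩
    refine (map_zero _).trans (sval_ext 𝒜 𝒩 fun y => Eq.symm ?_)
    refine (hwt y).trans ?_
    change LocalizedModule.mk m _ = (0 : LocMod 𝒜 (M := N) y.1)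
    rw [h0, LocalizedModule.zero_mk]
  · refine ⟨V, iV.le, hxV, secOf 𝒜 ℳ hq hc (fun y hy => cnin ⟨y, hy⟩) hl, sval_ext 𝒜 𝒩 fun y => ?_⟩
    refine Eq.trans ?_ (hwt y).symm
    refine ((congrArg (locMap 𝒜 y.1 φ) (secOf_apply 𝒜 ℳ hq hc (fun y hy => cnin ⟨y, hy⟩) hl y)).trans
      (locMap_frac 𝒜 y.1 φ q c (cnin y))).trans ?_
    exact fracAt_congr 𝒜 y.1 _ _ hφq rfl

end Groth.Agent.H3CAlg.TildeMap
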