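import Groth.Agent.H3CAlg.TildeMap
import Groth.Agent.H3CAlg.Syz.Std
import Groth.Agent.H3CAlg.Syz.Compare
import Groth.Agent.H10Coh.SerreVanishing
import Groth.Agent.H7Lim.ModExact
import Groth.Prelude.Def_Curv2
import Groth.Prelude.Def_GrMod2

/-!
# Regularity of the sheaf attached to a module with a graded free resolution
-/

set_option autoImplicit false
set_option linter.style.haveILetI false

noncomputable section

universe u

open CategoryTheory CategoryTheory.Limits AlgebraicGeometry TopologicalSpace Opposite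
open Groth.Agent.H11Tilde Groth.Agent.H3CAlg.TildeMap Groth.Agent.H3CAlg.Syz GrMod
open Groth.Agent.H10Coh

namespace Groth.Agent.H3CAlg.TildeReg

attribute [local instance 10000] hasSheafifyAb hasWeakSheafifyAb hasExtAb enoughInjAb

variable (k : Type u) [Field k] (r : ℕ)

/-- The polynomial ring. -/
abbrev S : Type u := MvPolynomial (Fin (r + 1)) k

theorem polyGr_eq (j : ℕ) : CohB1.polyGrading r k j = GrSyz.stdGr k (Fin (r + 1)) (j : ℤ) :=
  (stdGr_natCast j).symm

/-- The non-negative pieces of the graded free module with basis degrees `deg`. -/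
def FP {m : ℕ} (deg : Fin m → ℤ) (j : ℕ) : Submodule k (Fin m → S k r) where
  carrier := {v | ∀ b, v b ∈ GrSyz.stdGr k (Fin (r + 1)) ((j : ℤ) - deg b)}
  add_mem' h h' b := add_mem (h b) (h' b)
  zero_mem' b := zero_mem _
  smul_mem' c _ h b := Submodule.smul_mem _ c (h b)

variable {k r}

theorem mem_FP {m : ℕ} {deg : Fin m → ℤ} {j : ℕ} {v : Fin m → S k r} :
    v ∈ FP k r deg j ↔ ∀ b, v b ∈ GrSyz.stdGr k (Fin (r + 1)) ((j : ℤ) - deg b) := Iff.rfl

instance {m : ℕ} (deg : Fin m → ℤ) : SetLike.GradedSMul (CohB1.polyGrading r k) (FP k r deg) where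
  smul_mem {i j a v} ha hv := by
    rw [polyGr_eq] at ha
    refine mem_FP.2 fun b => ?_
    have h := SetLike.mul_mem_graded ha (mem_FP.1 hv b)
    rw [vadd_eq_add, Nat.cast_add, add_sub_assoc]
    exact h

theorem pres_isDeg {M N : Type u} [AddCommGroup M] [Module k M] [Module (S k r) M] [AddCommGroup N]
    [Module k N] [Module (S k r) N] {ℳ : ℕ → Submodule k M} {𝒩 : ℕ → Submodule k N} {φ : M →ₗ[S k r] N}
    (h : ∀ (i : ℕ) (m : M), m ∈ ℳ i → φ m ∈ 𝒩 i) (n : ℤ) : IsDeg ℳ 𝒩 φ n n :=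
  fun i _ m hm hd => Or.inr ⟨i, h i m hm, hd⟩

/-- The inclusion of the `b`-th summand. -/
abbrev inc {m : ℕ} (b : Fin m) : S k r →ₗ[S k r] (Fin m → S k r) :=
  LinearMap.single (S k r) (fun _ : Fin m => S k r) b

/-- The projection to the `b`-th summand. -/
abbrev prj {m : ℕ} (b : Fin m) : (Fin m → S k r) →ₗ[S k r] S k r := LinearMap.proj b

theorem isDeg_inc {m : ℕ} (deg : Fin m → ℤ) (b : Fin m) :
    IsDeg (CohB1.polyGrading r k) (FP k r deg) (inc b) (-deg b) 0 := by
  intro i j a ha hd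
  refine Or.inr ⟨j, mem_FP.2 fun c => ?_, by simp⟩
  rcases eq_or_ne c b with rfl | hc
  · rw [polyGr_eq] at ha
    simp only [LinearMap.coe_single, Pi.single_eq_same]
    rwa [show (j : ℤ) - deg c = i by omega]
  · simp only [LinearMap.coe_single, Pi.single_eq_of_ne hc]
    exact zero_mem _

theorem isDeg_prj {m : ℕ} (deg : Fin m → ℤ) (b : Fin m) :
    IsDeg (FP k r deg) (CohB1.polyGrading r k) (prj b) 0 (-deg b) := by
  intro i j v hv hd
  have h := mem_FP.1 hv b
  rcases lt_or_ge ((i : ℤ) - deg b) 0 with hneg | hpos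
  · exact Or.inl (stdGr_eq_zero hneg h)
  · refine Or.inr ⟨((i : ℤ) - deg b).toNat, ?_, by omega⟩
    rw [polyGr_eq, Int.toNat_of_nonneg hpos]
    exact h

theorem tmap_finset_sum {M N : Type u} [AddCommGroup M] [Module k M] [Module (S k r) M] [AddCommGroup N]
    [Module k N] [Module (S k r) N] {ℳ : ℕ → Submodule k M} [SetLike.GradedSMul (CohB1.polyGrading r k) ℳ]
    {𝒩 : ℕ → Submodule k N} [SetLike.GradedSMul (CohB1.polyGrading r k) 𝒩] {ι : Type} [DecidableEq ι]
    (φ : ι → M →ₗ[S k r] N) (h : ∀ b (i : ℕ) (m : M), m ∈ ℳ i → φ b m ∈ 𝒩 i) (s : Finset ι) :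
    tmap (CohB1.polyGrading r k) (pres_isDeg (ℳ := ℳ) (𝒩 := 𝒩) (φ := ∑ b ∈ s, φ b) (fun i m hm => by
      rw [LinearMap.sum_apply]; exact sum_mem fun b _ => h b i m hm) 0) =
      ∑ b ∈ s, tmap (CohB1.polyGrading r k) (pres_isDeg (h b) 0) := by
  induction s using Finset.induction_on with
  | empty =>
    refine Eq.trans ?_ Finset.sum_empty.symm
    exact (tmap_congr _ Finset.sum_empty _ (pres_isDeg (fun i m _ => zero_mem _) 0)).trans (tmap_zero _ _)
  | insert b s hb ih =>
    refine Eq.trans ?_ ((congrArg (_ + ·) ih).trans (Finset.sum_insert hb).symm)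
    exact (tmap_congr _ (Finset.sum_insert hb) _
      (pres_isDeg (φ := φ b + ∑ c ∈ s, φ c) (fun i m hm => by
        rw [LinearMap.add_apply, LinearMap.sum_apply]
        exact add_mem (h b i m hm) (sum_mem fun c _ => h c i m hm)) 0)).trans (tmap_add _ _ _ _)

/-- The sheaf of a free graded module is the sum of twists. -/
theorem nonempty_sigma_iso {m : ℕ} (deg : Fin m → ℤ) :
    Nonempty ((∐ fun b => Pn.Od r k (-deg b)) ≅ GrMod.tilde (CohB1.polyGrading r k) (FP k r deg) 0) := by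
  classical
  let j : ∀ b, Pn.Od r k (-deg b) ⟶ GrMod.tilde (CohB1.polyGrading r k) (FP k r deg) 0 :=
    fun b => tmap (CohB1.polyGrading r k) (isDeg_inc deg b)
  let p : ∀ b, GrMod.tilde (CohB1.polyGrading r k) (FP k r deg) 0 ⟶ Pn.Od r k (-deg b) :=
    fun b => tmap (CohB1.polyGrading r k) (isDeg_prj deg b)
  have hδ : ∀ b c : Fin m, (prj c).comp (inc b) = if c = b then (LinearMap.id : S k r →ₗ[S k r] S k r) else 0 := by
    intro b c
    refine LinearMap.ext fun a => ?_
    rcases eq_or_ne c b with rfl | hc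
    · simp
    · simp [hc]
  have hdiag : ∀ b, j b ≫ p b = 𝟙 _ := fun b => by
    have hid : IsDeg (CohB1.polyGrading r k) (CohB1.polyGrading r k) (LinearMap.id : S k r →ₗ[S k r] S k r)
        (-deg b) (-deg b) := pres_isDeg (fun _ _ h => h) _
    have e : (prj b).comp (inc b) = (LinearMap.id : S k r →ₗ[S k r] S k r) := (hδ b b).trans (if_pos rfl)
    have hcomp : IsDeg (CohB1.polyGrading r k) (CohB1.polyGrading r k) ((prj b).comp (inc b))
        (-deg b) (-deg b) := by rw [e]; exact hid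
    exact ((tmap_comp _ _ _ hcomp).trans (tmap_congr _ e hcomp hid)).trans (tmap_id _ hid)
  have hoff : ∀ b c, c ≠ b → j b ≫ p c = 0 := fun b c hne => by
    have hz : IsDeg (CohB1.polyGrading r k) (CohB1.polyGrading r k) (0 : S k r →ₗ[S k r] S k r)
        (-deg b) (-deg c) := fun _ _ _ _ _ => Or.inl rfl
    have e : (prj c).comp (inc b) = (0 : S k r →ₗ[S k r] S k r) := (hδ b c).trans (if_neg hne)
    have hcomp : IsDeg (CohB1.polyGrading r k) (CohB1.polyGrading r k) ((prj c).comp (inc b))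
        (-deg b) (-deg c) := by rw [e]; exact hz
    exact ((tmap_comp _ _ _ hcomp).trans (tmap_congr _ e hcomp hz)).trans (tmap_zero _ hz)
  have hpres : ∀ b (i : ℕ) (v : Fin m → S k r), v ∈ FP k r deg i → (inc b).comp (prj b) v ∈ FP k r deg i := by
    intro b i v hv
    refine mem_FP.2 fun c => ?_
    rcases eq_or_ne c b with rfl | hc
    · simpa using mem_FP.1 hv c
    · simp [hc]
  have hsum : ∑ b, p b ≫ j b = 𝟙 (GrMod.tilde (CohB1.polyGrading r k) (FP k r deg) 0) := by
    have e : ∑ b : Fin m, (inc b).comp (prj (k := k) (r := r) b) = LinearMap.id := by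
      refine LinearMap.ext fun v => ?_
      simp only [LinearMap.sum_apply, LinearMap.comp_apply, LinearMap.coe_single, LinearMap.proj_apply,
        LinearMap.id_apply]
      exact Finset.univ_sum_single v
    have h1 : ∀ b, p b ≫ j b = tmap (CohB1.polyGrading r k) (pres_isDeg (hpres b) 0) := fun b =>
      tmap_comp _ _ _ (pres_isDeg (hpres b) 0)
    rw [Finset.sum_congr rfl fun b _ => h1 b, ← tmap_finset_sum _ hpres Finset.univ]
    exact (tmap_congr _ e _ (pres_isDeg (fun _ _ h => h) 0)).trans (tmap_id _ _)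
  refine ⟨⟨Sigma.desc j, ∑ b, p b ≫ Sigma.ι (fun b => Pn.Od r k (-deg b)) b, ?_, ?_⟩⟩
  · refine Sigma.hom_ext _ _ fun b => ?_
    rw [Sigma.ι_desc_assoc, Preadditive.comp_sum, Category.comp_id, Finset.sum_eq_single b]
    · rw [← Category.assoc, hdiag, Category.id_comp]
    · intro c _ hne
      rw [← Category.assoc, hoff b c hne, zero_comp]
    · exact fun h => absurd (Finset.mem_univ b) h
  · rw [Preadditive.sum_comp]
    refine (Finset.sum_congr rfl fun b _ => ?_).trans hsum
    rw [Category.assoc, Sigma.ι_desc]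

theorem h1 (x : Proj (Pn.Gr r k)) : ∃ f ∈ Pn.Gr r k 1, f ∉ x.asHomogeneousIdeal := by
  obtain ⟨i, hi⟩ := H11Ample.exists_mem_basicOpen_X (n := r) (R := k) x
  exact ⟨_, H11Ample.X_mem i, hi⟩

theorem isInvertible_Od (e : ℤ) : PicF.IsInvertible (Pn.Od r k e) :=
  isInvertible_twist (Pn.Gr r k) h1 e

theorem isQCoh_free {m : ℕ} (deg : Fin m → ℤ) :
    Coh.IsQCoh (GrMod.tilde (CohB1.polyGrading r k) (FP k r deg) 0) := by
  obtain ⟨e⟩ := nonempty_sigma_iso (k := k) (r := r) deg
  haveI : (∐ fun b => Pn.Od r k (-deg b)).IsQuasicoherent :=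
    (isCoh_sigma _ fun b => ProjQ.isCoh_tilde_twist (Pn.Gr r k) (-deg b)).1
  exact isQuasicoherent_of_iso e

/-- Higher cohomology of a twisted free module. -/
theorem subsingleton_free {m : ℕ} (deg : Fin m → ℤ) (e : ℤ) (p : ℕ) (hp : 1 ≤ p)
    (h : ∀ b, p = r → -((r : ℤ) + 1) < e - deg b) :
    Subsingleton (HnM (CohB1.tensorMod (GrMod.tilde (CohB1.polyGrading r k) (FP k r deg) 0) (Pn.Od r k e)) p ⊤) := by
  obtain ⟨iso⟩ := nonempty_sigma_iso (k := k) (r := r) deg
  refine Tw.subsingleton_of_iso (M := CohB1.tensorMod (∐ fun b => Pn.Od r k (-deg b)) (Pn.Od r k e))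
    ⟨LimSh.tensorModMap iso.hom _, LimSh.tensorModMap iso.inv _, ?_, ?_⟩
    (Tw.subsingleton_sigma_tensor _ (isInvertible_Od e) fun b => ?_)
  · rw [← LimSh.tensorModMap_comp, iso.hom_inv_id, LimSh.tensorModMap_id]
  · rw [← LimSh.tensorModMap_comp, iso.inv_hom_id, LimSh.tensorModMap_id]
  obtain ⟨e'⟩ : Nonempty (CohB1.tensorMod (Pn.Od r k (-deg b)) (Pn.Od r k e) ≅ Pn.Od r k (e - deg b)) :=
    nonempty_tilde_tensor_iso (Pn.Gr r k) (Pn.Gr r k) (by ring) (cover_of_degOne (Pn.Gr r k) h1 e)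
  refine Tw.subsingleton_of_iso e'.symm ?_
  exact @Equiv.subsingleton _ _ (HHEquiv _ p).toEquiv.symm
    (Pn.subsingleton_HH_Od (R := k) (d := e - deg b) p (by omega) (fun hc => by
      have := h b hc.1
      omega))

end Groth.Agent.H3CAlg.TildeReg
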