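import Groth.Agent.H10Coh.SerreVanishing
import Groth.Agent.H7Lim.ModExact

/-!
# Sections and cohomology along exact sequences of modules
-/

set_option autoImplicit false
set_option linter.style.haveILetI false

noncomputable section

universe u

open CategoryTheory CategoryTheory.Limits AlgebraicGeometry TopologicalSpace Opposite
open Groth.Agent.H10Coh

namespace Groth.Agent.H3CAlg.TildeSES

attribute [local instance 10000] hasSheafifyAb hasWeakSheafifyAb hasExtAb enoughInjAb

variable {X : Scheme.{u}}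

/-- `F` is a retract of `G`. -/
def Retr (F G : X.Modules) : Prop := ∃ (i : F ⟶ G) (p : G ⟶ F), i ≫ p = 𝟙 F

theorem Retr.rfl' (F : X.Modules) : Retr F F := ⟨𝟙 F, 𝟙 F, Category.id_comp _⟩

theorem Retr.trans {F G K : X.Modules} (h : Retr F G) (h' : Retr G K) : Retr F K := by
  obtain ⟨i, p, hip⟩ := h
  obtain ⟨i', p', hip'⟩ := h'
  exact ⟨i ≫ i', p' ≫ p, by rw [Category.assoc, ← Category.assoc i', hip', Category.id_comp, hip]⟩

theorem Retr.subsingleton {F G : X.Modules} (h : Retr F G) {n : ℕ} {U : X.Opens}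
    (hG : Subsingleton (HnM G n U)) : Subsingleton (HnM F n U) := by
  obtain ⟨i, p, hip⟩ := h
  refine Tw.subsingleton_of_sum_eq_id (ι := Unit) (P := fun _ => sh G) (fun _ => (shF X).map i)
    (fun _ => (shF X).map p) ?_ (fun _ => hG)
  simp only [Finset.univ_unique, Finset.sum_singleton]
  exact ((shF X).map_comp i p).symm.trans ((congrArg (shF X).map hip).trans ((shF X).map_id F))

theorem subsingleton_of_pair {F A B : X.Modules} (p₁ : F ⟶ A) (j₁ : A ⟶ F) (p₂ : F ⟶ B) (j₂ : B ⟶ F)
    (h : p₁ ≫ j₁ + p₂ ≫ j₂ = 𝟙 F) {n : ℕ} {U : X.Opens}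
    (hA : Subsingleton (HnM A n U)) (hB : Subsingleton (HnM B n U)) : Subsingleton (HnM F n U) := by
  refine Tw.subsingleton_of_sum_eq_id (ι := Bool)
    (P := fun b => match b with | true => sh A | false => sh B)
    (fun b => match b with | true => (shF X).map p₁ | false => (shF X).map p₂)
    (fun b => match b with | true => (shF X).map j₁ | false => (shF X).map j₂) ?_ ?_
  · rw [Fintype.sum_bool]
    exact ((congrArg₂ (· + ·) ((shF X).map_comp p₁ j₁).symm ((shF X).map_comp p₂ j₂).symm).trans
      (Functor.map_add (shF X)).symm).trans ((congrArg (shF X).map h).trans ((shF X).map_id F))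
  · rintro (_ | _)
    · exact hB
    · exact hA

theorem subsingleton_of_id_eq_zero {F : X.Modules} (h : 𝟙 F = 0) (n : ℕ) (U : X.Opens) :
    Subsingleton (HnM F n U) := by
  refine Tw.subsingleton_of_sum_eq_id (ι := Fin 0) (P := fun _ => sh F) (fun b => b.elim0) (fun b => b.elim0) ?_
    (fun b => b.elim0)
  rw [Finset.univ_eq_empty, Finset.sum_empty]
  exact ((shF X).map_id F).symm.trans ((congrArg (shF X).map h).trans ((shF X).map_zero F F)) |>.symm

theorem id_kernel_eq_zero {F G : X.Modules} (f : F ⟶ G) (h : 𝟙 F = 0) : 𝟙 (kernel f) = 0 := by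
  rw [← cancel_mono (kernel.ι f), Category.id_comp, zero_comp, ← Category.comp_id (kernel.ι f), h, comp_zero]

theorem isIso_kernel_ι {F G : X.Modules} (f : F ⟶ G) (h : 𝟙 G = 0) : IsIso (kernel.ι f) := by
  have hf : f = 0 := by rw [← Category.comp_id f, h, comp_zero]
  exact ⟨kernel.lift f (𝟙 F) (by rw [Category.id_comp, hf]),
    by rw [← cancel_mono (kernel.ι f), Category.assoc, kernel.lift_ι, Category.comp_id, Category.id_comp],
    kernel.lift_ι _ _ _⟩

/-- From an exact pair `A → B → C` the sequence `ker f → A → ker g` is short exact. -/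
theorem shortExact_lift {A B C : X.Modules} (f : A ⟶ B) (g : B ⟶ C) (w : f ≫ g = 0)
    (hex : (ShortComplex.mk f g w).Exact) :
    (ShortComplex.mk (kernel.ι f) (kernel.lift g f w)
      (by rw [← cancel_mono (kernel.ι g), Category.assoc, kernel.lift_ι, kernel.condition, zero_comp])).ShortExact where
  exact := by
    let φ : ShortComplex.mk (kernel.ι f) (kernel.lift g f w)
        (by rw [← cancel_mono (kernel.ι g), Category.assoc, kernel.lift_ι, kernel.condition, zero_comp]) ⟶
        ShortComplex.mk (kernel.ι f) f (kernel.condition f) :=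
      { τ₁ := 𝟙 _, τ₂ := 𝟙 _, τ₃ := kernel.ι g
        comm₁₂ := by simp
        comm₂₃ := by simp }
    haveI : Epi φ.τ₁ := inferInstanceAs (Epi (𝟙 _))
    haveI : IsIso φ.τ₂ := inferInstanceAs (IsIso (𝟙 _))
    haveI : Mono φ.τ₃ := inferInstanceAs (Mono (kernel.ι g))
    exact (ShortComplex.exact_iff_of_epi_of_isIso_of_mono φ).2 (ShortComplex.exact_kernel f)
  mono_f := inferInstanceAs (Mono (kernel.ι f))
  epi_g := (H7Lim.ModExact.exact_iff_epi_lift f g w).1 hex

/-- The step of a dimension shift. -/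
theorem subsingleton_kernel_of_exact {A B C : X.Modules} (f : A ⟶ B) (g : B ⟶ C) (w : f ≫ g = 0)
    (hex : (ShortComplex.mk f g w).Exact) {n : ℕ} {U : X.Opens} (hA : Subsingleton (HnM A n U))
    (hK : Subsingleton (HnM (kernel f) (n + 1) U)) : Subsingleton (HnM (kernel g) n U) :=
  Tw.subsingleton_X₃ (shortExact_sh (shortExact_lift f g w hex)) hA hK

/-- A section killed by `g` comes from `A` when `H¹` of the kernel of `f` vanishes. -/
theorem exists_app_eq {A B C : X.Modules} (f : A ⟶ B) (g : B ⟶ C) (w : f ≫ g = 0)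
    (hex : (ShortComplex.mk f g w).Exact) (U : X.Opens) (h : Subsingleton (HnM (kernel f) 1 U))
    (σ : Γ(B, U)) (hσ : g.app U σ = 0) : ∃ τ : Γ(A, U), f.app U τ = σ := by
  have h1 : (Abelian.factorThruImage g).app U σ = 0 := by
    refine injective_app_of_mono' (Abelian.image.ι g) U ?_
    refine Eq.trans ?_ (map_zero _).symm
    exact (congr($(congrArg (fun k => Scheme.Modules.Hom.app k U) (Abelian.image.fac g)) σ)).trans hσ
  obtain ⟨ρ, hρ⟩ := exists_app_eq_of_exact (shortExact_kernel (Abelian.factorThruImage g)) U σ h1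
  have hw : kernel.ι (Abelian.factorThruImage g) ≫ g = 0 :=
    (congrArg (kernel.ι (Abelian.factorThruImage g) ≫ ·) (Abelian.image.fac g)).symm.trans
      (by rw [← Category.assoc, kernel.condition, zero_comp])
  let ρ' : Γ(kernel g, U) := (kernel.lift g (kernel.ι (Abelian.factorThruImage g)) hw).app U ρ
  have hρ' : (kernel.ι g).app U ρ' = σ :=
    (congr($(congrArg (fun k => Scheme.Modules.Hom.app k U) (kernel.lift_ι g _ hw)) ρ)).trans hρ
  obtain ⟨τ, hτ⟩ := surjective_app_of_subsingleton_HnM (shortExact_lift f g w hex) U h ρ'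
  refine ⟨τ, ?_⟩
  refine Eq.trans ?_ hρ'
  rw [← hτ]
  exact (congr($(congrArg (fun k => Scheme.Modules.Hom.app k U) (kernel.lift_ι g f w)) τ)).symm

end Groth.Agent.H3CAlg.TildeSES
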