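import Groth.Agent.H3CAlg.TildeDReg

/-!
# Sections of `M(d)~` for a module with regularity at most `d`
-/

set_option autoImplicit false
set_option linter.style.haveILetI false

noncomputable section

universe u

open CategoryTheory CategoryTheory.Limits AlgebraicGeometry TopologicalSpace Opposite
open Groth.Agent.H11Tilde Groth.Agent.H3CAlg.TildeMap Groth.Agent.H3CAlg.Syz GrMod
open Groth.Agent.H10Coh Groth.Agent.H3CAlg.TildeSES Groth.Agent.H3CAlg.TildeReg MvPolynomial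

namespace Groth.Agent.H3CAlg.TildeSurj

attribute [local instance 10000] hasSheafifyAb hasWeakSheafifyAb hasExtAb enoughInjAb

variable {k : Type u} [Field k] {r : ℕ}

/-- Global sections of `O(a)` are the forms of degree `a`. -/
theorem exists_of_section (a : ℕ) (σ : Γ(Pn.Od r k (a : ℤ), (⊤ : (Proj (Pn.Gr r k)).Opens))) :
    ∃ m ∈ CohB1.polyGrading r k a, ∀ x,
      sval (Pn.Gr r k) (Pn.Gr r k) σ x = fracAt (Pn.Gr r k) x.1 m 1 (GrMod.one_nin x.1) := by
  obtain ⟨m, hm⟩ := (Pn.homToAllowed_bijective a).2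
    (⟨Pn.psiG σ, Pn.psiG_mem σ (Or.inr (Int.natCast_nonneg a))⟩ :
      ↥(Pn.allowedSub k (a : ℤ) (∅ : Set (Fin (r + 1)))))
  let τ : Γ(Pn.Od r k (a : ℤ), (⊤ : (Proj (Pn.Gr r k)).Opens)) :=
    GrMod.alpha (Pn.Gr r k) (Pn.Gr r k) a ⟨m.1, m.2⟩
  have hτ : Pn.psiG τ = Pn.toL r k m.1 := by
    refine Pn.psi_eq (Pn.degree_qa_pos _) (Pn.IsRep.res le_top ⟨a, m.1, 0,
      fun x _ => by simpa [Pn.mon] using one_notMem (Pn.Gr r k) x, m.2, by simp, by simp [Pn.T_zero],
      fun x => fracAt_congr (Pn.Gr r k) x.1 _ _ rfl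
        (show (1 : MvPolynomial (Fin (r + 1)) k) = Pn.mon 0 by simp [Pn.mon])⟩)
  have e : σ = τ := Pn.psiG_injective ((congrArg Subtype.val hm).symm.trans hτ.symm)
  refine ⟨m.1, m.2, fun x => ?_⟩
  rw [e]
  rfl

variable {M : Type u} [AddCommGroup M] [Module k M] [Module (S k r) M]
  {ℳ : ℤ → Submodule k M} [DirectSum.Decomposition ℳ] [SetLike.GradedSMul (GrSyz.stdGr k (Fin (r + 1))) ℳ]
  (F : GrSyz.FreeRes (GrSyz.stdGr k (Fin (r + 1))) ℳ) (d : ℕ)

/-- The sheaf of the `i`-th free module in twist `d`. -/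
abbrev T' (i : ℕ) : (Proj (Pn.Gr r k)).Modules :=
  GrMod.tilde (CohB1.polyGrading r k) (FP k r (F.deg i)) (d : ℤ)

theorem nonempty_T'_iso (i : ℕ) :
    Nonempty (CohB1.tensorMod (T F i) (Pn.Od r k (d : ℤ)) ≅ T' F d i) :=
  nonempty_tilde_tensor_iso (Pn.Gr r k) (FP k r (F.deg i)) (zero_add (d : ℤ)).symm
    (cover_of_degOne (Pn.Gr r k) h1 (d : ℤ))

theorem isQCoh_T' (i : ℕ) : Coh.IsQCoh (T' F d i) := by
  obtain ⟨e⟩ := nonempty_T'_iso F d i
  haveI : (CohB1.tensorMod (T F i) (Pn.Od r k (d : ℤ))).IsQuasicoherent :=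
    H11Ample.isQCoh_tensor (isQCoh_free (F.deg i)) (isInvertible_Od _)
  exact isQuasicoherent_of_iso e

theorem subsingleton_T' (hF : F.IsGenLE d) (i p : ℕ) (hp : 1 ≤ p) (hip : i ≤ p) :
    Subsingleton (HnM (T' F d i) p ⊤) := by
  obtain ⟨e⟩ := nonempty_T'_iso F d i
  exact Tw.subsingleton_of_iso e (subsingleton_free (F.deg i) _ p hp fun b hpr => by
    have := hF i b
    omega)

/-- The differential in twist `d`. -/
abbrev D' (i : ℕ) : T' F d (i + 1) ⟶ T' F d i :=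
  tmap (CohB1.polyGrading r k) (pres_isDeg (dLin_pres F i) (d : ℤ))

theorem D'_comp (i : ℕ) : D' F d (i + 1) ≫ D' F d i = 0 := by
  have e : (F.dLin i).comp (F.dLin (i + 1)) = 0 :=
    LinearMap.range_le_ker_iff.1 (le_of_eq (F.exact_succ i).symm)
  have hz : IsDeg (FP k r (F.deg (i + 1 + 1))) (FP k r (F.deg i))
      (0 : (Fin (F.rk (i + 1 + 1)) → S k r) →ₗ[S k r] (Fin (F.rk i) → S k r)) (d : ℤ) (d : ℤ) :=
    fun _ _ _ _ _ => Or.inl rfl
  have hc : IsDeg (FP k r (F.deg (i + 1 + 1))) (FP k r (F.deg i)) ((F.dLin i).comp (F.dLin (i + 1)))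
      (d : ℤ) (d : ℤ) := by rw [e]; exact hz
  exact ((tmap_comp _ _ _ hc).trans (tmap_congr _ e hc hz)).trans (tmap_zero _ hz)

theorem D'_exact (i : ℕ) : (ShortComplex.mk _ _ (D'_comp F d i)).Exact := by
  refine exact_tmap (CohB1.polyGrading r k) _ _ (sepComp_FP _) (fun l j y hy hl hyz => Or.inr ?_) _
  obtain ⟨v, hv⟩ : y ∈ LinearMap.range (F.dLin (i + 1)) := by
    rw [← F.exact_succ i]; exact hyz
  refine ⟨l, vcmp (GrSyz.stdGr k (Fin (r + 1))) (F.deg (i + 1 + 1)) (l : ℤ) v,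
    mem_FP.2 fun b => P_mem (GrSyz.stdGr k (Fin (r + 1))) _ _, hl, ?_⟩
  rw [← dLin_homog F (i + 1) (l : ℤ) v, hv, vcmp_eq_self_of_mem (GrSyz.stdGr k (Fin (r + 1))) _ (mem_FP.1 hy)]

theorem subsingleton_kerD' (hF : F.IsGenLE d) (j : ℕ) :
    ∀ i : ℕ, r + 1 ≤ i + 2 + j → Subsingleton (HnM (kernel (D' F d i)) (i + 2) ⊤) := by
  induction j with
  | zero =>
    intro i hi
    haveI : (kernel (D' F d i)).IsQuasicoherent :=
      H7Lim.ModExact.isQCoh_kernel _ (isQCoh_T' F d (i + 1)) (isQCoh_T' F d i)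
    exact Pn.subsingleton_HnM_proj _ (by omega)
  | succ j ih =>
    intro i hi
    exact subsingleton_kernel_of_exact (D' F d (i + 1)) (D' F d i) (D'_comp F d i) (D'_exact F d i)
      (subsingleton_T' F d hF (i + 1 + 1) (i + 2) (by omega) le_rfl) (ih (i + 1) (by omega))

variable [SetLike.GradedSMul (CohB1.polyGrading r k) (fun n : ℕ => ℳ (n : ℤ))]

/-- The augmentation in twist `d`. -/
abbrev Aug' : T' F d 0 ⟶ TildeDReg.Mt r ℳ (d : ℤ) :=
  tmap (CohB1.polyGrading r k) (pres_isDeg (𝒩 := fun n : ℕ => ℳ (n : ℤ)) (augLin_pres F) (d : ℤ))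

theorem Aug'_comp : D' F d 0 ≫ Aug' F d = 0 := by
  have e : F.augLin.comp (F.dLin 0) = 0 := LinearMap.range_le_ker_iff.1 (le_of_eq F.exact_zero.symm)
  have hz : IsDeg (FP k r (F.deg (0 + 1))) (fun n : ℕ => ℳ (n : ℤ))
      (0 : (Fin (F.rk (0 + 1)) → S k r) →ₗ[S k r] M) (d : ℤ) (d : ℤ) := fun _ _ _ _ _ => Or.inl rfl
  have hc : IsDeg (FP k r (F.deg (0 + 1))) (fun n : ℕ => ℳ (n : ℤ)) (F.augLin.comp (F.dLin 0))
      (d : ℤ) (d : ℤ) := by rw [e]; exact hz
  exact ((tmap_comp _ _ _ hc).trans (tmap_congr _ e hc hz)).trans (tmap_zero _ hz)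

theorem Aug'_exact : (ShortComplex.mk _ _ (Aug'_comp F d)).Exact := by
  refine exact_tmap (CohB1.polyGrading r k) _ _ sepComp_nat (fun l j y hy hl hyz => Or.inr ?_) _
  obtain ⟨v, hv⟩ : y ∈ LinearMap.range (F.dLin 0) := F.exact_zero ▸ (LinearMap.mem_ker.2 hyz)
  refine ⟨l, vcmp (GrSyz.stdGr k (Fin (r + 1))) (F.deg (0 + 1)) (l : ℤ) v,
    mem_FP.2 fun b => P_mem (GrSyz.stdGr k (Fin (r + 1))) _ _, hl, ?_⟩
  rw [← dLin_homog F 0 (l : ℤ) v, hv, vcmp_eq_self_of_mem (GrSyz.stdGr k (Fin (r + 1))) _ (mem_FP.1 hy)]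

theorem Aug'_epi : Epi (Aug' F d) := by
  refine epi_tmap (CohB1.polyGrading r k) _ fun l j y hy hl => Or.inr ?_
  obtain ⟨v, hv⟩ := F.aug_surjective y
  refine ⟨l, vcmp (GrSyz.stdGr k (Fin (r + 1))) (F.deg 0) (l : ℤ) v,
    mem_FP.2 fun b => P_mem (GrSyz.stdGr k (Fin (r + 1))) _ _, hl, ?_⟩
  change Fintype.linearCombination _ F.aug _ = y
  rw [← comp_linearCombination (F.deg 0) (isProj_P (GrSyz.stdGr k (Fin (r + 1))) ℳ) F.aug
      (fun a => (P_eq_self_iff ℳ).2 (F.aug_mem a)) (l : ℤ) v, hv]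
  exact (P_eq_self_iff ℳ).2 hy

/-- Global sections of a free sheaf generated in degrees at most `d` are elements of degree `d`. -/
theorem exists_of_section_free {m : ℕ} (deg : Fin m → ℤ) (hdeg : ∀ b, deg b ≤ d)
    (σ : Γ(GrMod.tilde (CohB1.polyGrading r k) (FP k r deg) (d : ℤ), (⊤ : (Proj (Pn.Gr r k)).Opens))) :
    ∃ v ∈ FP k r deg d, ∀ x, sval (CohB1.polyGrading r k) (FP k r deg) σ x =
      fracAt (CohB1.polyGrading r k) x.1 v 1 (GrMod.one_nin x.1) := by
  classical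
  let a : Fin m → ℕ := fun b => ((d : ℤ) - deg b).toNat
  have ha : ∀ b, (a b : ℤ) = (d : ℤ) - deg b := fun b => Int.toNat_of_nonneg (by linarith [hdeg b])
  have hp : ∀ b, IsDeg (FP k r deg) (CohB1.polyGrading r k) (prj b) (d : ℤ) (a b : ℤ) := by
    intro b i j v hv hd
    have h := mem_FP.1 hv b
    rcases lt_or_ge ((i : ℤ) - deg b) 0 with hneg | hpos
    · exact Or.inl (stdGr_eq_zero hneg h)
    · refine Or.inr ⟨((i : ℤ) - deg b).toNat, ?_, by rw [ha]; omega⟩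
      rw [polyGr_eq, Int.toNat_of_nonneg hpos]
      exact h
  choose s hs hσ using fun b => exists_of_section (a b)
    ((tmap (CohB1.polyGrading r k) (hp b)).app ⊤ σ)
  have hv : s ∈ FP k r deg d := mem_FP.2 fun b => by
    have h := hs b
    rw [polyGr_eq, ha] at h
    exact h
  refine ⟨s, hv, fun x => ?_⟩
  have e : ∑ b : Fin m, (inc b).comp (prj (k := k) (r := r) b) = LinearMap.id := by
    refine LinearMap.ext fun v => ?_
    simp only [LinearMap.sum_apply, LinearMap.comp_apply, LinearMap.coe_single, LinearMap.proj_apply,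
      LinearMap.id_apply]
    exact Finset.univ_sum_single v
  have key : ∀ (y : ProjectiveSpectrum (CohB1.polyGrading r k))
      (q : LocMod (CohB1.polyGrading r k) (M := Fin m → S k r) y),
      ∑ b : Fin m, locMap (CohB1.polyGrading r k) y (inc b) (locMap (CohB1.polyGrading r k) y (prj b) q) = q := by
    intro y q
    refine Eq.trans (Finset.sum_congr rfl fun b _ => (locMap_comp _ y _ _ q).symm) ?_
    refine Eq.trans ?_ ((congrArg (fun φ => locMap (CohB1.polyGrading r k) y φ q) e).trans (locMap_id _ y q))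
    exact (LinearMap.sum_apply _ _ q).symm.trans
      (congrArg (fun f => f q) (map_sum (LocalizedModule.map y.asHomogeneousIdeal.toIdeal.primeCompl)
        (fun b => (inc b).comp (prj (k := k) (r := r) b)) Finset.univ).symm)
  rw [← key x.1 (sval (CohB1.polyGrading r k) (FP k r deg) σ x),
    ← key x.1 (fracAt (CohB1.polyGrading r k) x.1 s 1 (GrMod.one_nin x.1))]
  refine Finset.sum_congr rfl fun b _ => congrArg _ ?_
  exact (hσ b x).trans (locMap_frac (CohB1.polyGrading r k) x.1 (prj b) s 1 _).symm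

theorem surj_of_isGenLE (hF : F.IsGenLE d) : TildeDReg.Surj r ℳ d := by
  intro σ
  haveI := Aug'_epi F d
  have hK : Subsingleton (HnM (kernel (Aug' F d)) 1 ⊤) :=
    subsingleton_kernel_of_exact (D' F d 0) (Aug' F d) (Aug'_comp F d) (Aug'_exact F d)
      (subsingleton_T' F d hF (0 + 1) 1 le_rfl le_rfl) (subsingleton_kerD' F d hF r 0 (by omega))
  obtain ⟨τ, hτ⟩ := surjective_app_of_subsingleton_HnM (shortExact_kernel (Aug' F d)) ⊤ hK σ
  obtain ⟨v, hv, hτv⟩ := exists_of_section_free d (F.deg 0) (fun b => by simpa using hF 0 b) τ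
  refine ⟨F.augLin v, augLin_pres F d v hv, fun x => ?_⟩
  rw [← hτ]
  exact (congrArg (locMap (CohB1.polyGrading r k) x.1 F.augLin) (hτv x)).trans (locMap_frac _ _ _ _ _ _)

end Groth.Agent.H3CAlg.TildeSurj
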