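import Groth.Agent.H4DR.LD.TopVanish
import Groth.Agent.H4LC.TopDegree
import Groth.Agent.H4LC.HLVT
import Groth.Agent.H4LC.CdDim
import Groth.Agent.H4LC.ChangeRings
import Groth.Agent.H24Adic.Basic
import Groth.Agent.H25Index.Acyclic

/-!
# Top degree vanishing over an adically complete local ring
-/

set_option autoImplicit false
set_option linter.style.haveILetI false
set_option linter.unusedVariables false
set_option linter.unusedSectionVars false

universe u

open IsLocalRing

namespace Groth.Agent.H3CAlg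

variable {A : Type u} [CommRing A] [IsLocalRing A] [IsNoetherianRing A] (I : Ideal A)

/-- The `𝔪`-saturation of `I^n + p`. -/
noncomputable def satIdeal (p : Ideal A) (n : ℕ) : Ideal A where
  carrier := {y | ∃ k : ℕ, ∀ a ∈ maximalIdeal A ^ k, a * y ∈ I ^ n ⊔ p}
  zero_mem' := ⟨0, fun a _ => by rw [mul_zero]; exact Ideal.zero_mem _⟩
  add_mem' := by
    rintro y z ⟨k, hk⟩ ⟨l, hl⟩
    exact ⟨max k l, fun a ha => by
      rw [mul_add]
      exact add_mem (hk a (Ideal.pow_le_pow_right (le_max_left k l) ha))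
        (hl a (Ideal.pow_le_pow_right (le_max_right k l) ha))⟩
  smul_mem' := by
    rintro c y ⟨k, hk⟩
    exact ⟨k, fun a ha => by rw [smul_eq_mul, mul_left_comm]; exact Ideal.mul_mem_left _ _ (hk a ha)⟩

theorem mem_satIdeal {p : Ideal A} {n : ℕ} {y : A} :
    y ∈ satIdeal I p n ↔ ∃ k : ℕ, ∀ a ∈ maximalIdeal A ^ k, a * y ∈ I ^ n ⊔ p := Iff.rfl

theorem le_satIdeal (p : Ideal A) (n : ℕ) : I ^ n ⊔ p ≤ satIdeal I p n := fun y hy =>
  ⟨0, fun a _ => Ideal.mul_mem_left _ a hy⟩

theorem satIdeal_anti (p : Ideal A) {n m : ℕ} (h : n ≤ m) : satIdeal I p m ≤ satIdeal I p n := by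
  rintro y ⟨k, hk⟩
  exact ⟨k, fun a ha => sup_le_sup_right (Ideal.pow_le_pow_right h) p (hk a ha)⟩

/-- Intersection of the saturations. -/
theorem mem_of_forall_mem_satIdeal {p r : Ideal A} [p.IsPrime] [r.IsPrime] (hpr : p ≤ r) (hIr : I ≤ r)
    (hr : r ≠ maximalIdeal A) {b : A} (hb : ∀ j, b ∈ satIdeal I p j) : b ∈ p := by
  obtain ⟨a, ham, har⟩ := SetLike.exists_of_lt (lt_of_le_of_ne (le_maximalIdeal ‹r.IsPrime›.ne_top) hr)
  let L := Localization.AtPrime r
  let Q := L ⧸ p.map (algebraMap A L)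
  haveI : IsNoetherianRing L := IsLocalization.isNoetherianRing r.primeCompl _ ‹_›
  have hpL : p.map (algebraMap A L) ≤ maximalIdeal L := by
    rw [← Localization.AtPrime.map_eq_maximalIdeal]; exact Ideal.map_mono hpr
  haveI : Nontrivial Q := Ideal.Quotient.nontrivial_iff.2 fun h =>
    (maximalIdeal.isMaximal L).ne_top (top_le_iff.1 (h ▸ hpL))
  haveI : IsLocalRing Q := .of_surjective' _ Ideal.Quotient.mk_surjective
  let ψ : A →+* Q := (Ideal.Quotient.mk _).comp (algebraMap A L)
  have hne : I.map ψ ≠ ⊤ := fun h => (maximalIdeal.isMaximal Q).ne_top (top_le_iff.1 (h ▸ ?_))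
  · have hz : ψ b ∈ (⊥ : Ideal Q) := by
      rw [← Ideal.iInf_pow_eq_bot_of_isLocalRing _ hne, Submodule.mem_iInf]
      intro j
      obtain ⟨k, hk⟩ := hb j
      have h1 := Ideal.mem_map_of_mem ψ (hk (a ^ k) (Ideal.pow_mem_pow ham k))
      have hp0 : p.map ψ = ⊥ := by
        rw [← Ideal.map_map, Ideal.map_quotient_self]
      rw [Ideal.map_sup, Ideal.map_pow, hp0, sup_bot_eq, map_mul] at h1
      refine (Ideal.unit_mul_mem_iff_mem _ ?_).1 h1
      exact (IsLocalization.map_units L (⟨a ^ k, fun h => har (‹r.IsPrime›.mem_of_pow_mem k h)⟩ : r.primeCompl)).map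
        (Ideal.Quotient.mk (p.map (algebraMap A L)))
    rw [Ideal.mem_bot, RingHom.comp_apply, Ideal.Quotient.eq_zero_iff_mem,
      IsLocalization.algebraMap_mem_map_algebraMap_iff r.primeCompl] at hz
    obtain ⟨t, ht, htb⟩ := hz
    exact (‹p.IsPrime›.mem_or_mem htb).resolve_left fun h => ht (hpr h)
  · rw [Ideal.map_le_iff_le_comap]
    intro x hx
    haveI : IsLocalHom (Ideal.Quotient.mk (p.map (algebraMap A L))) := .of_surjective _ Ideal.Quotient.mk_surjective
    exact map_nonunit (Ideal.Quotient.mk (p.map (algebraMap A L))) _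
      ((IsLocalization.AtPrime.to_map_mem_maximal_iff L r x).2 (hIr hx))

/-- The `𝔪`-torsion of the `A/(I^n + p)` is a null system. -/
theorem exists_satIdeal_le [IsAdicComplete I A] {p r : Ideal A} [p.IsPrime] [r.IsPrime] (hpr : p ≤ r)
    (hIr : I ≤ r) (hr : r ≠ maximalIdeal A) (n : ℕ) : ∃ m, n ≤ m ∧ satIdeal I p m ≤ I ^ n ⊔ p := by
  classical
  -- stable images
  have stab : ∀ n, ∃ M, n ≤ M ∧ ∀ m, M ≤ m → satIdeal I p M ⊔ (I ^ n ⊔ p) ≤ satIdeal I p m ⊔ (I ^ n ⊔ p) := by
    intro n
    let X : Submodule A (A ⧸ (I ^ n ⊔ p)) := Submodule.map (Submodule.mkQ (I ^ n ⊔ p)) (satIdeal I p n)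
    haveI : Module.Finite A X := Module.Finite.of_fg (IsNoetherian.noetherian X)
    obtain ⟨s, hs⟩ := IsNoetherian.noetherian (satIdeal I p n)
    have hk : ∀ y ∈ s, ∃ k : ℕ, ∀ a ∈ maximalIdeal A ^ k, a * y ∈ I ^ n ⊔ p := fun y hy =>
      (mem_satIdeal I).1 (hs ▸ Ideal.subset_span hy)
    choose k hk using hk
    let K := s.attach.sup fun y => k y.1 y.2
    have hkill : ∀ a ∈ maximalIdeal A ^ K, ∀ y ∈ satIdeal I p n, a * y ∈ I ^ n ⊔ p := by
      intro a ha y hy
      rw [← hs] at hy
      induction hy using Submodule.span_induction with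
      | mem z hz => exact hk z hz a (Ideal.pow_le_pow_right (Finset.le_sup (f := fun y => k y.1 y.2) (Finset.mem_attach s ⟨z, hz⟩)) ha)
      | zero => rw [mul_zero]; exact Ideal.zero_mem _
      | add z w _ _ hz hw => rw [mul_add]; exact add_mem hz hw
      | smul c z _ hz => rw [smul_eq_mul, mul_left_comm]; exact Ideal.mul_mem_left _ _ hz
    have hfl : IsFiniteLength A X := H25Index.isFiniteLength_of_pow_smul_eq_zero X K fun a ha x => by
      obtain ⟨_, y, hy, rfl⟩ := x
      refine Subtype.ext ?_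
      show a • Submodule.mkQ (I ^ n ⊔ p) y = 0
      rw [← map_smul, Submodule.mkQ_apply, Submodule.Quotient.mk_eq_zero]
      exact hkill a ha y hy
    haveI : IsArtinian A X := (isFiniteLength_iff_isNoetherian_isArtinian.1 hfl).2
    obtain ⟨t, ht⟩ := IsArtinian.monotone_stabilizes
      (⟨fun j => OrderDual.toDual ((Submodule.map (Submodule.mkQ (I ^ n ⊔ p)) (satIdeal I p (n + j))).comap X.subtype),
        fun i j h => Submodule.comap_mono (Submodule.map_mono (satIdeal_anti I p (by omega)))⟩ :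
          ℕ →o (Submodule A X)ᵒᵈ)
    refine ⟨n + t, Nat.le_add_right n t, fun m hm => sup_le (fun y hy => ?_) le_sup_right⟩
    have h1 : (⟨Submodule.mkQ (I ^ n ⊔ p) y, ⟨y, satIdeal_anti I p (Nat.le_add_right n t) hy, rfl⟩⟩ : X) ∈
        ((Submodule.map (Submodule.mkQ (I ^ n ⊔ p)) (satIdeal I p (n + (m - n)))).comap X.subtype) := by
      rw [← OrderDual.toDual.injective (ht (m - n) (by omega))]
      exact ⟨y, hy, rfl⟩
    obtain ⟨z, hz, hzy⟩ := h1
    rw [Nat.add_sub_cancel' (by omega)] at hz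
    have h2 : z - y ∈ I ^ n ⊔ p := (Submodule.Quotient.eq _).1 hzy
    have : y = z - (z - y) := by ring
    rw [this]
    exact sub_mem (Submodule.mem_sup_left hz) (Submodule.mem_sup_right h2)
  choose M hnM hM using stab
  refine ⟨M n, hnM n, ?_⟩
  by_contra hcon
  let P : ℕ → Ideal A := fun j => satIdeal I p (M j) ⊔ (I ^ j ⊔ p)
  have hP : ∀ j, ∀ y ∈ P j, ∃ y', y' ∈ P (j + 1) ∧ y' - y ∈ I ^ j := by
    intro j y hy
    have h1 := hM j (max (M j) (M (j + 1))) (le_max_left _ _) hy
    obtain ⟨z, hz, w, hw, rfl⟩ := Submodule.mem_sup.1 h1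
    obtain ⟨w₁, hw₁, w₂, hw₂, rfl⟩ := Submodule.mem_sup.1 hw
    refine ⟨z + w₂, add_mem (Submodule.mem_sup_left (satIdeal_anti I p (le_max_right _ _) hz))
      (Submodule.mem_sup_right (Submodule.mem_sup_right hw₂)), ?_⟩
    have : z + w₂ - (z + (w₁ + w₂)) = -w₁ := by ring
    rw [this]
    exact neg_mem hw₁
  obtain ⟨y₀, hy₀, hy₀n⟩ := SetLike.not_le_iff_exists.1 hcon
  choose! next hnext1 hnext2 using hP
  let seq : ℕ → A := fun j => Nat.rec (motive := fun _ => A) y₀ (fun i y => next (n + i) y) j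
  have hseq : ∀ j, seq j ∈ P (n + j) := by
    intro j
    induction j with
    | zero => exact Submodule.mem_sup_left hy₀
    | succ j ih => exact hnext1 (n + j) (seq j) ih
  have hstep : ∀ j, seq (j + 1) - seq j ∈ I ^ (n + j) := fun j => hnext2 (n + j) (seq j) (hseq j)
  have htel : ∀ i j, i ≤ j → seq j - seq i ∈ I ^ (n + i) := by
    intro i j hij
    induction j, hij using Nat.le_induction with
    | base => rw [sub_self]; exact Ideal.zero_mem _
    | succ j hij ih =>
      rw [show seq (j + 1) - seq i = (seq (j + 1) - seq j) + (seq j - seq i) by ring]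
      exact add_mem (Ideal.pow_le_pow_right (by omega) (hstep j)) ih
  obtain ⟨b, hb⟩ := IsPrecomplete.prec (I := I) (inferInstance : IsPrecomplete I A) (f := seq) fun {i j} hij => by
    rw [SModEq.sub_mem, smul_eq_mul, Ideal.mul_top]
    have := Ideal.pow_le_pow_right (I := I) (Nat.le_add_left i n) (htel i j hij)
    rw [← neg_sub]; exact neg_mem this
  have hbj : ∀ i, b - seq i ∈ I ^ (n + i) := by
    intro i
    have h1 := hb (n + i)
    rw [SModEq.sub_mem, smul_eq_mul, Ideal.mul_top] at h1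
    have h2 := htel i (n + i) (Nat.le_add_left i n)
    rw [show b - seq i = (seq (n + i) - seq i) - (seq (n + i) - b) by ring]
    exact sub_mem h2 h1
  have hbp : b ∈ p := mem_of_forall_mem_satIdeal I hpr hIr hr fun j => by
    refine satIdeal_anti I p (Nat.le_add_left j n) ?_
    have h1 : P (n + j) ≤ satIdeal I p (n + j) :=
      sup_le (satIdeal_anti I p (hnM _)) (le_satIdeal I p _)
    rw [show b = seq j + (b - seq j) by ring]
    exact add_mem (h1 (hseq j)) (le_satIdeal I p _ (Submodule.mem_sup_left (hbj j)))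
  refine hy₀n ?_
  rw [show y₀ = b - (b - seq 0) by show y₀ = b - (b - y₀); ring]
  exact sub_mem (Submodule.mem_sup_right hbp) (Submodule.mem_sup_left (hbj 0))

/-- `cd < dim` for a local ring whose `𝔪`-torsion modulo powers of `I` is a null system. -/
theorem subsingleton_H_of_null_system {B : Type u} [CommRing B] [IsLocalRing B] [IsNoetherianRing B] (I : Ideal B)
    (hI : I ≠ ⊤) (hnull : ∀ n, ∃ m, n ≤ m ∧ ∀ (y : B) (k : ℕ), (∀ a ∈ maximalIdeal B ^ k, a * y ∈ I ^ m) → y ∈ I ^ n)
    (d : ℕ) (hd : ringKrullDim B = d) (M : Type u) [AddCommGroup M] [Module B M] :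
    Subsingleton (LocCoh.H I d M) := by
  refine H4LC.subsingleton_H_top_hlvt I d hd (fun P hP hPd => ?_) M d le_rfl
  let C := AdicCompletion (maximalIdeal B) B
  have hcl : H4LC.IsComplLike B C := H4LC.isComplLike_adicCompletion
  haveI : Module.Flat B C := hcl.flat
  haveI : IsNoetherianRing C := H05EGA4.isNoetherianRing_adicCompletion B (maximalIdeal B)
  haveI : IsLocalHom (algebraMap B C) := hcl.isLocalHom
  let K := I.map (algebraMap B C) ⊔ P
  haveI : P.IsPrime := hP.1.1
  by_contra hcon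
  have hassP : P ∈ associatedPrimes C C := by
    refine Module.associatedPrimes.minimalPrimes_annihilator_subset_associatedPrimes C C ?_
    rw [Module.annihilator_eq_bot.2 inferInstance]
    exact hP
  obtain ⟨-, x, hx⟩ := (isAssociatedPrime_iff).1 (AssociatedPrimes.mem_iff.1 hassP)
  have hxne : x ≠ 0 := by
    rintro rfl
    exact ‹P.IsPrime›.ne_top ((Ideal.eq_top_iff_one _).2 (by rw [hx, Submodule.mem_colon_singleton]; simp))
  have hrad : (maximalIdeal B).map (algebraMap B C) ≤ K.radical := by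
    rw [Ideal.radical_eq_sInf]
    refine le_sInf fun Q ⟨hQ, hQp⟩ => ?_
    haveI := hQp
    suffices Q = maximalIdeal C by
      subst this
      exact Ideal.map_le_iff_le_comap.2 fun a ha => map_nonunit (algebraMap B C) a ha
    by_contra hQm
    refine hcon ?_
    have hlt : (⟨Q, hQp⟩ : PrimeSpectrum C) < ⟨maximalIdeal C, (maximalIdeal.isMaximal C).isPrime⟩ :=
      lt_of_le_of_ne (le_maximalIdeal hQp.ne_top) fun h => hQm (congrArg (·.asIdeal) h)
    rw [ringKrullDim_quotient, Order.one_le_krullDim_iff]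
    exact ⟨⟨⟨Q, hQp⟩, hQ⟩, ⟨⟨_, (maximalIdeal.isMaximal C).isPrime⟩, hQ.trans (le_maximalIdeal hQp.ne_top)⟩, hlt⟩
  obtain ⟨e, he⟩ : ∃ e, ((maximalIdeal B).map (algebraMap B C)) ^ e ≤ K :=
    Ideal.exists_pow_le_of_le_radical_of_fg hrad (IsNoetherian.noetherian _)
  have hmem : ∀ n, x ∈ (I.map (algebraMap B C)) ^ n := fun n => by
    obtain ⟨m, -, hm⟩ := hnull n
    rw [← Ideal.map_pow]
    refine H4DR.LD.mem_map_of_colon (I ^ m) (maximalIdeal B ^ (e * m)) (I ^ n)
      (fun y hy => hm y (e * m) hy) x fun g hg => ?_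
    have h1 : algebraMap B C g ∈ (I.map (algebraMap B C) ⊔ P) ^ m :=
      Ideal.pow_right_mono he m (by rw [← pow_mul, ← Ideal.map_pow]; exact Ideal.mem_map_of_mem _ hg)
    have h2 : (I.map (algebraMap B C) ⊔ P) ^ m ≤ (I.map (algebraMap B C)) ^ m ⊔ P := by
      intro z hz
      have : Ideal.Quotient.mk P z ∈ ((I.map (algebraMap B C)).map (Ideal.Quotient.mk P)) ^ m := by
        have hz' := Ideal.mem_map_of_mem (Ideal.Quotient.mk P) hz
        rwa [Ideal.map_pow, Ideal.map_sup, Ideal.map_quotient_self, sup_bot_eq] at hz'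
      rw [← Ideal.map_pow, ← Ideal.mem_comap, Ideal.comap_map_of_surjective' _ Ideal.Quotient.mk_surjective,
        Ideal.mk_ker] at this
      exact this
    obtain ⟨u, hu, v, hv, huv⟩ := Submodule.mem_sup.1 (h2 h1)
    have hv0 : v * x = 0 := by
      rw [hx, Submodule.mem_colon_singleton] at hv
      exact (Submodule.mem_bot C).1 hv
    rw [← huv, add_mul, hv0, add_zero, Ideal.map_pow]
    exact Ideal.mul_mem_right _ _ hu
  refine hxne ?_
  have : I.map (algebraMap B C) ≠ ⊤ := fun h =>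
    (maximalIdeal.isMaximal C).ne_top (top_le_iff.1 (h ▸ Ideal.map_le_iff_le_comap.2 fun a ha =>
      map_nonunit (algebraMap B C) a (le_maximalIdeal hI ha)))
  exact (Submodule.mem_bot C).1 (Ideal.iInf_pow_eq_bot_of_isLocalRing _ this ▸ Submodule.mem_iInf _ |>.2 hmem)

/-- The top local cohomology of a prime quotient vanishes. -/
theorem subsingleton_H_quotient_prime [IsAdicComplete I A] {p r : Ideal A} [p.IsPrime] [r.IsPrime] (hpr : p ≤ r)
    (hIr : I ≤ r) (hr : r ≠ maximalIdeal A) (d : ℕ) (hd : ringKrullDim (A ⧸ p) = d) :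
    Subsingleton (LocCoh.H I d (A ⧸ p)) := by
  haveI : IsLocalRing (A ⧸ p) := .of_surjective' _ Ideal.Quotient.mk_surjective
  refine (H4LC.subsingleton_H_map_iff (R := A) (A ⧸ p) I (A ⧸ p) d).1 (subsingleton_H_of_null_system _ ?_ ?_ d hd _)
  · intro h
    have h1 := congrArg (Ideal.comap (Ideal.Quotient.mk p)) h
    rw [show algebraMap A (A ⧸ p) = Ideal.Quotient.mk p from rfl,
      Ideal.comap_map_of_surjective' _ Ideal.Quotient.mk_surjective, Ideal.mk_ker, Ideal.comap_top] at h1
    exact ‹r.IsPrime›.ne_top (top_le_iff.1 (h1 ▸ sup_le hIr hpr))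
  · intro n
    obtain ⟨m, hnm, hm⟩ := exists_satIdeal_le I hpr hIr hr n
    refine ⟨m, hnm, fun y k hy => ?_⟩
    obtain ⟨y, rfl⟩ := Ideal.Quotient.mk_surjective y
    have hmap : ∀ (j : ℕ) (z : A), Ideal.Quotient.mk p z ∈ (I.map (algebraMap A (A ⧸ p))) ^ j ↔ z ∈ I ^ j ⊔ p := by
      intro j z
      rw [← Ideal.map_pow, show algebraMap A (A ⧸ p) = Ideal.Quotient.mk p from rfl, ← Ideal.mem_comap,
        Ideal.comap_map_of_surjective' _ Ideal.Quotient.mk_surjective, Ideal.mk_ker]
    rw [hmap]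
    refine hm ⟨k, fun a ha => ?_⟩
    rw [← hmap, map_mul]
    refine hy _ ?_
    rw [← IsLocalRing.map_maximalIdeal_of_surjective _ (Ideal.Quotient.mk_surjective (I := p)), ← Ideal.map_pow]
    exact Ideal.mem_map_of_mem _ ha

/-- Vanishing in degree `n` for a module whose `n`-dimensional support primes meet `V(I)` off the closed point. -/
theorem subsingleton_H_of_top [IsAdicComplete I A] (n : ℕ) (F : Type u) [AddCommGroup F] [Module A F]
    [Module.Finite A F]
    (hdim : ∀ q ∈ Module.support A F, ringKrullDim (A ⧸ q.asIdeal) ≤ (n : WithBot ℕ∞))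
    (htop : ∀ q ∈ Module.support A F, ringKrullDim (A ⧸ q.asIdeal) = (n : WithBot ℕ∞) →
      ∃ r : PrimeSpectrum A, q ≤ r ∧ I ≤ r.asIdeal ∧ r.asIdeal ≠ maximalIdeal A) :
    Subsingleton (LocCoh.H I n F) := by
  revert hdim htop
  induction ‹Module.Finite A F› using IsNoetherianRing.induction_on_isQuotientEquivQuotientPrime A with
  | subsingleton P => exact fun _ _ => H4LC.subsingleton_H_of_subsingleton I P _
  | exact P₁ P₂ P₃ f g hf hg hfg h₁ h₃ =>
    intro hdim htop
    exact H4LC.subsingleton_H_mid I hf hg hfg _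
      (h₁ (fun q hq => hdim q (Module.support_subset_of_injective f hf hq))
        (fun q hq => htop q (Module.support_subset_of_injective f hf hq)))
      (h₃ (fun q hq => hdim q (Module.support_subset_of_surjective g hg hq))
        (fun q hq => htop q (Module.support_subset_of_surjective g hg hq)))
  | quotient P p e =>
    intro hdim htop
    have hp : p ∈ Module.support A P := by
      rw [e.support_eq, Module.support_eq_zeroLocus, Ideal.annihilator_quotient]
      exact (PrimeSpectrum.mem_zeroLocus _ _).2 subset_rfl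
    refine H4LC.subsingleton_H_congr I e.symm _ ?_
    rcases (hdim p hp).lt_or_eq with hlt | heq
    · refine H4LC.subsingleton_H_of_supportDim_lt I n _ ?_
      rwa [Module.supportDim_quotient_eq_ringKrullDim]
    · obtain ⟨r, hpr, hIr, hr⟩ := htop p hp heq
      exact subsingleton_H_quotient_prime I (p := p.asIdeal) (r := r.asIdeal) hpr hIr hr n heq

end Groth.Agent.H3CAlg
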