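import Groth.Agent.H3CAlg.TorQuotient
import Mathlib.LinearAlgebra.TensorProduct.Quotient

/-!
# Flatness modulo a nilpotent principal ideal
-/

universe u

open CategoryTheory CategoryTheory.Limits MonoidalCategory
open scoped TensorProduct

namespace Groth.Agent.H3CAlg.Tor

variable {R : Type u} [CommRing R]

/-- A module is flat if `Tor₁(L, M)` vanishes for all `L`. -/
theorem flat_of_forall_isZero_one (M : Type u) [AddCommGroup M] [Module R M]
    (h : ∀ (L : Type u) [AddCommGroup L] [Module R L],
      IsZero (((Tor (ModuleCat.{u} R) 1).obj (ModuleCat.of R L)).obj (ModuleCat.of R M))) :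
    Module.Flat R M := by
  obtain ⟨Ω, f, w, hS⟩ := exists_presentation (ModuleCat.of R M)
  have : Module.Projective R (Projective.over (ModuleCat.of R M) : ModuleCat.{u} R) :=
    ModuleCat.projective_of_module_projective _
  let g := (Projective.π (ModuleCat.of R M)).hom
  have hfg : Function.Exact f.hom g :=
    (ShortComplex.ShortExact.moduleCat_exact_iff_function_exact _).mp hS.exact
  have hg : Function.Surjective g := (ModuleCat.epi_iff_surjective _).mp hS.epi_g
  rw [Module.Flat.iff_rTensor_injective']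
  intro J
  let k : J →ₗ[R] R := J.subtype
  let q : R →ₗ[R] R ⧸ J := Submodule.mkQ J
  have hkq : Function.Exact k q := LinearMap.exact_subtype_mkQ J
  have hq : Function.Surjective q := Submodule.mkQ_surjective J
  rw [injective_iff_map_eq_zero]
  intro x hx
  obtain ⟨z, rfl⟩ := LinearMap.lTensor_surjective J hg x
  rw [← LinearMap.comp_apply, LinearMap.rTensor_comp_lTensor, ← LinearMap.lTensor_comp_rTensor,
    LinearMap.comp_apply] at hx
  obtain ⟨w', hw'⟩ := (lTensor_exact R hfg hg _).mp hx
  have h1 : q.rTensor Ω w' = 0 := by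
    have hinj := (isZero_one_iff_injective (ModuleCat.of R (R ⧸ J)) _ hS).mp (h (R ⧸ J))
    apply hinj
    show f.hom.lTensor (R ⧸ J) (q.rTensor Ω w') = f.hom.lTensor (R ⧸ J) 0
    rw [map_zero, ← LinearMap.comp_apply, LinearMap.lTensor_comp_rTensor,
      ← LinearMap.rTensor_comp_lTensor, LinearMap.comp_apply, hw', ← LinearMap.rTensor_comp_apply,
      show q ∘ₗ k = 0 from LinearMap.ext hkq.apply_apply_eq_zero, LinearMap.rTensor_zero,
      LinearMap.zero_apply]
  obtain ⟨v, rfl⟩ := (rTensor_exact (Ω : Type u) hkq hq w').mp h1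
  rw [← LinearMap.comp_apply, LinearMap.lTensor_comp_rTensor, ← LinearMap.rTensor_comp_lTensor,
    LinearMap.comp_apply] at hw'
  rw [← Module.Flat.rTensor_preserves_injective_linearMap k J.subtype_injective hw',
    ← LinearMap.lTensor_comp_apply, show g ∘ₗ f.hom = 0 from LinearMap.ext hfg.apply_apply_eq_zero,
    LinearMap.lTensor_zero, LinearMap.zero_apply]

/-- If `x ^ 2 = 0`, `M ⧸ x M` is flat over `R ⧸ x` and `x`-torsion of `M` lies in `x M`,
then `M` is flat. -/
theorem flat_of_sq_zero (x : R) (hx : x ^ 2 = 0) (M : Type u) [AddCommGroup M] [Module R M]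
    [Module.Flat (R ⧸ Ideal.span {x}) ((R ⧸ Ideal.span {x}) ⊗[R] M)]
    (htor : ∀ m : M, x • m = 0 → ∃ c, m = x • c) : Module.Flat R M := by
  refine flat_of_forall_isZero_one M fun L _ _ ↦ isZero_one_of_pow_torsion (Ideal.span {x}) ?_ 2 L ?_
  · obtain ⟨Ω, f, w, hS⟩ := exists_presentation (ModuleCat.of R M)
    refine (isZero_one_iff_injective _ _ hS).mpr ?_
    show Function.Injective (f.hom.lTensor (R ⧸ Ideal.span {x}))
    let g := (Projective.π (ModuleCat.of R M)).hom
    have hfg : Function.Exact f.hom g :=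
      (ShortComplex.ShortExact.moduleCat_exact_iff_function_exact _).mp hS.exact
    have hg : Function.Surjective g := (ModuleCat.epi_iff_surjective _).mp hS.epi_g
    have hf : Function.Injective f.hom := (ModuleCat.mono_iff_injective _).mp hS.mono_f
    rw [injective_iff_map_eq_zero]
    intro z hz
    obtain ⟨ω, rfl⟩ := TensorProduct.mk_surjective R Ω (R ⧸ Ideal.span {x}) Ideal.Quotient.mk_surjective z
    have hz' := congrArg (TensorProduct.quotTensorEquivQuotSMul _ (Ideal.span {x})) hz
    rw [map_zero, TensorProduct.mk_apply, LinearMap.lTensor_tmul,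
      TensorProduct.quotTensorEquivQuotSMul_mk_one_tmul, Submodule.Quotient.mk_eq_zero,
      ] at hz'
    obtain ⟨y, hy⟩ : ∃ y, f.hom ω = x • y := Submodule.smul_induction_on hz'
      (fun r hr y _ ↦ by
        obtain ⟨a, rfl⟩ := Ideal.mem_span_singleton'.mp hr
        exact ⟨a • y, by rw [smul_smul, mul_comm]⟩)
      (by rintro _ _ ⟨a, rfl⟩ ⟨b, rfl⟩; exact ⟨a + b, (smul_add _ _ _).symm⟩)
    obtain ⟨c, hc⟩ := htor (g y) (by rw [← map_smul, ← hy, hfg.apply_apply_eq_zero])
    obtain ⟨c', rfl⟩ := hg c
    obtain ⟨ω', hω'⟩ := (hfg (y - x • c')).mp (by rw [map_sub, map_smul, hc, sub_self])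
    have : ω = x • ω' := hf (by
      rw [map_smul, hy, hω', smul_sub, smul_smul, ← sq, hx, zero_smul, sub_zero])
    rw [this, TensorProduct.mk_apply, ← TensorProduct.smul_tmul]
    have h1 : x • (1 : R ⧸ Ideal.span {x}) = 0 := by
      rw [Algebra.smul_def, mul_one, Ideal.Quotient.algebraMap_eq,
        Ideal.Quotient.eq_zero_iff_mem.mpr (Ideal.mem_span_singleton_self x)]
    rw [h1, TensorProduct.zero_tmul]
  · intro a ha y
    rw [Ideal.span_singleton_pow, hx, Ideal.span_singleton_eq_bot.mpr rfl, Ideal.mem_bot] at ha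
    rw [ha, zero_smul]

end Groth.Agent.H3CAlg.Tor
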