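import Groth.Agent.H3CAlg.TorBasic
import Mathlib.CategoryTheory.Abelian.Projective.Dimension
import Mathlib.RingTheory.Length
import Mathlib.LinearAlgebra.TensorProduct.Prod
import Mathlib.LinearAlgebra.TensorProduct.RightExactness
import Mathlib.RingTheory.SimpleModule.Basic
import Mathlib.Tactic

/-!
# `Tor` of the residue field of a node
-/

set_option autoImplicit false

universe u

open CategoryTheory CategoryTheory.Limits MonoidalCategory
open scoped TensorProduct

namespace Groth.Agent.H3CAlg.TorNode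

variable {R : Type u} [CommRing R]

theorem nonempty_shift (L : ModuleCat.{u} R) (S : ShortComplex (ModuleCat.{u} R)) (hS : S.ShortExact)
    [Projective S.X₂] (h0 : S.f.hom.lTensor L = 0) (i : ℕ) :
    Nonempty (((Tor (ModuleCat.{u} R) (i + 1)).obj L).obj S.X₃ ≅ ((Tor (ModuleCat.{u} R) i).obj L).obj S.X₁) := by
  obtain ⟨-, -, δ, w₁, w₂, h₁, h₂⟩ := Tor.les₂ L S hS i
  have hmono : Mono δ := h₁.mono_g ((isZero_Tor_succ_of_projective _ L S.X₂ i).eq_of_src _ _)
  have hz : ((Tor (ModuleCat.{u} R) i).obj L).map S.f = 0 := by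
    cases i with
    | zero =>
      rw [← cancel_mono ((Tor.zeroIso L).hom.app S.X₂), zero_comp, (Tor.zeroIso L).hom.naturality S.f]
      have : ((tensoringLeft (ModuleCat.{u} R)).obj L).map S.f = 0 := ModuleCat.hom_ext h0
      rw [this, comp_zero]
    | succ j => exact (isZero_Tor_succ_of_projective _ L S.X₂ j).eq_of_tgt _ _
  have hepi : Epi δ := h₂.epi_f hz
  haveI : IsIso δ := isIso_of_mono_of_epi δ
  exact ⟨asIso δ⟩

variable (x y : R) (hxy : x * y = 0)
  (hker : ∀ a b : R, a * x + b * y = 0 → a ∈ Ideal.span {y} ∧ b ∈ Ideal.span {x})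

/-- The maximal ideal of the node. -/
abbrev m : Ideal R := Ideal.span {x, y}

/-- The presentation of the maximal ideal. -/
def φ : (R × R) →ₗ[R] m x y :=
  ((LinearMap.toSpanSingleton R R x).coprod (LinearMap.toSpanSingleton R R y)).codRestrict (m x y) fun v =>
    Ideal.mem_span_pair.mpr ⟨v.1, v.2, rfl⟩

theorem φ_val (v : R × R) : (φ x y v : R) = v.1 * x + v.2 * y := rfl

theorem φ_surjective : Function.Surjective (φ x y) := fun z => by
  obtain ⟨a, b, h⟩ := Ideal.mem_span_pair.mp z.2
  exact ⟨(a, b), Subtype.ext h⟩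

include hker in
theorem mem_ker {v : R × R} (h : φ x y v = 0) : v.1 ∈ Ideal.span {y} ∧ v.2 ∈ Ideal.span {x} :=
  hker _ _ (congrArg Subtype.val h)

include hxy hker in
/-- The relations form a copy of the maximal ideal. -/
theorem exists_equiv_ker : Nonempty (LinearMap.ker (φ x y) ≃ₗ[R] m x y) := by
  let f : LinearMap.ker (φ x y) →ₗ[R] m x y :=
    ((LinearMap.fst R R R + LinearMap.snd R R R) ∘ₗ (LinearMap.ker (φ x y)).subtype).codRestrict (m x y) fun v => by
      obtain ⟨h1, h2⟩ := mem_ker x y hker v.2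
      exact (m x y).add_mem (Ideal.span_mono (by simp) h1) (Ideal.span_mono (by simp) h2)
  refine ⟨LinearEquiv.ofBijective f ⟨?_, ?_⟩⟩
  · rw [injective_iff_map_eq_zero]
    intro v hv
    obtain ⟨h1, h2⟩ := mem_ker x y hker v.2
    obtain ⟨c, hc⟩ := Ideal.mem_span_singleton'.mp h1
    obtain ⟨d, hd⟩ := Ideal.mem_span_singleton'.mp h2
    have h0 : v.1.1 + v.1.2 = 0 := congrArg Subtype.val hv
    obtain ⟨k1, k2⟩ := hker d c (by rw [hd, hc, add_comm, h0])
    obtain ⟨e, he⟩ := Ideal.mem_span_singleton'.mp k1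
    obtain ⟨e', he'⟩ := Ideal.mem_span_singleton'.mp k2
    refine Subtype.ext (Prod.ext ?_ ?_)
    · show v.1.1 = 0
      rw [← hc, ← he', mul_assoc, hxy, mul_zero]
    · show v.1.2 = 0
      rw [← hd, ← he, mul_assoc, mul_comm y x, hxy, mul_zero]
  · intro z
    obtain ⟨a, b, h⟩ := Ideal.mem_span_pair.mp z.2
    refine ⟨⟨(b * y, a * x), ?_⟩, Subtype.ext ?_⟩
    · apply Subtype.ext
      show b * y * x + a * x * y = 0
      rw [mul_assoc, mul_comm y x, hxy, mul_assoc, hxy, mul_zero, mul_zero, add_zero]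
    · show b * y + a * x = z
      rw [← h, add_comm]

/-- The residue field. -/
abbrev κ : Type u := R ⧸ m x y

theorem lTensor_eq_zero {P Q : Type u} [AddCommGroup P] [Module R P] [AddCommGroup Q] [Module R Q]
    (g : P →ₗ[R] Q) (h : ∀ p, g p ∈ (m x y) • (⊤ : Submodule R Q)) : g.lTensor (κ x y) = 0 := by
  refine TensorProduct.ext' fun a p => ?_
  rw [LinearMap.lTensor_tmul, LinearMap.zero_apply]
  refine Submodule.smul_induction_on (p := fun q => a ⊗ₜ[R] q = 0) (h p) (fun r hr q _ => ?_) (fun s t hs ht => ?_)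
  · rw [TensorProduct.tmul_smul, TensorProduct.smul_tmul', Algebra.smul_def, Ideal.Quotient.algebraMap_eq,
      Ideal.Quotient.eq_zero_iff_mem.mpr hr, zero_mul, TensorProduct.zero_tmul]
  · rw [TensorProduct.tmul_add, hs, ht, add_zero]

include hker in
theorem lTensor_ker_eq_zero : (LinearMap.ker (φ x y)).subtype.lTensor (κ x y) = 0 := by
  refine lTensor_eq_zero x y _ fun v => ?_
  obtain ⟨h1, h2⟩ := mem_ker x y hker v.2
  have : (v : R × R) = v.1.1 • (1, 0) + v.1.2 • (0, 1) := by ext <;> simp
  rw [Submodule.subtype_apply, this]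
  exact Submodule.add_mem _ (Submodule.smul_mem_smul (Ideal.span_mono (by simp) h1) trivial)
    (Submodule.smul_mem_smul (Ideal.span_mono (by simp) h2) trivial)

include hker in
theorem length_tensor (hmax : (m x y).IsMaximal) :
    Module.length R (κ x y ⊗[R] m x y) = 2 := by
  have hbij : Function.Bijective ((φ x y).lTensor (κ x y)) := by
    refine ⟨?_, LinearMap.lTensor_surjective _ (φ_surjective x y)⟩
    have hex := lTensor_exact (κ x y) (LinearMap.exact_subtype_ker_map (φ x y)) (φ_surjective x y)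
    rw [injective_iff_map_eq_zero]
    intro z hz
    obtain ⟨w, rfl⟩ := (hex z).mp hz
    rw [lTensor_ker_eq_zero x y hker, LinearMap.zero_apply]
  rw [← (LinearEquiv.ofBijective _ hbij).length_eq,
    ((TensorProduct.prodRight R R (κ x y) R R) ≪≫ₗ
      (TensorProduct.rid R (κ x y)).prodCongr (TensorProduct.rid R (κ x y))).length_eq, Module.length_prod]
  haveI : IsSimpleModule R (κ x y) := by
    rw [isSimpleModule_iff_isCoatom]
    exact hmax.out
  rw [Module.length_eq_one]
  rfl

include hxy hker in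
theorem main (hmax : (m x y).IsMaximal) :
    (∀ i : ℕ, 1 ≤ i → Module.length R ((((Tor (ModuleCat.{u} R) i).obj (ModuleCat.of R (κ x y))).obj
        (ModuleCat.of R (κ x y))) : Type u) = 2) ∧
      ∀ n : ℕ, ¬ HasProjectiveDimensionLT (ModuleCat.of R (κ x y)) n := by
  obtain ⟨e⟩ := exists_equiv_ker x y hxy hker
  let L := ModuleCat.of R (κ x y)
  let M := ModuleCat.of R (m x y)
  let g : (m x y) →ₗ[R] (R × R) := (LinearMap.ker (φ x y)).subtype ∘ₗ e.symm.toLinearMap
  have hg : Function.Exact g (φ x y) := fun v => by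
    constructor
    · intro h; exact ⟨e ⟨v, h⟩, by simp [g]⟩
    · rintro ⟨z, rfl⟩; exact (e.symm z).2
  let S : ShortComplex (ModuleCat.{u} R) := ShortComplex.mk (X₁ := M) (X₂ := ModuleCat.of R (R × R)) (X₃ := M)
    (ModuleCat.ofHom g) (ModuleCat.ofHom (φ x y)) (ModuleCat.hom_ext hg.linearMap_comp_eq_zero)
  have hS : S.ShortExact := ModuleCat.shortComplex_shortExact _ hg
    (Subtype.val_injective.comp e.symm.injective) (φ_surjective x y)
  haveI : Projective S.X₂ := (IsProjective.iff_projective (R := R) (R × R)).mp inferInstance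
  have hg0 : S.f.hom.lTensor L = 0 := by
    show g.lTensor (κ x y) = 0
    rw [LinearMap.lTensor_comp, lTensor_ker_eq_zero x y hker, LinearMap.zero_comp]
  let T : ShortComplex (ModuleCat.{u} R) := ShortComplex.mk (X₁ := M) (X₂ := ModuleCat.of R R) (X₃ := L)
    (ModuleCat.ofHom (m x y).subtype) (ModuleCat.ofHom (m x y).mkQ)
    (ModuleCat.hom_ext (LinearMap.ext fun z => (Submodule.Quotient.mk_eq_zero _).2 z.2))
  have hT : T.ShortExact := ModuleCat.shortComplex_shortExact _ (LinearMap.exact_subtype_mkQ _)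
    (Submodule.injective_subtype _) (Submodule.mkQ_surjective _)
  haveI : Projective T.X₂ := (IsProjective.iff_projective (R := R) R).mp inferInstance
  have hT0 : T.f.hom.lTensor L = 0 := lTensor_eq_zero x y _ fun z => by
    rw [smul_eq_mul, Ideal.mul_top]; exact z.2
  have hlen : ∀ i, Module.length R (((Tor (ModuleCat.{u} R) i).obj L).obj M : Type u) = 2 := by
    intro i
    induction i with
    | zero =>
      rw [((Tor.zeroIso L).app M).toLinearEquiv.length_eq]
      exact length_tensor x y hker hmax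
    | succ i ih =>
      obtain ⟨ε⟩ := nonempty_shift L S hS hg0 i
      rw [← ih]
      exact ε.toLinearEquiv.length_eq
  refine ⟨fun i hi => ?_, fun n hn => ?_⟩
  · obtain ⟨j, rfl⟩ : ∃ j, i = j + 1 := ⟨i - 1, by omega⟩
    obtain ⟨ε⟩ := nonempty_shift L T hT hT0 j
    rw [← hlen j]
    exact ε.toLinearEquiv.length_eq
  · have hperiod : ∀ k, HasProjectiveDimensionLT M (k + 1) → HasProjectiveDimensionLT M 1 := by
      intro k
      induction k with
      | zero => exact id
      | succ k ih => exact fun h => ih ((hS.hasProjectiveDimensionLT_X₃_iff k inferInstance).mp h)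
    haveI := hn
    haveI h2 : HasProjectiveDimensionLT L (n + 2) := hasProjectiveDimensionLT_of_ge L n (n + 2) (by omega)
    have hM := hperiod n ((hT.hasProjectiveDimensionLT_X₃_iff n inferInstance).mp h2)
    haveI : Projective M := projective_iff_hasProjectiveDimensionLT_one.mpr hM
    have h := hlen 1
    have hz := isZero_Tor_succ_of_projective (ModuleCat.{u} R) L M 0
    haveI := ModuleCat.subsingleton_of_isZero hz
    rw [Module.length_eq_zero] at h
    exact absurd h (by decide)

end Groth.Agent.H3CAlg.TorNode
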