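import Groth.Agent.H3CAlg.TorLES
import Groth.Agent.H3CAlg.TorBasic
import Groth.Agent.H1CAlg.Tor
import Mathlib.Algebra.Homology.HomologySequenceLemmas

/-!
# Vanishing of maps on `Tor₁`
-/

universe u v v' u'

open CategoryTheory CategoryTheory.Limits CategoryTheory.MonoidalCategory

namespace Groth.Agent.H3CAlg

variable {C : Type u} [Category.{v} C] [Abelian C] [EnoughProjectives C]
  {D : Type u'} [Category.{v'} D] [Abelian D]

lemma comp_six_zero {A B B' A' E E' : D} (a : A ≅ B) (d : B ⟶ B') (e : A' ≅ B') (b : B' ⟶ E)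
    (c : E' ≅ E) (h : d ≫ b = 0) : (a.hom ≫ d ≫ e.inv) ≫ e.hom ≫ b ≫ c.inv = 0 := by
  simp only [Category.assoc, Iso.inv_hom_id_assoc, reassoc_of% h, zero_comp, comp_zero]

lemma mono_conj {A B B' A' : D} (a : A ≅ B) (d : B ⟶ B') (e : A' ≅ B') (h : Mono d) :
    Mono (a.hom ≫ d ≫ e.inv) := by
  haveI := h
  infer_instance

lemma conj_comm {A₁ A₂ B₁ B₂ C₁ C₂ E₁ E₂ : D} {a₁ : A₁ ≅ B₁} {a₂ : A₂ ≅ B₂} {e₁ : E₁ ≅ C₁}
    {e₂ : E₂ ≅ C₂} {x : A₁ ⟶ A₂} {y : E₁ ⟶ E₂} {x' : B₁ ⟶ B₂} {y' : C₁ ⟶ C₂} (d₁ : B₁ ⟶ C₁)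
    (d₂ : B₂ ⟶ C₂) (hx : x ≫ a₂.hom = a₁.hom ≫ x') (hy : y ≫ e₂.hom = e₁.hom ≫ y')
    (h : d₁ ≫ y' = x' ≫ d₂) : x ≫ a₂.hom ≫ d₂ ≫ e₂.inv = (a₁.hom ≫ d₁ ≫ e₁.inv) ≫ y := by
  rw [← cancel_mono e₂.hom]
  simp only [Category.assoc, Iso.inv_hom_id, Category.comp_id, hy, Iso.inv_hom_id_assoc]
  rw [reassoc_of% hx, h]

lemma zero_app_comp_aux {A A' B B' E E' M M' : D} (p : A ≅ B) (q : A' ≅ B') (m : B ⟶ B')
    (i : B ≅ E) (j : B' ≅ E') (o : E ⟶ E') (u : E ⟶ M) (v : E' ⟶ M') (g : M ⟶ M')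
    (h₁ : o ≫ v = u ≫ g) (h₂ : m ≫ j.hom = i.hom ≫ o) :
    (p.hom ≫ m ≫ q.inv) ≫ q.hom ≫ j.hom ≫ v = (p.hom ≫ i.hom ≫ u) ≫ g := by
  simp only [Category.assoc, Iso.inv_hom_id_assoc, ← h₁, reassoc_of% h₂]

/-- The connecting map of a sequence of functors short exact on projectives is natural. -/
theorem leftDerived_δ_natural {F G H : C ⥤ D} [F.Additive] [G.Additive] [H.Additive]
    (α : F ⟶ G) (β : G ⟶ H) (w : ∀ X : C, α.app X ≫ β.app X = 0)
    (hex : ∀ (X : C) [Projective X], (ShortComplex.mk (α.app X) (β.app X) (w X)).ShortExact)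
    {X Y : C} (f : X ⟶ Y) (n : ℕ) :
    ∃ (δX : (H.leftDerived (n + 1)).obj X ⟶ (F.leftDerived n).obj X)
      (δY : (H.leftDerived (n + 1)).obj Y ⟶ (F.leftDerived n).obj Y),
      δX ≫ (NatTrans.leftDerived α n).app X = 0 ∧
      (IsZero ((G.leftDerived (n + 1)).obj Y) → Mono δY) ∧
      (H.leftDerived (n + 1)).map f ≫ δY = δX ≫ (F.leftDerived n).map f := by
  let P := projectiveResolution X
  let Q := projectiveResolution Y
  let φ := ProjectiveResolution.lift f P Q
  have hφ : φ.f 0 ≫ Q.π.f 0 = P.π.f 0 ≫ f := by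
    exact ProjectiveResolution.lift_commutes_zero f P Q
  let mkT : ∀ {Z : C} (R : ProjectiveResolution Z), ShortComplex (ChainComplex D ℕ) := fun R =>
    ShortComplex.mk ((NatTrans.mapHomologicalComplex α (ComplexShape.down ℕ)).app R.complex)
      ((NatTrans.mapHomologicalComplex β (ComplexShape.down ℕ)).app R.complex) (by ext i; exact w _)
  have hT : ∀ {Z : C} (R : ProjectiveResolution Z), (mkT R).ShortExact := fun R =>
    HomologicalComplex.shortExact_of_degreewise_shortExact _ fun i => hex (R.complex.X i)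
  let Φ : mkT P ⟶ mkT Q := ShortComplex.homMk ((F.mapHomologicalComplex _).map φ)
    ((G.mapHomologicalComplex _).map φ) ((H.mapHomologicalComplex _).map φ)
    ((NatTrans.mapHomologicalComplex α (ComplexShape.down ℕ)).naturality φ)
    ((NatTrans.mapHomologicalComplex β (ComplexShape.down ℕ)).naturality φ)
  let δ : ∀ {Z : C} (R : ProjectiveResolution Z),
      (H.leftDerived (n + 1)).obj Z ⟶ (F.leftDerived n).obj Z := fun R =>
    (R.isoLeftDerivedObj H (n + 1)).hom ≫ (hT R).δ (n + 1) n rfl ≫ (R.isoLeftDerivedObj F n).inv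
  have hrel : (ComplexShape.down ℕ).Rel (n + 1) n := rfl
  refine ⟨δ P, δ Q, ?_, fun hz => ?_, ?_⟩
  · exact (congrArg (fun m => δ P ≫ m) (P.leftDerived_app_eq α n)).trans
      (comp_six_zero _ _ _ _ _ ((hT P).δ_comp (n + 1) n hrel))
  · have h1 : IsZero ((mkT Q).X₂.homology (n + 1)) := hz.of_iso (Q.isoLeftDerivedObj G (n + 1)).symm
    exact mono_conj _ _ _ (((hT Q).homology_exact₃ (n + 1) n hrel).mono_g (h1.eq_of_src _ _))
  · exact conj_comm _ _ (P.isoLeftDerivedObj_hom_naturality f Q φ hφ H (n + 1))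
      (P.isoLeftDerivedObj_hom_naturality f Q φ hφ F n)
      (HomologicalComplex.HomologySequence.δ_naturality Φ (hT P) (hT Q) (n + 1) n hrel)

/-- The comparison `L₀F ⟶ F` is natural in the functor. -/
theorem leftDerived_zero_app_comp {F G : C ⥤ D} [F.Additive] [G.Additive] (α : F ⟶ G) (X : C) :
    (NatTrans.leftDerived α 0).app X ≫ G.fromLeftDerivedZero.app X =
      F.fromLeftDerivedZero.app X ≫ α.app X := by
  let P := projectiveResolution X
  let a := (NatTrans.mapHomologicalComplex α (ComplexShape.down ℕ)).app P.complex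
  have h1 : HomologicalComplex.opcyclesMap a 0 ≫ P.fromLeftDerivedZero' G =
      P.fromLeftDerivedZero' F ≫ α.app X := by
    simp only [← cancel_epi (HomologicalComplex.pOpcycles _ _),
      HomologicalComplex.p_opcyclesMap_assoc, a, NatTrans.mapHomologicalComplex_app_f,
      ProjectiveResolution.pOpcycles_comp_fromLeftDerivedZero',
      ProjectiveResolution.pOpcycles_comp_fromLeftDerivedZero'_assoc]
    exact (α.naturality _).symm
  rw [P.fromLeftDerivedZero_eq, P.fromLeftDerivedZero_eq, P.leftDerived_app_eq α 0]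
  exact zero_app_comp_aux _ _ _ _ _ _ _ _ _ h1 (HomologicalComplex.homologyι_naturality a 0)

namespace Tor

variable {R : Type u} [CommRing R]

/-- For a presentation `0 → K → F → M → 0` with `F` projective, `Tor₁(M, φ) = 0` as soon as
`K ⊗ φ` kills the kernel of `K ⊗ X → F ⊗ X`. -/
theorem one_map_eq_zero (S : ShortComplex (ModuleCat.{u} R)) (hS : S.ShortExact)
    [Module.Projective R S.X₂] {X Y : ModuleCat.{u} R} (φ : X ⟶ Y)
    (h : ∀ z, S.f.hom.rTensor X z = 0 → φ.hom.lTensor S.X₁ z = 0) :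
    ((CategoryTheory.Tor (ModuleCat.{u} R) 1).obj S.X₃).map φ = 0 := by
  obtain ⟨δX, δY, hδ, hmono, hnat⟩ := leftDerived_δ_natural
    ((tensoringLeft (ModuleCat.{u} R)).map S.f) ((tensoringLeft (ModuleCat.{u} R)).map S.g)
    (fun Z ↦ by
      show S.f ▷ Z ≫ S.g ▷ Z = 0
      rw [← comp_whiskerRight, S.zero]
      exact MonoidalPreadditive.zero_whiskerRight)
    (fun Z hZ ↦ by
      have : Module.Projective R Z := Z.projective_of_module_projective
      refine { exact := ?_, mono_f := ?_, epi_g := ?_ }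
      · exact Module.Flat.rTensor_shortComplex_exact Z S hS.exact
      · rw [ModuleCat.mono_iff_injective]
        exact Module.Flat.rTensor_preserves_injective_linearMap _
          ((ModuleCat.mono_iff_injective _).mp hS.mono_f)
      · rw [ModuleCat.epi_iff_surjective]
        exact LinearMap.rTensor_surjective Z ((ModuleCat.epi_iff_surjective _).mp hS.epi_g))
    φ 0
  haveI : Mono δY := hmono
    (H1CAlg.isZero_Tor_of_flat S.X₂ Y 0)
  have hK : δX ≫ (((tensoringLeft (ModuleCat.{u} R)).obj S.X₁).leftDerived 0).map φ = 0 := by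
    let eX : ∀ (L Z : ModuleCat.{u} R),
        (((tensoringLeft (ModuleCat.{u} R)).obj L).leftDerived 0).obj Z ≅ L ⊗ Z :=
      fun L Z => (zeroIso L).app Z
    rw [← cancel_mono (eX S.X₁ Y).hom, zero_comp, Category.assoc]
    erw [(zeroIso S.X₁).hom.naturality φ]
    ext z
    refine h _ ?_
    have hsq : ((NatTrans.leftDerived ((tensoringLeft (ModuleCat.{u} R)).map S.f) 0).app X) ≫
        (eX S.X₂ X).hom = (eX S.X₁ X).hom ≫ S.f ▷ X :=
      leftDerived_zero_app_comp ((tensoringLeft (ModuleCat.{u} R)).map S.f) X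
    have h0 : (δX ≫ (eX S.X₁ X).hom) ≫ S.f ▷ X = 0 := by
      rw [Category.assoc, ← hsq, ← Category.assoc, hδ, zero_comp]
    exact congrArg (fun m => m.hom z) h0
  exact (cancel_mono δY).mp ((hnat.trans hK).trans zero_comp.symm)

end Tor

end Groth.Agent.H3CAlg
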