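import Groth.Agent.H3CAlg.TorBasic
import Groth.Agent.H1CAlg.Tor
import Groth.Agent.H7Flat.LocalCriterion
import Mathlib.LinearAlgebra.DirectSum.Finsupp
import Mathlib.Algebra.Module.Torsion.Basic

/-!
# Vanishing of `Tor₁` on modules killed by a power of an ideal
-/

universe u

open CategoryTheory CategoryTheory.Limits MonoidalCategory
open scoped TensorProduct

namespace Groth.Agent.H3CAlg.Tor

variable {R : Type u} [CommRing R] (I : Ideal R) {M : Type u} [AddCommGroup M] [Module R M]
  [Module.Flat (R ⧸ I) ((R ⧸ I) ⊗[R] M)]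

/-- Tensoring free `R ⧸ I`-modules preserves an injectivity holding for `R ⧸ I`. -/
lemma lTensor_finsupp_injective {N P : Type u} [AddCommGroup N] [Module R N] [AddCommGroup P]
    [Module R P] (L : Type u) [AddCommGroup L] [Module R L] (ι : Type u) (f : N →ₗ[R] P)
    (hf : Function.Injective (f.lTensor L)) : Function.Injective (f.lTensor (ι →₀ L)) := by
  classical
  intro x y h
  apply (TensorProduct.finsuppLeft R R L N ι).injective
  ext i
  apply hf
  have key : ∀ z, f.lTensor L (TensorProduct.finsuppLeft R R L N ι z i) =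
      TensorProduct.finsuppLeft R R L P ι (f.lTensor (ι →₀ L) z) i := by
    intro z
    induction z with
    | zero => simp
    | tmul g n => simp [TensorProduct.finsuppLeft_apply_tmul_apply]
    | add a b ha hb => simp only [map_add, Finsupp.add_apply, ha, hb]
  rw [key, key, h]

/-- Chase: injectivity of `L ⊗ Ω → L ⊗ P` from that of a module surjecting onto `L`. -/
lemma lTensor_injective_of_surjective {F K L Ω P Q : Type u} [AddCommGroup F] [Module R F]
    [AddCommGroup K] [Module R K] [AddCommGroup L] [Module R L] [AddCommGroup Ω] [Module R Ω]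
    [AddCommGroup P] [Module R P] [AddCommGroup Q] [Module R Q]
    (k : K →ₗ[R] F) (q : F →ₗ[R] L) (hkq : Function.Exact k q) (hq : Function.Surjective q)
    (f : Ω →ₗ[R] P) (g : P →ₗ[R] Q) (hfg : Function.Exact f g) (hg : Function.Surjective g)
    (hF : Function.Injective (f.lTensor F)) (hK : Function.Injective (k.rTensor Q)) :
    Function.Injective (f.lTensor L) := by
  rw [injective_iff_map_eq_zero]
  intro x hx
  obtain ⟨y, rfl⟩ := LinearMap.rTensor_surjective Ω hq x
  rw [← LinearMap.comp_apply, LinearMap.lTensor_comp_rTensor, ← LinearMap.rTensor_comp_lTensor,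
    LinearMap.comp_apply] at hx
  obtain ⟨z, hz⟩ := (rTensor_exact P hkq hq _).mp hx
  have hz' : g.lTensor K z = 0 := by
    apply hK
    rw [map_zero, ← LinearMap.comp_apply, LinearMap.rTensor_comp_lTensor,
      ← LinearMap.lTensor_comp_rTensor, LinearMap.comp_apply, hz, ← LinearMap.lTensor_comp_apply,
      show g ∘ₗ f = 0 from LinearMap.ext hfg.apply_apply_eq_zero, LinearMap.lTensor_zero,
      LinearMap.zero_apply]
  obtain ⟨v, rfl⟩ := (lTensor_exact K hfg hg z).mp hz'
  rw [← LinearMap.comp_apply, LinearMap.rTensor_comp_lTensor, ← LinearMap.lTensor_comp_rTensor,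
    LinearMap.comp_apply] at hz
  rw [← hF hz, ← LinearMap.rTensor_comp_apply, show q ∘ₗ k = 0 from
    LinearMap.ext hkq.apply_apply_eq_zero, LinearMap.rTensor_zero, LinearMap.zero_apply]

lemma rTensor_injective_of_flat {K F : Type u} [AddCommGroup K] [Module R K] [Module (R ⧸ I) K]
    [IsScalarTower R (R ⧸ I) K] [AddCommGroup F] [Module R F] [Module (R ⧸ I) F]
    [IsScalarTower R (R ⧸ I) F] (k : K →ₗ[R] F) (hk : Function.Injective k) :
    Function.Injective (k.rTensor M) := by
  have := H7Flat.lTensor_injective_of_flat_quotient I (M := M)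
    (k.extendScalarsOfSurjective (S := R ⧸ I) Ideal.Quotient.mk_surjective) hk
  rw [← LinearMap.lTensor_inj_iff_rTensor_inj]
  exact this

/-- Chase along a surjection of `R ⧸ I`-modules. -/
lemma lTensor_injective_of_linear_surjective {F L Ω P : Type u} [AddCommGroup F] [Module R F]
    [Module (R ⧸ I) F] [IsScalarTower R (R ⧸ I) F] [AddCommGroup L] [Module R L]
    [Module (R ⧸ I) L] [IsScalarTower R (R ⧸ I) L] [AddCommGroup Ω] [Module R Ω]
    [AddCommGroup P] [Module R P] (q : F →ₗ[R ⧸ I] L) (hq : Function.Surjective q)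
    (f : Ω →ₗ[R] P) (g : P →ₗ[R] M) (hfg : Function.Exact f g) (hg : Function.Surjective g)
    (hF : Function.Injective (f.lTensor F)) : Function.Injective (f.lTensor L) :=
  lTensor_injective_of_surjective ((LinearMap.ker q).subtype.restrictScalars R)
    (q.restrictScalars R) q.exact_subtype_ker_map hq f g hfg hg hF
    (rTensor_injective_of_flat I (M := M) ((LinearMap.ker q).subtype.restrictScalars R)
      (LinearMap.ker q).subtype_injective)

/-- `Tor₁(L, M) = 0` for `L` killed by `I`. -/
theorem isZero_one_of_torsionBySet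
    (h : IsZero (((Tor (ModuleCat.{u} R) 1).obj (ModuleCat.of R (R ⧸ I))).obj (ModuleCat.of R M)))
    (L : Type u) [AddCommGroup L] [Module R L] [Module (R ⧸ I) L] [IsScalarTower R (R ⧸ I) L] :
    IsZero (((Tor (ModuleCat.{u} R) 1).obj (ModuleCat.of R L)).obj (ModuleCat.of R M)) := by
  classical
  obtain ⟨Ω, f, w, hS⟩ := exists_presentation (ModuleCat.of R M)
  have h0 := (isZero_one_iff_injective (ModuleCat.of R (R ⧸ I)) _ hS).mp h
  refine (isZero_one_iff_injective (ModuleCat.of R L) _ hS).mpr ?_
  have h1 := lTensor_finsupp_injective (R ⧸ I) L f.hom h0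
  refine lTensor_injective_of_linear_surjective I (M := M) (Finsupp.linearCombination (R ⧸ I) id)
    (fun l ↦ ⟨Finsupp.single l 1, by simp⟩) f.hom (Projective.π (ModuleCat.of R M)).hom
    ((ShortComplex.ShortExact.moduleCat_exact_iff_function_exact _).mp hS.exact)
    ((ModuleCat.epi_iff_surjective _).mp hS.epi_g) h1

/-- `Tor₁(N, M) = 0` for `N` killed by a power of `I`. -/
theorem isZero_one_of_pow_torsion
    (h : IsZero (((Tor (ModuleCat.{u} R) 1).obj (ModuleCat.of R (R ⧸ I))).obj (ModuleCat.of R M)))
    (m : ℕ) (N : Type u) [AddCommGroup N] [Module R N]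
    (hN : ∀ a : R, a ∈ I ^ m → ∀ x : N, a • x = 0) :
    IsZero (((Tor (ModuleCat.{u} R) 1).obj (ModuleCat.of R N)).obj (ModuleCat.of R M)) := by
  induction m generalizing N with
  | zero =>
    have : Subsingleton N := ⟨fun x y ↦ by
      rw [← one_smul R x, ← one_smul R y, hN 1 (by simp) x, hN 1 (by simp) y]⟩
    have : Module.Flat R (ModuleCat.of R N) := inferInstanceAs (Module.Flat R N)
    exact H1CAlg.isZero_Tor_of_flat (ModuleCat.of R N) (ModuleCat.of R M) 0
  | succ m ih =>
    let N' : Submodule R N := I ^ m • ⊤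
    have hker : Module.IsTorsionBySet R N' (I : Set R) := by
      rintro ⟨x, hx⟩ ⟨a, ha⟩
      ext
      show a • x = 0
      refine Submodule.smul_induction_on hx (fun r hr n _ ↦ ?_) fun x y hx hy ↦ ?_
      · rw [smul_smul]
        exact hN _ (by rw [pow_succ']; exact Ideal.mul_mem_mul ha hr) n
      · rw [smul_add, hx, hy, add_zero]
    let _ := hker.module
    have h₁ := isZero_one_of_torsionBySet I h N'
    have h₃ := ih (N ⧸ N') fun a ha x ↦ by
      induction x using Submodule.Quotient.induction_on with
      | _ x =>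
        rw [← Submodule.Quotient.mk_smul, Submodule.Quotient.mk_eq_zero]
        exact Submodule.smul_mem_smul ha trivial
    let S : ShortComplex (ModuleCat.{u} R) := ShortComplex.mk (ModuleCat.ofHom N'.subtype)
      (ModuleCat.ofHom N'.mkQ) (by ext x; simp)
    have hS : S.ShortExact :=
      { exact := (ShortComplex.ShortExact.moduleCat_exact_iff_function_exact _).mpr
          (LinearMap.exact_subtype_mkQ N')
        mono_f := (ModuleCat.mono_iff_injective _).mpr Subtype.val_injective
        epi_g := (ModuleCat.epi_iff_surjective _).mpr (Submodule.mkQ_surjective _) }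
    exact isZero_obj_X₂ (ModuleCat.of R M) S hS 1 h₁ h₃

end Groth.Agent.H3CAlg.Tor
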