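import Groth.Agent.H3CAlg.TorBasic
import Groth.Agent.H1CAlg.Tor
import Mathlib.RingTheory.Regular.RegularSequence
import Mathlib.RingTheory.Nakayama
import Mathlib.Tactic.LinearCombination
import Mathlib.RingTheory.Jacobson.Ideal
import Mathlib.LinearAlgebra.TensorProduct.Quotient

/-!
# Regular sequences on `A ⧸ J` and vanishing of `Tor`
-/

universe u

open CategoryTheory CategoryTheory.Limits MonoidalCategory
open scoped TensorProduct

namespace Groth.Agent.H3CAlg.Tor

variable {A : Type u} [CommRing A]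

/-- `Tor₁(A ⧸ I, A ⧸ J) = 0` iff `I ∩ J = I J`. -/
theorem isZero_one_quotient_iff (I J : Ideal A) :
    IsZero (((Tor (ModuleCat.{u} A) 1).obj (ModuleCat.of A (A ⧸ I))).obj (ModuleCat.of A (A ⧸ J))) ↔
      I ⊓ J ≤ I * J := by
  let S : ShortComplex (ModuleCat.{u} A) := ShortComplex.mk (ModuleCat.ofHom (Submodule.subtype J))
    (ModuleCat.ofHom (Submodule.mkQ J)) (by ext x; exact (Submodule.Quotient.mk_eq_zero J).mpr x.2)
  have hS : S.ShortExact :=
    { exact := (ShortComplex.ShortExact.moduleCat_exact_iff_function_exact _).mpr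
        (LinearMap.exact_subtype_mkQ J)
      mono_f := (ModuleCat.mono_iff_injective _).mpr Subtype.val_injective
      epi_g := (ModuleCat.epi_iff_surjective _).mpr (Submodule.mkQ_surjective _) }
  have : Projective S.X₂ := by
    have : Module.Projective A A := inferInstance
    exact (IsProjective.iff_projective A).mp this
  refine (isZero_one_iff_injective (ModuleCat.of A (A ⧸ I)) S hS).trans ?_
  show Function.Injective ((Submodule.subtype J).lTensor (A ⧸ I)) ↔ _
  have hsurj : ∀ z : (A ⧸ I) ⊗[A] J, ∃ j : J, z = (1 : A ⧸ I) ⊗ₜ[A] j := by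
    intro z
    induction z with
    | zero => exact ⟨0, by simp⟩
    | tmul a j =>
      obtain ⟨a, rfl⟩ := Ideal.Quotient.mk_surjective a
      exact ⟨a • j, by rw [← TensorProduct.smul_tmul]; congr 1; simp [Algebra.smul_def]⟩
    | add a b ha hb =>
      obtain ⟨j, rfl⟩ := ha; obtain ⟨k, rfl⟩ := hb
      exact ⟨j + k, by rw [TensorProduct.tmul_add]⟩
  have hzero : ∀ j : J, (1 : A ⧸ I) ⊗ₜ[A] j = 0 ↔ (j : A) ∈ I * J := fun j ↦ by
    rw [← (TensorProduct.quotTensorEquivQuotSMul J I).map_eq_zero_iff]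
    have h1 : TensorProduct.quotTensorEquivQuotSMul J I ((1 : A ⧸ I) ⊗ₜ[A] j) =
        Submodule.Quotient.mk j := by
      have := TensorProduct.quotTensorEquivQuotSMul_mk_tmul (M := J) I 1 j
      simpa using this
    rw [h1, Submodule.Quotient.mk_eq_zero, ← (Submodule.comap_map_eq_of_injective
      (Submodule.subtype_injective J) (I • ⊤ : Submodule A J)), Submodule.mem_comap,
      Submodule.map_smul'', Submodule.map_subtype_top]
    rfl
  have himg : ∀ j : J, (Submodule.subtype J).lTensor (A ⧸ I) ((1 : A ⧸ I) ⊗ₜ[A] j) = 0 ↔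
      (j : A) ∈ I := fun j ↦ by
    rw [← (TensorProduct.rid A (A ⧸ I)).map_eq_zero_iff, LinearMap.lTensor_tmul,
      TensorProduct.rid_tmul, ← Ideal.Quotient.eq_zero_iff_mem]
    simp [Algebra.smul_def]
  rw [injective_iff_map_eq_zero]
  constructor
  · rintro h a ⟨haI, haJ⟩
    exact (hzero ⟨a, haJ⟩).mp (h _ ((himg ⟨a, haJ⟩).mpr haI))
  · intro h z hz
    obtain ⟨j, rfl⟩ := hsurj z
    exact (hzero j).mpr (h ⟨(himg j).mp hz, j.2⟩)

/-- One step: regularity of `x` modulo `I` and modulo `I + J` propagates `Tor` vanishing. -/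
theorem isZero_tor_sup_span (I J : Ideal A) (x : A) (hxI : ∀ a, x * a ∈ I → a ∈ I)
    (hxIJ : ∀ a, x * a ∈ I ⊔ J → a ∈ I ⊔ J)
    (h : ∀ i, IsZero (((Tor (ModuleCat.{u} A) (i + 1)).obj (ModuleCat.of A (A ⧸ I))).obj
      (ModuleCat.of A (A ⧸ J)))) (i : ℕ) :
    IsZero (((Tor (ModuleCat.{u} A) (i + 1)).obj (ModuleCat.of A (A ⧸ (I ⊔ Ideal.span {x})))).obj
      (ModuleCat.of A (A ⧸ J))) := by
  cases i with
  | zero =>
    refine (isZero_one_quotient_iff _ _).mpr ?_
    have h0 := (isZero_one_quotient_iff I J).mp (h 0)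
    rintro a ⟨ha, haJ⟩
    obtain ⟨b, hb, c, hc, rfl⟩ := Submodule.mem_sup.mp ha
    obtain ⟨r, rfl⟩ := Ideal.mem_span_singleton'.mp hc
    have h1 : x * r ∈ I ⊔ J :=
      Submodule.mem_sup.mpr ⟨-b, neg_mem hb, b + r * x, haJ, by ring⟩
    obtain ⟨i', hi', j', hj', rfl⟩ := Submodule.mem_sup.mp (hxIJ r h1)
    have h2 : b + i' * x ∈ I ⊓ J := ⟨add_mem hb (Ideal.mul_mem_right _ _ hi'), by
      have : b + i' * x = (b + (i' + j') * x) - j' * x := by ring
      rw [this]
      exact sub_mem haJ (Ideal.mul_mem_right _ _ hj')⟩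
    have h3 : b + (i' + j') * x = (b + i' * x) + x * j' := by ring
    rw [h3]
    exact add_mem (Ideal.mul_mono le_sup_left le_rfl (h0 h2))
      (Ideal.mul_mem_mul (Ideal.mem_sup_right (Ideal.mem_span_singleton_self x)) hj')
  | succ i =>
    let g : (A ⧸ I) →ₗ[A] A ⧸ (I ⊔ Ideal.span {x}) := Submodule.factor le_sup_left
    let f : (A ⧸ I) →ₗ[A] A ⧸ I := x • LinearMap.id
    have hfg : Function.Exact f g := by
      intro y
      obtain ⟨a, rfl⟩ := Submodule.Quotient.mk_surjective I y
      constructor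
      · intro hy
        have hy' : a ∈ I ⊔ Ideal.span {x} := (Submodule.Quotient.mk_eq_zero _).mp hy
        obtain ⟨b, hb, c, hc, rfl⟩ := Submodule.mem_sup.mp hy'
        obtain ⟨r, rfl⟩ := Ideal.mem_span_singleton'.mp hc
        refine ⟨Submodule.Quotient.mk r, ?_⟩
        show x • (Submodule.Quotient.mk r : A ⧸ I) = Submodule.Quotient.mk _
        rw [← Submodule.Quotient.mk_smul, Submodule.Quotient.eq, smul_eq_mul]
        have : x * r - (b + r * x) = -b := by ring
        rw [this]; exact neg_mem hb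
      · rintro ⟨z, hz⟩
        obtain ⟨r, rfl⟩ := Submodule.Quotient.mk_surjective I z
        rw [← hz]
        show g (x • (Submodule.Quotient.mk r : A ⧸ I)) = 0
        rw [← Submodule.Quotient.mk_smul, smul_eq_mul]
        exact (Submodule.Quotient.mk_eq_zero _).mpr
          (Ideal.mem_sup_right (Ideal.mul_mem_right _ _ (Ideal.mem_span_singleton_self x)))
    let S : ShortComplex (ModuleCat.{u} A) := ShortComplex.mk (ModuleCat.ofHom f)
      (ModuleCat.ofHom g) (ModuleCat.hom_ext (LinearMap.ext hfg.apply_apply_eq_zero))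
    have hS : S.ShortExact :=
      { exact := (ShortComplex.ShortExact.moduleCat_exact_iff_function_exact _).mpr hfg
        mono_f := (ModuleCat.mono_iff_injective _).mpr (by
          show Function.Injective f
          rw [injective_iff_map_eq_zero]
          intro y hy
          obtain ⟨a, rfl⟩ := Submodule.Quotient.mk_surjective I y
          have hy' : Submodule.Quotient.mk (p := I) (x • a) = 0 := hy
          exact (Submodule.Quotient.mk_eq_zero _).mpr
            (hxI a ((Submodule.Quotient.mk_eq_zero _).mp hy')))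
        epi_g := (ModuleCat.epi_iff_surjective _).mpr (Submodule.factor_surjective le_sup_left) }
    obtain ⟨-, -, δ, w₁, w₂, h₁, -⟩ := les₁ (ModuleCat.of A (A ⧸ J)) S hS (i + 1)
    exact h₁.isZero_X₂ ((h (i + 1)).eq_of_src _ _) ((h i).eq_of_tgt _ _)

/-- Converse step, by Nakayama. -/
theorem inf_le_mul_and_regular [IsNoetherianRing A] (I J : Ideal A) (x : A)
    (hx : x ∈ Ideal.jacobson (⊥ : Ideal A)) (hxI : ∀ a, x * a ∈ I → a ∈ I)
    (h : (I ⊔ Ideal.span {x}) ⊓ J ≤ (I ⊔ Ideal.span {x}) * J) :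
    I ⊓ J ≤ I * J ∧ ∀ a, x * a ∈ I ⊔ J → a ∈ I ⊔ J := by
  have key : ∀ a ∈ (I ⊔ Ideal.span {x}) ⊓ J, ∃ b ∈ I * J, ∃ j ∈ J, a = b + x * j := by
    intro a ha
    have := h ha
    rw [Ideal.sup_mul] at this
    obtain ⟨b, hb, c, hc, rfl⟩ := Submodule.mem_sup.mp this
    obtain ⟨j, hj, rfl⟩ := Ideal.mem_span_singleton_mul.mp hc
    exact ⟨b, hb, j, hj, rfl⟩
  constructor
  · refine Submodule.le_of_le_smul_of_le_jacobson_bot (I := Ideal.span {x}) (IsNoetherian.noetherian _)
      ((Ideal.span_singleton_le_iff_mem _).mpr hx) ?_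
    rintro a ⟨haI, haJ⟩
    obtain ⟨b, hb, j, hj, rfl⟩ := key a ⟨Ideal.mem_sup_left haI, haJ⟩
    refine Submodule.add_mem_sup hb (Submodule.smul_mem_smul (Ideal.mem_span_singleton_self x) ?_)
    refine ⟨hxI j ?_, hj⟩
    have : x * j = (b + x * j) - b := by ring
    rw [this]
    exact sub_mem haI (Ideal.mul_le_inf hb).1
  · intro a ha
    obtain ⟨i, hi, j, hj, hij⟩ := Submodule.mem_sup.mp ha
    obtain ⟨b, hb, j', hj', rfl⟩ := key j ⟨Submodule.mem_sup.mpr ⟨-i, neg_mem hi, x * a,
      Ideal.mul_mem_right _ _ (Ideal.mem_span_singleton_self x), by rw [← hij]; ring⟩, hj⟩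
    have h1 : a - j' ∈ I := by
      refine hxI _ ?_
      have : x * (a - j') = i + b := by linear_combination -hij
      rw [this]
      exact add_mem hi (Ideal.mul_le_inf hb).1
    exact Submodule.mem_sup.mpr ⟨a - j', h1, j', hj', sub_add_cancel _ _⟩

/-- A regular sequence on `A` is regular on `A ⧸ J` iff the higher `Tor`s of the two quotients
vanish. -/
theorem regular_iff_tor_vanishing [IsNoetherianRing A] (J : Ideal A) (n : ℕ) (I : ℕ → Ideal A)
    (x : ℕ → A) (h0 : I 0 = ⊥) (hI : ∀ k < n, I (k + 1) = I k ⊔ Ideal.span {x k})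
    (hx : ∀ k < n, x k ∈ Ideal.jacobson (⊥ : Ideal A)) (hreg : ∀ k < n, ∀ a, x k * a ∈ I k → a ∈ I k) :
    (∀ k < n, ∀ a, x k * a ∈ I k ⊔ J → a ∈ I k ⊔ J) ↔
      ∀ i, IsZero (((Tor (ModuleCat.{u} A) (i + 1)).obj (ModuleCat.of A (A ⧸ I n))).obj
        (ModuleCat.of A (A ⧸ J))) := by
  constructor
  · intro h
    suffices ∀ k ≤ n, ∀ i, IsZero (((Tor (ModuleCat.{u} A) (i + 1)).obj
        (ModuleCat.of A (A ⧸ I k))).obj (ModuleCat.of A (A ⧸ J))) from this n le_rfl
    intro k
    induction k with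
    | zero =>
      intro _ i
      have : Module.Flat A (A ⧸ I 0) :=
        Module.Flat.of_linearEquiv (Submodule.quotEquivOfEqBot _ h0)
      have : Module.Flat A (ModuleCat.of A (A ⧸ I 0)) := this
      exact H1CAlg.isZero_Tor_of_flat _ _ i
    | succ k ih =>
      intro hk i
      rw [hI k hk]
      exact isZero_tor_sup_span (I k) J (x k) (hreg k hk) (h k hk) (ih (Nat.le_of_succ_le hk)) i
  · intro h k hk
    have htop := (isZero_one_quotient_iff (I n) J).mp (h 0)
    have hall : ∀ j ≤ n, I j ⊓ J ≤ I j * J := by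
      intro j hj
      induction hj using Nat.decreasingInduction with
      | self => exact htop
      | of_succ j hj ih =>
        rw [hI j hj] at ih
        exact (inf_le_mul_and_regular (I j) J (x j) (hx j hj) (hreg j hj) ih).1
    have := hall (k + 1) hk
    rw [hI k hk] at this
    exact (inf_le_mul_and_regular (I k) J (x k) (hx k hk) (hreg k hk) this).2

end Groth.Agent.H3CAlg.Tor
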