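import Groth.Agent.H3CAlg.TorTwist
import Groth.Agent.H3CAlg.TorRestrict
import Groth.Agent.H3CAlg.ChiMain
import Mathlib

/-!
# `Tor` of a finite algebra over a local ring, one maximal ideal at a time
-/

set_option autoImplicit false
set_option linter.style.haveILetI false
set_option linter.unusedSectionVars false
universe u

open CategoryTheory TensorProduct

namespace Groth.Agent.H3CAlg.TorSemilocal

variable {R : Type u} [CommRing R] (S : Type u) [CommRing S] [Algebra R S]

/-- `Tor^R_i(P, N)`, for `P` flat over `S`, is `P ⊗_S T` for one `S`-module `T`. -/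
theorem exists_model : ∀ (i : ℕ) (N : Type u) [AddCommGroup N] [Module R N],
    ∃ (T : Type u) (_ : AddCommGroup T) (_ : Module R T) (_ : Module S T) (_ : IsScalarTower R S T),
      ∀ (P : Type u) [AddCommGroup P] [Module R P] [Module S P] [IsScalarTower R S P] [Module.Flat S P],
        Nonempty (DRing.Tor R i P N ≃ₗ[R] P ⊗[S] T) := by
  intro i
  induction i with
  | zero =>
    intro N _ _
    refine ⟨S ⊗[R] N, inferInstance, inferInstance, inferInstance, inferInstance, fun P _ _ _ _ _ => ?_⟩
    exact ⟨((Tor.zeroIso (ModuleCat.of R P)).app (ModuleCat.of R N)).toLinearEquiv.trans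
      ((AlgebraTensorModule.cancelBaseChange R S S P N).symm.restrictScalars R)⟩
  | succ i ih =>
    intro N _ _
    obtain ⟨G, iG, iG', iG'', g, hg⟩ := TorFlatBC.exists_free_cover R N
    let f : LinearMap.ker g →ₗ[R] G := (LinearMap.ker g).subtype
    have hfg : Function.Exact f g := LinearMap.exact_subtype_ker_map g
    cases i with
    | zero =>
      refine ⟨LinearMap.ker (f.baseChange S), inferInstance, inferInstance, inferInstance, inferInstance,
        fun P _ _ _ _ _ => ?_⟩
      obtain ⟨e⟩ := ChiBC.tor_one_equiv P f g (LinearMap.ker g).injective_subtype hg hfg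
      let k : P ⊗[S] LinearMap.ker (f.baseChange S) ≃ₗ[S]
          LinearMap.ker (AlgebraTensorModule.lTensor S P (f.baseChange S)) :=
        LinearMap.tensorKerEquiv S P (f.baseChange S)
      let c := AlgebraTensorModule.cancelBaseChange R S S P (LinearMap.ker g)
      have hnat : ∀ v, AlgebraTensorModule.cancelBaseChange R S S P G ((f.baseChange S).lTensor P v) =
          f.lTensor P (c v) := TorRestrict.cancel_natural S P f
      suffices h : Nonempty (LinearMap.ker (f.lTensor P) ≃ₗ[R]
          (LinearMap.ker (AlgebraTensorModule.lTensor S P (f.baseChange S))).restrictScalars R) by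
        obtain ⟨d⟩ := h
        exact ⟨e.trans (d.trans (k.symm.restrictScalars R))⟩
      refine ⟨?_⟩
      refine (c.symm.restrictScalars R).ofSubmodules (LinearMap.ker (f.lTensor P))
        ((LinearMap.ker (AlgebraTensorModule.lTensor S P (f.baseChange S))).restrictScalars R) ?_
      refine le_antisymm ?_ fun v hv => ?_
      · rintro _ ⟨v, hv, rfl⟩
        show (f.baseChange S).lTensor P (c.symm v) = 0
        apply (AlgebraTensorModule.cancelBaseChange R S S P G).injective
        rw [hnat, LinearEquiv.apply_symm_apply, map_zero]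
        exact hv
      · refine ⟨c v, ?_, LinearEquiv.symm_apply_apply _ v⟩
        show f.lTensor P (c v) = 0
        rw [← hnat, show (f.baseChange S).lTensor P v = 0 from hv, map_zero]
    | succ i =>
      obtain ⟨T, iT, iT', iT'', iT''', hT⟩ := ih (LinearMap.ker g)
      refine ⟨T, iT, iT', iT'', iT''', fun P _ _ _ _ _ => ?_⟩
      obtain ⟨e⟩ := ChiBC.tor_step_equiv P f g (LinearMap.ker g).injective_subtype hg hfg i
      obtain ⟨d⟩ := hT P
      exact ⟨e.trans d⟩

section

variable {ι : Type*} (m : ι → Ideal S) [∀ j, (m j).IsMaximal] (P : ι → Type u) [∀ j, CommRing (P j)]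
  [∀ j, Algebra S (P j)] [∀ j, IsLocalization.AtPrime (P j) (m j)]

theorem localize_simple (T : Type u) [AddCommGroup T] [Module S T] (J : Ideal S) [J.IsMaximal]
    (e : T ≃ₗ[S] S ⧸ J) (j : ι) :
    (m j = J → Function.Bijective (TensorProduct.mk S (P j) T 1)) ∧ (m j ≠ J → Subsingleton (P j ⊗[S] T)) := by
  haveI : IsLocalizedModule (m j).primeCompl (TensorProduct.mk S (P j) T 1) :=
    (isLocalizedModule_iff_isBaseChange (m j).primeCompl (P j) _).mpr (TensorProduct.isBaseChange S T (P j))
  have hkill : ∀ s ∈ J, ∀ t : T, s • t = 0 := fun s hs t => e.injective (by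
    rw [map_smul, map_zero]
    obtain ⟨a, ha⟩ := Submodule.Quotient.mk_surjective _ (e t)
    rw [← ha, ← Submodule.Quotient.mk_smul, Submodule.Quotient.mk_eq_zero]
    exact J.mul_mem_right a hs)
  have hinj := fun (s : (m j).primeCompl) => ((Module.End.isUnit_iff _).mp
    (IsLocalizedModule.map_units (TensorProduct.mk S (P j) T 1) s)).injective
  constructor
  · rintro rfl
    have hinv : ∀ s : (m j).primeCompl, ∃ a : S, ∀ t : T, (a * s) • t = t := fun s => by
      obtain ⟨a, ha⟩ := Ideal.IsMaximal.exists_inv (I := m j) inferInstance s.2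
      obtain ⟨b, hb, hab⟩ := ha
      exact ⟨a, fun t => by
        conv_rhs => rw [← one_smul S t, ← hab, add_smul, hkill b hb t, add_zero]⟩
    refine ⟨(injective_iff_map_eq_zero _).mpr fun t ht => ?_, fun x => ?_⟩
    · obtain ⟨s, hs⟩ := (IsLocalizedModule.eq_zero_iff (m j).primeCompl _).mp ht
      obtain ⟨a, ha⟩ := hinv s
      rw [← ha t, mul_smul, show (s : S) • t = 0 from hs, smul_zero]
    · obtain ⟨⟨t, s⟩, hs⟩ := IsLocalizedModule.surj (m j).primeCompl (TensorProduct.mk S (P j) T 1) x
      obtain ⟨a, ha⟩ := hinv s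
      refine ⟨a • t, hinj s ?_⟩
      simp only [Module.algebraMap_end_apply]
      rw [← map_smul, smul_smul, mul_comm, ha t, ← hs]
      rfl
  · intro hne
    obtain ⟨s, hsJ, hsm⟩ : ∃ s ∈ J, s ∉ m j := by
      by_contra h
      push Not at h
      exact hne ((Ideal.IsMaximal.eq_of_le (inferInstance : J.IsMaximal) (Ideal.IsMaximal.ne_top inferInstance) h).symm)
    refine subsingleton_of_forall_eq 0 fun x => hinj ⟨s, hsm⟩ ?_
    simp only [Module.algebraMap_end_apply, smul_zero]
    induction x using TensorProduct.induction_on with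
    | zero => rw [smul_zero]
    | tmul a t => rw [← TensorProduct.tmul_smul, hkill s hsJ t, TensorProduct.tmul_zero]
    | add a b ha hb => rw [smul_add, ha, hb, add_zero]

/-- A module of finite length is the product of its localizations. -/
theorem length_eq_sum [Fintype ι] (hm : Function.Injective m)
    (hall : ∀ M : Ideal S, M.IsMaximal → ∃ j, m j = M) [∀ j, Algebra R (P j)] [∀ j, IsScalarTower R S (P j)]
    (T : Type u) [AddCommGroup T] [Module S T] [Module R T] [IsScalarTower R S T] (hT : IsFiniteLength S T) :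
    Module.length R T = ∑ j, Module.length R (P j ⊗[S] T) := by
  classical
  suffices key : ∀ (T : Type u) [AddCommGroup T] [Module S T], IsFiniteLength S T →
      ∀ [Module R T] [IsScalarTower R S T], Module.length R T = ∑ j, Module.length R (P j ⊗[S] T) from key T hT
  intro T _ _ hT
  induction hT with
  | of_subsingleton =>
    rename_i T _ _ _
    intro _ _
    have h0 : ∀ j, Subsingleton (P j ⊗[S] T) := fun j => subsingleton_of_forall_eq 0 fun x => by
      induction x using TensorProduct.induction_on with
      | zero => rfl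
      | tmul a t => rw [Subsingleton.elim t 0, TensorProduct.tmul_zero]
      | add a b ha hb => rw [ha, hb, add_zero]
    haveI := h0
    simp
  | of_simple_quotient hN ih =>
    rename_i T _ _ N _
    intro _ _
    haveI : ∀ j, Module.Flat S (P j) := fun j => IsLocalization.flat (P j) (m j).primeCompl
    rw [Module.length_eq_add_of_exact (N.subtype.restrictScalars R) (N.mkQ.restrictScalars R) N.injective_subtype
      N.mkQ_surjective (LinearMap.exact_subtype_mkQ N), ih]
    have hstep : ∀ j, Module.length R (P j ⊗[S] T) =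
        Module.length R (P j ⊗[S] N) + Module.length R (P j ⊗[S] (T ⧸ N)) := fun j =>
      Module.length_eq_add_of_exact ((N.subtype.lTensor (P j)).restrictScalars R) ((N.mkQ.lTensor (P j)).restrictScalars R)
        (Module.Flat.lTensor_preserves_injective_linearMap _ N.injective_subtype)
        (LinearMap.lTensor_surjective _ N.mkQ_surjective)
        (lTensor_exact (P j) (LinearMap.exact_subtype_mkQ N) N.mkQ_surjective)
    rw [Finset.sum_congr rfl fun j _ => hstep j, Finset.sum_add_distrib]
    congr 1
    obtain ⟨J, hJ, ⟨e⟩⟩ := isSimpleModule_iff_quot_maximal.mp (inferInstance : IsSimpleModule S (T ⧸ N))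
    haveI := hJ
    obtain ⟨j₀, rfl⟩ := hall J hJ
    rw [Finset.sum_eq_single j₀ (fun j _ hne => Module.length_eq_zero_iff.mpr
      ((localize_simple S m P (T ⧸ N) (m j₀) e j).2 fun h => hne (hm h))) (fun h => absurd (Finset.mem_univ _) h)]
    exact ((LinearEquiv.ofBijective _ ((localize_simple S m P (T ⧸ N) (m j₀) e j₀).1 rfl)).restrictScalars R).length_eq

end

/-- The Euler characteristic against a finite algebra is the sum over its maximal ideals. -/
theorem chi_eq_sum [IsNoetherianRing R] {ι : Type*} [Fintype ι] (m : ι → Ideal S) [∀ j, (m j).IsMaximal]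
    (hm : Function.Injective m) (hall : ∀ M : Ideal S, M.IsMaximal → ∃ j, m j = M) (P : ι → Type u)
    [∀ j, CommRing (P j)] [∀ j, Algebra S (P j)] [∀ j, IsLocalization.AtPrime (P j) (m j)] [∀ j, Algebra R (P j)]
    [∀ j, IsScalarTower R S (P j)] (N : Type u) [AddCommGroup N] [Module R N]
    (hfl : ∀ i : ℕ, Module.length R (DRing.Tor R i S N) ≠ ⊤)
    (D : ℕ) (hD : ∀ (M : Type u) [AddCommGroup M] [Module R M], ∀ i, D < i → Subsingleton (DRing.Tor R i N M)) :
    (∀ i j, Module.length R (DRing.Tor R i (P j) N) ≠ ⊤) ∧ IntMult.chi R S N = ∑ j, IntMult.chi R (P j) N := by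
  have hlen : ∀ i, (∀ j, Module.length R (DRing.Tor R i (P j) N) ≠ ⊤) ∧
      Module.length R (DRing.Tor R i S N) = ∑ j, Module.length R (DRing.Tor R i (P j) N) := by
    intro i
    obtain ⟨T, iT, iT', iT'', iT''', hT⟩ := exists_model (R := R) S i N
    obtain ⟨e⟩ := hT S
    let e' : DRing.Tor R i S N ≃ₗ[R] T := e.trans ((TensorProduct.lid S T).restrictScalars R)
    have hTR : IsFiniteLength R T := Module.length_ne_top_iff.mp (e'.length_eq ▸ hfl i)
    have hTS : IsFiniteLength S T := by
      obtain ⟨a, b⟩ := isFiniteLength_iff_isNoetherian_isArtinian.mp hTR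
      exact isFiniteLength_iff_isNoetherian_isArtinian.mpr
        ⟨isNoetherian_of_tower R a, isArtinian_of_tower R b⟩
    have h1 := length_eq_sum (R := R) S m P hm hall T hTS
    have h2 : ∀ j, Module.length R (DRing.Tor R i (P j) N) = Module.length R (P j ⊗[S] T) := fun j => by
      haveI : Module.Flat S (P j) := IsLocalization.flat (P j) (m j).primeCompl
      obtain ⟨d⟩ := hT (P j)
      exact d.length_eq
    refine ⟨fun j => ?_, by rw [e'.length_eq, h1, Finset.sum_congr rfl fun j _ => (h2 j).symm]⟩
    rw [h2 j]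
    intro htop
    refine Module.length_ne_top_iff.mpr hTR ?_
    rw [h1]
    exact ENat.sum_eq_top.mpr ⟨j, Finset.mem_univ _, htop⟩
  have hsupp : ∀ (M : Type u) [AddCommGroup M] [Module R M],
      IntMult.chi R M N = ∑ i ∈ Finset.range (D + 1), (-1 : ℤ) ^ i * ((Module.length R (DRing.Tor R i M N)).toNat : ℤ) := by
    intro M _ _
    refine finsum_eq_sum_of_support_subset _ fun i hi => ?_
    rw [Finset.coe_range, Set.mem_Iio]
    by_contra hne
    refine hi ?_
    obtain ⟨c⟩ := TorComm.nonempty_iso i (ModuleCat.of R M) (ModuleCat.of R N)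
    haveI := hD M i (by omega)
    haveI : Subsingleton (DRing.Tor R i M N) := c.toLinearEquiv.toEquiv.subsingleton
    show _ * _ = (0 : ℤ)
    rw [Module.length_eq_zero, ENat.toNat_zero, Nat.cast_zero, mul_zero]
  refine ⟨fun i j => (hlen i).1 j, ?_⟩
  rw [hsupp S, Finset.sum_congr rfl fun j _ => hsupp (P j), Finset.sum_comm]
  refine Finset.sum_congr rfl fun i _ => ?_
  rw [(hlen i).2, ENat.toNat_sum (fun j _ => (hlen i).1 j), Nat.cast_sum, Finset.mul_sum]

/-- From `R`-lengths to lengths over a local algebra with finite residue extension. -/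
theorem chi_restrict_degree [IsLocalRing R] (X : Type u) [CommRing X] [IsLocalRing X] [Algebra R X] [Module.Flat R X]
    [IsLocalHom (algebraMap R X)] (T : Type u) [AddCommGroup T] [Module X T] [Module R T] [IsScalarTower R X T]
    (N : Type u) [AddCommGroup N] [Module R N] (d : ℕ)
    (hd : Module.length (IsLocalRing.ResidueField R) (IsLocalRing.ResidueField X) = (d : ℕ∞))
    (hfl : ∀ i : ℕ, Module.length R (DRing.Tor R i T N) ≠ ⊤) :
    IntMult.chi R T N = (d : ℤ) * IntMult.chi X T (X ⊗[R] N) := by
  rw [IntMult.chi, IntMult.chi, mul_finsum]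
  refine finsum_congr fun i => ?_
  obtain ⟨e, he⟩ := TorRestrict.tor_restrict (A := R) X T i N
  letI : Module R (DRing.Tor X i T (X ⊗[R] N)) := Module.compHom _ (algebraMap R X)
  haveI : IsScalarTower R X (DRing.Tor X i T (X ⊗[R] N)) := IsScalarTower.of_algebraMap_smul fun _ _ => rfl
  let e' : DRing.Tor X i T (X ⊗[R] N) ≃ₗ[R] DRing.Tor R i T N := { e with map_smul' := fun a z => he a z }
  have h := IsLocalRing.length_restrictScalars R X (DRing.Tor X i T (X ⊗[R] N))
  rw [e'.length_eq, hd] at h
  rw [h, ENat.toNat_mul, ENat.toNat_natCast, Nat.cast_mul]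
  ring

end Groth.Agent.H3CAlg.TorSemilocal
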