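import Groth.Agent.H3CAlg.IndexSum
import Groth.Agent.H3CAlg.ChiDev
import Groth.Agent.H1Koszul.Chi
import Mathlib

/-!
# Tor and Koszul Euler characteristics commute
-/

set_option autoImplicit false
set_option linter.style.haveILetI false
set_option linter.unusedSectionVars false
universe u

open CategoryTheory MonoidalCategory Groth.Agent.H1Koszul

namespace Groth.Agent.H3CAlg.TripleChi

variable {A : Type u} [CommRing A]

theorem homologyMap_smul (C D : ChainComplex (ModuleCat.{u} A) ℕ) (φ : C ⟶ D) (x : A) (i : ℕ) :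
    (HomologicalComplex.homologyFunctor _ _ i).map (x • φ) =
      x • (HomologicalComplex.homologyFunctor _ _ i).map φ := by
  show ShortComplex.homologyMap ((HomologicalComplex.shortComplexFunctor _ _ i).map (x • φ)) =
    x • ShortComplex.homologyMap ((HomologicalComplex.shortComplexFunctor _ _ i).map φ)
  rw [← ShortComplex.homologyMap_smul]
  rfl

theorem tor_map_smul (N M : ModuleCat.{u} A) (x : A) (i : ℕ) :
    (((tensoringLeft (ModuleCat.{u} A)).obj N).leftDerived i).map (x • 𝟙 M) =
      x • 𝟙 ((((tensoringLeft (ModuleCat.{u} A)).obj N).leftDerived i).obj M) := by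
  let P := projectiveResolution M
  have w : (x • 𝟙 P.complex) ≫ P.π = P.π ≫ (ChainComplex.single₀ (ModuleCat.{u} A)).map (x • 𝟙 M) := by
    apply (ChainComplex.toSingle₀Equiv _ _).injective
    apply Subtype.ext
    show (x • 𝟙 P.complex).f 0 ≫ P.π.f 0 = (P.π ≫ (ChainComplex.single₀ (ModuleCat.{u} A)).map (x • 𝟙 M)).f 0
    rw [HomologicalComplex.comp_f, ChainComplex.single₀_map_f_zero]
    ext z
    exact map_smul (P.π.f 0).hom x z
  rw [Functor.leftDerived_map_eq _ i (x • 𝟙 M) (P := P) (Q := P) (x • 𝟙 _) w, Functor.comp_map]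
  have h : (((tensoringLeft (ModuleCat.{u} A)).obj N).mapHomologicalComplex (ComplexShape.down ℕ)).map (x • 𝟙 P.complex) =
      x • 𝟙 _ := by
    ext j : 1
    show ((tensoringLeft (ModuleCat.{u} A)).obj N).map (x • 𝟙 (P.complex.X j)) = x • 𝟙 _
    rw [Functor.map_smul, CategoryTheory.Functor.map_id]
    rfl
  rw [h, homologyMap_smul, CategoryTheory.Functor.map_id, Linear.smul_comp, Linear.comp_smul, Category.id_comp]
  erw [Iso.hom_inv_id]

variable (W : Type u) [AddCommGroup W] [Module A W]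

theorem torMap_smul_id (M : Type u) [AddCommGroup M] [Module A M] (x : A) (i : ℕ) :
    ChiAdd.torMap W (x • LinearMap.id : M →ₗ[A] M) i = x • LinearMap.id :=
  congrArg ModuleCat.Hom.hom (tor_map_smul (ModuleCat.of A W) (ModuleCat.of A M) x i)

theorem torMap_comp {M M' M'' : Type u} [AddCommGroup M] [Module A M] [AddCommGroup M'] [Module A M']
    [AddCommGroup M''] [Module A M''] (a : M →ₗ[A] M') (b : M' →ₗ[A] M'') (i : ℕ) :
    ChiAdd.torMap W (b.comp a) i = (ChiAdd.torMap W b i).comp (ChiAdd.torMap W a i) := by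
  unfold ChiAdd.torMap
  rw [ModuleCat.ofHom_comp, Functor.map_comp, ModuleCat.hom_comp]

theorem mapH_comp {M M' M'' : Type u} [AddCommGroup M] [Module A M] [AddCommGroup M'] [Module A M']
    [AddCommGroup M''] [Module A M''] (a : M →ₗ[A] M') (b : M' →ₗ[A] M'') (l : List A) (i : ℤ) :
    mapH (b.comp a) l i = (mapH b l i).comp (mapH a l i) := by
  refine LinearMap.ext fun z => ?_
  obtain ⟨z, rfl⟩ := cls_surjective l i z
  have h : ∀ (l : List A) (t : T M l), map (b.comp a) l t = map b l (map a l t) := by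
    intro l
    induction l with
    | nil => exact fun t => rfl
    | cons y l ih =>
      rintro ⟨s, t⟩
      rw [map_cons, map_cons, map_cons, ih, ih]
  show cls l i _ = cls l i _
  exact congrArg _ (Subtype.ext (h l z.1))

theorem mapH_smul_id {M : Type u} [AddCommGroup M] [Module A M] (x : A) (l : List A) (i : ℤ) :
    mapH (x • LinearMap.id : M →ₗ[A] M) l i = x • LinearMap.id := by
  refine LinearMap.ext fun z => ?_
  obtain ⟨a, rfl⟩ := cls_surjective l i z
  rw [mapH_cls, LinearMap.smul_apply, LinearMap.id_apply, ← map_smul]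
  refine congrArg _ (Subtype.ext ?_)
  rw [mapZ_val, Submodule.coe_smul]
  generalize (a : T M l) = b
  clear a
  induction l with
  | nil => rfl
  | cons y l ih => exact Prod.ext (ih _) (ih _)

section split

variable {φ : ∀ (T : Type u) [AddCommGroup T] [Module A T], ℤ}
  {C : ∀ (T : Type u) [AddCommGroup T] [Module A T], Prop}

theorem sum_cone (F G : ℤ → ℤ) : ∀ m : ℕ,
    ∑ j ∈ Finset.range (m + 1), (-1 : ℤ) ^ j * (G j + F ((j : ℤ) - 1)) =
      F (-1) + (-1) ^ m * G m + ∑ j ∈ Finset.range m, (-1 : ℤ) ^ j * (G j - F j)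
  | 0 => by simp [add_comm]
  | m + 1 => by
    rw [Finset.sum_range_succ, sum_cone F G m, Finset.sum_range_succ _ m,
      show (((m + 1 : ℕ) : ℤ)) - 1 = (m : ℤ) by push_cast; ring, pow_succ]
    ring

theorem koszul_split (h : IndexSum.IsAdd φ C) (x : A) (l : List A) (M : Type u) [AddCommGroup M] [Module A M]
    (hK : ∀ j : ℕ, C (H (LinearMap.ker (x • LinearMap.id : M →ₗ[A] M)) l (j : ℤ)))
    (hQ : ∀ j : ℕ, C (H (M ⧸ LinearMap.range (x • LinearMap.id : M →ₗ[A] M)) l (j : ℤ))) :
    ∑ j ∈ Finset.range (l.length + 2), (-1 : ℤ) ^ j * φ (H M (x :: l) (j : ℤ)) =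
      ∑ j ∈ Finset.range (l.length + 1), (-1 : ℤ) ^ j *
          φ (H (M ⧸ LinearMap.range (x • LinearMap.id : M →ₗ[A] M)) l (j : ℤ)) -
        ∑ j ∈ Finset.range (l.length + 1), (-1 : ℤ) ^ j *
          φ (H (LinearMap.ker (x • LinearMap.id : M →ₗ[A] M)) l (j : ℤ)) := by
  have les : ∀ {M₁ M₂ M₃ : Type u} [AddCommGroup M₁] [Module A M₁] [AddCommGroup M₂] [Module A M₂]
      [AddCommGroup M₃] [Module A M₃] (f : M₁ →ₗ[A] M₂) (g : M₂ →ₗ[A] M₃),
      Function.Injective f → Function.Surjective g → Function.Exact f g →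
      Function.Surjective (mapH g l ((0 : ℕ) : ℤ)) ∧
      ∃ δ : ∀ j : ℕ, H M₃ l ((j + 1 : ℕ) : ℤ) →ₗ[A] H M₁ l (j : ℤ),
        (∀ j : ℕ, Function.Exact (mapH g l ((j + 1 : ℕ) : ℤ)) (δ j)) ∧
        ∀ j : ℕ, Function.Exact (δ j) (mapH f l (j : ℤ)) := by
    intro M₁ M₂ M₃ _ _ _ _ _ _ f g hf hg hfg
    constructor
    · obtain ⟨e⟩ := nonempty_coker_equiv_ker hf hg hfg l ((0 : ℕ) : ℤ)
      haveI : Subsingleton (H M₁ l (((0 : ℕ) : ℤ) - 1)) := subsingleton_H l (Or.inl (by simp))
      haveI : Subsingleton (H M₃ l ((0 : ℕ) : ℤ) ⧸ LinearMap.range (mapH g l ((0 : ℕ) : ℤ))) :=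
        e.toEquiv.subsingleton
      rwa [Submodule.Quotient.subsingleton_iff, LinearMap.range_eq_top] at this
    · have key : ∀ j : ℕ, ∃ δ : H M₃ l ((j + 1 : ℕ) : ℤ) →ₗ[A] H M₁ l (j : ℤ),
          Function.Exact (mapH g l ((j + 1 : ℕ) : ℤ)) δ ∧ Function.Exact δ (mapH f l (j : ℤ)) := by
        intro j
        obtain ⟨e⟩ := nonempty_coker_equiv_ker hf hg hfg l ((j + 1 : ℕ) : ℤ)
        rw [show ((j + 1 : ℕ) : ℤ) - 1 = (j : ℤ) by push_cast; ring] at e
        refine ⟨(LinearMap.ker (mapH f l (j : ℤ))).subtype.comp (e.toLinearMap.comp (Submodule.mkQ _)),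
          fun z => ?_, fun z => ?_⟩
        · rw [LinearMap.comp_apply, LinearMap.comp_apply, Submodule.subtype_apply, ZeroMemClass.coe_eq_zero,
            LinearEquiv.coe_coe, LinearEquiv.map_eq_zero_iff, Submodule.mkQ_apply, Submodule.Quotient.mk_eq_zero]
          exact Iff.rfl
        · refine ⟨fun hz => ?_, ?_⟩
          · obtain ⟨w, hw⟩ := Submodule.mkQ_surjective _ (e.symm ⟨z, hz⟩)
            refine ⟨w, ?_⟩
            show ((e (Submodule.mkQ _ w)) : H M₁ l (j : ℤ)) = z
            rw [hw, LinearEquiv.apply_symm_apply]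
          · rintro ⟨w, rfl⟩
            exact (e _).2
      choose δ h1 h2 using key
      exact ⟨δ, h1, h2⟩
  let μ : M →ₗ[A] M := x • LinearMap.id
  haveI hsub : ∀ (N : Type u) [AddCommGroup N] [Module A N], Subsingleton (H N l ((l.length + 1 : ℕ) : ℤ)) :=
    fun N _ _ => subsingleton_H l (Or.inr (by push_cast; omega))
  have ex1 : Function.Exact (LinearMap.ker μ).subtype μ.rangeRestrict := by
    rw [LinearMap.exact_iff, LinearMap.ker_rangeRestrict, Submodule.range_subtype]
  obtain ⟨hg₀, δ₁, hgδ₁, hδf₁⟩ := les (LinearMap.ker μ).subtype μ.rangeRestrict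
    (LinearMap.ker μ).subtype_injective μ.surjective_rangeRestrict ex1
  haveI := hsub (LinearMap.range μ)
  obtain ⟨hC1, e1⟩ := IndexSum.les_first h (fun j : ℕ => mapH (LinearMap.ker μ).subtype l (j : ℤ))
    (fun j : ℕ => mapH μ.rangeRestrict l (j : ℤ)) δ₁
    (fun j => mapH_exact (LinearMap.ker μ).subtype_injective μ.surjective_rangeRestrict ex1 l (j : ℤ))
    hgδ₁ hδf₁ hg₀ l.length hK
  obtain ⟨hg₀', δ₂, hgδ₂, hδf₂⟩ := les (LinearMap.range μ).subtype (LinearMap.range μ).mkQ
    (LinearMap.range μ).subtype_injective (Submodule.mkQ_surjective _) (LinearMap.exact_subtype_mkQ _)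
  haveI := hsub (M ⧸ LinearMap.range μ)
  obtain ⟨hC2, e2⟩ := IndexSum.les_last h (fun j : ℕ => mapH (LinearMap.range μ).subtype l (j : ℤ))
    (fun j : ℕ => mapH (LinearMap.range μ).mkQ l (j : ℤ)) δ₂
    (fun j => mapH_exact (LinearMap.range μ).subtype_injective (Submodule.mkQ_surjective _)
      (LinearMap.exact_subtype_mkQ _) l (j : ℤ))
    hgδ₂ hδf₂ hg₀' l.length hQ
  have hcomp : ∀ j : ℕ, C (LinearMap.ker (x • LinearMap.id : H M l (j : ℤ) →ₗ[A] H M l (j : ℤ))) ∧
      C (H M l (j : ℤ) ⧸ LinearMap.range (x • LinearMap.id : H M l (j : ℤ) →ₗ[A] H M l (j : ℤ))) ∧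
      IndexSum.idx φ (x • LinearMap.id : H M l (j : ℤ) →ₗ[A] H M l (j : ℤ)) =
        IndexSum.idx φ (mapH μ.rangeRestrict l (j : ℤ)) + IndexSum.idx φ (mapH (LinearMap.range μ).subtype l (j : ℤ)) := by
    intro j
    rw [← TripleChi.mapH_smul_id (M := M) x l (j : ℤ), show (x • LinearMap.id : M →ₗ[A] M) =
      (LinearMap.range μ).subtype.comp μ.rangeRestrict from (LinearMap.subtype_comp_codRestrict ..).symm, mapH_comp]
    exact IndexSum.comp h _ _ (hC1 j).1 (hC1 j).2 (hC2 j).1 (hC2 j).2
  let F : ℤ → ℤ := fun i => φ (LinearMap.ker (x • LinearMap.id : H M l i →ₗ[A] H M l i))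
  let G : ℤ → ℤ := fun i => φ (H M l i ⧸ LinearMap.range (x • LinearMap.id : H M l i →ₗ[A] H M l i))
  have hFC : ∀ i : ℤ, C (LinearMap.ker (x • LinearMap.id : H M l i →ₗ[A] H M l i)) ∧
      C (H M l i ⧸ LinearMap.range (x • LinearMap.id : H M l i →ₗ[A] H M l i)) := by
    intro i
    by_cases hi : i < 0
    · haveI := subsingleton_H (M := M) l (i := i) (Or.inl hi)
      haveI : Subsingleton (H M l i ⧸ LinearMap.range (x • LinearMap.id : H M l i →ₗ[A] H M l i)) :=
        (Submodule.mkQ_surjective _).subsingleton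
      exact ⟨h.zero _, h.zero _⟩
    · obtain ⟨j, rfl⟩ : ∃ j : ℕ, i = (j : ℤ) := ⟨i.toNat, by omega⟩
      exact ⟨(hcomp j).1, (hcomp j).2.1⟩
  have hcone : ∀ i : ℤ, φ (H M (x :: l) i) = G i + F (i - 1) := by
    intro i
    have eG : C (LinearMap.ker (projH (M := M) x l i)) ∧ φ (LinearMap.ker (projH (M := M) x l i)) = G i :=
      IndexSum.congr h ((LinearEquiv.ofEq _ _ (range_inclH_eq_ker_projH x l i).symm).trans
        ((inclH x l i).quotKerEquivRange.symm.trans
          (Submodule.quotEquivOfEq _ _ (range_smul_eq_ker_inclH x l i).symm))) (hFC i).2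
    have eF : C (LinearMap.range (projH (M := M) x l i)) ∧ φ (LinearMap.range (projH (M := M) x l i)) = F (i - 1) :=
      IndexSum.congr h (LinearEquiv.ofEq _ _ (range_projH_eq_ker_smul x l i)) (hFC (i - 1)).1
    have hex : Function.Exact (LinearMap.ker (projH (M := M) x l i)).subtype (projH x l i).rangeRestrict := by
      rw [LinearMap.exact_iff, LinearMap.ker_rangeRestrict, Submodule.range_subtype]
    rw [h.add _ _ (LinearMap.ker (projH (M := M) x l i)).subtype_injective (projH x l i).surjective_rangeRestrict hex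
      (h.ext _ _ (LinearMap.ker (projH (M := M) x l i)).subtype_injective (projH x l i).surjective_rangeRestrict hex
        eG.1 eF.1), eG.2, eF.2]
  have hF : F (-1) = 0 := by
    haveI := subsingleton_H (M := M) l (i := -1) (Or.inl (by omega))
    exact IndexSum.map_zero h _
  have hG : G ((l.length + 1 : ℕ) : ℤ) = 0 := by
    haveI := hsub M
    haveI : Subsingleton (H M l ((l.length + 1 : ℕ) : ℤ) ⧸ LinearMap.range
      (x • LinearMap.id : H M l ((l.length + 1 : ℕ) : ℤ) →ₗ[A] H M l ((l.length + 1 : ℕ) : ℤ))) :=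
        (Submodule.mkQ_surjective _).subsingleton
    exact IndexSum.map_zero h _
  rw [Finset.sum_congr rfl fun j _ => by rw [hcone], sum_cone F G (l.length + 1), hF, hG, mul_zero, zero_add,
    zero_add, Finset.sum_congr (s₁ := Finset.range (l.length + 1)) rfl fun (j : ℕ) _ => show (-1 : ℤ) ^ j * (G (j : ℤ) - F (j : ℤ)) =
      (-1 : ℤ) ^ j * IndexSum.idx φ (x • LinearMap.id : H M l (j : ℤ) →ₗ[A] H M l (j : ℤ)) from rfl,
    Finset.sum_congr rfl fun j _ => by rw [(hcomp j).2.2, mul_add], Finset.sum_add_distrib]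
  simp only [μ] at e1 e2 ⊢
  omega

theorem tor_split (h : IndexSum.IsAdd φ C) (x : A) (M : Type u) [AddCommGroup M] [Module A M] (D : ℕ)
    (hD : ∀ (M : Type u) [AddCommGroup M] [Module A M], ∀ i, D < i → Subsingleton (DRing.Tor A i W M))
    (hK : ∀ i, C (DRing.Tor A i W (LinearMap.ker (x • LinearMap.id : M →ₗ[A] M))))
    (hQ : ∀ i, C (DRing.Tor A i W (M ⧸ LinearMap.range (x • LinearMap.id : M →ₗ[A] M)))) :
    ∑ i ∈ Finset.range (D + 1), (-1 : ℤ) ^ i *
        IndexSum.idx φ (x • LinearMap.id : DRing.Tor A i W M →ₗ[A] DRing.Tor A i W M) =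
      ∑ i ∈ Finset.range (D + 1), (-1 : ℤ) ^ i *
          φ (DRing.Tor A i W (M ⧸ LinearMap.range (x • LinearMap.id : M →ₗ[A] M))) -
        ∑ i ∈ Finset.range (D + 1), (-1 : ℤ) ^ i *
          φ (DRing.Tor A i W (LinearMap.ker (x • LinearMap.id : M →ₗ[A] M))) := by
  let μ : M →ₗ[A] M := x • LinearMap.id
  have ex1 : Function.Exact (LinearMap.ker μ).subtype μ.rangeRestrict := by
    rw [LinearMap.exact_iff, LinearMap.ker_rangeRestrict, Submodule.range_subtype]
  have l1 := fun i => ChiAdd.exists_les W (LinearMap.ker μ).subtype_injective μ.surjective_rangeRestrict ex1 i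
  have l2 := fun i => ChiAdd.exists_les W (LinearMap.range μ).subtype_injective (Submodule.mkQ_surjective _)
    (LinearMap.exact_subtype_mkQ (LinearMap.range μ)) i
  choose a₁ b₁ δ₁ c₁ d₁ using l1
  choose a₂ b₂ δ₂ c₂ d₂ using l2
  haveI := hD (LinearMap.range μ) (D + 1) (by omega)
  haveI := hD (M ⧸ LinearMap.range μ) (D + 1) (by omega)
  obtain ⟨hC1, e1⟩ := IndexSum.les_first h (fun i => ChiAdd.torMap W (LinearMap.ker μ).subtype i)
    (fun i => ChiAdd.torMap W μ.rangeRestrict i) δ₁ a₁ c₁ d₁ (b₁ 0) D hK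
  obtain ⟨hC2, e2⟩ := IndexSum.les_last h (fun i => ChiAdd.torMap W (LinearMap.range μ).subtype i)
    (fun i => ChiAdd.torMap W (LinearMap.range μ).mkQ i) δ₂ a₂ c₂ d₂ (b₂ 0) D hQ
  have hcomp : ∀ i, IndexSum.idx φ (x • LinearMap.id : DRing.Tor A i W M →ₗ[A] DRing.Tor A i W M) =
      IndexSum.idx φ (ChiAdd.torMap W μ.rangeRestrict i) + IndexSum.idx φ (ChiAdd.torMap W (LinearMap.range μ).subtype i) := by
    intro i
    rw [← torMap_smul_id W M x i, show (x • LinearMap.id : M →ₗ[A] M) =
      (LinearMap.range μ).subtype.comp μ.rangeRestrict from (LinearMap.subtype_comp_codRestrict ..).symm, torMap_comp]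
    exact (IndexSum.comp h _ _ (hC1 i).1 (hC1 i).2 (hC2 i).1 (hC2 i).2).2.2
  rw [Finset.sum_congr rfl fun i _ => by rw [hcomp, mul_add], Finset.sum_add_distrib]
  simp only [μ] at e1 e2 ⊢
  omega

end split

section main

variable [IsNoetherianRing A]

theorem ann_mul_le {M N P : Type u} [AddCommGroup M] [Module A M] [AddCommGroup N] [Module A N] [AddCommGroup P]
    [Module A P] {f : M →ₗ[A] N} {g : N →ₗ[A] P} (hfg : Function.Exact f g) :
    Module.annihilator A M * Module.annihilator A P ≤ Module.annihilator A N := by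
  refine Ideal.mul_le.mpr fun a ha b hb => Module.mem_annihilator.mpr fun n => ?_
  obtain ⟨m, hm⟩ := (hfg (b • n)).mp (by rw [map_smul, Module.mem_annihilator.mp hb])
  rw [mul_smul, ← hm, ← map_smul, Module.mem_annihilator.mp ha, map_zero]

theorem isAdd_len : IndexSum.IsAdd (A := A) (fun T _ _ => ((Module.length A T).toNat : ℤ))
    (fun T _ _ => Module.length A T ≠ ⊤) where
  sub f hf hN h := hN (top_le_iff.mp (h ▸ Module.length_le_of_injective f hf))
  quot g hg hM h := hM (top_le_iff.mp (h ▸ Module.length_le_of_surjective g hg))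
  ext f g hf hg hfg hM hP := by
    rw [Module.length_eq_add_of_exact f g hf hg hfg]
    exact WithTop.add_ne_top.mpr ⟨hM, hP⟩
  add f g hf hg hfg hN := by
    rw [Module.length_eq_add_of_exact f g hf hg hfg] at hN ⊢
    rw [ENat.toNat_add (WithTop.add_ne_top.mp hN).1 (WithTop.add_ne_top.mp hN).2, Nat.cast_add]
  zero T _ _ _ := by simp [Module.length_eq_zero]

theorem isAdd_chiK (l : List A) : IndexSum.IsAdd (A := A) (fun T _ _ => H1Koszul.chi l T)
    (fun T _ _ => Module.Finite A T ∧ Small l T) where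
  sub f hf h := by
    haveI := h.1
    exact ⟨Module.Finite.of_injective f hf, h.2.of_injective f hf⟩
  quot g hg h := by
    haveI := h.1
    exact ⟨Module.Finite.of_surjective g hg, h.2.of_surjective g hg⟩
  ext f g hf hg hfg h1 h2 := by
    haveI := h1.1
    haveI := h2.1
    refine ⟨Module.Finite.of_exact hfg hg, fun p hp hl => ?_⟩
    rw [Module.support_of_exact hfg hf hg] at hp
    exact hp.elim (fun hp => h1.2 p hp hl) fun hp => h2.2 p hp hl
  add f g hf hg hfg h := by
    haveI := h.1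
    haveI := Module.Finite.of_injective f hf
    haveI := Module.Finite.of_surjective g hg
    exact H1Koszul.chi_add hf hg hfg h.2
  zero T _ _ _ := ⟨inferInstance, fun p hp => absurd hp (by rw [Module.support_eq_empty]; simp)⟩

variable [IsLocalRing A] [Module.Finite A W]

theorem isAdd_chiW (D : ℕ)
    (hD : ∀ (M : Type u) [AddCommGroup M] [Module A M], ∀ i, D < i → Subsingleton (DRing.Tor A i W M)) :
    IndexSum.IsAdd (A := A) (fun T _ _ => IntMult.chi A W T) (fun T _ _ => Module.Finite A T ∧ ChiAdd.Meet A T W) where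
  sub f hf h := by
    haveI := h.1
    exact ⟨Module.Finite.of_injective f hf, ChiAdd.meet_mono W (f.annihilator_le_of_injective hf) h.2⟩
  quot g hg h := by
    haveI := h.1
    exact ⟨Module.Finite.of_surjective g hg, ChiAdd.meet_mono W (g.annihilator_le_of_surjective hg) h.2⟩
  ext f g hf hg hfg h1 h2 := by
    haveI := h1.1
    haveI := h2.1
    refine ⟨Module.Finite.of_exact hfg hg, fun p hp hW => ?_⟩
    rcases p.isPrime.mul_le.mp ((ann_mul_le hfg).trans hp) with h | h
    · exact h1.2 p h hW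
    · exact h2.2 p h hW
  add f g hf hg hfg h := by
    haveI := h.1
    haveI := Module.Finite.of_injective f hf
    haveI := Module.Finite.of_surjective g hg
    exact ChiAdd.chi_add W hf hg hfg h.2 D hD
  zero T _ _ _ := ⟨inferInstance, fun p hp _ => absurd (eq_top_iff.mpr ((show (⊤ : Ideal A) ≤ Module.annihilator A T from
    fun a _ => Module.mem_annihilator.mpr fun t => Subsingleton.elim _ _).trans hp)) p.isPrime.ne_top⟩

/-- The supports of `M` and `W` meet the zero locus of the list at most in the closed point. -/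
def Tri (A : Type u) [CommRing A] [IsLocalRing A] (W : Type u) [AddCommGroup W] [Module A W] (l : List A)
    (M : Type u) [AddCommGroup M] [Module A M] : Prop :=
  ∀ p : PrimeSpectrum A, Module.annihilator A M ≤ p.asIdeal → Module.annihilator A W ≤ p.asIdeal →
    (∀ a ∈ l, a ∈ p.asIdeal) → p.asIdeal = IsLocalRing.maximalIdeal A

theorem annihilator_le_tor (M : Type u) [AddCommGroup M] [Module A M] [Module.Finite A M] (i : ℕ) :
    Module.annihilator A M ≤ Module.annihilator A (DRing.Tor A i W M) ∧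
      Module.annihilator A W ≤ Module.annihilator A (DRing.Tor A i W M) := by
  refine ⟨fun a ha => Module.mem_annihilator.mpr fun x => ?_,
    fun a ha => Module.mem_annihilator.mpr fun x => (ChiAdd.finite_and_killed (A := A) W i M).2 a ha x⟩
  obtain ⟨e⟩ := TorComm.nonempty_iso i (ModuleCat.of A W) (ModuleCat.of A M)
  refine e.toLinearEquiv.injective ?_
  rw [map_smul, map_zero]
  exact (ChiAdd.finite_and_killed (A := A) M i W).2 a ha _

theorem small_tor {l : List A} {M : Type u} [AddCommGroup M] [Module A M] [Module.Finite A M] (h : Tri A W l M)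
    (i : ℕ) : Module.Finite A (DRing.Tor A i W M) ∧ Small l (DRing.Tor A i W M) := by
  haveI := (ChiAdd.finite_and_killed (A := A) W i M).1
  refine ⟨inferInstance, fun p hp hl => ?_⟩
  rw [h p ((annihilator_le_tor W M i).1.trans (annihilator_le_of_mem_support hp))
    ((annihilator_le_tor W M i).2.trans (annihilator_le_of_mem_support hp)) hl]
  exact IsLocalRing.maximalIdeal.isMaximal A

theorem meet_H {l : List A} {M : Type u} [AddCommGroup M] [Module A M] [Module.Finite A M] (h : Tri A W l M)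
    (i : ℤ) : Module.Finite A (H M l i) ∧ ChiAdd.Meet A (H M l i) W :=
  ⟨inferInstance, fun p hp hW => h p
    (le_trans (fun a ha => Module.mem_annihilator.mpr fun z => smul_eq_zero_of_mem (Ideal.mem_sup_right ha) z) hp) hW
    fun a ha => hp (Module.mem_annihilator.mpr fun z =>
      smul_eq_zero_of_mem (Ideal.mem_sup_left (Ideal.subset_span ha)) z)⟩

theorem tri_tail {x : A} {l : List A} {M N : Type u} [AddCommGroup M] [Module A M] [AddCommGroup N] [Module A N]
    (h : Tri A W (x :: l) M) (hann : Module.annihilator A M ≤ Module.annihilator A N)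
    (hx : x ∈ Module.annihilator A N) : Tri A W l N :=
  fun p hp hW hl => h p (hann.trans hp) hW (List.forall_mem_cons.mpr ⟨hp hx, hl⟩)

theorem mem_annihilator_ker (x : A) (M : Type u) [AddCommGroup M] [Module A M] :
    x ∈ Module.annihilator A (LinearMap.ker (x • LinearMap.id : M →ₗ[A] M)) :=
  Module.mem_annihilator.mpr fun z => Subtype.ext z.2

theorem mem_annihilator_coker (x : A) (M : Type u) [AddCommGroup M] [Module A M] :
    x ∈ Module.annihilator A (M ⧸ LinearMap.range (x • LinearMap.id : M →ₗ[A] M)) :=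
  Module.mem_annihilator.mpr fun z => by
    obtain ⟨m, rfl⟩ := Submodule.Quotient.mk_surjective _ z
    rw [← Submodule.Quotient.mk_smul, Submodule.Quotient.mk_eq_zero]
    exact ⟨m, rfl⟩

/-- `H₀` of the empty list. -/
theorem nonempty_H_nil (M : Type u) [AddCommGroup M] [Module A M] :
    Nonempty (H M ([] : List A) ((0 : ℕ) : ℤ) ≃ₗ[A] M) := by
  let e : M →ₗ[A] H M ([] : List A) ((0 : ℕ) : ℤ) :=
    (cls [] ((0 : ℕ) : ℤ)).comp ((LinearMap.id : T M ([] : List A) →ₗ[A] T M ([] : List A)).codRestrict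
      (Z M ([] : List A) ((0 : ℕ) : ℤ)) fun m => mem_Z.2 ⟨by simp [P_nil], rfl⟩)
  refine ⟨(LinearEquiv.ofBijective e ⟨?_, ?_⟩).symm⟩
  · rw [injective_iff_map_eq_zero]
    intro m hm
    obtain ⟨b, -, hb⟩ := cls_eq_zero.1 hm
    exact hb.symm
  · intro z
    obtain ⟨⟨m, hm⟩, rfl⟩ := cls_surjective [] ((0 : ℕ) : ℤ) z
    exact ⟨m, rfl⟩

/-- Tor and Koszul Euler characteristics commute. -/
theorem triple (D : ℕ)
    (hD : ∀ (M : Type u) [AddCommGroup M] [Module A M], ∀ i, D < i → Subsingleton (DRing.Tor A i W M)) :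
    ∀ (l : List A) (M : Type u) [AddCommGroup M] [Module A M] [Module.Finite A M], Tri A W l M →
      ∑ i ∈ Finset.range (D + 1), (-1 : ℤ) ^ i * H1Koszul.chi l (DRing.Tor A i W M) =
        ∑ j ∈ Finset.range (l.length + 1), (-1 : ℤ) ^ j * IntMult.chi A W (H M l (j : ℤ))
  | [], M, _, _, _, _ => by
    obtain ⟨e⟩ := nonempty_H_nil (A := A) M
    rw [List.length_nil, zero_add, Finset.sum_range_one, pow_zero, one_mul, ChiDev.chi_congr W e,
      ChiAdd.chi_eq_sum W M D (hD M)]
    refine Finset.sum_congr rfl fun i _ => ?_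
    obtain ⟨e'⟩ := nonempty_H_nil (A := A) (DRing.Tor A i W M)
    rw [H1Koszul.chi, List.length_nil, zero_add, Finset.sum_range_one, pow_zero, one_mul, H1Koszul.len,
      e'.length_eq]
  | x :: l, M, _, _, _, h => by
    have hK := tri_tail W h ((LinearMap.ker (x • LinearMap.id : M →ₗ[A] M)).subtype.annihilator_le_of_injective
      (Submodule.subtype_injective _)) (mem_annihilator_ker x M)
    have hQ := tri_tail W h ((LinearMap.range (x • LinearMap.id : M →ₗ[A] M)).mkQ.annihilator_le_of_surjective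
      (Submodule.mkQ_surjective _)) (mem_annihilator_coker x M)
    rw [List.length_cons, koszul_split (isAdd_chiW W D hD) x l M (fun j => meet_H W hK j) (fun j => meet_H W hQ j),
      ← triple D hD l _ hK, ← triple D hD l _ hQ,
      ← tor_split W (isAdd_chiK l) x M D hD (fun i => small_tor W hK i) (fun i => small_tor W hQ i)]
    refine Finset.sum_congr rfl fun i _ => congrArg _ ?_
    obtain ⟨hfin, hsm⟩ := small_tor W h i
    haveI := hfin
    have hKT : Small l (LinearMap.ker (x • LinearMap.id : DRing.Tor A i W M →ₗ[A] DRing.Tor A i W M)) :=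
      small_tail_of_annihilator x l (hsm.of_injective _ (Submodule.subtype_injective _)) (mem_annihilator_ker x _)
    have hQT : Small l (DRing.Tor A i W M ⧸ LinearMap.range (x • LinearMap.id : DRing.Tor A i W M →ₗ[A] DRing.Tor A i W M)) :=
      small_quot_range x l hsm
    exact koszul_split isAdd_len x l (DRing.Tor A i W M) (fun j => length_H_ne_top hKT j) (fun j => length_H_ne_top hQT j)

end main

end Groth.Agent.H3CAlg.TripleChi
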