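import Mathlib.RingTheory.Kaehler.Polynomial
import Mathlib.RingTheory.Unramified.Basic
import Mathlib.RingTheory.FinitePresentation
import Mathlib.RingTheory.TensorProduct.Maps
import Mathlib.RingTheory.FiniteType

/-!
Finitely presented formally unramified algebras descend to finitely generated subrings of the base.
-/

universe u

open TensorProduct

namespace Groth.Agent.H3CAlg

open KaehlerDifferential

variable {R : Type u} [CommRing R] {S : Type u} [CommRing S] [Algebra R S]

/-- In a polynomial ring, `D p = ∑ ∂p/∂X_q • D X_q`. -/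
theorem mvPolynomial_D_eq_sum {n : ℕ} (p : MvPolynomial (Fin n) R) :
    D R (MvPolynomial (Fin n) R) p = ∑ q, MvPolynomial.pderiv q p • D R _ (MvPolynomial.X q) := by
  conv_lhs => rw [← (mvPolynomialBasis R (Fin n)).sum_repr (D R _ p)]
  exact Finset.sum_congr rfl fun q _ => by rw [mvPolynomialBasis_repr_apply, mvPolynomialBasis_apply]

/-- The Jacobian matrix of an unramified presentation has a left inverse. -/
theorem exists_jacobian_left_inverse [Algebra.FormallyUnramified R S] {n : ℕ}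
    (π : MvPolynomial (Fin n) R →ₐ[R] S) (hπ : Function.Surjective π)
    (T : Finset (MvPolynomial (Fin n) R)) (hT : Ideal.span (T : Set _) = RingHom.ker π.toRingHom) :
    ∃ a : Fin n → T → MvPolynomial (Fin n) R, ∀ l q,
      (if l = q then 1 else 0) - ∑ k, a l k * MvPolynomial.pderiv q k.1 ∈ RingHom.ker π.toRingHom := by
  classical
  letI : Algebra (MvPolynomial (Fin n) R) S := π.toRingHom.toAlgebra
  haveI : IsScalarTower R (MvPolynomial (Fin n) R) S := IsScalarTower.of_algebraMap_eq fun r => (π.commutes r).symm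
  have hker : RingHom.ker (algebraMap (MvPolynomial (Fin n) R) S) = Ideal.span (T : Set _) := hT.symm
  let V : Submodule (MvPolynomial (Fin n) R) (S ⊗[MvPolynomial (Fin n) R] Ω[MvPolynomial (Fin n) R⁄R]) :=
    Submodule.span _ (Set.range fun k : T => (1 : S) ⊗ₜ D R _ k.1)
  have hmem : ∀ l, (1 : S) ⊗ₜ D R _ (MvPolynomial.X l) ∈ V := by
    intro l
    have h0 : mapBaseChange R (MvPolynomial (Fin n) R) S ((1 : S) ⊗ₜ D R _ (MvPolynomial.X l)) = 0 :=
      Subsingleton.elim _ _
    have h1 : (1 : S) ⊗ₜ D R _ (MvPolynomial.X l) ∈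
        LinearMap.range (kerCotangentToTensor R (MvPolynomial (Fin n) R) S) := by
      rw [range_kerCotangentToTensor R _ _ hπ]
      exact h0
    obtain ⟨z, hz⟩ := h1
    obtain ⟨z, rfl⟩ := Ideal.toCotangent_surjective _ z
    rw [kerCotangentToTensor_toCotangent] at hz
    rw [← hz]
    clear hz h0
    suffices key : ∀ z ∈ Ideal.span (T : Set _), (1 : S) ⊗ₜ D R (MvPolynomial (Fin n) R) z ∈ V from
      key z.1 (hker.le z.2)
    intro z hzT
    induction hzT using Submodule.span_induction with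
    | mem x hx => exact Submodule.subset_span ⟨⟨x, hx⟩, rfl⟩
    | zero => simp
    | add x y _ _ hx hy => simp only [map_add, TensorProduct.tmul_add]; exact add_mem hx hy
    | smul c x hxT hx =>
      simp only [smul_eq_mul, Derivation.leibniz, TensorProduct.tmul_add, TensorProduct.tmul_smul]
      refine add_mem (Submodule.smul_mem _ _ hx) ?_
      rw [TensorProduct.smul_tmul', Algebra.smul_def,
        show algebraMap (MvPolynomial (Fin n) R) S x = 0 from RingHom.mem_ker.mp (hker.ge hxT), zero_mul,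
        TensorProduct.zero_tmul]
      exact zero_mem _
  have hco : ∀ l, ∃ a : T → MvPolynomial (Fin n) R,
      ∑ k, a k • ((1 : S) ⊗ₜ D R (MvPolynomial (Fin n) R) k.1) =
        (1 : S) ⊗ₜ D R (MvPolynomial (Fin n) R) (MvPolynomial.X l) :=
    fun l => (Submodule.mem_span_range_iff_exists_fun _).mp (hmem l)
  choose a ha using hco
  refine ⟨a, fun l q => ?_⟩
  have h2 := congrArg (fun z => ((mvPolynomialBasis R (Fin n)).baseChange S).repr z q) (ha l)
  simp only [map_sum, Finsupp.coe_finsetSum, Finset.sum_apply, ← TensorProduct.tmul_smul,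
    Module.Basis.baseChange_repr_tmul, map_smul, Finsupp.smul_apply, mvPolynomialBasis_repr_apply,
    smul_eq_mul, ← Algebra.algebraMap_eq_smul_one] at h2
  rw [RingHom.mem_ker, map_sub, map_sum, sub_eq_zero]
  refine Eq.trans ?_ h2.symm
  change π _ = algebraMap (MvPolynomial (Fin n) R) S _
  rw [MvPolynomial.pderiv_X, Pi.single_apply]
  rfl

/-- A presentation whose Jacobian has a left inverse modulo the relations is unramified. -/
theorem formallyUnramified_of_left_inverse {R₀ : Type u} [CommRing R₀] {S₀ : Type u} [CommRing S₀]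
    [Algebra R₀ S₀] {n : ℕ} {τ : Type*} [Fintype τ]
    (π₀ : MvPolynomial (Fin n) R₀ →ₐ[R₀] S₀) (hπ₀ : Function.Surjective π₀)
    (f₀ : τ → MvPolynomial (Fin n) R₀) (hf : ∀ k, π₀ (f₀ k) = 0)
    (a₀ : Fin n → τ → MvPolynomial (Fin n) R₀) (b₀ : Fin n → Fin n → τ → MvPolynomial (Fin n) R₀)
    (hrel : ∀ l q, ∑ k, b₀ l q k * f₀ k =
      (if l = q then 1 else 0) - ∑ k, a₀ l k * MvPolynomial.pderiv q (f₀ k)) :
    Algebra.FormallyUnramified R₀ S₀ := by
  classical
  refine ⟨subsingleton_of_forall_eq 0 fun z => ?_⟩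
  have hchain : ∀ p : MvPolynomial (Fin n) R₀, D R₀ S₀ (π₀ p) =
      ∑ q, π₀ (MvPolynomial.pderiv q p) • D R₀ S₀ (π₀ (MvPolynomial.X q)) := by
    intro p
    induction p using MvPolynomial.induction_on with
    | C r => simp [← MvPolynomial.algebraMap_eq, AlgHom.commutes]
    | add x y hx hy =>
      simp only [map_add, hx, hy, add_smul, Finset.sum_add_distrib]
    | mul_X x i hx =>
      rw [map_mul, Derivation.leibniz, hx, Finset.smul_sum]
      simp only [Derivation.leibniz, MvPolynomial.pderiv_X, map_add, smul_eq_mul, map_mul, add_smul,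
        Finset.sum_add_distrib]
      congr 1
      · rw [Finset.sum_eq_single i (fun q _ hq => by rw [Pi.single_eq_of_ne (Ne.symm hq), map_zero, mul_zero, zero_smul])
          (fun h => absurd (Finset.mem_univ i) h), Pi.single_eq_same, map_one, mul_one]
      · exact Finset.sum_congr rfl fun q _ => (mul_smul _ _ _).symm
  have hDX : ∀ l, D R₀ S₀ (π₀ (MvPolynomial.X l)) = 0 := by
    intro l
    have hδ : ∀ q, ∑ k, π₀ (a₀ l k) * π₀ (MvPolynomial.pderiv q (f₀ k)) = if l = q then 1 else 0 := by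
      intro q
      have h := congrArg π₀ (hrel l q)
      simp only [map_sum, map_mul, map_sub, hf, mul_zero, Finset.sum_const_zero] at h
      rw [eq_comm, sub_eq_zero] at h
      rw [← h]
      split_ifs <;> simp
    calc D R₀ S₀ (π₀ (MvPolynomial.X l))
        = ∑ q, (if l = q then (1 : S₀) else 0) • D R₀ S₀ (π₀ (MvPolynomial.X q)) := by
          rw [Finset.sum_eq_single l (fun q _ hq => by rw [if_neg (Ne.symm hq), zero_smul]) (fun h => absurd (Finset.mem_univ l) h),
            if_pos rfl, one_smul]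
      _ = ∑ q, ∑ k, π₀ (a₀ l k) • π₀ (MvPolynomial.pderiv q (f₀ k)) • D R₀ S₀ (π₀ (MvPolynomial.X q)) :=
          Finset.sum_congr rfl fun q _ => by
            rw [← hδ q, Finset.sum_smul]
            exact Finset.sum_congr rfl fun k _ => mul_smul _ _ _
      _ = ∑ k, π₀ (a₀ l k) • ∑ q, π₀ (MvPolynomial.pderiv q (f₀ k)) • D R₀ S₀ (π₀ (MvPolynomial.X q)) := by
          rw [Finset.sum_comm]
          exact Finset.sum_congr rfl fun k _ => Finset.smul_sum.symm
      _ = 0 := Finset.sum_eq_zero fun k _ => by rw [← hchain, hf, map_zero, smul_zero]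
  have hz : z ∈ Submodule.span S₀ (Set.range (D R₀ S₀)) := by
    rw [span_range_derivation]; trivial
  refine (Submodule.span_le (p := (⊥ : Submodule S₀ (Ω[S₀⁄R₀])))).mpr ?_ hz
  rintro _ ⟨s, rfl⟩
  obtain ⟨p, rfl⟩ := hπ₀ s
  rw [SetLike.mem_coe, Submodule.mem_bot, hchain]
  exact Finset.sum_eq_zero fun q _ => by rw [hDX, smul_zero]

theorem formallyUnramified_quotient_of_left_inverse {R₀ : Type u} [CommRing R₀] {n : ℕ} {τ : Type*}
    [Fintype τ] (f₀ : τ → MvPolynomial (Fin n) R₀) (a₀ : Fin n → τ → MvPolynomial (Fin n) R₀)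
    (b₀ : Fin n → Fin n → τ → MvPolynomial (Fin n) R₀)
    (hrel : ∀ l q, ∑ k, b₀ l q k * f₀ k =
      (if l = q then 1 else 0) - ∑ k, a₀ l k * MvPolynomial.pderiv q (f₀ k)) :
    Algebra.FormallyUnramified R₀ (MvPolynomial (Fin n) R₀ ⧸ Ideal.span (Set.range f₀)) :=
  formallyUnramified_of_left_inverse (Ideal.Quotient.mkₐ R₀ _) (Ideal.Quotient.mkₐ_surjective R₀ _) f₀
    (fun k => Ideal.Quotient.eq_zero_iff_mem.mpr (Ideal.subset_span ⟨k, rfl⟩)) a₀ b₀ hrel

/-- The base change of a model of a presentation is the presented algebra. -/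
theorem nonempty_tensor_model_equiv' {R₀ : Type u} [CommRing R₀] [Algebra R₀ R] {S₀ : Type u}
    [CommRing S₀] [Algebra R₀ S₀] [Algebra R₀ S] [IsScalarTower R₀ R S] {n : ℕ}
    (π₀ : MvPolynomial (Fin n) R₀ →ₐ[R₀] S₀) (hπ₀ : Function.Surjective π₀)
    (π : MvPolynomial (Fin n) R →ₐ[R] S) (hπ : Function.Surjective π)
    {τ : Type*} (f₀ : τ → MvPolynomial (Fin n) R₀) (f : τ → MvPolynomial (Fin n) R)
    (hf₀ : ∀ k, MvPolynomial.map (algebraMap R₀ R) (f₀ k) = f k)
    (hker₀ : RingHom.ker π₀.toRingHom = Ideal.span (Set.range f₀))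
    (hker : RingHom.ker π.toRingHom = Ideal.span (Set.range f)) :
    Nonempty (R ⊗[R₀] S₀ ≃ₐ[R] S) := by
  let θ : MvPolynomial (Fin n) R₀ →ₐ[R₀] S := MvPolynomial.aeval fun l => π (MvPolynomial.X l)
  have hθ : ∀ p, θ p = π (MvPolynomial.map (algebraMap R₀ R) p) := by
    have : θ.toRingHom = π.toRingHom.comp (MvPolynomial.map (algebraMap R₀ R)) :=
      MvPolynomial.ringHom_ext (fun r => by
        simp [θ, ← MvPolynomial.algebraMap_eq, IsScalarTower.algebraMap_apply R₀ R S]) (fun l => by simp [θ])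
    exact fun p => RingHom.congr_fun this p
  have hθker : RingHom.ker π₀.toRingHom ≤ RingHom.ker θ.toRingHom := by
    rw [hker₀, Ideal.span_le]
    rintro _ ⟨k, rfl⟩
    change θ (f₀ k) = 0
    rw [hθ, hf₀]
    exact hker.ge (Ideal.subset_span ⟨k, rfl⟩)
  let θ' : S₀ →ₐ[R₀] S := AlgHom.liftOfSurjective π₀ hπ₀ θ hθker
  have hθ' : ∀ p, θ' (π₀ p) = θ p := fun p => AlgHom.liftOfSurjective_apply π₀ hπ₀ _ hθker p
  let Φ : R ⊗[R₀] S₀ →ₐ[R] S := Algebra.TensorProduct.lift (Algebra.ofId R S) θ' (fun _ _ => Commute.all _ _)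
  let ψ : MvPolynomial (Fin n) R →ₐ[R] R ⊗[R₀] S₀ :=
    MvPolynomial.aeval fun l => (1 : R) ⊗ₜ[R₀] π₀ (MvPolynomial.X l)
  have hψ : ∀ p : MvPolynomial (Fin n) R₀, ψ (MvPolynomial.map (algebraMap R₀ R) p) = (1 : R) ⊗ₜ π₀ p := by
    have : ψ.toRingHom.comp (MvPolynomial.map (algebraMap R₀ R)) =
        (Algebra.TensorProduct.includeRight : S₀ →ₐ[R₀] R ⊗[R₀] S₀).toRingHom.comp π₀.toRingHom :=
      MvPolynomial.ringHom_ext (fun r => by
        simp only [RingHom.comp_apply, MvPolynomial.map_C, AlgHom.toRingHom_eq_coe, RingHom.coe_coe]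
        rw [← MvPolynomial.algebraMap_eq, ← MvPolynomial.algebraMap_eq, AlgHom.commutes, AlgHom.commutes,
          AlgHom.commutes, ← IsScalarTower.algebraMap_apply]) (fun l => by simp [ψ])
    exact fun p => RingHom.congr_fun this p
  have hψker : RingHom.ker π.toRingHom ≤ RingHom.ker ψ.toRingHom := by
    rw [hker, Ideal.span_le]
    rintro _ ⟨k, rfl⟩
    change ψ (f k) = 0
    rw [← hf₀, hψ, show π₀ (f₀ k) = 0 from hker₀.ge (Ideal.subset_span ⟨k, rfl⟩), TensorProduct.tmul_zero]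
  let Ψ : S →ₐ[R] R ⊗[R₀] S₀ := AlgHom.liftOfSurjective π hπ ψ hψker
  have hΨ : ∀ p, Ψ (π p) = ψ p := fun p => AlgHom.liftOfSurjective_apply π hπ _ hψker p
  refine ⟨AlgEquiv.ofAlgHom Φ Ψ ?_ ?_⟩
  · refine AlgHom.ext fun s => ?_
    obtain ⟨p, rfl⟩ := hπ s
    rw [AlgHom.comp_apply, hΨ]
    have : Φ.comp ψ = π := MvPolynomial.algHom_ext fun l => by simp [Φ, ψ, hθ', θ]
    exact DFunLike.congr_fun this p
  · refine Algebra.TensorProduct.ext (AlgHom.ext fun r => ?_) (AlgHom.ext fun s => ?_)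
    · change Ψ (Φ (r ⊗ₜ[R₀] (1 : S₀))) = r ⊗ₜ[R₀] (1 : S₀)
      simp [Φ, Algebra.ofId_apply]
    obtain ⟨p, rfl⟩ := hπ₀ s
    simp only [AlgHom.comp_apply, AlgHom.restrictScalars_apply, Algebra.TensorProduct.includeRight_apply,
      Φ, Algebra.TensorProduct.lift_tmul, map_one, one_mul, AlgHom.id_apply]
    rw [hθ', hθ, hΨ, hψ]

/-- The base change of a quotient model of a presentation is the presented algebra. -/
theorem nonempty_tensor_model_equiv {R₀ : Type u} [CommRing R₀] [Algebra R₀ R] {n : ℕ}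
    (π : MvPolynomial (Fin n) R →ₐ[R] S) (hπ : Function.Surjective π)
    (T : Finset (MvPolynomial (Fin n) R)) (hT : Ideal.span (T : Set _) = RingHom.ker π.toRingHom)
    (f₀ : T → MvPolynomial (Fin n) R₀) (hf₀ : ∀ k, MvPolynomial.map (algebraMap R₀ R) (f₀ k) = k.1) :
    Nonempty (R ⊗[R₀] (MvPolynomial (Fin n) R₀ ⧸ Ideal.span (Set.range f₀)) ≃ₐ[R] S) := by
  letI : Algebra R₀ S := ((algebraMap R S).comp (algebraMap R₀ R)).toAlgebra
  haveI : IsScalarTower R₀ R S := IsScalarTower.of_algebraMap_eq fun _ => rfl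
  exact nonempty_tensor_model_equiv' (Ideal.Quotient.mkₐ R₀ _) (Ideal.Quotient.mkₐ_surjective R₀ _) π hπ f₀
    (fun k : T => k.1) hf₀ (Ideal.mk_ker) (by rw [Subtype.range_coe_subtype]; exact hT.symm)

theorem exists_unramified_model [Algebra.FinitePresentation R S] [Algebra.FormallyUnramified R S] :
    ∃ (R₀ : Type u) (_ : CommRing R₀) (_ : Algebra.FiniteType ℤ R₀) (S₀ : Type u) (_ : CommRing S₀)
      (_ : Algebra R₀ S₀) (_ : Algebra.FinitePresentation R₀ S₀) (_ : Algebra.FormallyUnramified R₀ S₀)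
      (_ : Algebra R₀ R), Nonempty (R ⊗[R₀] S₀ ≃ₐ[R] S) := by
  classical
  obtain ⟨n, π, hπ, T, hT⟩ := Algebra.FinitePresentation.out (R := R) (A := S)
  obtain ⟨a, ha⟩ := exists_jacobian_left_inverse π hπ T hT
  have hb : ∀ l q, ∃ b : T → MvPolynomial (Fin n) R,
      ∑ k, b k * k.1 = (if l = q then 1 else 0) - ∑ k, a l k * MvPolynomial.pderiv q k.1 := by
    intro l q
    have h : (if l = q then 1 else 0) - ∑ k, a l k * MvPolynomial.pderiv q k.1 ∈
        Ideal.span (Set.range fun k : T => k.1) := by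
      rw [Subtype.range_coe_subtype]
      exact hT.ge (ha l q)
    obtain ⟨c, hc⟩ := (Submodule.mem_span_range_iff_exists_fun _).mp h
    exact ⟨c, by simpa [smul_eq_mul] using hc⟩
  choose b hb using hb
  let C : Finset R := (Finset.univ.biUnion fun k : T => k.1.coeffs) ∪
    (Finset.univ.biUnion fun lk : Fin n × T => (a lk.1 lk.2).coeffs) ∪
    (Finset.univ.biUnion fun lk : Fin n × Fin n × T => (b lk.1 lk.2.1 lk.2.2).coeffs)
  let R₀ := Algebra.adjoin ℤ (C : Set R)
  have hlift : ∀ p : MvPolynomial (Fin n) R, (∀ c ∈ p.coeffs, c ∈ C) →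
      ∃ p₀ : MvPolynomial (Fin n) R₀, MvPolynomial.map (algebraMap R₀ R) p₀ = p := by
    intro p hp
    refine (MvPolynomial.mem_range_map_iff_coeffs_subset (f := algebraMap R₀ R)).mpr ?_
    intro c hc
    exact ⟨⟨c, Algebra.subset_adjoin (hp c hc)⟩, rfl⟩
  have hkC : ∀ k : T, ∀ c ∈ k.1.coeffs, c ∈ C := fun k c hc =>
    Finset.mem_union_left _ (Finset.mem_union_left _ (Finset.mem_biUnion.mpr ⟨k, Finset.mem_univ _, hc⟩))
  have haC : ∀ l k, ∀ c ∈ (a l k).coeffs, c ∈ C := fun l k c hc =>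
    Finset.mem_union_left _ (Finset.mem_union_right _ (Finset.mem_biUnion.mpr ⟨(l, k), Finset.mem_univ _, hc⟩))
  have hbC : ∀ l q k, ∀ c ∈ (b l q k).coeffs, c ∈ C := fun l q k c hc =>
    Finset.mem_union_right _ (Finset.mem_biUnion.mpr ⟨(l, q, k), Finset.mem_univ _, hc⟩)
  choose f₀ hf₀ using fun k : T => hlift k.1 (hkC k)
  choose a₀ ha₀ using fun l k => hlift (a l k) (haC l k)
  choose b₀ hb₀ using fun l q k => hlift (b l q k) (hbC l q k)
  have hinj : Function.Injective (MvPolynomial.map (σ := Fin n) (algebraMap R₀ R)) :=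
    MvPolynomial.map_injective _ Subtype.val_injective
  have hrel : ∀ l q, ∑ k, b₀ l q k * f₀ k =
      (if l = q then 1 else 0) - ∑ k, a₀ l k * MvPolynomial.pderiv q (f₀ k) := by
    intro l q
    apply hinj
    simp only [map_sub, map_sum, map_mul, ← MvPolynomial.pderiv_map, hf₀, ha₀, hb₀, hb]
    split_ifs <;> simp
  refine ⟨R₀, inferInstance, (Subalgebra.fg_iff_finiteType _).mp ⟨C, rfl⟩, _, inferInstance, inferInstance,
    Algebra.FinitePresentation.quotient (Submodule.fg_span (Set.finite_range f₀)),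
    formallyUnramified_quotient_of_left_inverse f₀ a₀ b₀ hrel, inferInstance,
    nonempty_tensor_model_equiv π hπ T hT f₀ hf₀⟩

end Groth.Agent.H3CAlg
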