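import Mathlib.RingTheory.Valuation.ValuationSubring
import Mathlib.RingTheory.AlgebraicIndependent.TranscendenceBasis
import Mathlib.RingTheory.KrullDimension.Basic
import Mathlib.Algebra.Field.Subfield.Basic
import Mathlib.Tactic

/-!
The rank of a valuation ring of a field is at most the transcendence degree over the prime field plus one.
-/

namespace Groth.Agent.H3CAlg.ValTrdeg

universe u

variable {K : Type u} [Field K]

/-- values of monomials in a strictly "lexicographic" family determine the exponents -/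
theorem prod_pow_injective {Γ : Type*} [LinearOrderedCommGroupWithZero Γ] : ∀ {n : ℕ} (g : Fin n → Γ),
    (∀ i, 0 < g i) → (∀ i, g i < 1) → (∀ i j, i < j → ∀ N : ℕ, g i < g j ^ N) → ∀ a b : Fin n → ℕ,
    (∏ i, g i ^ a i = ∏ i, g i ^ b i) → a = b := by
  intro n
  induction n with
  | zero => intros; exact funext fun i => i.elim0
  | succ n ih =>
    intro g h0 h1 hlex a b hab
    have hpos : ∀ c : Fin n → ℕ, 0 < ∏ i : Fin n, g i.succ ^ c i := fun c =>
      zero_lt_iff.mpr (Finset.prod_ne_zero_iff.mpr fun i _ => pow_ne_zero _ (h0 _).ne')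
    -- the tail cannot compensate a difference in the leading exponent
    have key : ∀ c : Fin n → ℕ, g 0 < ∏ i : Fin n, g i.succ ^ c i := by
      intro c
      rcases Nat.eq_zero_or_pos n with rfl | hn
      · simpa using h1 0
      let i0 : Fin n := ⟨0, hn⟩
      calc g 0 < g i0.succ ^ (∑ i, c i) := hlex _ _ (Fin.succ_pos _) _
        _ ≤ ∏ i : Fin n, g i.succ ^ c i := by
          rw [← Finset.prod_pow_eq_pow_sum]
          refine Finset.prod_le_prod' fun i _ => pow_le_pow_left₀ (h0 _).le ?_ _
          rcases eq_or_lt_of_le (show i0 ≤ i from Nat.zero_le _) with rfl | hlt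
          · exact le_rfl
          · simpa using (hlex _ _ (Fin.succ_lt_succ_iff.mpr hlt) 1).le
    have aux : ∀ a b : Fin (n + 1) → ℕ, (∏ i, g i ^ a i = ∏ i, g i ^ b i) → ¬ a 0 < b 0 := by
      intro a b hab hlt
      rw [Fin.prod_univ_succ, Fin.prod_univ_succ] at hab
      refine lt_irrefl (g 0 ^ a 0 * ∏ i : Fin n, g i.succ ^ a i.succ) ?_
      calc g 0 ^ a 0 * ∏ i : Fin n, g i.succ ^ a i.succ
          = g 0 ^ b 0 * ∏ i : Fin n, g i.succ ^ b i.succ := hab
        _ ≤ g 0 ^ (a 0 + 1) * 1 := mul_le_mul' (pow_le_pow_right_of_le_one' (h1 0).le hlt)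
            (Finset.prod_le_one' fun i _ => pow_le_one₀ zero_le (h1 _).le)
        _ = g 0 ^ a 0 * g 0 := by rw [mul_one, pow_succ]
        _ < _ := mul_lt_mul_of_pos_left (key _) (pow_pos (h0 0) _)
    have h00 : a 0 = b 0 := le_antisymm (not_lt.mp (aux b a hab.symm)) (not_lt.mp (aux a b hab))
    rw [Fin.prod_univ_succ, Fin.prod_univ_succ, h00] at hab
    have htail := ih (fun i => g i.succ) (fun i => h0 _) (fun i => h1 _)
      (fun i j hij N => hlex _ _ (Fin.succ_lt_succ_iff.mpr hij) N) _ _ (mul_left_cancel₀ (pow_pos (h0 0) _).ne' hab)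
    funext i
    exact Fin.cases h00 (fun i => congrFun htail i) i

variable (A : ValuationSubring K)

theorem lt_pow_of_mem_of_notMem {p : Ideal A} [p.IsPrime] {x y : A} (hx : x ∈ p) (hy : y ∉ p) (N : ℕ) :
    A.valuation (x : K) < A.valuation (y : K) ^ N := by
  rw [← map_pow, ← SubmonoidClass.coe_pow, ← not_le]
  intro hle
  obtain ⟨c, hc⟩ := (A.valuation_le_iff _ _).mp hle
  refine hy (Ideal.IsPrime.mem_of_pow_mem ‹_› N ?_)
  rw [show y ^ N = c * x from Subtype.ext hc.symm]
  exact p.mul_mem_left _ hx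

/-- Algebraic independence from valuations. -/
theorem le_trdeg_add_one {n d : ℕ} (y : Fin n → A) (hy0 : ∀ i, (y i : K) ≠ 0) (hy1 : ∀ i, y i ∈ IsLocalRing.maximalIdeal A)
    (hlex : ∀ i j, i < j → ∀ N : ℕ, A.valuation (y i : K) < A.valuation (y j : K) ^ N)
    (hd : Algebra.trdeg (⊥ : Subfield K) K = d) (j : Option (Fin n))
    (hint : ∀ m : ℕ, (m : K) ≠ 0 → A.valuation (m : K) = 1 ∨ ∃ i ∈ j, ∃ e : ℕ, A.valuation (m : K) = A.valuation (y i : K) ^ e) :
    n ≤ d + (if j.isSome then 1 else 0) := by
  classical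
  set v := A.valuation
  let g : Fin n → _ := fun i => v (y i : K)
  have hg0 : ∀ i, 0 < g i := fun i => zero_lt_iff.mpr ((Valuation.ne_zero_iff _).mpr (hy0 i))
  have hg1 : ∀ i, g i < 1 := fun i => (A.valuation_lt_one_iff _).mp (hy1 i)
  have hinj := prod_pow_injective g hg0 hg1 hlex
  -- values of nonzero elements of the prime field
  have hk : ∀ c ∈ (⊥ : Subfield K), c ≠ 0 → ∃ P Q : Fin n → ℕ, (∀ i, i ∉ j → P i = 0 ∧ Q i = 0) ∧
      v c * ∏ i, g i ^ Q i = ∏ i, g i ^ P i := by
    intro c hc hc0
    rw [← Subfield.closure_empty, Subfield.mem_closure_iff] at hc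
    obtain ⟨a, ha, b, hb, rfl⟩ := hc
    rw [Subring.closure_empty, Subring.mem_bot] at ha hb
    obtain ⟨za, rfl⟩ := ha
    obtain ⟨zb, rfl⟩ := hb
    have hval : ∀ z : ℤ, (z : K) ≠ 0 → ∃ P : Fin n → ℕ, (∀ i, i ∉ j → P i = 0) ∧ v (z : K) = ∏ i, g i ^ P i := by
      intro z hz
      have hz' : v (z : K) = v ((z.natAbs : ℕ) : K) := by
        rcases Int.natAbs_eq z with h | h <;> conv_lhs => rw [h]
        · simp
        · simp [Valuation.map_neg]
      have hnz : ((z.natAbs : ℕ) : K) ≠ 0 := fun h0 => by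
        rcases Int.natAbs_eq z with h | h <;> exact hz ((congrArg (Int.cast (R := K)) h).trans (by simp only [Int.cast_neg, Int.cast_natCast, h0, neg_zero]))
      rcases hint _ hnz with h1 | ⟨i, hi, e, he⟩
      · exact ⟨0, fun _ _ => rfl, by rw [hz', h1]; simp⟩
      · refine ⟨Pi.single i e, fun i' hi' => Pi.single_eq_of_ne (by rintro rfl; exact hi' hi) _, ?_⟩
        rw [hz', he, Finset.prod_eq_single i]
        · simp [g]
        · intro i' _ hne; simp [Pi.single_eq_of_ne hne]
        · simp
    have hza : (za : K) ≠ 0 := fun h => hc0 (by rw [h, zero_div])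
    have hzb : (zb : K) ≠ 0 := fun h => hc0 (by rw [h, div_zero])
    obtain ⟨P, hP, hvP⟩ := hval za hza
    obtain ⟨Q, hQ, hvQ⟩ := hval zb hzb
    exact ⟨P, Q, fun i hi => ⟨hP i hi, hQ i hi⟩, by rw [← hvQ, ← hvP, ← map_mul, div_mul_cancel₀ _ hzb]⟩
  let ι := {i : Fin n // i ∉ j}
  have hindep : AlgebraicIndependent (⊥ : Subfield K) (fun i : ι => (y i.1 : K)) := by
    rw [algebraicIndependent_iff]
    intro F hF
    by_contra hF0
    let term : (ι →₀ ℕ) → K := fun s => ((F.coeff s : (⊥ : Subfield K)) : K) * ∏ i : ι, (y i.1 : K) ^ s i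
    have hF' : ∑ s ∈ F.support, term s = 0 := by
      rw [← hF, MvPolynomial.aeval_def, MvPolynomial.eval₂_eq']
      exact Finset.sum_congr rfl fun s _ => rfl
    choose! P Q hPQ hval using fun s (hs : s ∈ F.support) => hk _ (F.coeff s).2
      (fun h => MvPolynomial.mem_support_iff.mp hs (Subtype.ext h))
    let ext : (ι →₀ ℕ) → Fin n → ℕ := fun s i => if h : i ∈ j then 0 else s ⟨i, h⟩
    have hterm : ∀ s ∈ F.support, v (term s) * ∏ i, g i ^ Q s i = ∏ i, g i ^ (P s i + ext s i) := by
      intro s hs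
      simp only [term, map_mul, map_prod, map_pow]
      rw [mul_right_comm, hval s hs]
      simp only [pow_add, Finset.prod_mul_distrib]
      congr 1
      rw [← Finset.prod_filter_mul_prod_filter_not Finset.univ (fun i : Fin n => i ∈ j)]
      rw [Finset.prod_eq_one (s := Finset.univ.filter fun i : Fin n => i ∈ j) (fun i hi => by
        simp only [ext, dif_pos (Finset.mem_filter.mp hi).2, pow_zero]), one_mul]
      rw [Finset.prod_subtype (F := inferInstance) (Finset.univ.filter fun i : Fin n => i ∉ j) (p := fun i : Fin n => i ∉ j) (by simp)]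
      exact Finset.prod_congr rfl fun i _ => by simp only [ext, dif_neg i.2]; rfl
    have hne : ∀ s ∈ F.support, v (term s) ≠ 0 := fun s hs h => by
      have := hterm s hs
      rw [h, zero_mul, eq_comm, Finset.prod_eq_zero_iff] at this
      obtain ⟨i, -, hi⟩ := this
      exact (hg0 i).ne' (pow_eq_zero_iff'.mp hi).1
    have hdistinct : ∀ s ∈ F.support, ∀ t ∈ F.support, v (term s) = v (term t) → s = t := by
      intro s hs t ht h
      have e : ∏ i, g i ^ (P s i + ext s i + Q t i) = ∏ i, g i ^ (P t i + ext t i + Q s i) := by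
        simp only [pow_add (a := g _) (m := _ + _), Finset.prod_mul_distrib]
        rw [← hterm s hs, ← hterm t ht, h]
        exact mul_right_comm _ _ _
      have e2 := hinj _ _ e
      refine Finsupp.ext fun i => ?_
      have := congrFun e2 i.1
      rw [(hPQ s hs i.1 i.2).1, (hPQ t ht i.1 i.2).1, (hPQ s hs i.1 i.2).2, (hPQ t ht i.1 i.2).2] at this
      simp only [ext, dif_neg i.2] at this
      simpa using this
    obtain ⟨s₀, hs₀, hmax⟩ := F.support.exists_max_image (fun s => v (term s)) (MvPolynomial.support_nonempty.mpr hF0)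
    have := Valuation.map_sum_eq_of_lt v (f := term) hs₀ fun s hs => by
      rw [Finset.mem_sdiff, Finset.mem_singleton] at hs
      exact lt_of_le_of_ne (hmax s hs.1) fun h => hs.2 (hdistinct s hs.1 s₀ hs₀ h)
    rw [hF', map_zero] at this
    exact hne s₀ hs₀ this.symm
  have hcard := (hindep.comp (ULift.down.{u} : ULift.{u} ι → ι) ULift.down_injective).cardinalMk_le_trdeg
  rw [hd, Cardinal.mk_fintype, Nat.cast_le, Fintype.card_ulift] at hcard
  rcases j with _ | j
  · have : Fintype.card ι = n := by simp [ι]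
    simp only [Option.isSome_none, Bool.false_eq_true, if_false]
    omega
  · have : Fintype.card ι = n - 1 := by
      rw [show Fintype.card ι = Fintype.card {i : Fin n // ¬ i = j} from
        Fintype.card_congr (Equiv.subtypeEquivRight fun i => by simp [eq_comm]), Fintype.card_subtype_compl]
      simp
    simp only [Option.isSome_some, if_true]
    omega

theorem ringKrullDim_le {d : ℕ} (hd : Algebra.trdeg (⊥ : Subfield K) K = d) :
    ringKrullDim A ≤ ((d + 1 : ℕ) : WithBot ℕ∞) := by
  classical
  refine iSup_le fun l => ?_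
  set n := l.length
  have hmem : ∀ i : Fin n, ∃ x : A, x ∈ (l i.succ).asIdeal ∧ x ∉ (l i.castSucc).asIdeal := fun i =>
    SetLike.not_le_iff_exists.mp fun h => (l.step i).not_ge h
  choose y hy hy' using hmem
  have hmono : ∀ i k : Fin (n + 1), i ≤ k → (l i).asIdeal ≤ (l k).asIdeal := fun i k h => l.monotone h
  have hy0 : ∀ i, (y i : K) ≠ 0 := fun i h => hy' i (by
    rw [show y i = 0 from Subtype.ext h]; exact zero_mem _)
  have hy1 : ∀ i, y i ∈ IsLocalRing.maximalIdeal A := fun i =>
    IsLocalRing.le_maximalIdeal (l i.succ).isPrime.ne_top (hy i)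
  have hlex : ∀ i k : Fin n, i < k → ∀ N : ℕ, A.valuation (y i : K) < A.valuation (y k : K) ^ N := fun i k h N =>
    haveI := (l k.castSucc).isPrime
    lt_pow_of_mem_of_notMem A (hmono i.succ k.castSucc (by simpa [Fin.le_def] using Fin.lt_def.mp h) (hy i)) (hy' k) N
  suffices n ≤ d + 1 by exact_mod_cast this
  by_cases hq : ∃ q : ℕ, (q : K) ≠ 0 ∧ A.valuation (q : K) < 1
  swap
  · push Not at hq
    have := le_trdeg_add_one A y hy0 hy1 hlex hd none fun m hm => Or.inl (le_antisymm
      (by rw [A.valuation_le_one_iff]; exact natCast_mem A m) (hq m hm))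
    simp only [Option.isSome_none, Bool.false_eq_true, if_false] at this
    omega
  obtain ⟨q, ⟨hq0, hq1⟩, hqmin⟩ : ∃ q : ℕ, ((q : K) ≠ 0 ∧ A.valuation (q : K) < 1) ∧
      ∀ m : ℕ, m < q → ¬ ((m : K) ≠ 0 ∧ A.valuation (m : K) < 1) :=
    ⟨Nat.find hq, Nat.find_spec hq, fun m hm => Nat.find_min hq hm⟩
  have hle1 : ∀ m : ℕ, A.valuation (m : K) ≤ 1 := fun m => by rw [A.valuation_le_one_iff]; exact natCast_mem A m
  have hpow : ∀ m : ℕ, (m : K) ≠ 0 → ∃ e : ℕ, A.valuation (m : K) = A.valuation (q : K) ^ e := by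
    intro m
    induction m using Nat.strong_induction_on with
    | _ m ih =>
    intro hm
    by_cases hv : A.valuation (m : K) < 1
    swap
    · exact ⟨0, by rw [pow_zero]; exact le_antisymm (hle1 m) (not_lt.mp hv)⟩
    -- `m mod q` is again small, hence zero
    have hr : ((m % q : ℕ) : K) = 0 := by
      by_contra h
      refine hqmin (m % q) (Nat.mod_lt _ (Nat.pos_of_ne_zero fun h0 => hq0 (by simp [h0]))) ⟨h, ?_⟩
      rw [show ((m % q : ℕ) : K) = (m : K) - (q : K) * ((m / q : ℕ) : K) by
        rw [eq_sub_iff_add_eq]; exact_mod_cast congrArg (Nat.cast (R := K)) (Nat.mod_add_div m q)]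
      refine lt_of_le_of_lt (Valuation.map_sub _ _ _) (max_lt hv ?_)
      rw [map_mul]
      exact mul_lt_one_of_nonneg_of_lt_one_left zero_le hq1 (hle1 _)
    have hmq : (m : K) = (q : K) * ((m / q : ℕ) : K) := by
      conv_lhs => rw [← Nat.mod_add_div m q]
      rw [Nat.cast_add, hr, zero_add, Nat.cast_mul]
    have h2 : 2 ≤ q := by
      by_contra h
      rcases Nat.le_one_iff_eq_zero_or_eq_one.mp (by omega : q ≤ 1) with h' | h'
      · exact hq0 (by rw [h', Nat.cast_zero])
      · exact hq1.ne (by rw [h', Nat.cast_one, map_one])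
    have hm2 : ((m / q : ℕ) : K) ≠ 0 := fun h => hm (by rw [hmq, h, mul_zero])
    obtain ⟨e, he⟩ := ih (m / q) (Nat.div_lt_self (Nat.pos_of_ne_zero fun h0 => hm (by simp [h0])) h2) hm2
    exact ⟨e + 1, by rw [hmq, map_mul, he, pow_succ']⟩
  let Q : A := ⟨(q : K), natCast_mem A q⟩
  have hQm : Q ∈ IsLocalRing.maximalIdeal A := (A.valuation_lt_one_iff _).mpr hq1
  by_cases hQ0 : Q ∈ (l 0).asIdeal
  · -- `q` lies below the whole chain
    have hlex' : ∀ i k : Fin (n + 1), i < k → ∀ N : ℕ,
        A.valuation ((Fin.cons Q y : Fin (n + 1) → A) i : K) < A.valuation ((Fin.cons Q y : Fin (n + 1) → A) k : K) ^ N := by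
      intro i k h N
      obtain ⟨k, rfl⟩ := Fin.exists_succ_eq.mpr (Fin.pos_of_ne_zero (fun h0 => (Fin.not_lt_zero i) (h0 ▸ h))).ne'
      rcases Fin.eq_zero_or_eq_succ i with rfl | ⟨i, rfl⟩
      · simp only [Fin.cons_zero, Fin.cons_succ]
        haveI := (l k.castSucc).isPrime
        exact lt_pow_of_mem_of_notMem A (hmono 0 _ (Fin.zero_le _) hQ0) (hy' k) N
      · simp only [Fin.cons_succ]
        exact hlex i k (Fin.succ_lt_succ_iff.mp h) N
    have := le_trdeg_add_one A (Fin.cons Q y) (Fin.cases hq0 hy0) (Fin.cases hQm hy1) hlex' hd (some 0) fun m hm => by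
      obtain ⟨e, he⟩ := hpow m hm
      exact Or.inr ⟨0, rfl, e, he⟩
    simp only [Option.isSome_some, if_true] at this
    omega
  · -- `q` replaces the generator at its level
    have hQlast : Q ∈ (l (Fin.last n)).asIdeal ∨ ∀ i, Q ∉ (l i).asIdeal := by
      by_cases h : Q ∈ (l (Fin.last n)).asIdeal
      · exact Or.inl h
      · exact Or.inr fun i hi => h (hmono i _ (Fin.le_last i) hi)
    rcases hQlast with hlast | hnone
    · obtain ⟨k, hk, hk'⟩ : ∃ k : Fin n, Q ∈ (l k.succ).asIdeal ∧ Q ∉ (l k.castSucc).asIdeal := by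
        by_contra! hno
        have : ∀ i : Fin (n + 1), Q ∉ (l i).asIdeal := fun i => by
          induction i using Fin.induction with
          | zero => exact hQ0
          | succ i ih => exact fun h => ih (hno i h)
        exact this _ hlast
      have hup : ∀ i, Function.update y k Q i ∈ (l i.succ).asIdeal ∧ Function.update y k Q i ∉ (l i.castSucc).asIdeal := fun i => by
        rcases eq_or_ne i k with rfl | h
        · rw [Function.update_self]; exact ⟨hk, hk'⟩
        · rw [Function.update_of_ne h]; exact ⟨hy i, hy' i⟩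
      have := le_trdeg_add_one A (Function.update y k Q)
        (fun i h => (hup i).2 (by rw [show Function.update y k Q i = 0 from Subtype.ext h]; exact zero_mem _))
        (fun i => IsLocalRing.le_maximalIdeal (l i.succ).isPrime.ne_top (hup i).1)
        (fun i i' h N => haveI := (l i'.castSucc).isPrime
          lt_pow_of_mem_of_notMem A (hmono i.succ i'.castSucc (by simpa [Fin.le_def] using Fin.lt_def.mp h) (hup i).1) (hup i').2 N)
        hd (some k) fun m hm => by
          obtain ⟨e, he⟩ := hpow m hm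
          exact Or.inr ⟨k, rfl, e, by rw [Function.update_self]; exact he⟩
      simp only [Option.isSome_some, if_true] at this
      omega
    · -- `q` lies above the whole chain
      have hlex' : ∀ i k : Fin (n + 1), i < k → ∀ N : ℕ,
          A.valuation ((Fin.snoc y Q : Fin (n + 1) → A) i : K) < A.valuation ((Fin.snoc y Q : Fin (n + 1) → A) k : K) ^ N := by
        intro i k h N
        obtain ⟨i, rfl⟩ := Fin.exists_castSucc_eq.mpr (fun h0 : i = Fin.last n => absurd (h0 ▸ h) (not_lt.mpr (Fin.le_last k)))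
        rcases Fin.eq_castSucc_or_eq_last k with ⟨k, rfl⟩ | rfl
        · simp only [Fin.snoc_castSucc]
          exact hlex i k (Fin.castSucc_lt_castSucc_iff.mp h) N
        · simp only [Fin.snoc_castSucc, Fin.snoc_last]
          haveI := (l i.succ).isPrime
          exact lt_pow_of_mem_of_notMem A (hy i) (hnone _) N
      have := le_trdeg_add_one A (Fin.snoc y Q) (Fin.lastCases (by simp only [Fin.snoc_last]; exact hq0) (fun i => by simp only [Fin.snoc_castSucc]; exact hy0 i))
        (Fin.lastCases (by simpa using hQm) (fun i => by simpa using hy1 i)) hlex' hd (some (Fin.last n)) fun m hm => by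
        obtain ⟨e, he⟩ := hpow m hm
        exact Or.inr ⟨Fin.last n, rfl, e, by simpa using he⟩
      simp only [Option.isSome_some, if_true] at this
      omega

end Groth.Agent.H3CAlg.ValTrdeg
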