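import Mathlib.RingTheory.WittVector.Identities
import Mathlib.RingTheory.WittVector.InitTail
import Mathlib.RingTheory.WittVector.Teichmuller
import Mathlib.RingTheory.AdicCompletion.Basic

/-!
# Completeness of Witt vectors over a `p`-adically complete ring
-/

universe u

open WittVector

namespace Groth.Agent.H3CAlg.WittComplete

variable {p : ℕ} [hp : Fact p.Prime] {R : Type u} [CommRing R]

/-- Shift of coefficients. -/
def tail1 (x : WittVector p R) : WittVector p R := WittVector.mk p fun i ↦ x.coeff (i + 1)

lemma teichmuller_add_verschiebung_coeff (a : R) (w : WittVector p R) :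
    (teichmuller p a + verschiebung w).coeff 0 = a ∧
      ∀ i, (teichmuller p a + verschiebung w).coeff (i + 1) = w.coeff i := by
  have h : ∀ n, (teichmuller p a).coeff n = 0 ∨ (verschiebung w).coeff n = 0 := fun n ↦ by
    cases n with
    | zero => exact Or.inr (verschiebung_coeff_zero w)
    | succ n => exact Or.inl (teichmuller_coeff_pos p a (n + 1) n.succ_pos)
  refine ⟨?_, fun i ↦ ?_⟩
  · rw [coeff_add_of_disjoint _ _ _ h, teichmuller_coeff_zero, verschiebung_coeff_zero, add_zero]
  · rw [coeff_add_of_disjoint _ _ _ h, teichmuller_coeff_pos p a (i + 1) i.succ_pos,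
      verschiebung_coeff_succ, zero_add]

lemma eq_teichmuller_add_verschiebung (x : WittVector p R) :
    x = teichmuller p (x.coeff 0) + verschiebung (tail1 x) := by
  obtain ⟨h0, hs⟩ := teichmuller_add_verschiebung_coeff (x.coeff 0) (tail1 x)
  ext n
  cases n with
  | zero => rw [h0]
  | succ n => rw [hs]; rfl

lemma exists_eq_verschiebung {x : WittVector p R} (hx : x.coeff 0 = 0) :
    ∃ w, x = verschiebung w :=
  ⟨tail1 x, by
    conv_lhs => rw [eq_teichmuller_add_verschiebung x, hx, teichmuller_zero, zero_add]⟩

lemma verschiebung_natCast_mul (n : ℕ) (w : WittVector p R) :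
    verschiebung ((n : WittVector p R) * w) = (n : WittVector p R) * verschiebung w := by
  rw [← nsmul_eq_mul, map_nsmul, nsmul_eq_mul]

variable (p) in
lemma coeff_pow_mul_eq_zero {k : ℕ} (hk : (p : R) ^ k = 0) (m i : ℕ) (hi : i < m)
    (x : WittVector p R) : ((p : WittVector p R) ^ (k * m) * x).coeff i = 0 := by
  induction m generalizing i x with
  | zero => omega
  | succ m ih =>
    have h0 : ((p : WittVector p R) ^ k * x).coeff 0 = 0 := by
      rw [← WittVector.constantCoeff_apply, map_mul, map_pow, map_natCast, hk, zero_mul]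
    obtain ⟨w, hw⟩ := exists_eq_verschiebung h0
    rw [Nat.mul_succ, pow_add, mul_assoc, hw, ← Nat.cast_pow, ← verschiebung_natCast_mul]
    cases i with
    | zero => exact verschiebung_coeff_zero _
    | succ i =>
      rw [verschiebung_coeff_succ, Nat.cast_pow]
      exact ih i (by omega) w

section Complete

variable [IsAdicComplete (Ideal.span {(p : R)}) R]

/-- In a `p`-adically complete ring, telescopes `z N = y N + p z (N + 1)` can be solved. -/
lemma exists_solution (y : ℕ → R) : ∃ z : ℕ → R, ∀ N, z N = y N + (p : R) * z (N + 1) := by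
  have hmem : ∀ (n : ℕ) (a : R), (p : R) ^ n * a ∈
      ((Ideal.span {(p : R)}) ^ n • ⊤ : Submodule R R) := fun n a ↦ by
    rw [smul_eq_mul, Ideal.mul_top, Ideal.span_singleton_pow]
    exact Ideal.mul_mem_right _ _ (Ideal.mem_span_singleton_self _)
  let g : ℕ → ℕ → R := fun N n ↦ ∑ j ∈ Finset.range n, (p : R) ^ j * y (N + j)
  have hg : ∀ N n d, g N (n + d) = g N n + (p : R) ^ n *
      (∑ j ∈ Finset.range d, (p : R) ^ j * y (N + n + j)) := by
    intro N n d
    simp only [g, Finset.sum_range_add, Finset.mul_sum]
    congr 1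
    refine Finset.sum_congr rfl fun j _ ↦ ?_
    rw [add_assoc, pow_add, mul_assoc]
  have hex : ∀ N, ∃ L : R, ∀ n, g N n ≡ L [SMOD (Ideal.span {(p : R)}) ^ n • (⊤ : Submodule R R)] := by
    intro N
    refine IsPrecomplete.prec' (g N) fun {m n} hmn ↦ ?_
    obtain ⟨d, rfl⟩ := Nat.exists_eq_add_of_le hmn
    rw [SModEq.sub_mem, hg N m d, sub_add_cancel_left]
    exact neg_mem (hmem _ _)
  choose z hz using hex
  refine ⟨z, fun N ↦ sub_eq_zero.mp (IsHausdorff.haus' (I := Ideal.span {(p : R)}) _ fun n ↦ ?_)⟩
  rw [SModEq.sub_mem, sub_zero]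
  have h1 := hz N (n + 1)
  have h2 := hz (N + 1) n
  rw [SModEq.sub_mem] at h1 h2
  have e : g N (n + 1) = y N + (p : R) * g (N + 1) n := by
    simp only [g, Finset.sum_range_succ', Finset.mul_sum]
    rw [pow_zero, one_mul, add_zero, add_comm]
    congr 1
    refine Finset.sum_congr rfl fun j _ ↦ ?_
    rw [pow_succ', mul_assoc, show N + (j + 1) = N + 1 + j by omega]
  have h1' : g N (n + 1) - z N ∈ ((Ideal.span {(p : R)}) ^ n • ⊤ : Submodule R R) :=
    Submodule.smul_mono_left (Ideal.pow_le_pow_right n.le_succ) h1
  have : z N - (y N + (p : R) * z (N + 1)) =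
      -(g N (n + 1) - z N) + (p : R) • (g (N + 1) n - z (N + 1)) := by
    rw [e, smul_eq_mul]; ring
  rw [this]
  exact add_mem (neg_mem h1') (Submodule.smul_mem _ _ h2)

/-- A solution of the telescope. -/
noncomputable def sol (y : ℕ → R) : ℕ → R := (exists_solution (p := p) y).choose

lemma sol_spec (y : ℕ → R) (N : ℕ) :
    sol (p := p) y N = y N + (p : R) * sol (p := p) y (N + 1) :=
  (exists_solution (p := p) y).choose_spec N

/-- The remainder after solving the zeroth coefficient. -/
noncomputable def next (y : ℕ → WittVector p R) : ℕ → WittVector p R := fun N ↦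
  tail1 (y N + (p : WittVector p R) * teichmuller p (sol (p := p) (fun M ↦ (y M).coeff 0) (N + 1)) -
    teichmuller p (sol (p := p) (fun M ↦ (y M).coeff 0) N))

/-- The solution of the telescope in Witt vectors. -/
noncomputable def wsol (y : ℕ → WittVector p R) (N : ℕ) : WittVector p R :=
  WittVector.mk p fun i ↦ sol (p := p) (fun M ↦ (next^[i] y M).coeff 0) N

lemma wsol_eq (y : ℕ → WittVector p R) (N : ℕ) :
    wsol y N = teichmuller p (sol (p := p) (fun M ↦ (y M).coeff 0) N) +
      verschiebung (wsol (next y) N) := by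
  obtain ⟨h0, hs⟩ := teichmuller_add_verschiebung_coeff (sol (p := p) (fun M ↦ (y M).coeff 0) N)
    (wsol (next y) N)
  ext i
  cases i with
  | zero => rw [h0]; rfl
  | succ i => rw [hs]; rfl

lemma wsol_spec (y : ℕ → WittVector p R) (N : ℕ) :
    wsol y N = y N + (p : WittVector p R) * wsol y (N + 1) := by
  let E : (ℕ → WittVector p R) → ℕ → WittVector p R :=
    fun y N ↦ wsol y N - (y N + (p : WittVector p R) * wsol y (N + 1))
  have hE : ∀ y N, E y N = verschiebung (E (next y) N) := by
    intro y N
    have hnext : verschiebung (next y N) = y N +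
        (p : WittVector p R) * teichmuller p (sol (p := p) (fun M ↦ (y M).coeff 0) (N + 1)) -
        teichmuller p (sol (p := p) (fun M ↦ (y M).coeff 0) N) := by
      have h0 : (y N + (p : WittVector p R) *
          teichmuller p (sol (p := p) (fun M ↦ (y M).coeff 0) (N + 1)) -
          teichmuller p (sol (p := p) (fun M ↦ (y M).coeff 0) N)).coeff 0 = 0 := by
        rw [← WittVector.constantCoeff_apply, map_sub, map_add, map_mul, map_natCast,
          WittVector.constantCoeff_apply, WittVector.constantCoeff_apply,
          WittVector.constantCoeff_apply, teichmuller_coeff_zero, teichmuller_coeff_zero,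
          ← sol_spec (p := p) (fun M ↦ (y M).coeff 0) N, sub_self]
      refine ((eq_teichmuller_add_verschiebung _).trans ?_).symm
      rw [h0, teichmuller_zero, zero_add]
      rfl
    simp only [E, map_sub, map_add, verschiebung_natCast_mul]
    rw [wsol_eq y N, wsol_eq y (N + 1), hnext]
    ring
  suffices ∀ i y N, (E y N).coeff i = 0 from
    sub_eq_zero.mp (WittVector.ext fun i ↦ by simpa using this i y N)
  intro i
  induction i with
  | zero => intro y N; rw [hE]; exact verschiebung_coeff_zero _
  | succ i ih => intro y N; rw [hE, verschiebung_coeff_succ]; exact ih _ _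

lemma eq_zero_of_forall_pow_dvd {x : WittVector p R}
    (hx : ∀ n, ∃ w, x = (p : WittVector p R) ^ n * w) : x = 0 := by
  ext i
  rw [WittVector.zero_coeff]
  refine IsHausdorff.haus' (I := Ideal.span {(p : R)}) _ fun k ↦ ?_
  rw [SModEq.sub_mem, sub_zero, smul_eq_mul, Ideal.mul_top, Ideal.span_singleton_pow]
  obtain ⟨w, rfl⟩ := hx (k * (i + 1))
  let f := Ideal.Quotient.mk (Ideal.span {(p : R) ^ k})
  have hk : (p : R ⧸ Ideal.span {(p : R) ^ k}) ^ k = 0 := by
    rw [← map_natCast f, ← map_pow]
    exact Ideal.Quotient.eq_zero_iff_mem.mpr (Ideal.mem_span_singleton_self _)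
  have := coeff_pow_mul_eq_zero p hk (i + 1) i i.lt_succ_self (WittVector.map f w)
  rw [← map_natCast (WittVector.map f), ← map_pow, ← map_mul, WittVector.map_coeff] at this
  exact Ideal.Quotient.eq_zero_iff_mem.mp this

theorem isAdicComplete_p :
    IsAdicComplete (Ideal.span {(p : WittVector p R)}) (WittVector p R) where
  haus' x hx := eq_zero_of_forall_pow_dvd fun n ↦ by
    have := hx n
    rw [SModEq.sub_mem, sub_zero, smul_eq_mul, Ideal.mul_top, Ideal.span_singleton_pow,
      Ideal.mem_span_singleton'] at this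
    obtain ⟨w, hw⟩ := this
    exact ⟨w, by rw [← hw, mul_comm]⟩
  prec' f hf := by
    have h : ∀ N, ∃ y, f (N + 1) - f N = (p : WittVector p R) ^ N * y := fun N ↦ by
      have := (hf N.le_succ).symm
      rw [SModEq.sub_mem, smul_eq_mul, Ideal.mul_top, Ideal.span_singleton_pow,
        Ideal.mem_span_singleton'] at this
      obtain ⟨w, hw⟩ := this
      exact ⟨w, by rw [← hw, mul_comm]⟩
    choose y hy using h
    have key : ∀ N, f 0 + wsol y 0 - f N = (p : WittVector p R) ^ N * wsol y N := by
      intro N
      induction N with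
      | zero => simp
      | succ N ih =>
        rw [wsol_spec y N] at ih
        rw [pow_succ, mul_assoc]
        linear_combination ih - hy N
    refine ⟨f 0 + wsol y 0, fun n ↦ ?_⟩
    refine SModEq.symm ?_
    rw [SModEq.sub_mem, smul_eq_mul, Ideal.mul_top, Ideal.span_singleton_pow, key]
    exact Ideal.mul_mem_right _ _ (Ideal.mem_span_singleton_self _)

omit [IsAdicComplete (Ideal.span {(p : R)}) R] in
lemma mem_ker_pow_succ_iff (n : ℕ) (x : WittVector p R) :
    x ∈ RingHom.ker (WittVector.constantCoeff : WittVector p R →+* R) ^ (n + 1) ↔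
      ∃ w, x = (p : WittVector p R) ^ n * verschiebung w := by
  set I := RingHom.ker (WittVector.constantCoeff : WittVector p R →+* R)
  have hV : ∀ w : WittVector p R, verschiebung w ∈ I := fun w ↦ verschiebung_coeff_zero w
  have hI : ∀ x ∈ I, ∃ w, x = verschiebung w := fun x hx ↦ exists_eq_verschiebung hx
  have hmul : ∀ a b : WittVector p R,
      verschiebung a * verschiebung b = (p : WittVector p R) * verschiebung (a * b) := fun a b ↦ by
    rw [← verschiebung_mul_frobenius, frobenius_verschiebung, ← mul_assoc, mul_comm (a * b),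
      verschiebung_natCast_mul]
  induction n generalizing x with
  | zero =>
    simp only [zero_add, pow_one, pow_zero, one_mul]
    exact ⟨hI x, by rintro ⟨w, rfl⟩; exact hV w⟩
  | succ n ih =>
    constructor
    · intro hx
      rw [pow_succ] at hx
      refine Submodule.mul_induction_on hx (fun a ha b hb ↦ ?_) ?_
      · obtain ⟨a, rfl⟩ := (ih a).mp ha
        obtain ⟨b, rfl⟩ := hI b hb
        exact ⟨a * b, by rw [mul_assoc, hmul, ← mul_assoc, ← pow_succ]⟩
      · rintro a b ⟨v, rfl⟩ ⟨w, rfl⟩
        exact ⟨v + w, by rw [map_add, mul_add]⟩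
    · rintro ⟨w, rfl⟩
      rw [pow_succ I, pow_succ (p : WittVector p R), mul_assoc, ← mul_one w, ← hmul, ← mul_assoc]
      exact Ideal.mul_mem_mul ((ih _).mpr ⟨w, rfl⟩) (hV 1)

theorem isAdicComplete_ker :
    IsAdicComplete (RingHom.ker (WittVector.constantCoeff : WittVector p R →+* R))
      (WittVector p R) where
  haus' x hx := eq_zero_of_forall_pow_dvd fun n ↦ by
    have := hx (n + 1)
    rw [SModEq.sub_mem, sub_zero, smul_eq_mul, Ideal.mul_top, mem_ker_pow_succ_iff] at this
    obtain ⟨w, hw⟩ := this
    exact ⟨_, hw⟩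
  prec' f hf := by
    have h : ∀ N, ∃ y, f (N + 2) - f (N + 1) = (p : WittVector p R) ^ N * verschiebung y := fun N ↦ by
      have := (hf (N + 1).le_succ).symm
      rw [SModEq.sub_mem, smul_eq_mul, Ideal.mul_top, mem_ker_pow_succ_iff] at this
      exact this
    choose y hy using h
    have key : ∀ N, f 1 + verschiebung (wsol y 0) - f (N + 1) =
        (p : WittVector p R) ^ N * verschiebung (wsol y N) := by
      intro N
      induction N with
      | zero => simp
      | succ N ih =>
        rw [wsol_spec y N, map_add, verschiebung_natCast_mul] at ih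
        rw [pow_succ, mul_assoc]
        linear_combination ih - hy N
    refine ⟨f 1 + verschiebung (wsol y 0), fun n ↦ ?_⟩
    cases n with
    | zero => simp
    | succ n =>
      refine SModEq.symm ?_
      rw [SModEq.sub_mem, smul_eq_mul, Ideal.mul_top, mem_ker_pow_succ_iff, key]
      exact ⟨_, rfl⟩

end Complete

end Groth.Agent.H3CAlg.WittComplete
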