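import Groth.Prelude.Def_Dieu
import Groth.Prelude.Def_WittGrp
import Mathlib.RingTheory.Flat.Basic
import Mathlib.RingTheory.TensorProduct.IncludeLeftSubRight

/-!
# Equalizers after flat scalar extension along maps of Witt vectors
-/

set_option autoImplicit false
universe u v w

open scoped TensorProduct

namespace Groth.Agent.H3CAlg.WittEqualizer

/-- If `R → R'` is faithfully flat, an element of `R'` equalized by the coprojections comes from `R`. -/
theorem mem_range_of_tmul_eq {R R' : Type u} [CommRing R] [CommRing R'] [Algebra R R']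
    [Module.FaithfullyFlat R R'] (s : R') (hs : s ⊗ₜ[R] (1 : R') = (1 : R') ⊗ₜ[R] s) :
    s ∈ Set.range (algebraMap R R') := by
  have h := Algebra.IsEffective.of_faithfullyFlat R R'
  have h0 : Algebra.TensorProduct.includeLeftSubRight R R' s = 0 := by
    rw [Algebra.TensorProduct.includeLeftSubRight_apply, hs, sub_self]
  exact (h s).mp h0

/-- Exactness of `0 → M → B ⊗ M ⇉ C ⊗ M` for `M` flat, from exactness of `0 → A → B ⇉ C`. -/
theorem bc_equalizer {A : Type u} {B : Type u} {C : Type u} [CommRing A] [CommRing B] [CommRing C]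
    (f : A →+* B) (g₁ g₂ : B →+* C) (e : g₁.comp f = g₂.comp f)
    (hinj : Function.Injective f) (heq : ∀ b : B, g₁ b = g₂ b → b ∈ Set.range f)
    (M : Type v) [AddCommGroup M] [Module A M] [Module.Flat A M] :
    Function.Injective (Dieu.BC.ι f M) ∧
      ∀ z : Dieu.BC f M,
        (Dieu.BC.castHom e (Dieu.BC.push f g₁ z) = Dieu.BC.push f g₂ z ↔
          z ∈ Set.range (Dieu.BC.ι f M)) := by
  let i : A →ₗ[A] Dieu.Res f :=
    { toFun := fun a => Dieu.Res.mk f (f a)
      map_add' := fun a b => by rw [map_add]; exact Dieu.Res.mk_add f _ _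
      map_smul' := fun a b => by
        rw [RingHom.id_apply, Dieu.Res.smul_mk, smul_eq_mul, map_mul] }
  let d : Dieu.Res f →ₗ[A] Dieu.Res (g₂.comp f) :=
    { toFun := fun b => Dieu.Res.mk (g₂.comp f) (g₁ b.val - g₂ b.val)
      map_add' := fun a b => by
        rw [Dieu.Res.val_add, map_add, map_add, ← Dieu.Res.mk_add]
        congr 1
        abel
      map_smul' := fun a b => by
        rw [RingHom.id_apply, Dieu.Res.smul_mk, Dieu.Res.val_smul, map_mul, map_mul,
          show g₁ (f a) = g₂ (f a) from RingHom.congr_fun e a, RingHom.comp_apply, mul_sub] }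
  have hi : Function.Injective i := fun a b h => hinj (congrArg Dieu.Res.val h)
  have hex : Function.Exact i d := by
    intro b
    constructor
    · intro hb
      have hb' : g₁ b.val = g₂ b.val := sub_eq_zero.mp (congrArg Dieu.Res.val hb)
      obtain ⟨a, ha⟩ := heq b.val hb'
      exact ⟨a, congrArg (Dieu.Res.mk f) ha⟩
    · rintro ⟨a, rfl⟩
      show Dieu.Res.mk (g₂.comp f) (g₁ (f a) - g₂ (f a)) = 0
      rw [show g₁ (f a) = g₂ (f a) from RingHom.congr_fun e a, sub_self]
      rfl
  have hexM := Module.Flat.rTensor_exact M hex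
  have hinjM : Function.Injective (i.rTensor M) :=
    Module.Flat.rTensor_preserves_injective_linearMap (M := M) i hi
  have hι : ∀ x : M, Dieu.BC.ι f M x = i.rTensor M ((1 : A) ⊗ₜ[A] x) := by
    intro x
    rw [Dieu.BC.ι_apply, LinearMap.rTensor_tmul]
    show (Dieu.Res.mk f 1) ⊗ₜ[A] x = (Dieu.Res.mk f (f 1)) ⊗ₜ[A] x
    rw [map_one]
  refine ⟨fun x y hxy => ?_, fun z => ?_⟩
  · rw [hι, hι] at hxy
    have := congrArg (TensorProduct.lid A M) (hinjM hxy)
    simpa using this
  · let D : Dieu.BC f M →+ Dieu.BC (g₂.comp f) M := (d.rTensor M).toAddMonoidHom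
    have hd : ∀ z : Dieu.BC f M, D z =
        Dieu.BC.castHom e (Dieu.BC.push f g₁ z) - Dieu.BC.push f g₂ z := by
      intro z
      induction z using Dieu.BC.induction_on f with
      | zero => rw [map_zero, map_zero, map_zero, map_zero, sub_zero]
      | tmul b x =>
        rw [Dieu.BC.push_tmul, Dieu.BC.push_tmul, Dieu.BC.castHom_tmul]
        show (Dieu.Res.mk (g₂.comp f) (g₁ b - g₂ b)) ⊗ₜ[A] x =
          (Dieu.Res.mk (g₂.comp f) (g₁ b)) ⊗ₜ[A] x - (Dieu.Res.mk (g₂.comp f) (g₂ b)) ⊗ₜ[A] x
        exact TensorProduct.sub_tmul _ _ _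
      | add z₁ z₂ h₁ h₂ =>
        rw [map_add, map_add, map_add, map_add, h₁, h₂]
        abel
    rw [← sub_eq_zero, ← hd]
    refine (hexM z).trans ?_
    constructor
    · rintro ⟨w, rfl⟩
      refine ⟨TensorProduct.lid A M w, ?_⟩
      rw [hι]
      congr 1
      rw [← TensorProduct.lid_symm_apply, LinearEquiv.symm_apply_apply]
    · rintro ⟨x, rfl⟩
      exact ⟨(1 : A) ⊗ₜ[A] x, (hι x).symm⟩

/-- Exactness of `0 → M → M ⊗ B ⇉ M ⊗ C` for `M` flat. -/
theorem tensor_equalizer {A : Type u} {B : Type u} {C : Type u} [CommRing A] [CommRing B] [CommRing C]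
    [Algebra A B] [Algebra A C] (ψ₁ ψ₂ : B →ₐ[A] C)
    (hinj : Function.Injective (algebraMap A B))
    (heq : ∀ b : B, ψ₁ b = ψ₂ b → b ∈ Set.range (algebraMap A B))
    (M : Type v) [AddCommGroup M] [Module A M] [Module.Flat A M] :
    Function.Injective (fun m : M => m ⊗ₜ[A] (1 : B)) ∧
      ∀ x : M ⊗[A] B,
        LinearMap.lTensor M ψ₁.toLinearMap x = LinearMap.lTensor M ψ₂.toLinearMap x →
          x ∈ Set.range (fun m : M => m ⊗ₜ[A] (1 : B)) := by
  have hex : Function.Exact (Algebra.linearMap A B) (ψ₁.toLinearMap - ψ₂.toLinearMap) := by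
    intro b
    constructor
    · intro hb
      exact heq b (sub_eq_zero.mp hb)
    · rintro ⟨a, rfl⟩
      simp
  have hι : ∀ m : M, (m ⊗ₜ[A] (1 : B)) = (Algebra.linearMap A B).lTensor M (m ⊗ₜ[A] (1 : A)) := by
    intro m
    simp
  refine ⟨fun m n h => ?_, fun x hx => ?_⟩
  · simp only [hι] at h
    have := congrArg (TensorProduct.rid A M)
      (Module.Flat.lTensor_preserves_injective_linearMap (M := M) _ hinj h)
    simpa using this
  · have h0 : (ψ₁.toLinearMap - ψ₂.toLinearMap).lTensor M x = 0 := by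
      rw [LinearMap.lTensor_sub, LinearMap.sub_apply, hx, sub_self]
    obtain ⟨w, rfl⟩ := (Module.Flat.lTensor_exact M hex x).mp h0
    refine ⟨TensorProduct.rid A M w, ?_⟩
    simp only
    rw [hι]
    congr 1
    rw [← TensorProduct.rid_symm_apply, LinearEquiv.symm_apply_apply]

/-- The equalizer of the two maps `W(R') ⇉ W(R' ⊗ R')` is the image of `W(R)`. -/
theorem wittVector_mem_range (p : ℕ) [Fact p.Prime] {R R' : Type u} [CommRing R] [CommRing R']
    [Algebra R R'] [Module.FaithfullyFlat R R'] (b : WittVector p R')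
    (hb : (WittVector.map (Algebra.TensorProduct.includeLeftRingHom : R' →+* R' ⊗[R] R')) b =
      (WittVector.map ((Algebra.TensorProduct.includeRight : R' →ₐ[R] R' ⊗[R] R') :
        R' →+* R' ⊗[R] R')) b) :
    b ∈ Set.range (WittVector.map (algebraMap R R') : WittVector p R →+* WittVector p R') := by
  have h : ∀ i : ℕ, b.coeff i ∈ Set.range (algebraMap R R') := by
    intro i
    have hc := congrArg (fun w : WittVector p (R' ⊗[R] R') => w.coeff i) hb
    simp only [WittVector.map_coeff] at hc
    exact mem_range_of_tmul_eq _ (by simpa using hc)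
  choose a ha using h
  refine ⟨WittVector.mk p a, ?_⟩
  ext i
  simp [WittVector.map_coeff, ha]

/-- The equalizer of the two maps `W_n(R') ⇉ W_n(R' ⊗ R')` is the image of `W_n(R)`. -/
theorem truncated_mem_range (p : ℕ) [Fact p.Prime] (n : ℕ) {R R' : Type u} [CommRing R]
    [CommRing R'] [Algebra R R'] [Module.FaithfullyFlat R R'] (b : TruncatedWittVector p n R')
    (hb : WittGrp.truncMap p n (Algebra.TensorProduct.includeLeftRingHom : R' →+* R' ⊗[R] R') b =
      WittGrp.truncMap p n ((Algebra.TensorProduct.includeRight : R' →ₐ[R] R' ⊗[R] R') :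
        R' →+* R' ⊗[R] R') b) :
    b ∈ Set.range (WittGrp.truncMap p n (algebraMap R R')) := by
  have h : ∀ i : Fin n, b.coeff i ∈ Set.range (algebraMap R R') := by
    intro i
    have hc := congrArg (fun w : TruncatedWittVector p n (R' ⊗[R] R') => w.coeff i) hb
    simp only [WittGrp.coeff_truncMap] at hc
    exact mem_range_of_tmul_eq _ (by simpa using hc)
  choose a ha using h
  refine ⟨TruncatedWittVector.mk p a, ?_⟩
  apply TruncatedWittVector.ext
  intro i
  rw [WittGrp.coeff_truncMap, TruncatedWittVector.coeff_mk, ha]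

/-- `W_n` of an injective map is injective. -/
theorem truncated_injective (p : ℕ) [Fact p.Prime] (n : ℕ) {R R' : Type u} [CommRing R]
    [CommRing R'] (f : R →+* R') (hf : Function.Injective f) :
    Function.Injective (WittGrp.truncMap p n f) := by
  intro x y h
  apply TruncatedWittVector.ext
  intro i
  have := congrArg (fun w : TruncatedWittVector p n R' => w.coeff i) h
  simp only [WittGrp.coeff_truncMap] at this
  exact hf this

end Groth.Agent.H3CAlg.WittEqualizer
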