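import Groth.Prelude.Def_W4c3truncdispsmoothDesc
import Groth.Agent.H3CAlg.WittEqualizer

/-!
# Full faithfulness of descent for modules over truncated Witt vectors
-/

set_option autoImplicit false
universe v u
open CategoryTheory ModuleCat Opposite
open scoped ChangeOfRings

namespace Groth.Agent.H3CAlg.WittDescent

/-- The pure tensor `s ⊗ m` in the extension of scalars. -/
noncomputable def pure {R S : Type u} [CommRing R] [CommRing S] (f : R →+* S) (M : ModuleCat.{u} R)
    (s : S) (m : M) : (extendScalars f).obj M :=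
  s ⊗ₜ[R, f] m

theorem smul_pure {R S : Type u} [CommRing R] [CommRing S] (f : R →+* S) (M : ModuleCat.{u} R)
    (s s' : S) (m : M) : s • pure f M s' m = pure f M (s * s') m :=
  ModuleCat.ExtendScalars.smul_tmul f s s' m

theorem pure_smul {R S : Type u} [CommRing R] [CommRing S] (f : R →+* S) (M : ModuleCat.{u} R)
    (s : S) (r : R) (m : M) : pure f M s (r • m) = pure f M (f r * s) m := by
  show TensorProduct.tmul R (show (restrictScalars f).obj (ModuleCat.of S S) from s) (r • m) = _
  rw [TensorProduct.tmul_smul, TensorProduct.smul_tmul']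
  rfl

theorem map₂_pure {R S : CommRingCat.{u}} {a b : LocallyDiscrete.mk R ⟶ LocallyDiscrete.mk S}
    (η : a ⟶ b) (M : ModuleCat.{u} R) (m : M)
    (φ : (extendScalars a.as.hom).obj M ⟶ (extendScalars b.as.hom).obj M)
    (hφ : φ = (CommRingCat.moduleCatExtendScalarsPseudofunctor.map₂ η).toNatTrans.app M) :
    φ (pure a.as.hom M 1 m) = pure b.as.hom M 1 m := by
  obtain rfl : a = b := LocallyDiscrete.eq_of_hom η
  rw [Subsingleton.elim η (𝟙 a)] at hφ
  subst hφ
  simp
  rfl

variable {C : Type v} [Category.{u} C] (H : C ⥤ CommRingCat.{u})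

theorem mapComp'_hom_pure {A B X : C} (a : A ⟶ B) (b : B ⟶ X) (c : A ⟶ X)
    (h : a.toLoc ≫ b.toLoc = c.toLoc)
    (M : ModuleCat.{u} (H.obj A)) (m : M)
    (φ : (extendScalars (H.map c).hom).obj M ⟶
      (extendScalars (H.map b).hom).obj ((extendScalars (H.map a).hom).obj M))
    (hφ : φ = ((H.toPseudofunctor.comp CommRingCat.moduleCatExtendScalarsPseudofunctor).mapComp'
      a.toLoc b.toLoc c.toLoc h).hom.toNatTrans.app M) :
    φ (pure (H.map c).hom M 1 m) =
      pure (H.map b).hom ((extendScalars (H.map a).hom).obj M) 1 (pure (H.map a).hom M 1 m) := by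
  let η : (H.map c).toLoc ⟶ (H.map a ≫ H.map b).toLoc :=
    eqToHom (by
      have hc : a ≫ b = c := congrArg (fun f : LocallyDiscrete.mk A ⟶ LocallyDiscrete.mk X => f.as) h
      rw [← hc, Functor.map_comp])
  have hη : φ = (show (extendScalars (H.map c).hom).obj M ⟶
        (extendScalars (H.map a ≫ H.map b).hom).obj M from
          (CommRingCat.moduleCatExtendScalarsPseudofunctor.map₂ η).toNatTrans.app M) ≫
        (extendScalarsComp (H.map a).hom (H.map b).hom).hom.app M := by
    subst hφ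
    have hc : a ≫ b = c := congrArg (fun f : LocallyDiscrete.mk A ⟶ LocallyDiscrete.mk X => f.as) h
    subst hc
    simp [Pseudofunctor.mapComp', Pseudofunctor.comp, η]
    rfl
  rw [hη, ConcreteCategory.comp_apply]
  refine (congrArg ((extendScalarsComp (H.map a).hom (H.map b).hom).hom.app M)
    (map₂_pure η M m _ rfl)).trans ?_
  exact extendScalarsComp_hom_app_one_tmul (H.map a).hom (H.map b).hom M m

theorem mapComp'_inv_pure {A B X : C} (a : A ⟶ B) (b : B ⟶ X) (c : A ⟶ X)
    (h : a.toLoc ≫ b.toLoc = c.toLoc)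
    (M : ModuleCat.{u} (H.obj A)) (s : H.obj B) (m : M)
    (φ : (extendScalars (H.map b).hom).obj ((extendScalars (H.map a).hom).obj M) ⟶
      (extendScalars (H.map c).hom).obj M)
    (hφ : φ = ((H.toPseudofunctor.comp CommRingCat.moduleCatExtendScalarsPseudofunctor).mapComp'
      a.toLoc b.toLoc c.toLoc h).inv.toNatTrans.app M) :
    φ (pure (H.map b).hom ((extendScalars (H.map a).hom).obj M) 1 (pure (H.map a).hom M s m)) =
      pure (H.map c).hom M ((H.map b).hom s) m := by
  have h1 : φ (pure (H.map b).hom ((extendScalars (H.map a).hom).obj M) 1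
      (pure (H.map a).hom M 1 m)) = pure (H.map c).hom M 1 m := by
    rw [← mapComp'_hom_pure H a b c h M m _ rfl, hφ]
    have hcc := congrArg
      (fun g : (extendScalars (H.map c).hom).obj M ⟶ (extendScalars (H.map c).hom).obj M =>
        g (pure (H.map c).hom M 1 m))
      ((Cat.Hom.toNatIso ((H.toPseudofunctor.comp
        CommRingCat.moduleCatExtendScalarsPseudofunctor).mapComp'
          a.toLoc b.toLoc c.toLoc h)).app M).hom_inv_id
    exact hcc
  have h2 : pure (H.map a).hom M s m = s • pure (H.map a).hom M 1 m := by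
    rw [smul_pure, mul_one]
  rw [h2, pure_smul, ← smul_pure, map_smul, h1, smul_pure, mul_one]

/-- A map of pullbacks commuting with the canonical descent isomorphisms sends `1 ⊗ m` into the
equalizer of the two pushforwards. -/
theorem push_eq_push_of_comm {A B X : C} (a : A ⟶ B) (b₁ b₂ : B ⟶ X) (c : A ⟶ X)
    (h₁ : a.toLoc ≫ b₁.toLoc = c.toLoc) (h₂ : a.toLoc ≫ b₂.toLoc = c.toLoc)
    (M N : ModuleCat.{u} (H.obj A))
    (ψ : (extendScalars (H.map a).hom).obj M ⟶ (extendScalars (H.map a).hom).obj N)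
    (i₁M : (extendScalars (H.map b₁).hom).obj ((extendScalars (H.map a).hom).obj M) ⟶
      (extendScalars (H.map c).hom).obj M)
    (hi₁M : i₁M = ((H.toPseudofunctor.comp CommRingCat.moduleCatExtendScalarsPseudofunctor).mapComp'
      a.toLoc b₁.toLoc c.toLoc h₁).inv.toNatTrans.app M)
    (j₂M : (extendScalars (H.map c).hom).obj M ⟶
      (extendScalars (H.map b₂).hom).obj ((extendScalars (H.map a).hom).obj M))
    (hj₂M : j₂M = ((H.toPseudofunctor.comp CommRingCat.moduleCatExtendScalarsPseudofunctor).mapComp'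
      a.toLoc b₂.toLoc c.toLoc h₂).hom.toNatTrans.app M)
    (i₁N : (extendScalars (H.map b₁).hom).obj ((extendScalars (H.map a).hom).obj N) ⟶
      (extendScalars (H.map c).hom).obj N)
    (hi₁N : i₁N = ((H.toPseudofunctor.comp CommRingCat.moduleCatExtendScalarsPseudofunctor).mapComp'
      a.toLoc b₁.toLoc c.toLoc h₁).inv.toNatTrans.app N)
    (j₂N : (extendScalars (H.map c).hom).obj N ⟶
      (extendScalars (H.map b₂).hom).obj ((extendScalars (H.map a).hom).obj N))
    (hj₂N : j₂N = ((H.toPseudofunctor.comp CommRingCat.moduleCatExtendScalarsPseudofunctor).mapComp'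
      a.toLoc b₂.toLoc c.toLoc h₂).hom.toNatTrans.app N)
    (comm : (extendScalars (H.map b₁).hom).map ψ ≫ i₁N ≫ j₂N =
      (i₁M ≫ j₂M) ≫ (extendScalars (H.map b₂).hom).map ψ)
    (e : (H.map b₁).hom.comp (H.map a).hom = (H.map b₂).hom.comp (H.map a).hom) (m : M) :
    Dieu.BC.castHom e
        (Dieu.BC.push (H.map a).hom (H.map b₁).hom (ψ (pure (H.map a).hom M 1 m))) =
      Dieu.BC.push (H.map a).hom (H.map b₂).hom (ψ (pure (H.map a).hom M 1 m)) := by
  obtain ⟨z, hz⟩ : ∃ z, z = ψ (pure (H.map a).hom M 1 m) := ⟨_, rfl⟩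
  rw [← hz]
  let i₂N : (extendScalars (H.map b₂).hom).obj ((extendScalars (H.map a).hom).obj N) ⟶
      (extendScalars (H.map c).hom).obj N :=
    ((H.toPseudofunctor.comp CommRingCat.moduleCatExtendScalarsPseudofunctor).mapComp'
      a.toLoc b₂.toLoc c.toLoc h₂).inv.toNatTrans.app N
  have hji : j₂N ≫ i₂N = 𝟙 _ := by
    rw [hj₂N]
    exact ((Cat.Hom.toNatIso ((H.toPseudofunctor.comp
      CommRingCat.moduleCatExtendScalarsPseudofunctor).mapComp'
        a.toLoc b₂.toLoc c.toLoc h₂)).app N).hom_inv_id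
  have hcc := congrArg (fun g => g (pure (H.map b₁).hom ((extendScalars (H.map a).hom).obj M) 1
    (pure (H.map a).hom M 1 m))) comm
  simp only [ConcreteCategory.comp_apply] at hcc
  rw [mapComp'_inv_pure H a b₁ c h₁ M 1 m i₁M hi₁M, map_one,
    mapComp'_hom_pure H a b₂ c h₂ M m j₂M hj₂M] at hcc
  have hm : ∀ {Y : C} (g : B ⟶ Y) (x : (extendScalars (H.map a).hom).obj M),
      (extendScalars (H.map g).hom).map ψ (pure (H.map g).hom _ 1 x) =
        pure (H.map g).hom _ 1 (ψ x) := fun g x => rfl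
  rw [hm, hm, ← hz] at hcc
  have hL : i₁N (pure (H.map b₁).hom _ 1 z) = i₂N (pure (H.map b₂).hom _ 1 z) := by
    have := congrArg (fun y => i₂N y) hcc
    simp only [← ConcreteCategory.comp_apply, Category.assoc, hji, Category.comp_id] at this
    exact this
  have hc : ∀ {b : B ⟶ X}, a.toLoc ≫ b.toLoc = c.toLoc →
      (H.map b).hom.comp (H.map a).hom = (H.map c).hom := by
    intro b hb
    have hb' : a ≫ b = c :=
      congrArg (fun f : LocallyDiscrete.mk A ⟶ LocallyDiscrete.mk X => f.as) hb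
    rw [← hb', Functor.map_comp, CommRingCat.hom_comp]
  have key : ∀ (b : B ⟶ X) (hb : a.toLoc ≫ b.toLoc = c.toLoc)
      (i : (extendScalars (H.map b).hom).obj ((extendScalars (H.map a).hom).obj N) ⟶
        (extendScalars (H.map c).hom).obj N),
      i = ((H.toPseudofunctor.comp CommRingCat.moduleCatExtendScalarsPseudofunctor).mapComp'
        a.toLoc b.toLoc c.toLoc hb).inv.toNatTrans.app N →
      ∀ w : (extendScalars (H.map a).hom).obj N,
        (i (pure (H.map b).hom _ 1 w) : Dieu.BC (H.map c).hom N) =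
          Dieu.BC.castHom (hc hb) (Dieu.BC.push (H.map a).hom (H.map b).hom w) := by
    intro b hb i hi w
    induction w using TensorProduct.induction_on with
    | zero =>
      have : pure (H.map b).hom ((extendScalars (H.map a).hom).obj N) 1 0 = 0 :=
        TensorProduct.tmul_zero _ _
      refine (congrArg i this).trans ((map_zero i.hom).trans ?_)
      exact ((congrArg (Dieu.BC.castHom (hc hb))
        (map_zero (Dieu.BC.push (H.map a).hom (H.map b).hom))).trans
          (map_zero (Dieu.BC.castHom (hc hb)))).symm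
    | tmul s x =>
      refine (mapComp'_inv_pure H a b c hb N s x i hi).trans ?_
      refine Eq.trans ?_ (congrArg (Dieu.BC.castHom (hc hb))
        (Dieu.BC.push_tmul (H.map a).hom (H.map b).hom s x)).symm
      rw [Dieu.BC.castHom_tmul]
      rfl
    | add x y hx hy =>
      have : pure (H.map b).hom ((extendScalars (H.map a).hom).obj N) 1 (x + y) =
          pure (H.map b).hom _ 1 x + pure (H.map b).hom _ 1 y :=
        TensorProduct.tmul_add _ _ _
      refine (congrArg i this).trans ?_
      refine (map_add i.hom _ _).trans ?_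
      refine (congrArg₂ (fun u v : Dieu.BC (H.map c).hom N => u + v) hx hy).trans ?_
      exact ((congrArg (Dieu.BC.castHom (hc hb))
        (map_add (Dieu.BC.push (H.map a).hom (H.map b).hom) x y)).trans
          (map_add (Dieu.BC.castHom (hc hb)) _ _)).symm
  have k₁ := key b₁ h₁ i₁N hi₁N z
  have k₂ := key b₂ h₂ i₂N rfl z
  rw [hL, k₂] at k₁
  have hcast : ∀ {S : Type u} [CommRing S] {g g' g'' : H.obj A →+* S} (e : g = g'') (e' : g' = g'')
      (e'' : g = g') (u : Dieu.BC g N) (v : Dieu.BC g' N),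
      Dieu.BC.castHom e' v = Dieu.BC.castHom e u → Dieu.BC.castHom e'' u = v := by
    intro S _ g g' g'' e e' e'' u v huv
    subst e e''
    exact huv.symm
  exact hcast _ _ e _ _ k₁

/-- A module map between pullbacks landing in the pulled back elements descends uniquely. -/
theorem exists_map_eq {R S : Type u} [CommRing R] [CommRing S] (f : R →+* S) (M N : ModuleCat.{u} R)
    (hN : Function.Injective (pure f N 1)) (ψ : (extendScalars f).obj M ⟶ (extendScalars f).obj N)
    (h : ∀ m : M, ∃ n : N, pure f N 1 n = ψ (pure f M 1 m)) :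
    ∃ φ : M ⟶ N, (extendScalars f).map φ = ψ := by
  choose g hg using h
  have hadd : ∀ (M : ModuleCat.{u} R) (x y : M), pure f M 1 (x + y) = pure f M 1 x + pure f M 1 y :=
    fun M x y => TensorProduct.tmul_add _ _ _
  have hsmul : ∀ (M : ModuleCat.{u} R) (r : R) (x : M), pure f M 1 (r • x) = f r • pure f M 1 x :=
    fun M r x => by rw [pure_smul, smul_pure]
  let φ : M →ₗ[R] N :=
    { toFun := g
      map_add' := fun x y => hN (by rw [hg, hadd, hadd, hg, hg, map_add])
      map_smul' := fun r x => hN (by rw [RingHom.id_apply, hg, hsmul, hsmul, hg, map_smul]) }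
  refine ⟨ModuleCat.ofHom φ, ?_⟩
  ext m
  exact hg m

theorem truncMap_mem_range {p : ℕ} [Fact p.Prime] {n : ℕ} {R R' : Type u} [CommRing R] [CommRing R']
    [Algebra R R'] [Module.FaithfullyFlat R R'] (N : ModuleCat.{u} (TruncatedWittVector p n R))
    [Module.Flat (TruncatedWittVector p n R) N]
    (e : (WittGrp.truncMap p n (Algebra.TensorProduct.includeLeftRingHom : R' →+* TensorProduct R R' R')).comp
        (WittGrp.truncMap p n (algebraMap R R')) =
      (WittGrp.truncMap p n ((Algebra.TensorProduct.includeRight : R' →ₐ[R] TensorProduct R R' R') :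
        R' →+* TensorProduct R R' R')).comp (WittGrp.truncMap p n (algebraMap R R'))) :
    Function.Injective (pure (WittGrp.truncMap p n (algebraMap R R')) N 1) ∧
      ∀ z : (extendScalars (WittGrp.truncMap p n (algebraMap R R'))).obj N,
        Dieu.BC.castHom e (Dieu.BC.push (WittGrp.truncMap p n (algebraMap R R'))
          (WittGrp.truncMap p n (Algebra.TensorProduct.includeLeftRingHom : R' →+* TensorProduct R R' R'))
          (z : Dieu.BC (WittGrp.truncMap p n (algebraMap R R')) N)) =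
        Dieu.BC.push (WittGrp.truncMap p n (algebraMap R R'))
          (WittGrp.truncMap p n ((Algebra.TensorProduct.includeRight : R' →ₐ[R] TensorProduct R R' R') :
            R' →+* TensorProduct R R' R'))
          (z : Dieu.BC (WittGrp.truncMap p n (algebraMap R R')) N) →
          z ∈ Set.range (pure (WittGrp.truncMap p n (algebraMap R R')) N 1) := by
  obtain ⟨h1, h2⟩ := WittEqualizer.bc_equalizer (WittGrp.truncMap p n (algebraMap R R')) _ _ e
    (WittEqualizer.truncated_injective p n _ (FaithfulSMul.algebraMap_injective R R'))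
    (fun b hb => WittEqualizer.truncated_mem_range p n b hb) N
  exact ⟨h1, fun z hz => (h2 z).mp hz⟩

theorem push_eq' {A B X : C} (a : A ⟶ B) (b₁ b₂ : B ⟶ X) (c : A ⟶ X)
    (h₁ : a.toLoc ≫ b₁.toLoc = c.toLoc) (h₂ : a.toLoc ≫ b₂.toLoc = c.toLoc)
    (M N : ModuleCat.{u} (H.obj A))
    (ψ : (extendScalars (H.map a).hom).obj M ⟶ (extendScalars (H.map a).hom).obj N)
    (comm : ((H.toPseudofunctor.comp CommRingCat.moduleCatExtendScalarsPseudofunctor).map b₁.toLoc).toFunctor.map ψ ≫
        ((H.toPseudofunctor.comp CommRingCat.moduleCatExtendScalarsPseudofunctor).mapComp' a.toLoc b₁.toLoc c.toLoc h₁).inv.toNatTrans.app N ≫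
        ((H.toPseudofunctor.comp CommRingCat.moduleCatExtendScalarsPseudofunctor).mapComp' a.toLoc b₂.toLoc c.toLoc h₂).hom.toNatTrans.app N =
      (((H.toPseudofunctor.comp CommRingCat.moduleCatExtendScalarsPseudofunctor).mapComp' a.toLoc b₁.toLoc c.toLoc h₁).inv.toNatTrans.app M ≫
        ((H.toPseudofunctor.comp CommRingCat.moduleCatExtendScalarsPseudofunctor).mapComp' a.toLoc b₂.toLoc c.toLoc h₂).hom.toNatTrans.app M) ≫
        ((H.toPseudofunctor.comp CommRingCat.moduleCatExtendScalarsPseudofunctor).map b₂.toLoc).toFunctor.map ψ)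
    (e : (H.map b₁).hom.comp (H.map a).hom = (H.map b₂).hom.comp (H.map a).hom) (m : M) :
    Dieu.BC.castHom e
        (Dieu.BC.push (H.map a).hom (H.map b₁).hom (ψ (pure (H.map a).hom M 1 m))) =
      Dieu.BC.push (H.map a).hom (H.map b₂).hom (ψ (pure (H.map a).hom M 1 m)) :=
  push_eq_push_of_comm H a b₁ b₂ c h₁ h₂ M N ψ _ rfl _ rfl _ rfl _ rfl comm e m

attribute [-instance] CategoryStruct.opposite in
/-- The compatibility of a morphism of canonical descent data, unfolded. -/
theorem comm_of_hom {D : Type (u+1)} [Category.{u} D]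
    (F : Pseudofunctor (LocallyDiscrete Dᵒᵖ) Cat.{u, u + 1})
    {S X Y : D} (a : X ⟶ S) (f₁ f₂ : Y ⟶ X) (h₂ : f₂ ≫ a = f₁ ≫ a)
    (M N : F.obj (.mk (op S)))
    (ψ : (F.toDescentData (fun _ : PUnit.{u + 1} => a)).obj M ⟶
      (F.toDescentData (fun _ : PUnit.{u + 1} => a)).obj N) :
    (F.map f₁.op.toLoc).toFunctor.map (ψ.hom PUnit.unit) ≫
        (F.mapComp' a.op.toLoc f₁.op.toLoc (f₁ ≫ a).op.toLoc rfl).inv.toNatTrans.app N ≫
        (F.mapComp' a.op.toLoc f₂.op.toLoc (f₁ ≫ a).op.toLoc
          (congrArg (fun k => k.op.toLoc) h₂)).hom.toNatTrans.app N =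
      ((F.mapComp' a.op.toLoc f₁.op.toLoc (f₁ ≫ a).op.toLoc rfl).inv.toNatTrans.app M ≫
        (F.mapComp' a.op.toLoc f₂.op.toLoc (f₁ ≫ a).op.toLoc
          (congrArg (fun k => k.op.toLoc) h₂)).hom.toNatTrans.app M) ≫
        (F.map f₂.op.toLoc).toFunctor.map (ψ.hom PUnit.unit) :=
  ψ.comm (f₁ ≫ a) (i₁ := PUnit.unit) (i₂ := PUnit.unit) f₁ f₂ rfl h₂

attribute [-instance] CategoryStruct.opposite in
/-- Every compatible map between pullbacks comes from the base. -/
def Descends {D : Type (u+1)} [Category.{u} D]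
    (F : Pseudofunctor (LocallyDiscrete Dᵒᵖ) Cat.{u, u + 1})
    {S X Y : D} (a : X ⟶ S) (f₁ f₂ : Y ⟶ X) (h₂ : f₂ ≫ a = f₁ ≫ a)
    (M N : F.obj (.mk (op S))) : Prop :=
  ∀ ψ : (F.map a.op.toLoc).toFunctor.obj M ⟶ (F.map a.op.toLoc).toFunctor.obj N,
      (F.map f₁.op.toLoc).toFunctor.map ψ ≫
        (F.mapComp' a.op.toLoc f₁.op.toLoc (f₁ ≫ a).op.toLoc rfl).inv.toNatTrans.app N ≫
        (F.mapComp' a.op.toLoc f₂.op.toLoc (f₁ ≫ a).op.toLoc
          (congrArg (fun k => k.op.toLoc) h₂)).hom.toNatTrans.app N =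
      ((F.mapComp' a.op.toLoc f₁.op.toLoc (f₁ ≫ a).op.toLoc rfl).inv.toNatTrans.app M ≫
        (F.mapComp' a.op.toLoc f₂.op.toLoc (f₁ ≫ a).op.toLoc
          (congrArg (fun k => k.op.toLoc) h₂)).hom.toNatTrans.app M) ≫
        (F.map f₂.op.toLoc).toFunctor.map ψ →
      ∃ φ : M ⟶ N, (F.map a.op.toLoc).toFunctor.map φ = ψ

theorem descends_of_eq {D : Type (u+1)} [Category.{u} D]
    (F G : Pseudofunctor (LocallyDiscrete Dᵒᵖ) Cat.{u, u + 1}) (hFG : F = G)
    {S X Y : D} (a : X ⟶ S) (f₁ f₂ : Y ⟶ X) (h₂ : f₂ ≫ a = f₁ ≫ a)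
    (M N : F.obj (.mk (op S))) (M' N' : G.obj (.mk (op S))) (hM : HEq M M') (hN : HEq N N')
    (h : Descends G a f₁ f₂ h₂ M' N') : Descends F a f₁ f₂ h₂ M N := by
  subst hFG
  obtain rfl := eq_of_heq hM
  obtain rfl := eq_of_heq hN
  exact h

attribute [-instance] CategoryStruct.opposite in
theorem toDescentData_bijective_of {D : Type (u+1)} [Category.{u} D]
    (F : Pseudofunctor (LocallyDiscrete Dᵒᵖ) Cat.{u, u + 1})
    {S X Y : D} (a : X ⟶ S) (f₁ f₂ : Y ⟶ X) (h₂ : f₂ ≫ a = f₁ ≫ a)
    (M N : F.obj (.mk (op S)))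
    (hinj : ∀ φ φ' : M ⟶ N, (F.map a.op.toLoc).toFunctor.map φ = (F.map a.op.toLoc).toFunctor.map φ' → φ = φ')
    (hsurj : Descends F a f₁ f₂ h₂ M N) :
    Function.Bijective (fun φ : M ⟶ N =>
      (F.toDescentData (fun _ : PUnit.{u + 1} => a)).map φ) := by
  refine ⟨fun φ φ' h => hinj φ φ' (congrArg (fun k => k.hom PUnit.unit) h), fun ψ => ?_⟩
  obtain ⟨φ, hφ⟩ := hsurj (ψ.hom PUnit.unit) (comm_of_hom F a f₁ f₂ h₂ M N ψ)
  exact ⟨φ, Pseudofunctor.DescentData.hom_ext fun _ => hφ⟩

attribute [-instance] CategoryStruct.opposite in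
theorem descends_extendScalars {D : Type (u+1)} [Category.{u} D] (H : Dᵒᵖ ⥤ CommRingCat.{u})
    {S X Y : D} (a : X ⟶ S) (f₁ f₂ : Y ⟶ X) (h₂ : f₂ ≫ a = f₁ ≫ a)
    (M N : ModuleCat.{u} (H.obj (op S)))
    (hinj : Function.Injective (pure (H.map a.op).hom N 1))
    (e : (H.map f₁.op).hom.comp (H.map a.op).hom = (H.map f₂.op).hom.comp (H.map a.op).hom)
    (hrange : ∀ z : (extendScalars (H.map a.op).hom).obj N,
      Dieu.BC.castHom e (Dieu.BC.push (H.map a.op).hom (H.map f₁.op).hom
          (z : Dieu.BC (H.map a.op).hom N)) =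
        Dieu.BC.push (H.map a.op).hom (H.map f₂.op).hom (z : Dieu.BC (H.map a.op).hom N) →
      z ∈ Set.range (pure (H.map a.op).hom N 1)) :
    (∀ φ φ' : M ⟶ N, (extendScalars (H.map a.op).hom).map φ = (extendScalars (H.map a.op).hom).map φ' → φ = φ') ∧
    Descends (H.toPseudofunctor.comp CommRingCat.moduleCatExtendScalarsPseudofunctor) a f₁ f₂ h₂ M N := by
  refine ⟨fun φ φ' h => ?_, fun ψ comm => ?_⟩
  · ext m
    exact hinj (congrArg (fun k => k (pure _ M 1 m)) h)
  · exact exists_map_eq _ M N hinj ψ (fun m => hrange _ (push_eq' H a.op f₁.op f₂.op (f₁ ≫ a).op rfl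
      (congrArg (fun k => k.op.toLoc) h₂) M N ψ comm e m))

attribute [-instance] CategoryStruct.opposite in
theorem map_bijective (p : ℕ) [Fact p.Prime] (n : ℕ) (R R' : Type u) [CommRing R] [CommRing R']
    [Algebra R R'] [Module.FaithfullyFlat R R']
    (M N : ModuleCat.{u} (TruncatedWittVector p n R))
    [Module.Flat (TruncatedWittVector p n R) N] :
    Function.Bijective (fun φ : M ⟶ N =>
      ((W4c3truncdispsmooth.wittModPF.{u} p n).toDescentData
        (fun _ : PUnit.{u + 1} => (CommRingCat.ofHom (algebraMap R R')).op)).map φ) := by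
  have ecomp : (Algebra.TensorProduct.includeLeftRingHom : R' →+* TensorProduct R R' R').comp
      (algebraMap R R') =
      ((Algebra.TensorProduct.includeRight : R' →ₐ[R] TensorProduct R R' R') :
        R' →+* TensorProduct R R' R').comp (algebraMap R R') := by
    ext r
    simp [Algebra.TensorProduct.includeLeftRingHom]
  have e : (WittGrp.truncMap p n (Algebra.TensorProduct.includeLeftRingHom : R' →+* TensorProduct R R' R')).comp
        (WittGrp.truncMap p n (algebraMap R R')) =
      (WittGrp.truncMap p n ((Algebra.TensorProduct.includeRight : R' →ₐ[R] TensorProduct R R' R') :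
        R' →+* TensorProduct R R' R')).comp (WittGrp.truncMap p n (algebraMap R R')) := by
    rw [← WittGrp.truncMap_comp, ← WittGrp.truncMap_comp, ecomp]
  obtain ⟨hinj, hrange⟩ := truncMap_mem_range N e
  have h₂ : (CommRingCat.ofHom ((Algebra.TensorProduct.includeRight : R' →ₐ[R] TensorProduct R R' R') :
        R' →+* TensorProduct R R' R')).op ≫ (CommRingCat.ofHom (algebraMap R R')).op =
      (CommRingCat.ofHom (Algebra.TensorProduct.includeLeftRingHom : R' →+* TensorProduct R R' R')).op ≫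
        (CommRingCat.ofHom (algebraMap R R')).op :=
    Quiver.Hom.unop_inj (CommRingCat.hom_ext ecomp.symm)
  have key := descends_extendScalars (D := CommRingCat.{u}ᵒᵖ)
    (unopUnop CommRingCat.{u} ⋙ W4c3truncdispsmooth.wittTrunc p n) _ _ _ h₂ M N hinj e hrange
  exact toDescentData_bijective_of (W4c3truncdispsmooth.wittModPF.{u} p n) _ _ _ h₂ M N key.1
    (descends_of_eq (W4c3truncdispsmooth.wittModPF.{u} p n)
      ((unopUnop CommRingCat.{u} ⋙ W4c3truncdispsmooth.wittTrunc p n).toPseudofunctor.comp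
        CommRingCat.moduleCatExtendScalarsPseudofunctor.{u}) rfl _ _ _ h₂ M N M N HEq.rfl HEq.rfl key.2)

end Groth.Agent.H3CAlg.WittDescent
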