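import Groth.Agent.H3CAlg.WittComplete
import Mathlib.RingTheory.WittVector.Truncated

/-!
# Division by powers of `p` in Witt vectors over a `p`-torsion free ring
-/

universe u

open WittVector

namespace Groth.Agent.H3CAlg.WittComplete

variable {p : ℕ} [hp : Fact p.Prime] {R : Type u} [CommRing R]

lemma coeff_zero_pow_mul (u : ℕ) (x : WittVector p R) :
    ((p : WittVector p R) ^ u * x).coeff 0 = (p : R) ^ u * x.coeff 0 := by
  simp only [← WittVector.constantCoeff_apply, map_mul, map_pow, map_natCast]

lemma verschiebung_pow_mul (u : ℕ) (w : WittVector p R) :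
    verschiebung ((p : WittVector p R) ^ u * w) = (p : WittVector p R) ^ u * verschiebung w := by
  rw [← Nat.cast_pow, verschiebung_natCast_mul]

variable (hR : ∀ y : R, (p : R) * y = 0 → y = 0)

omit hp in
include hR in
lemma eq_zero_of_pow_mul_eq_zero (u : ℕ) (y : R) (h : (p : R) ^ u * y = 0) : y = 0 := by
  induction u with
  | zero => simpa using h
  | succ u ih => exact ih (hR _ (by rwa [← mul_assoc, ← pow_succ']))

include hR in
lemma coeff_eq_zero_of_pow_mul (u m : ℕ) (d : WittVector p R)
    (h : ∀ i < m, ((p : WittVector p R) ^ u * d).coeff i = 0) : ∀ i < m, d.coeff i = 0 := by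
  induction m generalizing d with
  | zero => omega
  | succ m ih =>
    have h0 : d.coeff 0 = 0 := eq_zero_of_pow_mul_eq_zero hR u _ (by
      rw [← coeff_zero_pow_mul]; exact h 0 m.succ_pos)
    obtain ⟨w, rfl⟩ := exists_eq_verschiebung h0
    intro i hi
    cases i with
    | zero => exact h0
    | succ i =>
      rw [verschiebung_coeff_succ]
      refine ih w (fun j hj ↦ ?_) i (by omega)
      have := h (j + 1) (by omega)
      rwa [← verschiebung_pow_mul, verschiebung_coeff_succ] at this

include hR in
/-- Solvability modulo all powers of `p` implies solvability in the first `m` coefficients. -/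
theorem exists_solution_pow_mul (u m : ℕ) (a : WittVector p R)
    (h : ∀ s : ℕ, ∃ z : WittVector p R, ∀ i < m,
      ((p : WittVector p R) ^ u * z - a).coeff i ∈ Ideal.span {(p : R) ^ s}) :
    ∃ x : WittVector p R, ∀ i < m, ((p : WittVector p R) ^ u * x - a).coeff i = 0 := by
  induction m generalizing a with
  | zero => exact ⟨0, fun i hi ↦ absurd hi i.not_lt_zero⟩
  | succ m ih =>
    have hc0 : ∀ z : WittVector p R, ((p : WittVector p R) ^ u * z - a).coeff 0 =
        (p : R) ^ u * z.coeff 0 - a.coeff 0 := fun z ↦ by
      rw [← coeff_zero_pow_mul]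
      simp only [← WittVector.constantCoeff_apply, map_sub]
    obtain ⟨z₀, hz₀⟩ := h u
    have := hz₀ 0 m.succ_pos
    rw [hc0, Ideal.mem_span_singleton'] at this
    obtain ⟨c, hc⟩ := this
    have hb : (p : R) ^ u * (z₀.coeff 0 - c) = a.coeff 0 := by linear_combination -hc
    obtain ⟨w, hw⟩ := exists_eq_verschiebung
      (x := (p : WittVector p R) ^ u * teichmuller p (z₀.coeff 0 - c) - a) (by
        rw [hc0, teichmuller_coeff_zero, hb, sub_self])
    obtain ⟨x, hx⟩ := ih (-w) fun t ↦ by
      obtain ⟨z, hz⟩ := h (t + u)
      refine ⟨tail1 z, fun i hi ↦ ?_⟩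
      let f := Ideal.Quotient.mk (Ideal.span {(p : R) ^ t})
      have hzc : f (z.coeff 0) = f (z₀.coeff 0 - c) := by
        have h0 := hz 0 m.succ_pos
        rw [hc0, Ideal.mem_span_singleton'] at h0
        obtain ⟨e, he⟩ := h0
        refine Ideal.Quotient.eq.mpr (Ideal.mem_span_singleton'.mpr ⟨e, ?_⟩)
        refine sub_eq_zero.mp (eq_zero_of_pow_mul_eq_zero hR u _ ?_)
        rw [pow_add] at he
        linear_combination he + hb
      have e1 : WittVector.map f ((p : WittVector p R) ^ u * z - a) =
          verschiebung (WittVector.map f ((p : WittVector p R) ^ u * tail1 z - -w)) := by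
        rw [← map_verschiebung, sub_neg_eq_add, map_add verschiebung,
          verschiebung_pow_mul, ← hw]
        conv_lhs => rw [eq_teichmuller_add_verschiebung z]
        simp only [map_add, map_sub, map_mul, map_teichmuller, hzc, mul_add]
        ring
      have h1 := congrArg (fun v ↦ v.coeff (i + 1)) e1
      simp only [verschiebung_coeff_succ, WittVector.map_coeff] at h1
      rw [← Ideal.Quotient.eq_zero_iff_mem]
      rw [← h1]
      exact Ideal.Quotient.eq_zero_iff_mem.mpr (Ideal.span_singleton_le_span_singleton.mpr
        (pow_dvd_pow _ (Nat.le_add_right t u)) (hz (i + 1) (by omega)))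
    refine ⟨teichmuller p (z₀.coeff 0 - c) + verschiebung x, fun i hi ↦ ?_⟩
    have e : (p : WittVector p R) ^ u * (teichmuller p (z₀.coeff 0 - c) + verschiebung x) - a =
        verschiebung ((p : WittVector p R) ^ u * x - -w) := by
      rw [sub_neg_eq_add, map_add verschiebung, verschiebung_pow_mul, ← hw]
      ring
    rw [e]
    cases i with
    | zero => exact verschiebung_coeff_zero _
    | succ i => rw [verschiebung_coeff_succ]; exact hx i (by omega)

end Groth.Agent.H3CAlg.WittComplete
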