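import Mathlib

/-!
Verschiebung-divisible Witt vectors of a Kummer extension, up to a Teichmüller denominator.
-/

open WittVector

namespace Groth.Agent.H3CAlg.WittKummer

universe u

variable {p : ℕ} [hp : Fact p.Prime]

theorem iterate_verschiebung_mul_frobenius {R : Type u} [CommRing R] (x y : WittVector p R) (i : ℕ) :
    (⇑verschiebung)^[i] x * y = (⇑verschiebung)^[i] (x * (⇑WittVector.frobenius)^[i] y) := by
  induction i generalizing y with
  | zero => rfl
  | succ i ih => rw [Function.iterate_succ_apply', ← verschiebung_mul_frobenius, ih, Function.iterate_succ_apply',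
      Function.iterate_succ_apply]

theorem frobenius_teichmuller {R : Type u} [CommRing R] [CharP R p] (r : R) :
    WittVector.frobenius (teichmuller p r) = teichmuller p (r ^ p) := by
  ext n
  rw [coeff_frobenius_charP]
  rcases n with _ | n
  · rw [teichmuller_coeff_zero, teichmuller_coeff_zero]
  · rw [teichmuller_coeff_pos _ _ _ n.succ_pos, teichmuller_coeff_pos _ _ _ n.succ_pos, zero_pow hp.out.ne_zero]

theorem iterate_frobenius_teichmuller {R : Type u} [CommRing R] [CharP R p] (r : R) (i : ℕ) :
    (⇑WittVector.frobenius)^[i] (teichmuller p r) = teichmuller p (r ^ p ^ i) := by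
  induction i with
  | zero => simp
  | succ i ih => rw [Function.iterate_succ_apply', ih, frobenius_teichmuller, ← pow_mul, pow_succ]

theorem map_iterate_verschiebung {R S : Type u} [CommRing R] [CommRing S] (f : R →+* S) (x : WittVector p R) (i : ℕ) :
    WittVector.map f ((⇑verschiebung)^[i] x) = (⇑verschiebung)^[i] (WittVector.map f x) := by
  induction i with
  | zero => rfl
  | succ i ih => rw [Function.iterate_succ_apply', Function.iterate_succ_apply', map_verschiebung, ih]

theorem iterate_verschiebung_sum {R : Type u} [CommRing R] {ι : Type*} (s : Finset ι) (g : ι → WittVector p R) (i : ℕ) :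
    (⇑(verschiebung : WittVector p R →+ WittVector p R))^[i] (∑ q ∈ s, g q) =
      ∑ q ∈ s, (⇑(verschiebung : WittVector p R →+ WittVector p R))^[i] (g q) := by
  induction i with
  | zero => rfl
  | succ i ih => simp only [Function.iterate_succ_apply', ih, map_sum]

theorem iterate_verschiebung_add {R : Type u} [CommRing R] (a b : WittVector p R) (i : ℕ) :
    (⇑(verschiebung : WittVector p R →+ WittVector p R))^[i] (a + b) =
      (⇑(verschiebung : WittVector p R →+ WittVector p R))^[i] a +
        (⇑(verschiebung : WittVector p R →+ WittVector p R))^[i] b := by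
  induction i with
  | zero => rfl
  | succ i ih => simp only [Function.iterate_succ_apply', ih, map_add]

theorem iterate_verschiebung_sub {R : Type u} [CommRing R] (a b : WittVector p R) (i : ℕ) :
    (⇑(verschiebung : WittVector p R →+ WittVector p R))^[i] (a - b) =
      (⇑(verschiebung : WittVector p R →+ WittVector p R))^[i] a -
        (⇑(verschiebung : WittVector p R →+ WittVector p R))^[i] b := by
  induction i with
  | zero => rfl
  | succ i ih => simp only [Function.iterate_succ_apply', ih, map_sub]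

theorem init_coeff' {R : Type u} [CommRing R] (x : WittVector p R) (N i : ℕ) :
    (init N x).coeff i = if i < N then x.coeff i else 0 := by
  simp [init, WittVector.select]

theorem tail_coeff' {R : Type u} [CommRing R] (x : WittVector p R) (N i : ℕ) :
    (tail N x).coeff i = if N ≤ i then x.coeff i else 0 := by
  simp [tail, WittVector.select]

theorem exists_exponent {ℓ : ℕ} (hℓ : 0 < ℓ) (hpℓ : ¬ p ∣ ℓ) (m : ℕ) :
    ∃ j t : ℕ, 1 ≤ j ∧ j ≤ ℓ ∧ t < p ^ m ∧ p ^ m * j = t * ℓ + 1 := by
  haveI : NeZero ℓ := ⟨hℓ.ne'⟩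
  have hcop : Nat.Coprime (p ^ m) ℓ := ((hp.out.coprime_iff_not_dvd).mpr hpℓ).pow_left m
  let u := ZMod.unitOfCoprime (p ^ m) hcop
  set j₀ := (↑u⁻¹ : ZMod ℓ).val with hj₀
  obtain ⟨j, hj1, hjℓ, hj⟩ : ∃ j, 1 ≤ j ∧ j ≤ ℓ ∧ (j : ZMod ℓ) = ↑u⁻¹ := by
    by_cases h : j₀ = 0
    · exact ⟨ℓ, hℓ, le_rfl, by rw [ZMod.natCast_self, eq_comm, ← ZMod.val_eq_zero]; exact h⟩
    · exact ⟨j₀, Nat.one_le_iff_ne_zero.mpr h, (ZMod.val_lt _).le, ZMod.natCast_zmod_val _⟩
  have h1 : ((p ^ m * j : ℕ) : ZMod ℓ) = ((1 : ℕ) : ZMod ℓ) := by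
    rw [Nat.cast_mul, hj, Nat.cast_one, ← ZMod.coe_unitOfCoprime (p ^ m) hcop]
    exact Units.mul_inv u
  have hpos : 1 ≤ p ^ m * j := Nat.mul_pos (Nat.one_le_pow _ _ hp.out.pos) hj1
  obtain ⟨t, ht⟩ : ℓ ∣ p ^ m * j - 1 := (Nat.modEq_iff_dvd' hpos).mp ((ZMod.natCast_eq_natCast_iff _ _ _).mp h1.symm)
  refine ⟨j, t, hj1, hjℓ, ?_, by rw [mul_comm t]; omega⟩
  by_contra hle
  push Not at hle
  have h2 : ℓ * p ^ m ≤ ℓ * t := Nat.mul_le_mul_left _ hle
  have h3 : p ^ m * j ≤ p ^ m * ℓ := Nat.mul_le_mul_left _ hjℓ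
  rw [mul_comm (p ^ m) ℓ] at h3
  omega

theorem exists_teichmuller_mul_mem {ℓ n : ℕ} (hℓ : 0 < ℓ) (hpℓ : ¬ p ∣ ℓ)
    {A B : Type u} [CommRing A] [CommRing B] [IsDomain A] [IsDomain B] [Algebra A B]
    [CharP B p] (hinj : Function.Injective (algebraMap A B))
    (y : Finset B) (hspan : Submodule.span A (y : Set B) = ⊤)
    (hpow : ∀ b ∈ y, b ^ ℓ ∈ Set.range (algebraMap A B)) :
    ∃ D : A, D ≠ 0 ∧ ∀ η : WittVector p B,
      WittVector.map (algebraMap A B) (teichmuller p D) * (⇑verschiebung)^[n] η ∈
        Ideal.span (Set.range (fun x : WittVector p A =>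
          WittVector.map (algebraMap A B) ((⇑verschiebung)^[n] x))) := by
  classical
  set f := algebraMap A B with hf
  have hα' : ∀ b : B, ∃ α : A, α ≠ 0 ∧ (b ∈ y → b ≠ 0 → f α = b ^ ℓ) := by
    intro b
    by_cases h : b ∈ y ∧ b ≠ 0
    · obtain ⟨α, hα⟩ := hpow b h.1
      exact ⟨α, fun h0 => pow_ne_zero ℓ h.2 (by rw [← hα, h0, map_zero]), fun _ _ => hα⟩
    · exact ⟨1, one_ne_zero, fun h1 h2 => absurd ⟨h1, h2⟩ h⟩
  choose α hα0 hα using hα'
  choose jj tt hj1 hjℓ htlt hjt using fun m => exists_exponent (p := p) hℓ hpℓ m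
  set D : A := ∏ b ∈ y, α b ^ p ^ n with hD
  have hkey : ∀ (i : ℕ) (b : B), b ∈ y → ∃ a : A, f (D ^ p ^ i) * b = f a * ((b ^ jj (n + i)) ^ p ^ n) ^ p ^ i := by
    intro i b hb
    set m := n + i with hm
    rw [show ((b ^ jj m) ^ p ^ n) ^ p ^ i = b ^ (p ^ m * jj m) from by rw [← pow_mul, ← pow_mul, hm, pow_add]; ring_nf,
      hjt m, pow_succ, mul_comm (tt m) ℓ, pow_mul]
    refine ⟨(∏ b' ∈ y.erase b, α b' ^ p ^ n) ^ p ^ i * α b ^ (p ^ m - tt m), ?_⟩
    by_cases hb0 : b = 0
    · simp [hb0]
    rw [← hα b hb hb0, hD, ← Finset.mul_prod_erase y (fun b' => α b' ^ p ^ n) hb, mul_pow, ← pow_mul, ← pow_add, ← hm]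
    conv_lhs => rw [← Nat.sub_add_cancel (htlt m).le]
    rw [pow_add]
    simp only [map_mul, map_pow]
    ring
  refine ⟨D, Finset.prod_ne_zero_iff.mpr fun b _ => pow_ne_zero _ (hα0 b), fun η₀ => ?_⟩
  set T : B → WittVector p B := fun b => teichmuller p b with hT
  obtain ⟨k, hk⟩ : ∃ k, p ^ n = k + 1 := ⟨p ^ n - 1, by have := Nat.one_le_pow n p hp.out.pos; omega⟩
  have hfold : WittVector.map f (teichmuller p D) * (⇑verschiebung)^[n] η₀ =
      (⇑verschiebung)^[n] (T (f D) * (T (f D ^ k) * η₀)) := by
    rw [mul_comm, iterate_verschiebung_mul_frobenius, map_teichmuller, iterate_frobenius_teichmuller, hT]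
    simp only
    rw [← mul_assoc, ← map_mul, ← pow_succ', ← hk, mul_comm]
  rw [hfold]
  generalize T (f D ^ k) * η₀ = η
  -- decomposition of each zeroth coefficient
  choose c hc using fun s : WittVector p B =>
    Submodule.mem_span_finset'.mp (show s.coeff 0 ∈ Submodule.span A (y : Set B) by rw [hspan]; trivial)
  choose t ht using fun s : WittVector p B =>
    (⟨_, eq_iterate_verschiebung (n := 1) (x := s - ∑ b : ↥y, WittVector.map f (teichmuller p (c s b)) * T b) (fun i hi => by
      obtain rfl : i = 0 := by omega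
      show WittVector.constantCoeff (s - _) = 0
      rw [map_sub, map_sum, sub_eq_zero]
      refine (hc s).symm.trans (Finset.sum_congr rfl fun b _ => ?_)
      show _ = WittVector.constantCoeff _
      rw [map_mul, map_teichmuller]
      show c s b • (b : B) = (teichmuller p (f (c s b))).coeff 0 * (T b).coeff 0
      rw [hT, teichmuller_coeff_zero, teichmuller_coeff_zero, Algebra.smul_def, ← hf])⟩ :
      ∃ t, s - ∑ b : ↥y, WittVector.map f (teichmuller p (c s b)) * T b = (⇑verschiebung)^[1] t)
  let S : ℕ → WittVector p B := fun i => Nat.rec η (fun _ s => t s) i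
  choose a ha using hkey
  let idx := ↥y × Fin (ℓ + 1)
  let coef : idx → ℕ → A := fun q i =>
    if (q.2 : ℕ) = jj (n + i) then c (S i) q.1 * a i q.1 q.1.2 else 0
  let β : idx → B := fun q => ((q.1 : B) ^ (q.2 : ℕ)) ^ p ^ n
  let x : idx → WittVector p A := fun q => WittVector.mk p (coef q)
  let W : WittVector p B := ∑ q : idx, WittVector.map f (x q) * T (β q)
  have hstep : ∀ i, T (f (D ^ p ^ i)) * S i =
      ∑ q : idx, WittVector.map f (teichmuller p (coef q i)) * T (β q ^ p ^ i) +
        verschiebung (T (f (D ^ p ^ (i + 1))) * S (i + 1)) := by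
    intro i
    have h1 : S i = ∑ b : ↥y, WittVector.map f (teichmuller p (c (S i) b)) * T b + verschiebung (S (i + 1)) := by
      have := ht (S i)
      rw [sub_eq_iff_eq_add] at this
      rw [Function.iterate_one] at this
      exact this.trans (add_comm _ _)
    conv_lhs => rw [h1]
    rw [mul_add]
    congr 1
    · rw [Finset.mul_sum, Fintype.sum_prod_type]
      refine Finset.sum_congr rfl fun b _ => ?_
      rw [Finset.sum_eq_single (⟨jj (n + i), Nat.lt_succ_of_le (hjℓ _)⟩ : Fin (ℓ + 1))]
      · simp only [coef, β, if_pos, hT, map_teichmuller, ← map_mul]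
        congr 1
        rw [mul_left_comm, ha i b b.2, map_mul]
        ring
      · intro j _ hj
        simp only [coef]
        rw [if_neg (fun h => hj (Fin.ext h))]
        simp
      · simp
    · rw [mul_comm, ← verschiebung_mul_frobenius, hT, frobenius_teichmuller, mul_comm]
      congr 3
      rw [← map_pow, ← pow_mul, pow_succ]
  have hmain : ∀ N, T (f D) * η = ∑ q : idx, WittVector.map f (init N (x q)) * T (β q) +
      (⇑verschiebung)^[N] (T (f (D ^ p ^ N)) * S N) := by
    intro N
    induction N with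
    | zero =>
      have h0 : ∀ q, init 0 (x q) = (0 : WittVector p A) := fun q => by
        ext i; rw [init_coeff']; simp
      simp [h0, S]
    | succ N ih =>
      rw [ih, hstep, iterate_verschiebung_add, iterate_verschiebung_sum, ← Function.iterate_succ_apply, ← add_assoc,
        ← Finset.sum_add_distrib]
      congr 1
      refine Finset.sum_congr rfl fun q _ => ?_
      have hsucc : init (N + 1) (x q) = init N (x q) + (⇑verschiebung)^[N] (teichmuller p (coef q N)) := by
        ext i
        rw [coeff_add_of_disjoint]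
        · simp only [init_coeff']
          rcases lt_trichotomy i N with h | rfl | h
          · rw [iterate_verschiebung_coeff_eq_zero _ h]; simp [h, Nat.lt_succ_of_lt h]
          · have h2 := iterate_verschiebung_coeff (teichmuller p (coef q i)) i 0
            rw [zero_add, teichmuller_coeff_zero] at h2
            simp [h2, x]
          · obtain ⟨r, rfl⟩ : ∃ r, i = r + 1 + N := ⟨i - N - 1, by omega⟩
            rw [iterate_verschiebung_coeff, teichmuller_coeff_pos _ _ _ r.succ_pos]
            simp
        · intro m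
          by_cases h : m < N
          · exact Or.inr (iterate_verschiebung_coeff_eq_zero _ h)
          · left; simp [init_coeff', h]
      rw [hsucc, map_add, add_mul, map_iterate_verschiebung, iterate_verschiebung_mul_frobenius, hT,
        iterate_frobenius_teichmuller]
  have hW : T (f D) * η = W := by
    refine sub_eq_zero.mp (WittVector.ext fun i => ?_)
    have h1 : ∀ q, x q = init (i + 1) (x q) + (⇑verschiebung)^[i + 1] ((tail (i + 1) (x q)).shift (i + 1)) := fun q => by
      rw [← eq_iterate_verschiebung, init_add_tail]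
      intro m hm
      simp [tail_coeff', Nat.not_le.mpr hm]
    have h2 : ∃ z, T (f D) * η - W = (⇑verschiebung)^[i + 1] z := by
      refine ⟨T (f (D ^ p ^ (i + 1))) * S (i + 1) -
        ∑ q : idx, WittVector.map f ((tail (i + 1) (x q)).shift (i + 1)) * (⇑WittVector.frobenius)^[i + 1] (T (β q)), ?_⟩
      rw [iterate_verschiebung_sub, iterate_verschiebung_sum, hmain (i + 1)]
      conv_lhs => arg 2; simp only [W]; arg 2; ext q; rw [h1 q, map_add, add_mul, map_iterate_verschiebung, iterate_verschiebung_mul_frobenius]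
      rw [Finset.sum_add_distrib]
      abel
    obtain ⟨z, hz⟩ := h2
    rw [hz, iterate_verschiebung_coeff_eq_zero _ (Nat.lt_succ_self i), zero_coeff]
  rw [hW, iterate_verschiebung_sum]
  refine sum_mem fun q _ => ?_
  have : (⇑verschiebung)^[n] (WittVector.map f (x q) * T (β q)) =
      WittVector.map f ((⇑verschiebung)^[n] (x q)) * T ((q.1 : B) ^ (q.2 : ℕ)) := by
    rw [map_iterate_verschiebung, iterate_verschiebung_mul_frobenius, hT, iterate_frobenius_teichmuller]
  rw [this]
  exact Ideal.mul_mem_right _ _ (Ideal.subset_span ⟨x q, rfl⟩)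

end Groth.Agent.H3CAlg.WittKummer
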